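import Cfsg.Agent.Lib.OrthAut.OutMinus

/-!
The outer automorphism group of `PΩ` of minus type in odd characteristic.
-/

set_option autoImplicit false
set_option linter.unusedSectionVars false

namespace CfsgLib.OrthAut

open Matrix CfsgLib.Orth

variable {F : Type*} [Field F] [Finite F] {ι : Type} [Fintype ι] [DecidableEq ι]
variable {Q : QuadraticForm F (ι → F)}

/-- The dihedral group generated by two elements. -/
theorem exists_dihedral {G : Type*} [Group G] {r t : G} (ht : t ^ 4 = 1) (ht2 : t ^ 2 ≠ 1) (hr : r * r = 1)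
    (hrt : r * t * r = t⁻¹) : ∃ φ : DihedralGroup 4 →* G, Function.Injective φ ∧ φ (.r 1) = t ∧ φ (.sr 0) = r := by
  have hti : ∀ i j : ZMod 4, t ^ ((i + j).val) = t ^ i.val * t ^ j.val := fun i j => by
    rw [← pow_add, ← pow_mod_orderOf t (i + j).val, ← pow_mod_orderOf t (i.val + j.val)]
    congr 1
    have hd : orderOf t ∣ 4 := orderOf_dvd_of_pow_eq_one ht
    rw [ZMod.val_add, Nat.mod_mod_of_dvd _ hd]
  have hrpow : ∀ k : ℕ, r * t ^ k = (t ^ k)⁻¹ * r := fun k => by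
    have hrt' : r * t = t⁻¹ * r := by
      calc r * t = r * t * r * r := by rw [mul_assoc (r * t), hr, mul_one]
        _ = t⁻¹ * r := by rw [hrt]
    induction k with
    | zero => simp
    | succ k ih => rw [pow_succ, ← mul_assoc, ih, mul_assoc, hrt', ← mul_assoc, ← pow_succ, pow_succ', _root_.mul_inv_rev]
  have hsub : ∀ i j : ZMod 4, t ^ ((i - j).val) = t ^ i.val * (t ^ j.val)⁻¹ := fun i j => by
    rw [eq_mul_inv_iff_mul_eq, ← hti, sub_add_cancel]
  have hcomm : ∀ i j : ℕ, t ^ i * (t ^ j)⁻¹ = (t ^ j)⁻¹ * t ^ i := fun i j =>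
    ((Commute.refl t).pow_pow i j).inv_right.eq
  let φ : DihedralGroup 4 →* G :=
    { toFun := fun x => match x with
        | .r i => t ^ i.val
        | .sr i => r * t ^ i.val
      map_one' := by show t ^ (0 : ZMod 4).val = 1; simp
      map_mul' := fun x y => by
        rcases x with i | i <;> rcases y with j | j
        · exact hti i j
        · show r * t ^ (j - i).val = t ^ i.val * (r * t ^ j.val)
          have hswap : t ^ i.val * r = r * (t ^ i.val)⁻¹ := by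
            calc t ^ i.val * r = t ^ i.val * (r * t ^ i.val) * (t ^ i.val)⁻¹ := by group
              _ = r * (t ^ i.val)⁻¹ := by rw [hrpow, mul_inv_cancel_left]
          rw [hsub, hcomm, ← mul_assoc (t ^ i.val), hswap, mul_assoc r]
        · show r * t ^ (i + j).val = r * t ^ i.val * t ^ j.val
          rw [hti, mul_assoc]
        · show t ^ (j - i).val = r * t ^ i.val * (r * t ^ j.val)
          rw [hrpow, mul_assoc, ← mul_assoc r r, hr, one_mul, hsub, hcomm] }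
  refine ⟨φ, ?_, by show t ^ (1 : ZMod 4).val = t; rw [show (1 : ZMod 4).val = 1 from rfl, pow_one],
    by show r * t ^ (0 : ZMod 4).val = r; simp⟩
  have ho : orderOf t = 4 := by
    have h1 : orderOf t ∣ 4 := orderOf_dvd_of_pow_eq_one ht
    have h2 : ¬ orderOf t ∣ 2 := fun h => ht2 (orderOf_dvd_iff_pow_eq_one.1 h)
    have h3 := Nat.le_of_dvd (by norm_num) h1
    interval_cases h : orderOf t <;> revert h1 h2 <;> decide
  rw [injective_iff_map_eq_one]
  rintro (i | i) h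
  · have h' : orderOf t ∣ i.val := orderOf_dvd_of_pow_eq_one h
    rw [ho] at h'
    have : i.val = 0 := Nat.eq_zero_of_dvd_of_lt h' (ZMod.val_lt i)
    rw [(ZMod.val_eq_zero i).1 this]
    rfl
  · exfalso
    have hrt' : r = (t ^ i.val)⁻¹ := eq_inv_of_mul_eq_one_left h
    have hc : r * t * r = t := by
      rw [hrt', ((Commute.refl t).pow_left i.val).inv_left.eq, mul_assoc, ← _root_.mul_inv_rev, ← pow_add]
      have : r * r = 1 := hr
      rw [hrt', ← _root_.mul_inv_rev, ← pow_add] at this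
      rw [this, mul_one]
    exact ht2 (by rw [pow_two]; nth_rw 1 [← hc]; rw [hrt, inv_mul_cancel])

theorem iter_exp (p : ℕ) (hp : Odd p) : ∀ k : ℕ, 2 * (∑ i ∈ Finset.range k, (p - 1) / 2 * p ^ i) + 1 = p ^ k
  | 0 => by simp
  | k + 1 => by
    obtain ⟨j, rfl⟩ := hp
    rw [Finset.sum_range_succ, pow_succ, mul_add, add_right_comm, iter_exp _ ⟨j, rfl⟩ k,
      show (2 * j + 1 - 1) / 2 = j by omega]
    ring

/-- The semisimilarity lifting Frobenius with determinant a half power of the discriminant. -/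
theorem exists_frob_lift [Fintype F] {m : ℕ} {a b : F} (p : ℕ) [Fact p.Prime] [CharP F p] (hp : Odd p)
    (hab : ∀ z₁ z₂ : F, z₁ ^ 2 + a * z₁ * z₂ + b * z₂ ^ 2 = 0 → z₁ = 0 ∧ z₂ = 0)
    {Q : QuadraticForm F ((Fin m ⊕ Fin m) ⊕ Fin 2 → F)} (hQ : ⇑Q = Cfsg.quadFormMinus m F a b)
    {f : ℕ} (hF : Fintype.card F = p ^ f) (hσ : frob F p ^ f = 1) :
    ∃ L : semi Q, fieldPart Q L = frob F p ∧ (∀ v, Q (sv (L : Semilin F ((Fin m ⊕ Fin m) ⊕ Fin 2)) v) = frob F p (Q v)) ∧
      ∀ h : Grp Q, incl Q h = L ^ f → ((h : GL ((Fin m ⊕ Fin m) ⊕ Fin 2) F) : Matrix ((Fin m ⊕ Fin m) ⊕ Fin 2) ((Fin m ⊕ Fin m) ⊕ Fin 2) F).det = -1 := by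
  have h2 : (2 : F) ≠ 0 := by
    intro e
    have : (p : ℕ) ∣ 2 := (CharP.cast_eq_zero_iff F p 2).1 (by exact_mod_cast e)
    have := Nat.le_of_dvd two_pos this
    obtain ⟨j, rfl⟩ := hp
    have := (Fact.out : (2 * j + 1).Prime).two_le
    omega
  have hd : ¬ IsSquare (a ^ 2 - 4 * b) := by
    rintro ⟨r, hr⟩
    exact h2 (hab (-a + r) 2 (by linear_combination -hr)).2
  set D := a ^ 2 - 4 * b with hD
  have hD0 : D ≠ 0 := fun e => hd (e ▸ IsSquare.zero)
  set s := D ^ ((p - 1) / 2) with hs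
  have hs0 : s ≠ 0 := pow_ne_zero _ hD0
  have hs2 : s ^ 2 * D = D ^ p := by
    rw [hs, ← pow_mul, ← pow_succ]
    congr 1
    obtain ⟨j, rfl⟩ := hp
    omega
  obtain ⟨L, hL, hLM, hLq⟩ := exists_lift_semi (M := !![1, (a ^ p - a * s) / 2; 0, s])
    (by simp [Matrix.det_fin_two, hs0]) (frob F p) hQ (fun z₀ z₁ => by
      simp [frob_apply]
      have h4 : (4 : F) ≠ 0 := by
        rw [show (4 : F) = 2 * 2 by norm_num]; exact mul_ne_zero h2 h2
      have e4 : 4 * b ^ p = (a ^ p) ^ 2 - s ^ 2 * D := by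
        rw [hs2, hD, sub_pow_char, mul_pow, ← pow_mul, ← pow_mul, mul_comm 2 p]
        have : (4 : F) ^ p = 4 := by
          rw [← frob_apply p (4 : F)]; exact map_ofNat _ 4
        rw [this]; ring
      set u := (a ^ p - a * s) / 2
      have hu : 2 * u = a ^ p - a * s := mul_div_cancel₀ _ h2
      apply mul_left_cancel₀ h4
      rw [hD] at e4
      linear_combination (4 * z₀ * z₁ + z₁ ^ 2 * (2 * u + a * s + a ^ p)) * hu - z₁ ^ 2 * e4)
  refine ⟨L, hL, hLq, fun h hh => ?_⟩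
  have key : ∀ k : ℕ, ((L ^ k : semi Q) : Semilin F ((Fin m ⊕ Fin m) ⊕ Fin 2)).left.val.det =
      D ^ (∑ i ∈ Finset.range k, (p - 1) / 2 * p ^ i) := by
    intro k
    induction k with
    | zero => simp
    | succ k ih =>
      rw [pow_succ', Subgroup.coe_mul, SemidirectProduct.mul_left, Units.val_mul, det_mul, entryAct_coe,
        show (L : Semilin F ((Fin m ⊕ Fin m) ⊕ Fin 2)).right = frob F p from hL,
        show ∀ M : Matrix ((Fin m ⊕ Fin m) ⊕ Fin 2) ((Fin m ⊕ Fin m) ⊕ Fin 2) F, M.map (frob F p) =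
          (frob F p).toRingHom.mapMatrix M from fun M => rfl, ← RingHom.map_det, ih, hLM, planeMat_det,
        show (frob F p).toRingHom (D ^ _) = (D ^ _) ^ p from rfl]
      simp only [Matrix.det_fin_two]
      simp
      rw [hs, ← pow_mul, ← pow_add, Finset.sum_range_succ', Finset.sum_mul]
      congr 1
      rw [pow_zero, mul_one, add_comm]
      simp [pow_succ, mul_assoc]
  rw [show ((h : GL ((Fin m ⊕ Fin m) ⊕ Fin 2) F) : Matrix ((Fin m ⊕ Fin m) ⊕ Fin 2) ((Fin m ⊕ Fin m) ⊕ Fin 2) F) = ((incl Q h : semi Q) : Semilin F ((Fin m ⊕ Fin m) ⊕ Fin 2)).left.val from rfl, hh, key]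
  have he := iter_exp p hp f
  rw [← hF] at he
  rw [show (∑ i ∈ Finset.range f, (p - 1) / 2 * p ^ i) = Fintype.card F / 2 by omega]
  have hch : ringChar F ≠ 2 := by rw [ringChar.eq F p]; intro e; subst e; exact absurd hp (by decide)
  exact (FiniteField.pow_dichotomy hch hD0).resolve_left fun e => hd ((FiniteField.isSquare_iff hch hD0).2 e)

/-- A dihedral kernel centralised by a complement of odd order. -/
theorem equiv_dihedral {G A : Type*} [Group G] [Group A] [Finite G] (π : G →* A) {f : ℕ} (hf : Odd f)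
    (hG : Nat.card G = 8 * f) (hk : Nat.card π.ker = 8) {r s t y : G} (hrr : r * r = 1) (hss : s * s = 1)
    (hrs : r * s = s * r) (hrs1 : r * s ≠ 1) (htr : t * r * t⁻¹ = s) (hts : t * s * t⁻¹ = r)
    (hyr : y * r * y⁻¹ = r) (hys : y * s * y⁻¹ = s) (htt : t * t = 1 ∨ t * t = r * s)
    (hyt : ∃ z, (z = 1 ∨ z = r * s) ∧ y * t * y⁻¹ = t * z) (hrπ : π r = 1) (htπ : π t = 1)
    (hyπ : orderOf (π y) = f) : Nonempty (G ≃* DihedralGroup 4 × Multiplicative (ZMod f)) := by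
  have hrs2 : (r * s) * (r * s) = 1 := by
    calc (r * s) * (r * s) = r * (s * r) * s := by group
      _ = (r * r) * (s * s) := by rw [← hrs]; group
      _ = 1 := by rw [hrr, hss, one_mul]
  have hrt0 : t⁻¹ * r * t = s := by rw [← hts]; group
  obtain ⟨z, hz1, hz⟩ := hyt
  have hzr : r * z = z * r := by
    rcases hz1 with rfl | rfl
    · simp
    · rw [mul_assoc r s r, hrs]
  obtain ⟨t', ht'2, ht'r, ht'y, ht'f⟩ : ∃ t' : G, t' ^ 2 = r * s ∧ r * t' * r = t' * (r * s) ∧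
      y * t' * y⁻¹ = t' * z ∧ π t' = 1 := by
    have hrtr : r * t * r = t * (s * r) := by
      calc r * t * r = t * (t⁻¹ * r * t) * r := by group
        _ = t * (s * r) := by rw [hrt0, mul_assoc]
    rcases htt with e | e
    · refine ⟨t * r, ?_, ?_, ?_, by rw [map_mul, htπ, hrπ, one_mul]⟩
      · calc (t * r) ^ 2 = t * t * (t⁻¹ * r * t) * r := by rw [pow_two]; group
          _ = r * s := by rw [e, hrt0, one_mul, hrs]
      · calc r * (t * r) * r = r * t * (r * r) := by group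
          _ = r * t * r * r := by rw [hrr, mul_one, mul_assoc (r * t), hrr, mul_one]
          _ = t * r * (r * s) := by
            rw [hrtr, mul_assoc t, mul_assoc s, hrr, mul_one, mul_assoc t, ← mul_assoc r, hrr, one_mul]
      · calc y * (t * r) * y⁻¹ = (y * t * y⁻¹) * (y * r * y⁻¹) := by group
          _ = t * r * z := by rw [hz, hyr, mul_assoc, ← hzr, mul_assoc]
    · exact ⟨t, by rw [pow_two, e], by rw [hrtr, hrs], hz, htπ⟩
  have ht4 : t' ^ 4 = 1 := by rw [show 4 = 2 * 2 from rfl, pow_mul, ht'2, pow_two, hrs2]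
  have hinv : t' * (r * s) = t'⁻¹ := eq_inv_of_mul_eq_one_left (by
    calc t' * (r * s) * t' = t' ^ 4 := by rw [← ht'2]; group
      _ = 1 := ht4)
  obtain ⟨φ, hφ, hφt, hφr⟩ := exists_dihedral ht4 (by rw [ht'2]; exact hrs1) hrr (ht'r.trans hinv)
  have hgen : ∀ (P : G → Prop), P (φ (.r 1)) → P (φ (.sr 0)) → (∀ a b, P a → P b → P (a * b)) → P 1 →
      ∀ x, P (φ x) := by
    intro P h1 h2 hm h0 x
    have hpow : ∀ k : ℕ, P (φ (.r 1) ^ k) := fun k => by
      induction k with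
      | zero => rw [pow_zero]; exact h0
      | succ k ih => rw [pow_succ]; exact hm _ _ ih h1
    rcases x with i | i
    · rw [show (DihedralGroup.r i) = DihedralGroup.r 1 ^ i.val by simp, map_pow]
      exact hpow _
    · rw [show (DihedralGroup.sr i) = DihedralGroup.sr 0 * DihedralGroup.r 1 ^ i.val by simp, map_mul, map_pow]
      exact hm _ _ h2 (hpow _)
  have hφK : ∀ x, π (φ x) = 1 := hgen (fun a => π a = 1) (by rw [hφt]; exact ht'f) (by rw [hφr]; exact hrπ)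
    (fun a b ha hb => by rw [map_mul, ha, hb, one_mul]) (map_one π)
  have hzy : y * z * y⁻¹ = z := by
    rcases hz1 with rfl | rfl
    · simp
    · rw [show y * (r * s) * y⁻¹ = (y * r * y⁻¹) * (y * s * y⁻¹) by group, hyr, hys]
  have hpow : ∀ k : ℕ, y ^ k * t' * (y ^ k)⁻¹ = t' * z ^ k := by
    intro k
    induction k with
    | zero => simp
    | succ k ih =>
      calc y ^ (k + 1) * t' * (y ^ (k + 1))⁻¹ = y * (y ^ k * t' * (y ^ k)⁻¹) * y⁻¹ := by
            rw [pow_succ']; group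
        _ = (y * t' * y⁻¹) * (y * z * y⁻¹) ^ k := by rw [ih, conj_pow]; group
        _ = t' * z ^ (k + 1) := by rw [ht'y, hzy, mul_assoc, pow_succ']
  have hyt8 : Commute (y ^ 8) t' := mul_inv_eq_iff_eq_mul.1 (by
    rw [hpow]
    rcases hz1 with rfl | rfl
    · simp
    · rw [show 8 = 2 * 4 from rfl, pow_mul, pow_two, hrs2, one_pow, mul_one])
  have hyr8 : Commute (y ^ 8) r := (show Commute y r from mul_inv_eq_iff_eq_mul.1 hyr).pow_left 8
  have hc : ∀ x, Commute (y ^ 8) (φ x) := hgen (fun a => Commute (y ^ 8) a) (by rw [hφt]; exact hyt8)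
    (by rw [hφr]; exact hyr8) (fun a b ha hb => ha.mul_right hb) (Commute.one_right _)
  have hy'f : orderOf (π (y ^ 8)) = f := by
    rw [map_pow, Nat.Coprime.orderOf_pow (by rw [hyπ]; exact Nat.Coprime.pow_right 3 hf.coprime_two_right), hyπ]
  have hy'1 : (y ^ 8) ^ f = 1 := by
    have hmem : y ^ f ∈ π.ker := by rw [MonoidHom.mem_ker, map_pow, ← hyπ, pow_orderOf_eq_one]
    have := pow_card_eq_one' (G := π.ker) (x := ⟨y ^ f, hmem⟩)
    rw [hk] at this
    rw [← pow_mul, mul_comm, pow_mul]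
    exact congrArg Subtype.val this
  haveI : NeZero f := ⟨fun h => by rw [h] at hf; exact absurd hf (by decide)⟩
  let ψ : Multiplicative (ZMod f) →* G :=
    MonoidHom.mk' (fun i => (y ^ 8) ^ i.toAdd.val) fun i j => by
      simp only [toAdd_mul]
      rw [ZMod.val_add, ← pow_add]
      conv_rhs => rw [← Nat.mod_add_div (i.toAdd.val + j.toAdd.val) f, pow_add, pow_mul _ f, hy'1, one_pow, mul_one]
  let Φ : DihedralGroup 4 × Multiplicative (ZMod f) →* G :=
    MonoidHom.mk' (fun x => φ x.1 * ψ x.2) fun x x' => by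
      show φ (x.1 * x'.1) * ψ (x.2 * x'.2) = _
      rw [map_mul, map_mul, mul_assoc, mul_assoc, ← mul_assoc (φ x'.1), ← mul_assoc (ψ x.2),
        show Commute (φ x'.1) (ψ x.2) from ((hc x'.1).pow_left _).symm]
  have hΦ : Function.Injective Φ := by
    rw [injective_iff_map_eq_one]
    rintro ⟨x, i⟩ h
    have h' : φ x * (y ^ 8) ^ i.toAdd.val = 1 := h
    have := congrArg π h'
    rw [map_mul, hφK x, one_mul, map_pow, map_one] at this
    have hd := orderOf_dvd_of_pow_eq_one this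
    rw [hy'f] at hd
    have h0 : i.toAdd.val = 0 := Nat.eq_zero_of_dvd_of_lt hd (ZMod.val_lt _)
    rw [h0, pow_zero, mul_one] at h'
    refine Prod.ext (hφ (h'.trans (map_one φ).symm)) (Multiplicative.toAdd.injective ?_)
    rw [(ZMod.val_eq_zero _).1 h0]; rfl
  refine ⟨(MulEquiv.ofBijective Φ ((Nat.bijective_iff_injective_and_card _).2 ⟨hΦ, ?_⟩)).symm⟩
  rw [Nat.card_prod, DihedralGroup.nat_card, hG, Nat.card_congr Multiplicative.toAdd, Nat.card_zmod]

/-- An involution commuting with an element of order `2f` outside its powers. -/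
theorem equiv_two_cyclic {G : Type*} [Group G] [Finite G] {t y : G} {f : ℕ} (hf : 1 ≤ f)
    (hG : Nat.card G = 4 * f) (htt : t * t = 1) (hcomm : Commute y t) (hyo : orderOf y = 2 * f)
    (ht : ∀ k, k < 2 * f → t ≠ y ^ k) : Nonempty (G ≃* Multiplicative (ZMod 2 × ZMod (2 * f))) := by
  haveI : NeZero (2 * f) := ⟨by omega⟩
  have hy : y ^ (2 * f) = 1 := hyo ▸ pow_orderOf_eq_one y
  let Φ : Multiplicative (ZMod 2 × ZMod (2 * f)) →* G :=
    MonoidHom.mk' (fun i => t ^ i.toAdd.1.val * y ^ i.toAdd.2.val) fun i j => by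
      simp only [toAdd_mul, Prod.fst_add, Prod.snd_add, ZMod.val_add]
      rw [← pow_eq_pow_mod _ (show t ^ 2 = 1 by rw [pow_two, htt]), ← pow_eq_pow_mod _ hy, pow_add, pow_add]
      simp only [mul_assoc]
      rw [← mul_assoc (t ^ j.toAdd.1.val) (y ^ i.toAdd.2.val) (y ^ j.toAdd.2.val),
        show t ^ j.toAdd.1.val * y ^ i.toAdd.2.val = y ^ i.toAdd.2.val * t ^ j.toAdd.1.val from
          (hcomm.symm.pow_pow _ _).eq, mul_assoc]
  have hΦ : Function.Injective Φ := by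
    rw [injective_iff_map_eq_one]
    intro i h
    have h' : t ^ i.toAdd.1.val * y ^ i.toAdd.2.val = 1 := h
    obtain e | e : i.toAdd.1.val = 0 ∨ i.toAdd.1.val = 1 := by have := ZMod.val_lt i.toAdd.1; omega
    · rw [e, pow_zero, one_mul] at h'
      have hd := orderOf_dvd_of_pow_eq_one h'
      rw [hyo] at hd
      have h0 := Nat.eq_zero_of_dvd_of_lt hd (ZMod.val_lt i.toAdd.2)
      exact Multiplicative.toAdd.injective (Prod.ext ((ZMod.val_eq_zero _).1 e) ((ZMod.val_eq_zero _).1 h0))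
    · exfalso
      rw [e, pow_one] at h'
      by_cases h0 : i.toAdd.2.val = 0
      · rw [h0, pow_zero, mul_one] at h'
        exact ht 0 (by omega) (by rw [pow_zero, h'])
      · refine ht (2 * f - i.toAdd.2.val) (by omega) ?_
        rw [eq_inv_of_mul_eq_one_left h', inv_eq_iff_mul_eq_one, ← pow_add,
          show i.toAdd.2.val + (2 * f - i.toAdd.2.val) = 2 * f by have := ZMod.val_lt i.toAdd.2; omega, hy]
  refine ⟨(MulEquiv.ofBijective Φ ((Nat.bijective_iff_injective_and_card _).2 ⟨hΦ, ?_⟩)).symm⟩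
  rw [hG, Nat.card_congr Multiplicative.toAdd, Nat.card_prod, Nat.card_zmod, Nat.card_zmod]
  ring

/-! ### Classes of isometries and similitudes in even dimension -/

theorem exists_neg (h : Fine Q) (h2 : (2 : F) ≠ 0) (hev : Even (Fintype.card ι)) :
    ∃ g : Grp Q, ((g : GL ι F) : Matrix ι ι F) = -1 ∧ dickson h.nondeg g = 1 ∧ cls Q g = 1 := by
  obtain ⟨g, hg⟩ : ∃ g : Grp Q, ((g : GL ι F) : Matrix ι ι F) = -1 :=
    ⟨⟨(-1 : GL ι F), fun u _ => by
      show Q ((-1 : Matrix ι ι F) *ᵥ u) = Q u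
      rw [neg_mulVec, one_mulVec, QuadraticMap.map_neg]⟩, rfl⟩
  refine ⟨g, hg, ?_, ?_⟩
  · rw [dickson_iff_det h.nondeg h2 h.five, hg, det_neg, det_one, mul_one, hev.neg_one_pow]
  · rw [cls, MonoidHom.comp_apply, show incl Q g = scalarHom Q (-1) from Subtype.ext (SemidirectProduct.ext
      (Units.ext (by show ((g : GL ι F) : Matrix ι ι F) = _; rw [hg]; simp [scalarHom])) rfl), outHom_scalar h]

theorem dickson_of_cls (h : Fine Q) (h2 : (2 : F) ≠ 0) (hev : Even (Fintype.card ι)) {g : Grp Q}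
    (hg : cls Q g = 1) : dickson h.nondeg g = 1 := by
  obtain ⟨g₀, hg₀, hd₀, -⟩ := exists_neg h h2 hev
  have hΩ : ∀ g : Grp Q, g ∈ Cfsg.Omega F ⇑Q → dickson h.nondeg g = 1 := fun g hg' =>
    Abelianization.commutator_subset_ker _ hg'
  rcases incl_outer h hg with h' | ⟨g', hg'', h'⟩
  · exact hΩ g h'
  · have := hΩ _ ((show g' = g₀ from Subtype.ext (Units.ext (hg''.trans hg₀.symm))) ▸ h')
    rwa [map_mul, hd₀, one_mul] at this

theorem cls_refl_eq (h : Fine Q) (h2 : (2 : F) ≠ 0) {u u' : ι → F} {q q' : Grp Q} (hq : IsRefl u q)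
    (hq' : IsRefl u' q') (hsq : IsSquare (Q u * Q u')) : cls Q q = cls Q q' := by
  have hmem : q⁻¹ * q' ∈ Cfsg.Omega F ⇑Q := QuotientGroup.eq.1 (mk_refl_of_square h.nondeg h2 hq hq' hsq)
  have e : cls Q (q⁻¹ * q') = 1 := outHom_omega _ hmem
  rw [map_mul, map_inv, inv_mul_eq_one] at e
  exact e

theorem cls_comm (r₁ r₂ : Grp Q) : cls Q r₁ * cls Q r₂ = cls Q r₂ * cls Q r₁ := by
  have := mk_mul_comm (Q := Q) r₁ r₂
  rw [← map_mul, ← map_mul]
  have hmem : (r₁ * r₂)⁻¹ * (r₂ * r₁) ∈ Cfsg.Omega F ⇑Q := QuotientGroup.eq.1 (by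
    rw [QuotientGroup.mk_mul, QuotientGroup.mk_mul]; exact this)
  have e : cls Q ((r₁ * r₂)⁻¹ * (r₂ * r₁)) = 1 := outHom_omega _ hmem
  rw [map_mul, map_inv, inv_mul_eq_one] at e
  exact e

theorem cls_refl_sq {u : ι → F} {q : Grp Q} (hq : IsRefl u q) : cls Q q * cls Q q = 1 := by
  have e : q * q = 1 := ext_ap fun x => by
    rw [ap_mul, hq.2, hq.2, b_sub_right, b_smul_right, b_self, ap_one, sub_sub, ← add_smul]
    have := hq.1
    rw [show (Q u)⁻¹ * QuadraticMap.polar (⇑Q) u x + (Q u)⁻¹ * (QuadraticMap.polar (⇑Q) u x -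
      (Q u)⁻¹ * QuadraticMap.polar (⇑Q) u x * (2 * Q u)) = 0 by field_simp; ring, zero_smul, sub_zero]
  rw [← map_mul, e, map_one]

theorem spinor_pair (h : Fine Q) (h2 : (2 : F) ≠ 0) {v w : ι → F} {r₁ r₂ : Grp Q} (hr₁ : IsRefl v r₁)
    (hr₂ : IsRefl w r₂) (hvw : ¬ IsSquare (Q v * Q w)) :
    dickson h.nondeg (r₁ * r₂) = 1 ∧ spinor Q 1 (r₁ * r₂) = -1 := by
  refine ⟨by rw [map_mul, dickson_refl h.nondeg hr₁, dickson_refl h.nondeg hr₂]; rfl, ?_⟩
  obtain ⟨-, -, hsp⟩ := omega_eq_ker_psi h.nondeg h2 (by have := h.five; omega) (one_ne_zero (α := F))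
  have hne : spinor Q 1 r₁ ≠ spinor Q 1 r₂ := fun e => hvw ((hsp v w r₁ r₂ hr₁ hr₂).1 e)
  rw [map_mul]
  rcases Int.units_eq_one_or (spinor Q 1 r₁) with e1 | e1 <;>
    rcases Int.units_eq_one_or (spinor Q 1 r₂) with e2 | e2 <;> simp [e1, e2] at hne ⊢

theorem cls_proper (h : Fine Q) (h2 : (2 : F) ≠ 0) {v w : ι → F} {r₁ r₂ : Grp Q} (hr₁ : IsRefl v r₁)
    (hr₂ : IsRefl w r₂) (hvw : ¬ IsSquare (Q v * Q w)) {g : Grp Q} (hd : dickson h.nondeg g = 1) :
    cls Q g = 1 ∨ cls Q g = cls Q r₁ * cls Q r₂ := by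
  by_cases hgΩ : g ∈ Cfsg.Omega F ⇑Q
  · exact Or.inl (outHom_omega _ hgΩ)
  right
  obtain ⟨hker, -, -⟩ := omega_eq_ker_psi h.nondeg h2 (by have := h.five; omega) (one_ne_zero (α := F))
  obtain ⟨hd12, hsp12⟩ := spinor_pair h h2 hr₁ hr₂ hvw
  have hsg : spinor Q 1 g = -1 := (Int.units_eq_one_or _).resolve_left fun e => hgΩ (by
    rw [hker, MonoidHom.mem_ker]; exact Prod.ext hd e)
  have hmem : g⁻¹ * (r₁ * r₂) ∈ Cfsg.Omega F ⇑Q := by
    rw [hker, MonoidHom.mem_ker]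
    refine Prod.ext ?_ ?_
    · show dickson h.nondeg _ = 1
      rw [map_mul (dickson h.nondeg), map_inv, hd, hd12, inv_one, one_mul]
    · show spinor Q 1 _ = 1
      rw [map_mul (spinor Q 1), map_inv, hsg, hsp12, inv_mul_cancel]
  have e : cls Q (g⁻¹ * (r₁ * r₂)) = 1 := outHom_omega _ hmem
  rw [map_mul, map_inv, inv_mul_eq_one, map_mul] at e
  exact e

theorem cls_pair_trivial (h : Fine Q) (h2 : (2 : F) ≠ 0) (hev : Even (Fintype.card ι)) {v w : ι → F}
    {r₁ r₂ : Grp Q} (hr₁ : IsRefl v r₁) (hr₂ : IsRefl w r₂) (hvw : ¬ IsSquare (Q v * Q w))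
    (hno : ¬ ∃ g : Grp Q, g ∈ Cfsg.Omega F ⇑Q ∧ ((g : GL ι F) : Matrix ι ι F) = -1) :
    cls Q r₁ * cls Q r₂ = 1 := by
  obtain ⟨g₀, hg₀, hd₀, hc₀⟩ := exists_neg h h2 hev
  obtain ⟨hker, -, -⟩ := omega_eq_ker_psi h.nondeg h2 (by have := h.five; omega) (one_ne_zero (α := F))
  obtain ⟨hd12, hsp12⟩ := spinor_pair h h2 hr₁ hr₂ hvw
  have hsg : spinor Q 1 g₀ = -1 := (Int.units_eq_one_or _).resolve_left fun e => hno ⟨g₀, by
    rw [hker, MonoidHom.mem_ker]; exact Prod.ext hd₀ e, hg₀⟩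
  have hmem : g₀⁻¹ * (r₁ * r₂) ∈ Cfsg.Omega F ⇑Q := by
    rw [hker, MonoidHom.mem_ker]
    refine Prod.ext ?_ ?_
    · show dickson h.nondeg _ = 1
      rw [map_mul (dickson h.nondeg), map_inv, hd₀, hd12, inv_one, one_mul]
    · show spinor Q 1 _ = 1
      rw [map_mul (spinor Q 1), map_inv, hsg, hsp12, inv_mul_cancel]
  have e : cls Q (g₀⁻¹ * (r₁ * r₂)) = 1 := outHom_omega _ hmem
  rwa [map_mul, map_inv, hc₀, inv_one, one_mul, map_mul] at e

theorem cls_pair_ne (h : Fine Q) (h2 : (2 : F) ≠ 0) {v w : ι → F} {r₁ r₂ : Grp Q} (hr₁ : IsRefl v r₁)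
    (hr₂ : IsRefl w r₂) (hvw : ¬ IsSquare (Q v * Q w))
    (hyes : ∃ g : Grp Q, g ∈ Cfsg.Omega F ⇑Q ∧ ((g : GL ι F) : Matrix ι ι F) = -1) :
    cls Q r₁ * cls Q r₂ ≠ 1 := fun e => by
  rw [← map_mul] at e
  obtain ⟨g', hg', hm'⟩ := hyes
  have hmem : r₁ * r₂ ∈ Cfsg.Omega F ⇑Q := by
    rcases incl_outer h e with h' | ⟨g'', hg'', h'⟩
    · exact h'
    · exact (Subgroup.mul_mem_cancel_left _ ((show g'' = g' from Subtype.ext (Units.ext (hg''.trans hm'.symm))) ▸ hg')).1 h'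
  have h1 : spinor Q 1 (r₁ * r₂) = 1 := Abelianization.commutator_subset_ker _ hmem
  rw [(spinor_pair h h2 hr₁ hr₂ hvw).2] at h1
  exact absurd h1 (by decide)

theorem sim_not_cls (h : Fine Q) {δ : semi Q} {c : F} (hδ : ∀ v, Q (sv (δ : Semilin F ι) v) = c * Q v)
    (hc : ¬ IsSquare c) (g : Grp Q) : outHom Q δ ≠ cls Q g := fun e => by
  obtain ⟨a, g', -, he⟩ := outHom_eq_one h (x := δ * (incl Q g)⁻¹) (by
    rw [map_mul, map_inv]; exact mul_inv_eq_one.2 e)
  have h1 : δ = scalarHom Q a * incl Q g' * incl Q g := by rw [← he, inv_mul_cancel_right]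
  obtain ⟨u, hu⟩ := exists_aniso h.nondeg (le_trans (by norm_num) h.five)
  have hq := hδ u
  rw [h1, Subgroup.coe_mul, Subgroup.coe_mul, sv_mul, sv_mul, sv_incl, sv_incl] at hq
  have hsc : ∀ x, Q (sv ((scalarHom Q a : semi Q) : Semilin F ι) x) = (a : F) * a * Q x := fun x => by
    rw [← q_smul]
    congr 1
    ext i
    simp [sv, scalarHom, Matrix.mulVec_diagonal]
  rw [hsc, ap_q, ap_q] at hq
  exact hc ⟨a, (mul_right_cancel₀ hu hq).symm⟩

theorem sim_sq_class (h : Fine Q) (h2 : (2 : F) ≠ 0) {δ : semi Q} (hδ1 : fieldPart Q δ = 1) {c : Fˣ}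
    (hδ : ∀ v, Q (sv (δ : Semilin F ι) v) = (c : F) * Q v) :
    ∃ g : Grp Q, dickson h.nondeg g = 1 ∧ outHom Q δ * outHom Q δ = cls Q g := by
  rw [← map_mul]
  have hr : (δ : Semilin F ι).right = 1 := hδ1
  refine class_of_scaled h h2 (x := δ * δ) (by rw [map_mul, hδ1, one_mul]) c (fun v => ?_) ?_
  · rw [Subgroup.coe_mul, sv_mul, hδ, hδ, mul_assoc]
  · rw [Subgroup.coe_mul, SemidirectProduct.mul_left, hr, map_one, MulAut.one_apply, Units.val_mul, det_mul,
      ← pow_two]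
    refine det_sq h.nondeg fun v => ?_
    have := hδ v
    rwa [sv, hr] at this

theorem sim_comm_class (h : Good Q) (h2 : (2 : F) ≠ 0) (p : ℕ) [Fact p.Prime] [CharP F p] (hp : Odd p) {δ L : semi Q}
    (hδ1 : fieldPart Q δ = 1) {c : Fˣ} (hδ : ∀ v, Q (sv (δ : Semilin F ι) v) = (c : F) * Q v)
    (hL : fieldPart Q L = frob F p) (hLq : ∀ v, Q (sv (L : Semilin F ι) v) = frob F p (Q v)) :
    ∃ g : Grp Q, dickson h.nondeg g = 1 ∧
      (outHom Q δ)⁻¹ * (outHom Q L * outHom Q δ * (outHom Q L)⁻¹) = cls Q g := by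
  rw [← map_inv, ← map_inv, ← map_mul, ← map_mul, ← map_mul]
  have hr : (δ : Semilin F ι).right = 1 := hδ1
  have hLr : (L : Semilin F ι).right = frob F p := hL
  obtain ⟨j, hj⟩ := hp
  refine class_of_scaled h h2 (x := δ⁻¹ * (L * δ * L⁻¹)) ?_ (c ^ j) (fun v => ?_) ?_
  · simp only [map_mul, map_inv, hδ1, inv_one, one_mul, mul_one, mul_inv_cancel]
  · have hmul : Q (sv ((L * δ * L⁻¹ : semi Q) : Semilin F ι) v) = frob F p c * Q v := by
      rw [Subgroup.coe_mul, Subgroup.coe_mul, sv_mul, sv_mul, hLq, hδ, map_mul, ← hLq, ← sv_mul,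
        ← Subgroup.coe_mul, mul_inv_cancel, OneMemClass.coe_one, sv_one]
    have hinv : ∀ w, Q (sv ((δ⁻¹ : semi Q) : Semilin F ι) w) = (c : F)⁻¹ * Q w := fun w => by
      have := hδ (sv ((δ⁻¹ : semi Q) : Semilin F ι) w)
      rw [← sv_mul, ← Subgroup.coe_mul, mul_inv_cancel, OneMemClass.coe_one, sv_one] at this
      rw [this, inv_mul_cancel_left₀ c.ne_zero]
    rw [Subgroup.coe_mul, sv_mul, hinv, hmul, frob_apply, hj, Units.val_pow_eq_pow_val]
    have : (c : F) ≠ 0 := c.ne_zero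
    field_simp
    ring
  · have hd : (δ : Semilin F ι).left.val.det ≠ 0 :=
      ((Matrix.isUnit_iff_isUnit_det _).1 (δ : Semilin F ι).left.isUnit).ne_zero
    have e : ((δ⁻¹ * (L * δ * L⁻¹) : semi Q) : Semilin F ι).left =
        (δ : Semilin F ι).left⁻¹ * ((L : Semilin F ι).left * entryAct F ι (frob F p) (δ : Semilin F ι).left *
          (L : Semilin F ι).left⁻¹) := by
      simp only [Subgroup.coe_mul, InvMemClass.coe_inv, SemidirectProduct.mul_left, SemidirectProduct.mul_right,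
        SemidirectProduct.inv_left, SemidirectProduct.inv_right, hr, hLr, inv_one, map_one, MulAut.one_apply, one_mul,
        mul_one, map_inv, MulAut.apply_inv_self, mul_assoc]
      rw [map_mul, map_inv, MulAut.apply_inv_self]
    have hσl : ((entryAct F ι (frob F p) (δ : Semilin F ι).left : GL ι F) : Matrix ι ι F).det =
        (δ : Semilin F ι).left.val.det ^ p := by
      rw [entryAct_coe, show (δ : Semilin F ι).left.val.map (frob F p) =
        (frob F p).toRingHom.mapMatrix (δ : Semilin F ι).left.val from rfl, ← RingHom.map_det]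
      rfl
    have hsq : (δ : Semilin F ι).left.val.det ^ 2 = (c : F) ^ Fintype.card ι := det_sq h.nondeg fun v => by
      have := hδ v
      rwa [sv, hr] at this
    have hi : ∀ g : GL ι F, ((g⁻¹ : GL ι F) : Matrix ι ι F).det = (g : Matrix ι ι F).det⁻¹ := fun g =>
      eq_inv_of_mul_eq_one_left (by rw [← det_mul, Units.inv_mul, det_one])
    rw [e, Units.val_mul, Units.val_mul, Units.val_mul, det_mul, det_mul, det_mul, hi, hi, hσl, hj, pow_succ,
      pow_mul, hsq, Units.val_pow_eq_pow_val, ← pow_mul, ← pow_mul, mul_comm j]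
    have := ((Matrix.isUnit_iff_isUnit_det _).1 (L : Semilin F ι).left.isUnit).ne_zero
    field_simp

theorem out_minus_odd [Fintype F] {p f m : ℕ} [Fact p.Prime] (hf : 1 ≤ f) (hF : Fintype.card F = p ^ f) (hp : p ≠ 2)
    (hm : 4 ≤ m) (a b : F) (hab : ∀ z₁ z₂ : F, z₁ ^ 2 + a * z₁ * z₂ + b * z₂ ^ 2 = 0 → z₁ = 0 ∧ z₂ = 0) :
    if p ^ f % 4 = 3 ∧ Odd m then
      Nonempty (Cfsg.Out (Cfsg.POmega F (Cfsg.quadFormMinus (m - 1) F a b)) ≃* DihedralGroup 4 × Multiplicative (ZMod f))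
    else Nonempty (Cfsg.Out (Cfsg.POmega F (Cfsg.quadFormMinus (m - 1) F a b)) ≃*
      Multiplicative (ZMod 2 × ZMod (2 * f))) := by
  haveI := CfsgLib.AutPSL.charP_of_card (F := F) hF
  have hpodd : Odd p := (Fact.out : p.Prime).odd_of_ne_two hp
  have hqodd : Odd (Fintype.card F) := hF ▸ hpodd.pow
  have h2 : (2 : F) ≠ 0 := Ring.two_ne_zero fun e =>
    Nat.not_even_iff_odd.2 hqodd (Nat.even_iff.2 (FiniteField.even_card_of_char_two e))
  have hch : ringChar F ≠ 2 := by rw [ringChar.eq F p]; exact hp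
  have hcount := card_mulAut_pomega_minus p f hf hF m hm a b hab
  rw [if_neg hp] at hcount
  obtain ⟨Q, hQ, hB⟩ := exists_quadForm_minus (m - 1) hab
  have hg := good_minus (m := m - 1) (by omega) hab hQ hB
  rw [← hQ] at hcount ⊢
  haveI := finite_semilin (F := F) (ι := (Fin (m - 1) ⊕ Fin (m - 1)) ⊕ Fin 2)
  haveI : Finite (Cfsg.Out (Cfsg.POmega F ⇑Q)) := Finite.of_surjective _ (outHom_surjective hg)
  have hn5 := hg.five
  have hn1 : 1 ≤ Module.finrank F ((Fin (m - 1) ⊕ Fin (m - 1)) ⊕ Fin 2 → F) := le_trans (by norm_num) hn5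
  have hι : Fintype.card ((Fin (m - 1) ⊕ Fin (m - 1)) ⊕ Fin 2) = 2 * m := by
    simp only [Fintype.card_sum, Fintype.card_fin]; omega
  have hev : Even (Fintype.card ((Fin (m - 1) ⊕ Fin (m - 1)) ⊕ Fin 2)) := ⟨m, by omega⟩
  have hfield := minus_field hab hQ hB
  have hgal := (CfsgLib.AutPSL.card_ringAut_isCyclic hF hf).2
  have hout := card_out hg hcount
  have hord := orderOf_frob (F := F) (p := p) hf hF
  have hσf : frob F p ^ f = 1 := by have := pow_orderOf_eq_one (frob F p); rwa [hord] at this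
  obtain ⟨L, hLσ, hLq, hLdet⟩ := exists_frob_lift p hpodd hab hQ hF hσf
  have hyf : orderOf (fieldOut hg (outHom Q L)) = f := by rw [fieldOut_outHom, hLσ, hord]
  -- a similitude with non-square multiplier
  obtain ⟨c₀, hc⟩ := FiniteField.exists_nonsquare (F := F) hch
  have hc0 : c₀ ≠ 0 := fun e => hc (e ▸ IsSquare.zero)
  obtain ⟨δg, hδ⟩ := multiplier_surjective hB hn1 (fun c => by rw [hQ]; exact minus_rep hab c) (Units.mk0 c₀ hc0)
  obtain ⟨c, hδc⟩ := δg.2
  have hcc : (c : F) = c₀ := by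
    have := multiplier_eq hB hn1 δg hδc
    rw [hδ] at this
    rw [← this]; rfl
  obtain ⟨δ, hδ1, hδv⟩ : ∃ δ : semi Q, fieldPart Q δ = 1 ∧ ∀ v, Q (sv (δ : Semilin F _) v) = (c : F) * Q v :=
    ⟨⟨⟨δg, 1⟩, c, fun v => hδc v⟩, rfl, hδc⟩
  -- two reflections
  have hquv : ∀ u : F, ∃ v, Q v = u := fun u => ⟨Pi.single (.inl (.inl ⟨0, by omega⟩)) u +
    Pi.single (.inl (.inr ⟨0, by omega⟩)) 1, by
      rw [hQ]
      simp [Cfsg.quadFormMinus, Pi.single_apply]⟩
  obtain ⟨v, hv⟩ := hquv 1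
  obtain ⟨r₁, hr₁⟩ := exists_refl hB (v := v) (by rw [hv]; exact one_ne_zero)
  obtain ⟨w, hw⟩ := hquv c₀
  obtain ⟨r₂, hr₂⟩ := exists_refl hB (v := w) (by rw [hw]; exact hc0)
  have hvw : ¬ IsSquare (Q v * Q w) := by rwa [hv, hw, one_mul]
  have hclass : ∀ (x : semi Q) (u : _) (q : Grp Q) (hq : IsRefl u q) (u' : _) (q' : Grp Q) (hq' : IsRefl u' q'),
      IsSquare (Q (sv (x : Semilin F _) u) * Q u') → outHom Q x * cls Q q * (outHom Q x)⁻¹ = cls Q q' :=
    fun x u q hq u' q' hq' hsq => by rw [conj_cls]; exact cls_refl_eq hg h2 (refl_conj hq) hq' hsq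
  have htr := hclass δ v r₁ hr₁ w r₂ hr₂ (by rw [hδv, hv, hw, hcc, mul_one]; exact ⟨c₀, rfl⟩)
  have hts := hclass δ w r₂ hr₂ v r₁ hr₁ (by rw [hδv, hv, hw, hcc, mul_one]; exact ⟨c₀, rfl⟩)
  have hyr := hclass L v r₁ hr₁ v r₁ hr₁ (by rw [hLq, hv, map_one, mul_one]; exact IsSquare.one)
  have hys := hclass L w r₂ hr₂ w r₂ hr₂ (by
    rw [hLq, hw, frob_apply, ← pow_succ]
    obtain ⟨j, hj⟩ := hpodd
    exact ⟨c₀ ^ (j + 1), by rw [← pow_add]; congr 1; omega⟩)
  obtain ⟨g₁, hg₁, ht1⟩ := sim_sq_class hg h2 hδ1 hδv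
  obtain ⟨g₂, hg₂, ht2⟩ := sim_comm_class hg h2 p hpodd hδ1 hδv hLσ hLq
  have hp1 := cls_proper hg h2 hr₁ hr₂ hvw hg₁
  have hp2 := cls_proper hg h2 hr₁ hr₂ hvw hg₂
  have hπcls : ∀ g, fieldOut hg (cls Q g) = 1 := fun g => by
    rw [cls, MonoidHom.comp_apply, fieldOut_outHom]; rfl
  have hπt : fieldOut hg (outHom Q δ) = 1 := by rw [fieldOut_outHom, hδ1]
  have hd : ¬ IsSquare (a ^ 2 - 4 * b) := by
    rintro ⟨r, hr⟩
    exact h2 (hab (-a + r) 2 (by linear_combination -hr)).2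
  have hd0 : a ^ 2 - 4 * b ≠ 0 := fun e' => hd (e' ▸ IsSquare.zero)
  obtain ⟨e, he, hpair, hprod⟩ := frame_minus h2 (m - 1) hab hQ
  have hneg : (∃ g : Grp Q, g ∈ Cfsg.Omega F ⇑Q ∧ ((g : GL ((Fin (m - 1) ⊕ Fin (m - 1)) ⊕ Fin 2) F) : Matrix ((Fin (m - 1) ⊕ Fin (m - 1)) ⊕ Fin 2) ((Fin (m - 1) ⊕ Fin (m - 1)) ⊕ Fin 2) F) = -1) ↔ p ^ f % 4 = 3 ∧ Odd m := by
    rw [neg_one_mem_omega_iff hB h2 (Module.finrank_pi F).symm hev (by omega) e he hpair, hprod,
      show (-1 : F) ^ (m - 1) * (4 * b - a ^ 2) = (-1) ^ m * (a ^ 2 - 4 * b) by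
        obtain ⟨j, rfl⟩ : ∃ j, m = j + 1 := ⟨m - 1, by omega⟩
        rw [Nat.add_sub_cancel, pow_succ]; ring, isSquare_mul_iff (pow_ne_zero _ (neg_ne_zero.2 one_ne_zero))]
    simp only [hd0, hd, iff_false, false_or]
    rcases Nat.even_or_odd m with h | h
    · rw [h.neg_one_pow]
      simp only [IsSquare.one, not_true, false_iff, not_and]
      exact fun _ => Nat.not_odd_iff_even.2 h
    · rw [h.neg_one_pow, FiniteField.isSquare_neg_one_iff, not_not, hF]
      simp [h]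
  have hiffEven : Even (m * (p ^ f - 1) / 2) ↔ ¬ (p ^ f % 4 = 3 ∧ Odd m) := by
    have := Nat.odd_iff.1 (hF ▸ hqodd : Odd (p ^ f))
    rw [show p ^ f - 1 = 2 * (p ^ f / 2) by omega, mul_left_comm, Nat.mul_div_cancel_left _ two_pos,
      Nat.even_mul, Nat.even_iff, Nat.even_iff, Nat.odd_iff]
    omega
  split_ifs with hcase
  · rw [if_neg (mt hiffEven.1 (not_not.2 hcase))] at hcount hout
    have hfodd : Odd f := by
      rcases Nat.even_or_odd f with ⟨j, hj⟩ | h
      · exfalso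
        have : p ^ f % 4 = 1 := by
          rw [hj, ← two_mul, pow_mul, Nat.pow_mod]
          have hp4 : p ^ 2 % 4 = 1 := by
            rw [Nat.pow_mod]
            have := Nat.odd_iff.1 hpodd
            obtain e | e : p % 4 = 1 ∨ p % 4 = 3 := by omega
            all_goals rw [e]
          rw [hp4]; simp
        omega
      · exact h
    exact equiv_dihedral (fieldOut hg) hfodd hout (card_ker_fieldOut hg hfield (by rw [hgal]; exact hcount))
      (cls_refl_sq hr₁) (cls_refl_sq hr₂) (cls_comm r₁ r₂) (cls_pair_ne hg h2 hr₁ hr₂ hvw (hneg.2 hcase))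
      htr hts hyr hys (ht1 ▸ hp1) ⟨_, hp2, by rw [← ht2, mul_inv_cancel_left]⟩ (hπcls r₁) hπt hyf
  · rw [if_pos (hiffEven.2 hcase)] at hcount hout
    have hrs1 := cls_pair_trivial hg h2 hev hr₁ hr₂ hvw (mt hneg.1 hcase)
    have htriv : ∀ g : Grp Q, dickson hB g = 1 → cls Q g = 1 := fun g hd =>
      (cls_proper hg h2 hr₁ hr₂ hvw hd).elim id (·.trans hrs1)
    have hcomm : Commute (outHom Q L) (outHom Q δ) := by
      rw [htriv g₂ hg₂, inv_mul_eq_one] at ht2
      exact mul_inv_eq_iff_eq_mul.1 ht2.symm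
    obtain ⟨h₀, hh₀⟩ : ∃ h : Grp Q, incl Q h = L ^ f := by
      have hr' : ((L ^ f : semi Q) : Semilin F ((Fin (m - 1) ⊕ Fin (m - 1)) ⊕ Fin 2)).right = 1 := by
        show fieldPart Q (L ^ f) = 1
        rw [map_pow, hLσ, hσf]
      refine ⟨⟨((L ^ f : semi Q) : Semilin F _).left, fun u _ => ?_⟩, Subtype.ext (SemidirectProduct.ext rfl hr'.symm)⟩
      have := pow_isometry (x := L) (fun v => (hLq v).trans (congrArg (fun σ : F ≃+* F => σ (Q v)) hLσ.symm)) f u
      rw [show (L : Semilin F ((Fin (m - 1) ⊕ Fin (m - 1)) ⊕ Fin 2)).right = frob F p from hLσ, hσf, sv, hr'] at this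
      exact this
    have hy0 : outHom Q L ^ f = cls Q h₀ := by rw [← map_pow, ← hh₀]; rfl
    have hyne : outHom Q L ^ f ≠ 1 := by
      intro e
      rw [hy0] at e
      have h1 := dickson_of_cls hg h2 hev e
      rw [dickson_iff_det hB h2 hn5, hLdet h₀ hh₀] at h1
      exact h2 (by linear_combination -h1)
    have hyfK : outHom Q L ^ f * outHom Q L ^ f = 1 := by
      rw [hy0, ← map_mul]
      refine htriv _ ?_
      rw [map_mul]; exact Int.units_mul_self _
    have hyo : orderOf (outHom Q L) = 2 * f := by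
      have hd : orderOf (outHom Q L) ∣ 2 * f := orderOf_dvd_of_pow_eq_one (by rw [two_mul, pow_add, hyfK])
      have hd' : f ∣ orderOf (outHom Q L) := by
        have := orderOf_map_dvd (fieldOut hg) (outHom Q L)
        rwa [hyf] at this
      obtain ⟨k, hk'⟩ := hd'
      rw [hk', mul_comm 2 f] at hd
      rcases (Nat.dvd_prime Nat.prime_two).1 (Nat.dvd_of_mul_dvd_mul_left hf hd) with e | e
      · exfalso
        rw [e, mul_one] at hk'
        exact hyne (by nth_rw 1 [← hk']; exact pow_orderOf_eq_one _)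
      · rw [hk', e, mul_comm]
    refine equiv_two_cyclic hf hout (by rw [ht1, htriv g₁ hg₁]) hcomm hyo fun k hk2 e => ?_
    have := congrArg (fieldOut hg) e
    rw [hπt, map_pow] at this
    obtain ⟨j, rfl⟩ : f ∣ k := hyf ▸ orderOf_dvd_of_pow_eq_one this.symm
    obtain rfl | rfl : j = 0 ∨ j = 1 := by
      have : j < 2 := Nat.lt_of_mul_lt_mul_left (a := f) (by rwa [mul_comm 2 f] at hk2)
      omega
    · exact sim_not_cls hg hδv (hcc ▸ hc) 1 (by rw [e, map_one, mul_zero, pow_zero])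
    · exact sim_not_cls hg hδv (hcc ▸ hc) h₀ (by rw [e, mul_one, hy0])

end CfsgLib.OrthAut
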