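import Cfsg.Agent.Lib.OrthAut.FieldPlus
import Cfsg.Agent.Lib.OrthAut.OutMinusOdd

/-!
Diagonal similitudes of a plus-type space.
-/

set_option autoImplicit false
set_option linter.unusedSectionVars false

namespace CfsgLib.OrthAut

open Matrix CfsgLib.Orth

universe u

variable {F : Type u} [Field F] [Fintype F] {m : ℕ}

/-- Invertible diagonal matrices. -/
def diagHom (F : Type u) [Field F] (m : ℕ) : (PIdx m → Fˣ) →* GL (PIdx m) F :=
  (Units.map (Matrix.diagonalRingHom (PIdx m) F).toMonoidHom).comp MulEquiv.piUnits.symm.toMonoidHom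

theorem diagHom_mulVec (d : PIdx m → Fˣ) (v : PIdx m → F) (i : PIdx m) :
    ((diagHom F m d : Matrix (PIdx m) (PIdx m) F) *ᵥ v) i = (d i : F) * v i := by
  show (Matrix.diagonal (fun j => (d j : F)) *ᵥ v) i = _
  rw [Matrix.mulVec_diagonal]

variable {Q : QuadraticForm F (PIdx m → F)}

theorem diag_q (hQ : ⇑Q = Cfsg.quadFormPlus m F) {d : PIdx m → Fˣ} {c : Fˣ}
    (hd : ∀ i, d (.inl i) * d (.inr i) = c) (v : PIdx m → F) :
    Q ((diagHom F m d : Matrix (PIdx m) (PIdx m) F) *ᵥ v) = (c : F) * Q v := by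
  rw [hQ, Cfsg.quadFormPlus, Cfsg.quadFormPlus, Finset.mul_sum]
  refine Finset.sum_congr rfl fun i _ => ?_
  rw [diagHom_mulVec, diagHom_mulVec, ← hd i, Units.val_mul]
  ring

theorem diag_mem (hQ : ⇑Q = Cfsg.quadFormPlus m F) {d : PIdx m → Fˣ} {c : Fˣ}
    (hd : ∀ i, d (.inl i) * d (.inr i) = c) : diagHom F m d ∈ Cfsg.Geo.quadSimilarityGroup ⇑Q :=
  ⟨c, diag_q hQ hd⟩

theorem chiP_diag (hQ : ⇑Q = Cfsg.quadFormPlus m F) (hB : Nondeg Q) (d : PIdx m → Fˣ)
    (hd : diagHom F m d ∈ Cfsg.Geo.quadSimilarityGroup ⇑Q) : chiP hQ hB ⟨_, hd⟩ = 1 := by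
  show hpar (stdHalf m F) (extS _ (stdHalf m F)) = 1
  have e : extS ((simInc Q ⟨_, hd⟩ : semi Q) : Semilin F (PIdx m)) (stdHalf m F) = stdHalf m F := by
    rw [extS, show ((simInc Q ⟨_, hd⟩ : semi Q) : Semilin F (PIdx m)).right.toRingHom = RingHom.id F from rfl, ext_mat]
    refine Submodule.eq_of_le_of_finrank_eq ?_ ?_
    · rintro _ ⟨v, hv, rfl⟩
      refine mem_stdHalf.2 fun i => ?_
      show (Matrix.toLin' (diagHom F m d : Matrix (PIdx m) (PIdx m) F) v) (.inr i) = 0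
      rw [Matrix.toLin'_apply, diagHom_mulVec, mem_stdHalf.1 hv i, mul_zero]
    · rw [← ext_mat, finrank_ext]
  rw [e, hpar_self]

/-- The hyperbolic torus. -/
def tor (hQ : ⇑Q = Cfsg.quadFormPlus m F) : (Fin m → Fˣ) →* Grp Q where
  toFun l := ⟨diagHom F m (Sum.elim l fun i => (l i)⁻¹), fun v _ => by
    show Q ((diagHom F m (Sum.elim l fun i => (l i)⁻¹) : Matrix (PIdx m) (PIdx m) F) *ᵥ v) = Q v
    rw [diag_q hQ (c := 1) (fun i => by simp) v, Units.val_one, one_mul]⟩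
  map_one' := Subtype.ext (by
    show diagHom F m _ = 1
    rw [← map_one (diagHom F m)]
    exact congrArg _ (funext fun i => by rcases i with i | i <;> simp))
  map_mul' l l' := Subtype.ext (by
    show diagHom F m _ = diagHom F m _ * diagHom F m _
    rw [← map_mul]
    exact congrArg _ (funext fun i => by rcases i with i | i <;> simp [mul_comm]))

theorem tor_ap (hQ : ⇑Q = Cfsg.quadFormPlus m F) (l : Fin m → Fˣ) (v : PIdx m → F) (i : PIdx m) :
    ap (tor hQ l) v i = ((Sum.elim l (fun i => (l i)⁻¹) i : Fˣ) : F) * v i :=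
  diagHom_mulVec _ v i

theorem dickson_tor (hQ : ⇑Q = Cfsg.quadFormPlus m F) (hB : Nondeg Q) (l : Fin m → Fˣ) :
    dickson hB (tor hQ l) = 1 :=
  (chiP_grp hQ hB (tor hQ l)).symm.trans (chiP_diag hQ hB _ (isometry_le_sim (tor hQ l).2))

/-- The vector `e_i - t f_i`. -/
def hypVec (m : ℕ) (i : Fin m) (t : F) : PIdx m → F := Pi.single (.inl i) 1 - t • Pi.single (.inr i) 1

theorem q_hypVec (hQ : ⇑Q = Cfsg.quadFormPlus m F) (i : Fin m) (t : F) : Q (hypVec m i t) = -t := by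
  rw [hQ, Cfsg.quadFormPlus, Finset.sum_eq_single i (fun b _ hb => by simp [hypVec, hb]) (by simp)]
  simp [hypVec]

theorem polar_hypVec (hQ : ⇑Q = Cfsg.quadFormPlus m F) (i : Fin m) (t : F) (v : PIdx m → F) :
    QuadraticMap.polar (⇑Q) (hypVec m i t) v = v (.inr i) - t * v (.inl i) := by
  rw [hQ, CfsgLib.Orth.polar_plus, Finset.sum_eq_single i (fun b _ hb => by simp [hypVec, hb]) (by simp)]
  simp [hypVec]
  ring

theorem tor_single (hQ : ⇑Q = Cfsg.quadFormPlus m F) (i : Fin m) (t : Fˣ) {r₁ r₂ : Grp Q}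
    (h₁ : IsRefl (hypVec m i 1) r₁) (h₂ : IsRefl (hypVec m i (t : F)) r₂) :
    tor hQ (Pi.mulSingle i t) = r₁ * r₂ := by
  refine ext_ap fun v => funext fun j => ?_
  rw [tor_ap, ap_mul, h₁.2, h₂.2, q_hypVec hQ, q_hypVec hQ, polar_hypVec hQ, polar_hypVec hQ]
  have ht := t.ne_zero
  rcases j with j | j <;> by_cases hj : j = i <;>
    simp [hypVec, hj] <;> (try subst hj) <;> field_simp <;> ring

theorem spinor_tor_single (hQ : ⇑Q = Cfsg.quadFormPlus m F) (h : Fine Q) (h2 : (2 : F) ≠ 0) (i : Fin m) (t : Fˣ) :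
    spinor Q 1 (tor hQ (Pi.mulSingle i t)) = 1 ↔ IsSquare (t : F) := by
  obtain ⟨r₁, h₁⟩ := exists_refl h.nondeg (v := hypVec m i 1) (by rw [q_hypVec hQ]; simp)
  obtain ⟨r₂, h₂⟩ := exists_refl h.nondeg (v := hypVec m i (t : F)) (by rw [q_hypVec hQ]; simp [t.ne_zero])
  rw [tor_single hQ i t h₁ h₂]
  constructor
  · intro h0
    by_contra hs
    rw [(spinor_pair h h2 h₁ h₂ (by rw [q_hypVec hQ, q_hypVec hQ]; simpa using hs)).2] at h0
    exact absurd h0 (by decide)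
  · intro hs
    rw [map_mul, spinor_refl_eq h.nondeg h2 1 h₁ h₂ (by rw [q_hypVec hQ, q_hypVec hQ]; simpa using hs),
      Int.units_mul_self]

/-- The spinor norm of a torus element. -/
theorem spinor_tor (hQ : ⇑Q = Cfsg.quadFormPlus m F) (h : Fine Q) (h2 : (2 : F) ≠ 0) (hm : 1 ≤ m) (l : Fin m → Fˣ) :
    spinor Q 1 (tor hQ l) = 1 ↔ IsSquare ((∏ i, l i : Fˣ) : F) := by
  let i₀ : Fin m := ⟨0, hm⟩
  let χ : Fˣ →* ℤˣ := ((spinor Q 1).comp (tor hQ)).comp (MonoidHom.mulSingle (fun _ : Fin m => Fˣ) i₀)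
  let prodHom : (Fin m → Fˣ) →* Fˣ :=
    { toFun := fun l => ∏ i, l i
      map_one' := Finset.prod_const_one
      map_mul' := fun l l' => Finset.prod_mul_distrib }
  have key : (spinor Q 1).comp (tor hQ) = χ.comp prodHom :=
    MonoidHom.functions_ext (M := fun _ : Fin m => Fˣ) _ _ _ fun i t => by
      show spinor Q 1 (tor hQ (Pi.mulSingle i t)) =
        spinor Q 1 (tor hQ (Pi.mulSingle i₀ (∏ j, (Pi.mulSingle i t : Fin m → Fˣ) j)))
      rw [Fintype.prod_pi_mulSingle']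
      have e₁ := spinor_tor_single hQ h h2 i t
      have e₂ := spinor_tor_single hQ h h2 i₀ t
      rcases Int.units_eq_one_or (spinor Q 1 (tor hQ (Pi.mulSingle i₀ t))) with e | e
      · rw [e]; exact e₁.2 (e₂.1 e)
      · rw [e]
        refine (Int.units_eq_one_or _).resolve_left fun h0 => ?_
        rw [e₂.2 (e₁.1 h0)] at e
        exact absurd e (by decide)
  rw [show spinor Q 1 (tor hQ l) = spinor Q 1 (tor hQ (Pi.mulSingle i₀ (∏ i, l i))) from DFunLike.congr_fun key l]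
  exact spinor_tor_single hQ h h2 i₀ _

theorem mem_omega_iff (hB : Nondeg Q) (h2 : (2 : F) ≠ 0) (hn : 2 ≤ Module.finrank F (PIdx m → F)) (g : Grp Q) :
    g ∈ Cfsg.Omega F ⇑Q ↔ dickson hB g = 1 ∧ spinor Q 1 g = 1 := by
  rw [(omega_eq_ker_psi hB h2 hn (one_ne_zero (α := F))).1, MonoidHom.mem_ker]
  exact Prod.ext_iff

end CfsgLib.OrthAut
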