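import Cfsg.Agent.Lib.OrthAut.PlusCoset
import Cfsg.Agent.Lib.OrthAut.PlusTorus

/-!
Classes modulo inner automorphisms of the similitudes of a plus-type space fixing both families.
-/

set_option autoImplicit false
set_option linter.unusedSectionVars false

namespace CfsgLib.OrthAut

open Matrix CfsgLib.Orth CfsgLib.AutPSL
open CfsgLib.ClassicalAut (scal scal_coe)

universe u

variable {F : Type u} [Field F] [Fintype F] {ι : Type} [Fintype ι] [DecidableEq ι]

theorem out_scal {Q : QuadraticForm F (ι → F)} (h : Fine Q) (c : Fˣ) :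
    outHom Q (simInc Q ⟨scal c, scal_mem_sim c⟩) = 1 := by
  rw [show simInc Q ⟨scal c, scal_mem_sim c⟩ = scalarHom Q c from Subtype.ext (SemidirectProduct.ext rfl rfl)]
  exact outHom_scalar h c

theorem out_grp {Q : QuadraticForm F (ι → F)} (s : Grp Q) :
    outHom Q (simInc Q ⟨s, isometry_le_sim s.2⟩) = cls Q s := rfl

/-- A similitude of square multiplier is a scalar multiple of an isometry. -/
theorem scaled_isometry {Q : QuadraticForm F (ι → F)} {g : GL ι F} {d : Fˣ}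
    (hg : ∀ v, Q ((g : Matrix ι ι F) *ᵥ v) = (d : F) * d * Q v) :
    ∃ s : Grp Q, g = scal d * (s : GL ι F) := by
  refine ⟨⟨scal d⁻¹ * g, fun v _ => ?_⟩, by simp [← mul_assoc, ← map_mul]⟩
  show Q (((scal d⁻¹ * g : GL ι F) : Matrix ι ι F) *ᵥ v) = Q v
  rw [CfsgLib.ClassicalAut.scal_mul_coe, smul_mulVec, q_smul, hg, Units.val_inv_eq_inv_val]
  field_simp

variable {m : ℕ} {Q : QuadraticForm F (PIdx m → F)}

theorem neg_mem_omega (hQ : ⇑Q = Cfsg.quadFormPlus m F) (h : Fine Q) (h2 : (2 : F) ≠ 0) (hm : 1 ≤ m)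
    (hsq : IsSquare ((-1 : F) ^ m)) :
    ∃ g : Grp Q, g ∈ Cfsg.Omega F ⇑Q ∧ ((g : GL (PIdx m) F) : Matrix (PIdx m) (PIdx m) F) = -1 := by
  refine ⟨tor hQ fun _ => -1, (mem_omega_iff h.nondeg h2 (by have := h.five; omega) _).2
    ⟨dickson_tor hQ h.nondeg _, (spinor_tor hQ h h2 hm _).2 (by simpa using hsq)⟩, ?_⟩
  refine Matrix.ext_iff_mulVec.2 fun v => funext fun i => ?_
  show ap (tor hQ fun _ => -1) v i = _
  rw [tor_ap, neg_mulVec, one_mulVec]
  rcases i with i | i <;> simp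

theorem cls_eq_one_iff (h : Fine Q)
    (hneg : ∃ g : Grp Q, g ∈ Cfsg.Omega F ⇑Q ∧ ((g : GL (PIdx m) F) : Matrix (PIdx m) (PIdx m) F) = -1) (g : Grp Q) :
    cls Q g = 1 ↔ g ∈ Cfsg.Omega F ⇑Q := by
  refine ⟨fun e => ?_, fun hg => outHom_omega g hg⟩
  rcases incl_outer h e with h' | ⟨g'', hg'', h'⟩
  · exact h'
  · obtain ⟨g', hg', hm'⟩ := hneg
    exact (Subgroup.mul_mem_cancel_left _ ((show g'' = g' from Subtype.ext (Units.ext (hg''.trans hm'.symm))) ▸ hg')).1 h'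

/-- The classes of the similitudes fixing both families. -/
theorem plus_class_set (hQ : ⇑Q = Cfsg.quadFormPlus m F) (h : Fine Q) (h2 : (2 : F) ≠ 0) (hm : 1 ≤ m)
    (hsq : IsSquare ((-1 : F) ^ m)) :
    Nat.card (((outHom Q).comp (simInc Q)).comp (chiP hQ h.nondeg).ker.subtype).range = 4 := by
  classical
  have hneg := neg_mem_omega hQ h h2 hm hsq
  obtain ⟨ν, hν⟩ := FiniteField.exists_nonsquare (F := F) fun hc => h2 (by
    haveI : CharP F 2 := hc ▸ ringChar.charP F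
    exact_mod_cast CharP.cast_eq_zero F 2)
  have hν0 : ν ≠ 0 := fun e => hν (e ▸ IsSquare.zero)
  let i₀ : Fin m := ⟨0, hm⟩
  obtain ⟨r₁, hr₁⟩ := exists_refl h.nondeg (v := hypVec m i₀ 1) (by rw [q_hypVec hQ]; simp)
  obtain ⟨r₂, hr₂⟩ := exists_refl h.nondeg (v := hypVec m i₀ ν) (by rw [q_hypVec hQ]; simp [hν0])
  have hns : ¬ IsSquare (Q (hypVec m i₀ 1) * Q (hypVec m i₀ ν)) := by
    rw [q_hypVec hQ, q_hypVec hQ]; simpa using hν
  set b := cls Q r₁ * cls Q r₂
  let dG : PIdx m → Fˣ := Sum.elim (fun _ => Units.mk0 ν hν0) fun _ => 1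
  have hdG : ∀ i, dG (.inl i) * dG (.inr i) = Units.mk0 ν hν0 := fun i => by simp [dG]
  set G : Cfsg.Geo.quadSimilarityGroup ⇑Q := ⟨diagHom F m dG, diag_mem hQ hdG⟩
  set a := outHom Q (simInc Q G)
  have hb : b ≠ 1 := cls_pair_ne h h2 hr₁ hr₂ hns hneg
  have ha : ∀ s : Grp Q, a ≠ cls Q s := fun s =>
    sim_not_cls h (c := ν) (fun v => by rw [sv_simInc]; exact diag_q hQ hdG v) hν s
  have hb' : b = cls Q (r₁ * r₂) := (map_mul _ _ _).symm
  have hchiG : chiP hQ h.nondeg G = 1 := chiP_diag hQ h.nondeg dG _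
  have key : ∀ g : Cfsg.Geo.quadSimilarityGroup ⇑Q, chiP hQ h.nondeg g = 1 → ∀ d : Fˣ,
      (∀ v, Q (((g : GL (PIdx m) F) : Matrix (PIdx m) (PIdx m) F) *ᵥ v) = (d : F) * d * Q v) →
      outHom Q (simInc Q g) = 1 ∨ outHom Q (simInc Q g) = b := by
    intro g hg d hd
    obtain ⟨s, hs⟩ := scaled_isometry hd
    have e : g = ⟨scal d, scal_mem_sim d⟩ * ⟨s, isometry_le_sim s.2⟩ := Subtype.ext hs
    rw [e, map_mul, chiP_scal, one_mul, chiP_grp] at hg
    rw [e, map_mul, map_mul, out_scal h, one_mul]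
    exact cls_proper h h2 hr₁ hr₂ hns hg
  let K := (((outHom Q).comp (simInc Q)).comp (chiP hQ h.nondeg).ker.subtype).range
  have hmem : ∀ y, y ∈ K ↔ y ∈ ({1, b, a, a * b} : Finset (Cfsg.Out (Cfsg.POmega F ⇑Q))) := by
    intro y
    simp only [Finset.mem_insert, Finset.mem_singleton]
    constructor
    · rintro ⟨⟨g, hg⟩, rfl⟩
      obtain ⟨c, hc⟩ := g.2
      rw [MonoidHom.mem_ker] at hg
      show outHom Q (simInc Q g) = _ ∨ outHom Q (simInc Q g) = _ ∨ outHom Q (simInc Q g) = _ ∨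
        outHom Q (simInc Q g) = _
      by_cases hc2 : IsSquare (c : F)
      · obtain ⟨d, hd⟩ := hc2
        have hd0 : d ≠ 0 := fun e => c.ne_zero (by rw [hd, e, zero_mul])
        rcases key g hg (Units.mk0 d hd0) (fun v => by rw [hc, hd, Units.val_mk0]) with e | e
        · exact Or.inl e
        · exact Or.inr (Or.inl e)
      · obtain ⟨d, hd⟩ : IsSquare (ν⁻¹ * (c : F)) := (CfsgLib.Orth.isSquare_mul_iff (inv_ne_zero hν0)).2
          (Or.inr (iff_of_false (fun e => hν (by simpa using e.inv)) hc2))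
        have hd0 : d ≠ 0 := fun e => mul_ne_zero (inv_ne_zero hν0) c.ne_zero (by rw [hd, e, zero_mul])
        have hmul : ∀ v, Q ((((G⁻¹ * g : Cfsg.Geo.quadSimilarityGroup ⇑Q) : GL (PIdx m) F) :
            Matrix (PIdx m) (PIdx m) F) *ᵥ v) = (d : F) * d * Q v := fun v => by
          have h1 := diag_q hQ hdG ((((G⁻¹ * g : Cfsg.Geo.quadSimilarityGroup ⇑Q) : GL (PIdx m) F) :
            Matrix (PIdx m) (PIdx m) F) *ᵥ v)
          rw [mulVec_mulVec, ← Units.val_mul, show diagHom F m dG * ((G⁻¹ * g : Cfsg.Geo.quadSimilarityGroup ⇑Q) :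
            GL (PIdx m) F) = (g : GL (PIdx m) F) from congrArg Subtype.val (mul_inv_cancel_left G g), hc,
            Units.val_mk0] at h1
          rw [← hd, mul_assoc, h1, inv_mul_cancel_left₀ hν0]
        rcases key (G⁻¹ * g) (by rw [map_mul, map_inv, hchiG, hg, inv_one, one_mul]) (Units.mk0 d hd0) hmul with e | e
        · exact Or.inr (Or.inr (Or.inl (by rw [map_mul, map_mul, map_inv, map_inv, inv_mul_eq_one] at e; exact e.symm)))
        · exact Or.inr (Or.inr (Or.inr (by rw [map_mul, map_mul, map_inv, map_inv, inv_mul_eq_iff_eq_mul] at e; exact e)))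
    · have h12 : r₁ * r₂ ∈ Set.univ := Set.mem_univ _
      let t : (chiP hQ h.nondeg).ker := ⟨⟨_, isometry_le_sim (r₁ * r₂).2⟩, MonoidHom.mem_ker.2 (by
        rw [chiP_grp hQ h.nondeg, map_mul, dickson_refl h.nondeg hr₁, dickson_refl h.nondeg hr₂]; rfl)⟩
      have hbK : b ∈ K := ⟨t, hb'.symm⟩
      have haK : a ∈ K := ⟨⟨G, hchiG⟩, rfl⟩
      rintro (rfl | rfl | rfl | rfl)
      exacts [one_mem _, hbK, haK, mul_mem haK hbK]
  have ha1 : a ≠ 1 := by simpa using ha 1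
  have hab : a ≠ b := hb' ▸ ha _
  have hab1 : a * b ≠ 1 := fun e => ha (r₁ * r₂)⁻¹ (by rw [map_inv, ← hb']; exact eq_inv_of_mul_eq_one_left e)
  have habb : a * b ≠ b := fun e => ha1 (mul_eq_right.1 e)
  have haba : a * b ≠ a := fun e => hb (mul_eq_left.1 e)
  show Nat.card K = 4
  rw [Nat.card_congr (Equiv.subtypeEquivRight hmem), Nat.card_eq_fintype_card, Fintype.card_coe,
    Finset.card_insert_of_notMem (by simp [Ne.symm hb, Ne.symm ha1, Ne.symm hab1]),
    Finset.card_insert_of_notMem (by simp [Ne.symm hab, Ne.symm habb]),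
    Finset.card_insert_of_notMem (by simp [Ne.symm haba]), Finset.card_singleton]

end CfsgLib.OrthAut
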