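import Cfsg.Agent.Lib.OrthAut.FieldOddCent
import Cfsg.Agent.Lib.OrthAut.PlusClasses

/-!
The conformal, special and inner-diagonal images modulo inner automorphisms in even dimension.
-/

set_option autoImplicit false
set_option linter.unusedSectionVars false

namespace CfsgLib.OrthAut

open Matrix CfsgLib.Orth CfsgLib.AutPSL
open CfsgLib.ClassicalAut (scal scal_coe)

universe u

variable {F : Type u} [Field F] [Fintype F] {ι : Type} [Fintype ι] [DecidableEq ι]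
variable {Q : QuadraticForm F (ι → F)}

local notation "Sim" => Cfsg.Geo.quadSimilarityGroup (DFunLike.coe Q)
local notation "PΩ" => Cfsg.POmega F (DFunLike.coe Q)

/-- The automorphism induced by a similitude. -/
def simAut (Q : QuadraticForm F (ι → F)) : Cfsg.Geo.quadSimilarityGroup ⇑Q →* MulAut (Cfsg.POmega F ⇑Q) :=
  (psi Q).comp (simInc Q)

/-- Its class modulo inner automorphisms. -/
def simOut (Q : QuadraticForm F (ι → F)) : Cfsg.Geo.quadSimilarityGroup ⇑Q →* Cfsg.Out (Cfsg.POmega F ⇑Q) :=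
  (outHom Q).comp (simInc Q)

theorem simOut_eq_one_iff (g : Sim) : simOut Q g = 1 ↔ simAut Q g ∈ Cfsg.Inn PΩ := QuotientGroup.eq_one_iff _

theorem pgoAut_eq : Cfsg.pgoAut F ⇑Q = (simAut Q).range := by
  refine le_antisymm ((Subgroup.closure_le _).2 ?_) ?_
  · rintro β ⟨g, hg, hβ⟩
    exact ⟨⟨g, hg⟩, psi_eq_lin hg hβ⟩
  · rintro _ ⟨g, rfl⟩
    exact Subgroup.subset_closure ⟨g, g.2, psi_spec (simInc Q g)⟩

/-- The special isometries among the similitudes. -/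
noncomputable def specialSim (hB : Nondeg Q) : Subgroup Sim :=
  (dickson hB).ker.map (Subgroup.inclusion isometry_le_sim)

theorem mem_specialSim (hB : Nondeg Q) {g : Sim} :
    g ∈ specialSim hB ↔ ∃ s : Grp Q, dickson hB s = 1 ∧ g = ⟨(s : GL ι F), isometry_le_sim s.2⟩ := by
  constructor
  · rintro ⟨s, hs, rfl⟩
    exact ⟨s, hs, rfl⟩
  · rintro ⟨s, hs, rfl⟩
    exact ⟨s, hs, rfl⟩

theorem psoAut_eq (h : Fine Q) (h2 : (2 : F) ≠ 0) :
    Cfsg.psoAut F ⇑Q = (specialSim h.nondeg).map (simAut Q) := by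
  refine le_antisymm ((Subgroup.closure_le _).2 ?_) ?_
  · rintro β ⟨g, ⟨hg, hdet⟩, hβ⟩
    refine ⟨⟨g, isometry_le_sim hg⟩, (mem_specialSim h.nondeg).2 ⟨⟨g, hg⟩, ?_, rfl⟩, psi_eq_lin _ hβ⟩
    rw [dickson_iff_det h.nondeg h2 h.five]
    exact congrArg Units.val hdet
  · rintro _ ⟨g, hg, rfl⟩
    obtain ⟨s, hs, rfl⟩ := (mem_specialSim h.nondeg).1 hg
    refine Subgroup.subset_closure ⟨s, ⟨s.2, Units.ext ?_⟩, psi_spec (simInc Q ⟨(s : GL ι F), isometry_le_sim s.2⟩)⟩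
    exact (dickson_iff_det h.nondeg h2 h.five s).1 hs

/-- A surjection from a similitude group read on its image. -/
theorem exists_hom_image {A : Type*} [Group A] (K : Subgroup Sim) (R N : Subgroup (MulAut PΩ))
    (hR : R = K.map (simAut Q)) (θ : K →* A) (hθ : Function.Surjective θ)
    (hker : ∀ g : K, θ g = 1 ↔ simAut Q g ∈ N) :
    ∃ φ : R →* A, Function.Surjective φ ∧ φ.ker = N.subgroupOf R := by
  let f : K →* R := MonoidHom.codRestrict ((simAut Q).comp K.subtype) R fun g => hR ▸ ⟨g, g.2, rfl⟩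
  have hf : Function.Surjective f := fun y => by
    obtain ⟨g, hg, he⟩ := (hR ▸ y.2 : (y : MulAut PΩ) ∈ K.map (simAut Q))
    exact ⟨⟨g, hg⟩, Subtype.ext he⟩
  have hle : f.ker ≤ θ.ker := fun g hg => (hker g).2 (by
    rw [show simAut Q g = 1 from congrArg Subtype.val hg]
    exact one_mem _)
  refine ⟨MonoidHom.liftOfSurjective f hf ⟨θ, hle⟩, fun y => ?_, ?_⟩
  · obtain ⟨g, rfl⟩ := hθ y
    exact ⟨f g, MonoidHom.liftOfRightInverse_comp_apply _ _ _ _ g⟩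
  · ext y
    obtain ⟨g, rfl⟩ := hf y
    rw [MonoidHom.mem_ker, MonoidHom.liftOfSurjective, MonoidHom.liftOfRightInverse_comp_apply]
    exact hker g

/-- The class map onto a group known up to isomorphism. -/
theorem exists_hom_out {A : Type*} [Group A] (K : Subgroup Sim) (R : Subgroup (MulAut PΩ))
    (hR : R = K.map (simAut Q)) (e : A →* Cfsg.Out PΩ) (he : Function.Injective e)
    (hrange : e.range = K.map (simOut Q)) :
    ∃ φ : R →* A, Function.Surjective φ ∧ φ.ker = (Cfsg.Inn PΩ).subgroupOf R := by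
  let E : A ≃* K.map (simOut Q) := (MonoidHom.ofInjective he).trans (MulEquiv.subgroupCongr hrange)
  refine exists_hom_image K R _ hR (E.symm.toMonoidHom.comp ((simOut Q).subgroupMap K))
    (E.symm.surjective.comp ((simOut Q).subgroupMap_surjective K)) fun g => ?_
  rw [← simOut_eq_one_iff, MonoidHom.comp_apply]
  show E.symm ((simOut Q).subgroupMap K g) = 1 ↔ _
  rw [map_eq_one_iff _ E.symm.injective]
  exact ⟨fun e1 => congrArg Subtype.val e1, fun e1 => Subtype.ext e1⟩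

/-- The square class of a unit. -/
noncomputable def sqClass (F : Type u) [Field F] [Finite F] : Fˣ →* ℤˣ := by
  classical
  exact MonoidHom.mk' (fun c => if IsSquare (c : F) then 1 else -1) fun a b => by
    rw [Units.val_mul]
    by_cases ha : IsSquare (a : F) <;> by_cases hb : IsSquare (b : F) <;>
      simp [CfsgLib.Orth.isSquare_mul_iff a.ne_zero, ha, hb]

theorem sqClass_eq_one_iff (c : Fˣ) : sqClass F c = 1 ↔ IsSquare (c : F) := by
  classical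
  rw [sqClass, MonoidHom.mk'_apply]
  split_ifs with h <;> simp [h]

/-- The data describing the similitude classes in even dimension. -/
structure CData (Q : QuadraticForm F (ι → F)) where
  fine : Fine Q
  h2 : (2 : F) ≠ 0
  ev : Even (Fintype.card ι)
  χ : Cfsg.Geo.quadSimilarityGroup ⇑Q →* ℤˣ
  χ_grp : ∀ s : Grp Q, χ ⟨s, isometry_le_sim s.2⟩ = dickson fine.nondeg s
  χ_scal : ∀ c : Fˣ, χ ⟨scal c, scal_mem_sim c⟩ = 1
  v : ι → F
  w : ι → F
  r₁ : Grp Q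
  r₂ : Grp Q
  hr₁ : IsRefl v r₁
  hr₂ : IsRefl w r₂
  hvw : ¬ IsSquare (Q v * Q w)
  G : Cfsg.Geo.quadSimilarityGroup ⇑Q
  χG : χ G = 1
  c : Fˣ
  hG : ∀ x, Q (((G : GL ι F) : Matrix ι ι F) *ᵥ x) = (c : F) * Q x
  hc : ¬ IsSquare (c : F)

namespace CData

variable (D : CData Q)

theorem dim_pos (D : CData Q) : 1 ≤ Module.finrank F (ι → F) := le_trans (by norm_num) D.fine.five

/-- The square class of the multiplier. -/
noncomputable def ν : Sim →* ℤˣ := (sqClass F).comp (multiplier D.fine.nondeg D.dim_pos)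

theorem nu_eq_one_iff {g : Sim} {m : Fˣ}
    (hm : ∀ x, Q (((g : GL ι F) : Matrix ι ι F) *ᵥ x) = (m : F) * Q x) : D.ν g = 1 ↔ IsSquare (m : F) := by
  rw [ν, MonoidHom.comp_apply, multiplier_eq D.fine.nondeg D.dim_pos g hm, sqClass_eq_one_iff]

theorem nu_grp (s : Grp Q) : D.ν ⟨s, isometry_le_sim s.2⟩ = 1 := by
  rw [D.nu_eq_one_iff (m := 1) (fun x => by rw [Units.val_one, one_mul]; exact ap_q s x)]
  simp

theorem nu_G : D.ν D.G = -1 :=
  (Int.units_eq_one_or _).resolve_left fun e => D.hc ((D.nu_eq_one_iff D.hG).1 e)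

theorem chi_r₁ : D.χ ⟨D.r₁, isometry_le_sim D.r₁.2⟩ = -1 := by rw [D.χ_grp, dickson_refl D.fine.nondeg D.hr₁]

/-- The class `b`. -/
def cb : Cfsg.Out PΩ := cls Q D.r₁ * cls Q D.r₂

/-- The class `a`. -/
def ca : Cfsg.Out PΩ := simOut Q D.G

theorem simOut_grp (s : Grp Q) : simOut Q ⟨s, isometry_le_sim s.2⟩ = cls Q s := rfl

theorem exists_isometry {g : Sim} (hg : D.ν g = 1) :
    ∃ (d : Fˣ) (s : Grp Q), g = ⟨scal d, scal_mem_sim d⟩ * ⟨s, isometry_le_sim s.2⟩ ∧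
      simOut Q g = cls Q s ∧ D.χ g = dickson D.fine.nondeg s := by
  obtain ⟨m, hm⟩ := g.2
  obtain ⟨d, hd⟩ := (D.nu_eq_one_iff hm).1 hg
  have hd0 : d ≠ 0 := fun e => m.ne_zero (by rw [hd, e, zero_mul])
  obtain ⟨s, hs⟩ := scaled_isometry (g := (g : GL ι F)) (d := Units.mk0 d hd0) fun x => by
    rw [hm, hd, Units.val_mk0]
  have e : g = ⟨scal (Units.mk0 d hd0), scal_mem_sim _⟩ * ⟨s, isometry_le_sim s.2⟩ := Subtype.ext hs
  refine ⟨_, s, e, ?_, ?_⟩
  · rw [e, map_mul, simOut, MonoidHom.comp_apply, out_scal D.fine, one_mul]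
    rfl
  · rw [e, map_mul, D.χ_scal, one_mul, D.χ_grp]

theorem cls_proper' {s : Grp Q} (hs : dickson D.fine.nondeg s = 1) : cls Q s = 1 ∨ cls Q s = D.cb :=
  cls_proper D.fine D.h2 D.hr₁ D.hr₂ D.hvw hs

theorem simOut_kernel {g : Sim} (hχ : D.χ g = 1) (hν : D.ν g = 1) : simOut Q g = 1 ∨ simOut Q g = D.cb := by
  obtain ⟨d, s, -, h1, h2⟩ := D.exists_isometry hν
  rw [h1]
  exact D.cls_proper' (h2 ▸ hχ)

theorem chi_nu_of_inner {g : Sim} (hg : simOut Q g = 1) : D.χ g = 1 ∧ D.ν g = 1 := by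
  obtain ⟨a, s, hs, he⟩ := outHom_eq_one D.fine (x := simInc Q g) hg
  have h1 : (g : GL ι F) = scal a * (s : GL ι F) := by
    have h2 := congrArg (fun z : semi Q => (z : Semilin F ι).left) he
    simp only [simInc, scalarHom, incl, MonoidHom.coe_mk, OneHom.coe_mk, Subgroup.coe_mul, SemidirectProduct.mul_left,
      map_one, MulAut.one_apply] at h2
    exact h2
  have e : g = ⟨scal a, scal_mem_sim a⟩ * ⟨s, isometry_le_sim s.2⟩ := Subtype.ext h1
  refine ⟨?_, ?_⟩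
  · rw [e, map_mul, D.χ_scal, one_mul, D.χ_grp]
    exact Abelianization.commutator_subset_ker _ hs
  · rw [e, map_mul, D.nu_grp, mul_one]
    exact (D.nu_eq_one_iff (m := a * a) fun x => by
      show Q (((scal a : GL ι F) : Matrix ι ι F) *ᵥ x) = _
      rw [scal_coe, smul_mulVec, one_mulVec, q_smul, Units.val_mul]).2 ⟨a, Units.val_mul a a⟩

theorem cb_eq : D.cb = simOut Q (⟨D.r₁, isometry_le_sim D.r₁.2⟩ * ⟨D.r₂, isometry_le_sim D.r₂.2⟩) := by
  rw [map_mul, simOut_grp, simOut_grp]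
  rfl

theorem r_pair_special :
    (⟨D.r₁, isometry_le_sim D.r₁.2⟩ * ⟨D.r₂, isometry_le_sim D.r₂.2⟩ : Sim) ∈ specialSim D.fine.nondeg :=
  (mem_specialSim D.fine.nondeg).2 ⟨D.r₁ * D.r₂, (spinor_pair D.fine D.h2 D.hr₁ D.hr₂ D.hvw).1, rfl⟩

theorem special_image (y : Cfsg.Out PΩ) :
    y ∈ (specialSim D.fine.nondeg).map (simOut Q) ↔ y = 1 ∨ y = D.cb := by
  constructor
  · rintro ⟨g, hg, rfl⟩
    obtain ⟨s, hs, rfl⟩ := (mem_specialSim D.fine.nondeg).1 hg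
    exact D.cls_proper' hs
  · rintro (rfl | rfl)
    · exact one_mem _
    · exact ⟨_, D.r_pair_special, D.cb_eq.symm⟩

theorem relIndex_pso :
    (D.cb = 1 → (Cfsg.Inn PΩ).relIndex (Cfsg.psoAut F ⇑Q) = 1) ∧
    (D.cb ≠ 1 → (Cfsg.Inn PΩ).relIndex (Cfsg.psoAut F ⇑Q) = 2) := by
  classical
  have e : (Cfsg.Inn PΩ).relIndex (Cfsg.psoAut F ⇑Q) = Nat.card ((specialSim D.fine.nondeg).map (simOut Q)) := by
    rw [psoAut_eq D.fine D.h2]
    conv_lhs => rw [← QuotientGroup.ker_mk' (Cfsg.Inn PΩ)]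
    rw [Subgroup.relIndex_ker, Subgroup.map_map]
    rfl
  have e2 : Nat.card ((specialSim D.fine.nondeg).map (simOut Q)) = ({1, D.cb} : Finset (Cfsg.Out PΩ)).card :=
    (Nat.card_congr (Equiv.subtypeEquivRight (q := fun y => y ∈ ({1, D.cb} : Finset _)) fun y => by
      simpa using D.special_image y)).trans (Nat.card_eq_finsetCard _)
  rw [e, e2]
  exact ⟨fun h => by rw [h]; simp, fun h => Finset.card_pair (Ne.symm h)⟩

/-- The two characters as one map onto the four-group. -/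
theorem klein_hom :
    ∃ θ : Sim →* Multiplicative (ZMod 2 × ZMod 2), Function.Surjective θ ∧
      ∀ g, θ g = 1 ↔ D.χ g = 1 ∧ D.ν g = 1 := by
  obtain ⟨e⟩ : Nonempty (ℤˣ × ℤˣ ≃* Multiplicative (ZMod 2 × ZMod 2)) := by
    have e₂ : ℤˣ ≃* Multiplicative (ZMod 2) := mulEquivOfPrimeCardEq (p := 2)
      (by rw [Nat.card_eq_fintype_card]; rfl) (by rw [Nat.card_congr Multiplicative.toAdd, Nat.card_zmod])
    exact ⟨(e₂.prodCongr e₂).trans (MulEquiv.prodMultiplicative (G := ZMod 2) (H := ZMod 2)).symm⟩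
  refine ⟨e.toMonoidHom.comp (D.χ.prod D.ν), e.surjective.comp fun y => ?_, fun g => ?_⟩
  · obtain ⟨y₁, y₂⟩ := y
    rcases Int.units_eq_one_or y₁ with rfl | rfl <;> rcases Int.units_eq_one_or y₂ with rfl | rfl
    · exact ⟨1, map_one _⟩
    · exact ⟨D.G, Prod.ext D.χG D.nu_G⟩
    · exact ⟨⟨D.r₁, isometry_le_sim D.r₁.2⟩, Prod.ext D.chi_r₁ (D.nu_grp _)⟩
    · refine ⟨⟨D.r₁, isometry_le_sim D.r₁.2⟩ * D.G, Prod.ext ?_ ?_⟩
      · show D.χ _ = -1
        rw [map_mul, D.chi_r₁, D.χG, mul_one]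
      · show D.ν _ = -1
        rw [map_mul, D.nu_grp, D.nu_G, one_mul]
  · show e _ = 1 ↔ _
    rw [map_eq_one_iff _ e.injective]
    exact Prod.ext_iff

theorem pgo_mod_pso (D : CData Q) :
    ∃ φ : ↥(Cfsg.pgoAut F ⇑Q) →* Multiplicative (ZMod 2 × ZMod 2), Function.Surjective φ ∧
      φ.ker = (Cfsg.psoAut F ⇑Q).subgroupOf (Cfsg.pgoAut F ⇑Q) := by
  obtain ⟨θ, hθ, hker⟩ := D.klein_hom
  refine exists_hom_image ⊤ _ _ (by rw [pgoAut_eq, MonoidHom.range_eq_map]) (θ.comp (Subgroup.topEquiv (G := Sim)).toMonoidHom)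
    (fun y => let ⟨g, hg⟩ := hθ y; ⟨⟨g, Subgroup.mem_top g⟩, hg⟩) fun g => ?_
  rw [MonoidHom.comp_apply, psoAut_eq D.fine D.h2]
  show θ (g : Sim) = 1 ↔ _
  rw [hker]
  constructor
  · rintro ⟨h1, h2⟩
    obtain ⟨d, s, e, -, hs⟩ := D.exists_isometry h2
    refine ⟨⟨s, isometry_le_sim s.2⟩, (mem_specialSim D.fine.nondeg).2 ⟨s, hs ▸ h1, rfl⟩, ?_⟩
    rw [e, map_mul, show simAut Q ⟨scal d, scal_mem_sim d⟩ = 1 from
      (psi_simInc_eq_one_iff D.fine _).2 ⟨d, rfl⟩, one_mul]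
  · rintro ⟨g', hg', he⟩
    obtain ⟨s, hs, rfl⟩ := (mem_specialSim D.fine.nondeg).1 hg'
    obtain ⟨d, hd⟩ := (psi_simInc_eq_one_iff D.fine ((⟨s, isometry_le_sim s.2⟩ : Sim)⁻¹ * (g : Sim))).1 (by
      show simAut Q _ = 1
      rw [map_mul, map_inv, he, inv_mul_cancel])
    have e : (g : Sim) = ⟨s, isometry_le_sim s.2⟩ * ⟨scal d, scal_mem_sim d⟩ := Subtype.ext (by
      show _ = _ * scal d
      rw [← hd, Subgroup.coe_mul, Subgroup.coe_inv, mul_inv_cancel_left])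
    refine ⟨by rw [e, map_mul, D.χ_scal, mul_one, D.χ_grp, hs], ?_⟩
    rw [e, map_mul, D.nu_grp, one_mul]
    exact (D.nu_eq_one_iff (m := d * d) fun x => by
      show Q (((scal d : GL ι F) : Matrix ι ι F) *ᵥ x) = _
      rw [scal_coe, smul_mulVec, one_mulVec, q_smul, Units.val_mul]).2 ⟨d, Units.val_mul d d⟩

/-! ### The classes -/

theorem conj_r₁ : D.ca * cls Q D.r₁ * D.ca⁻¹ = cls Q D.r₂ := by
  show outHom Q (simInc Q D.G) * cls Q D.r₁ * (outHom Q (simInc Q D.G))⁻¹ = cls Q D.r₂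
  rw [conj_cls]
  refine cls_refl_eq D.fine D.h2 (refl_conj D.hr₁) D.hr₂ ?_
  rw [show Q (sv ((simInc Q D.G : semi Q) : Semilin F ι) D.v) = (D.c : F) * Q D.v by rw [sv_simInc]; exact D.hG _,
    mul_assoc, CfsgLib.Orth.isSquare_mul_iff D.c.ne_zero]
  exact Or.inr (iff_of_false D.hc D.hvw)

theorem cb_sq : D.cb * D.cb = 1 := by
  show cls Q D.r₁ * cls Q D.r₂ * (cls Q D.r₁ * cls Q D.r₂) = 1
  rw [show ∀ x y : Cfsg.Out PΩ, x * y * (x * y) = x * (y * x) * y from fun x y => by simp only [mul_assoc],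
    cls_comm D.r₂ D.r₁, ← mul_assoc, cls_refl_sq D.hr₁, one_mul, cls_refl_sq D.hr₂]

theorem ca_sq : D.ca * D.ca = 1 ∨ D.ca * D.ca = D.cb := by
  have h1 : D.ν (D.G * D.G) = 1 := by rw [map_mul, D.nu_G]; rfl
  have h2 := D.simOut_kernel (g := D.G * D.G) (by rw [map_mul, D.χG, one_mul]) h1
  rwa [map_mul] at h2

theorem comm_ab : Commute D.ca D.cb := by
  have h1 := D.conj_r₁
  rw [mul_inv_eq_iff_eq_mul] at h1
  have h2 : D.ca * cls Q D.r₂ = cls Q D.r₁ * D.ca := by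
    rcases D.ca_sq with e | e
    · have : D.ca⁻¹ = D.ca := inv_eq_of_mul_eq_one_right e
      calc D.ca * cls Q D.r₂ = D.ca * (cls Q D.r₂ * D.ca) * D.ca := by rw [mul_assoc, mul_assoc, e, mul_one]
        _ = cls Q D.r₁ * D.ca := by rw [← h1, ← mul_assoc, e, one_mul]
    · calc D.ca * cls Q D.r₂ = D.ca * (cls Q D.r₂ * D.ca) * D.ca⁻¹ := by rw [mul_assoc, mul_inv_cancel_right]
        _ = D.cb * cls Q D.r₁ * D.ca⁻¹ := by rw [← h1, ← mul_assoc, e]
        _ = cls Q D.r₁ * (D.ca * D.ca) * D.ca⁻¹ := by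
          rw [e, show D.cb * cls Q D.r₁ = cls Q D.r₁ * D.cb by
            show cls Q D.r₁ * cls Q D.r₂ * cls Q D.r₁ = cls Q D.r₁ * (cls Q D.r₁ * cls Q D.r₂)
            rw [mul_assoc, cls_comm D.r₂ D.r₁]]
        _ = cls Q D.r₁ * D.ca := by rw [← mul_assoc, mul_inv_cancel_right]
  show D.ca * (cls Q D.r₁ * cls Q D.r₂) = cls Q D.r₁ * cls Q D.r₂ * D.ca
  rw [← mul_assoc, h1, mul_assoc, h2, ← mul_assoc, cls_comm D.r₂ D.r₁]

theorem mem_of_gens (S : Subgroup (Cfsg.Out PΩ)) (ha : D.ca ∈ S) (hb : D.cb ∈ S) {g : Sim} (hg : D.χ g = 1) :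
    simOut Q g ∈ S := by
  rcases Int.units_eq_one_or (D.ν g) with h1 | h1
  · rcases D.simOut_kernel hg h1 with e | e <;> rw [e]
    exacts [one_mem _, hb]
  · rw [show g = D.G * (D.G⁻¹ * g) by rw [mul_inv_cancel_left], map_mul]
    refine S.mul_mem ha ?_
    rcases D.simOut_kernel (g := D.G⁻¹ * g) (by rw [map_mul, map_inv, D.χG, hg, inv_one, one_mul])
      (by rw [map_mul, map_inv, D.nu_G, h1]; rfl) with e | e <;> rw [e]
    exacts [one_mem _, hb]

theorem mem_all (S : Subgroup (Cfsg.Out PΩ)) (ha : D.ca ∈ S) (hb : D.cb ∈ S) (hr : cls Q D.r₁ ∈ S) (g : Sim) :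
    simOut Q g ∈ S := by
  rcases Int.units_eq_one_or (D.χ g) with h1 | h1
  · exact D.mem_of_gens S ha hb h1
  · let r : Sim := ⟨D.r₁, isometry_le_sim D.r₁.2⟩
    rw [show g = r * (r⁻¹ * g) by rw [mul_inv_cancel_left], map_mul]
    exact S.mul_mem hr (D.mem_of_gens S ha hb (by rw [map_mul, map_inv, D.chi_r₁, h1]; rfl))

theorem ca_mem (K : Subgroup Sim) (hK : D.G ∈ K) : D.ca ∈ K.map (simOut Q) := ⟨_, hK, rfl⟩

theorem ca_ne : D.ca ≠ 1 := fun e => by
  have := (D.chi_nu_of_inner e).2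
  rw [D.nu_G] at this
  exact absurd this (by decide)

theorem ca_ne_cb : D.ca ≠ D.cb := fun e => by
  refine sim_not_cls D.fine (δ := simInc Q D.G) (fun x => by rw [sv_simInc]; exact D.hG x) D.hc (D.r₁ * D.r₂) ?_
  rw [map_mul]
  exact e

theorem pgo_mod_inn_klein (hb : D.cb = 1) :
    ∃ φ : ↥(Cfsg.pgoAut F ⇑Q) →* Multiplicative (ZMod 2 × ZMod 2), Function.Surjective φ ∧
      φ.ker = (Cfsg.Inn PΩ).subgroupOf (Cfsg.pgoAut F ⇑Q) := by
  obtain ⟨θ, hθ, hker⟩ := D.klein_hom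
  refine exists_hom_image ⊤ _ _ (by rw [pgoAut_eq, MonoidHom.range_eq_map]) (θ.comp (Subgroup.topEquiv (G := Sim)).toMonoidHom)
    (fun y => let ⟨g, hg⟩ := hθ y; ⟨⟨g, Subgroup.mem_top g⟩, hg⟩) fun g => ?_
  rw [MonoidHom.comp_apply, ← simOut_eq_one_iff]
  show θ (g : Sim) = 1 ↔ _
  rw [hker]
  refine ⟨fun ⟨h1, h2⟩ => ?_, D.chi_nu_of_inner⟩
  rcases D.simOut_kernel h1 h2 with e | e
  · exact e
  · exact e.trans hb

theorem pgo_mod_inn_dihedral (hb : D.cb ≠ 1) :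
    ∃ φ : ↥(Cfsg.pgoAut F ⇑Q) →* DihedralGroup 4, Function.Surjective φ ∧
      φ.ker = (Cfsg.Inn PΩ).subgroupOf (Cfsg.pgoAut F ⇑Q) := by
  set r := cls Q D.r₁
  have hrr : r * r = 1 := cls_refl_sq D.hr₁
  have hra : D.ca * r = cls Q D.r₂ * D.ca := mul_inv_eq_iff_eq_mul.1 D.conj_r₁
  have hbr : r * D.cb * r = D.cb := by
    show r * (r * cls Q D.r₂) * r = r * cls Q D.r₂
    rw [← mul_assoc, hrr, one_mul, cls_comm D.r₂ D.r₁]
  obtain ⟨t, ht4, ht2, hrt, hmem⟩ : ∃ t, t ^ 4 = 1 ∧ t ^ 2 ≠ 1 ∧ r * t * r = t⁻¹ ∧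
      (D.ca = t ∨ D.ca = t * r) := by
    rcases D.ca_sq with e | e
    · have hsq : (D.ca * r) * (D.ca * r) = D.cb := by
        rw [hra]
        calc cls Q D.r₂ * D.ca * (cls Q D.r₂ * D.ca) = cls Q D.r₂ * (D.ca * (D.ca * r)) := by rw [mul_assoc, ← hra]
          _ = cls Q D.r₂ * r := by rw [← mul_assoc D.ca, e, one_mul]
          _ = D.cb := cls_comm _ _
      refine ⟨D.ca * r, ?_, by rw [pow_two, hsq]; exact hb, ?_, Or.inr (by rw [mul_assoc, hrr, mul_one])⟩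
      · rw [show (4 : ℕ) = 2 * 2 from rfl, pow_mul, pow_two, pow_two, hsq, D.cb_sq]
      · rw [_root_.mul_inv_rev, inv_eq_of_mul_eq_one_right hrr, inv_eq_of_mul_eq_one_right e, mul_assoc r,
          mul_assoc D.ca, hrr, mul_one]
    · refine ⟨D.ca, ?_, by rw [pow_two, e]; exact hb, ?_, Or.inl rfl⟩
      · rw [show (4 : ℕ) = 2 * 2 from rfl, pow_mul, pow_two, pow_two, e, D.cb_sq]
      · refine eq_inv_of_mul_eq_one_left ?_
        rw [mul_assoc r, hra, ← mul_assoc r, mul_assoc _ D.ca D.ca, e]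
        exact D.cb_sq
  obtain ⟨φ, hφ, hφt, hφr⟩ := exists_dihedral ht4 ht2 hrr hrt
  refine exists_hom_out ⊤ _ (by rw [pgoAut_eq, MonoidHom.range_eq_map]) φ hφ ?_
  have hr' : r ∈ φ.range := ⟨_, hφr⟩
  have ha' : D.ca ∈ φ.range := by
    rcases hmem with e | e <;> rw [e]
    exacts [⟨_, hφt⟩, φ.range.mul_mem ⟨_, hφt⟩ hr']
  have hb' : D.cb ∈ φ.range := by
    rw [show D.cb = r * (D.ca * r * D.ca⁻¹) by rw [D.conj_r₁]; rfl]
    exact φ.range.mul_mem hr' (φ.range.mul_mem (φ.range.mul_mem ha' hr') (φ.range.inv_mem ha'))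
  refine le_antisymm ?_ ?_
  · rintro _ ⟨x, rfl⟩
    have hrM : r ∈ (⊤ : Subgroup Sim).map (simOut Q) := ⟨⟨D.r₁, isometry_le_sim D.r₁.2⟩, trivial, rfl⟩
    have htM : t ∈ (⊤ : Subgroup Sim).map (simOut Q) := by
      have haM := D.ca_mem ⊤ trivial
      rcases hmem with e | e
      · rwa [e] at haM
      · have h3 := mul_mem haM hrM
        rwa [e, mul_assoc, hrr, mul_one] at h3
    have hall : ∀ k : ℕ, φ (.r k) ∈ (⊤ : Subgroup Sim).map (simOut Q) := fun k => by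
      rw [show (DihedralGroup.r (k : ZMod 4) : DihedralGroup 4) = (DihedralGroup.r 1) ^ k from
        (DihedralGroup.r_one_pow k).symm, map_pow, hφt]
      exact pow_mem htM k
    rcases x with i | i
    · rw [← ZMod.natCast_zmod_val i]
      exact hall _
    · rw [show (DihedralGroup.sr i : DihedralGroup 4) = DihedralGroup.sr 0 * DihedralGroup.r i by
        rw [DihedralGroup.sr_mul_r, zero_add], map_mul, hφr, ← ZMod.natCast_zmod_val i]
      exact mul_mem hrM (hall _)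
  · rintro _ ⟨g, -, rfl⟩
    exact D.mem_all φ.range ha' hb' hr' g

theorem inndiag_two (hb : D.cb = 1) :
    ∃ φ : ↥(D.χ.ker.map (simAut Q)) →* Multiplicative (ZMod 2), Function.Surjective φ ∧
      φ.ker = (Cfsg.Inn PΩ).subgroupOf (D.χ.ker.map (simAut Q)) := by
  have ha : D.ca * D.ca = 1 := D.ca_sq.elim id (·.trans hb)
  let e : Multiplicative (ZMod 2) →* Cfsg.Out PΩ :=
    MonoidHom.mk' (fun i => D.ca ^ i.toAdd.val) fun i j => by
      rw [← pow_add, toAdd_mul, ZMod.val_add, ← pow_eq_pow_mod _ (by rw [pow_two, ha])]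
  refine exists_hom_out _ _ rfl e ((injective_iff_map_eq_one e).2 fun i hi => ?_) (le_antisymm ?_ ?_)
  · have hlt := ZMod.val_lt i.toAdd
    refine Multiplicative.toAdd.injective ((ZMod.val_eq_zero _).1 ?_)
    by_contra h0
    obtain h1 : i.toAdd.val = 1 := by omega
    exact D.ca_ne (by simpa [e, h1] using hi)
  · rintro _ ⟨i, rfl⟩
    exact pow_mem (D.ca_mem _ D.χG) _
  · rintro _ ⟨g, hg, rfl⟩
    exact D.mem_of_gens e.range ⟨Multiplicative.ofAdd 1, pow_one _⟩ (hb ▸ one_mem _) hg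

theorem inndiag_four (hb : D.cb ≠ 1) (ha : D.ca * D.ca = D.cb) :
    ∃ φ : ↥(D.χ.ker.map (simAut Q)) →* Multiplicative (ZMod 4), Function.Surjective φ ∧
      φ.ker = (Cfsg.Inn PΩ).subgroupOf (D.χ.ker.map (simAut Q)) := by
  have h4 : D.ca ^ 4 = 1 := by rw [show (4 : ℕ) = 2 * 2 from rfl, pow_mul, pow_two, pow_two, ha, D.cb_sq]
  let e : Multiplicative (ZMod 4) →* Cfsg.Out PΩ :=
    MonoidHom.mk' (fun i => D.ca ^ i.toAdd.val) fun i j => by
      rw [← pow_add, toAdd_mul, ZMod.val_add, ← pow_eq_pow_mod _ h4]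
  refine exists_hom_out _ _ rfl e ((injective_iff_map_eq_one e).2 fun i hi => ?_) (le_antisymm ?_ ?_)
  · have hlt := ZMod.val_lt i.toAdd
    refine Multiplicative.toAdd.injective ((ZMod.val_eq_zero _).1 ?_)
    have hi' : D.ca ^ i.toAdd.val = 1 := hi
    by_contra h0
    obtain h1 | h1 | h1 : i.toAdd.val = 1 ∨ i.toAdd.val = 2 ∨ i.toAdd.val = 3 := by omega
    · rw [h1, pow_one] at hi'; exact D.ca_ne hi'
    · rw [h1, pow_two, ha] at hi'; exact hb hi'
    · rw [h1] at hi'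
      have h5 := h4
      rw [pow_succ', hi', mul_one] at h5
      exact D.ca_ne h5
  · rintro _ ⟨i, rfl⟩
    exact pow_mem (D.ca_mem _ D.χG) _
  · rintro _ ⟨g, hg, rfl⟩
    refine D.mem_of_gens e.range ⟨Multiplicative.ofAdd 1, pow_one _⟩ ⟨Multiplicative.ofAdd 2, ?_⟩ hg
    show D.ca ^ (2 : ZMod 4).val = D.cb
    rw [show (2 : ZMod 4).val = 2 from rfl, pow_two, ha]

theorem inndiag_klein (hb : D.cb ≠ 1) (ha : D.ca * D.ca = 1) :
    ∃ φ : ↥(D.χ.ker.map (simAut Q)) →* Multiplicative (ZMod 2 × ZMod 2), Function.Surjective φ ∧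
      φ.ker = (Cfsg.Inn PΩ).subgroupOf (D.χ.ker.map (simAut Q)) := by
  have hpa : D.ca ^ 2 = 1 := by rw [pow_two, ha]
  have hpb : D.cb ^ 2 = 1 := by rw [pow_two, D.cb_sq]
  let e : Multiplicative (ZMod 2 × ZMod 2) →* Cfsg.Out PΩ :=
    MonoidHom.mk' (fun i => D.ca ^ i.toAdd.1.val * D.cb ^ i.toAdd.2.val) fun i j => by
      simp only [toAdd_mul, Prod.fst_add, Prod.snd_add, ZMod.val_add]
      rw [← pow_eq_pow_mod _ hpa, ← pow_eq_pow_mod _ hpb, pow_add, pow_add]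
      exact (D.comm_ab.pow_pow _ _).mul_mul_mul_comm _ _
  refine exists_hom_out _ _ rfl e ((injective_iff_map_eq_one e).2 fun i hi => ?_) (le_antisymm ?_ ?_)
  · have hi' : D.ca ^ i.toAdd.1.val * D.cb ^ i.toAdd.2.val = 1 := hi
    have hlt₁ := ZMod.val_lt i.toAdd.1
    have hlt₂ := ZMod.val_lt i.toAdd.2
    obtain ⟨e1, e2⟩ : i.toAdd.1.val = 0 ∧ i.toAdd.2.val = 0 := by
      obtain e1 | e1 : i.toAdd.1.val = 0 ∨ i.toAdd.1.val = 1 := by omega
      all_goals obtain e2 | e2 : i.toAdd.2.val = 0 ∨ i.toAdd.2.val = 1 := by omega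
      · exact ⟨e1, e2⟩
      all_goals rw [e1, e2] at hi'
      all_goals simp only [pow_zero, pow_one, one_mul, mul_one] at hi'
      · exact absurd hi' hb
      · exact absurd hi' D.ca_ne
      · exact absurd ((eq_inv_of_mul_eq_one_left hi').trans (inv_eq_of_mul_eq_one_right D.cb_sq)) D.ca_ne_cb
    exact Multiplicative.toAdd.injective (Prod.ext ((ZMod.val_eq_zero _).1 e1) ((ZMod.val_eq_zero _).1 e2))
  · rintro _ ⟨i, rfl⟩
    refine mul_mem (pow_mem (D.ca_mem _ D.χG) _) (pow_mem (show D.cb ∈ D.χ.ker.map (simOut Q) from ⟨_, ?_, D.cb_eq.symm⟩) _)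
    show D.χ _ = 1
    rw [map_mul, D.χ_grp, D.χ_grp, dickson_refl D.fine.nondeg D.hr₁, dickson_refl D.fine.nondeg D.hr₂]
    rfl
  · rintro _ ⟨g, hg, rfl⟩
    refine D.mem_of_gens e.range ⟨Multiplicative.ofAdd (1, 0), ?_⟩ ⟨Multiplicative.ofAdd (0, 1), ?_⟩ hg
    · show D.ca ^ (1 : ZMod 2).val * D.cb ^ (0 : ZMod 2).val = D.ca
      rw [show (1 : ZMod 2).val = 1 from rfl, show (0 : ZMod 2).val = 0 from rfl, pow_one, pow_zero, mul_one]
    · show D.ca ^ (0 : ZMod 2).val * D.cb ^ (1 : ZMod 2).val = D.cb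
      rw [show (1 : ZMod 2).val = 1 from rfl, show (0 : ZMod 2).val = 0 from rfl, pow_one, pow_zero, one_mul]

end CData

end CfsgLib.OrthAut
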