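import Cfsg.Agent.Lib.OrthAut.Gamma
import Cfsg.Agent.Lib.Classical.OrthForms

/-!
The hypotheses of the automorphism theorem for the standard forms.
-/

set_option autoImplicit false
set_option linter.unusedSectionVars false

namespace CfsgLib.OrthAut

open Matrix CfsgLib.Orth

variable {F : Type*} [Field F] [Finite F]

/-- The minus form has Witt index `m`. -/
theorem minus_singular_le (m : ℕ) {a b : F}
    (hab : ∀ z₁ z₂ : F, z₁ ^ 2 + a * z₁ * z₂ + b * z₂ ^ 2 = 0 → z₁ = 0 ∧ z₂ = 0)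
    (W : Submodule F ((Fin m ⊕ Fin m) ⊕ Fin 2 → F))
    (hW : ∀ x ∈ W, Cfsg.quadFormMinus m F a b x = 0) : Module.finrank F W ≤ m := by
  classical
  obtain ⟨Q, hQ, hB⟩ := exists_quadForm_minus (F := F) m hab
  let Φ : W →ₗ[F] (Fin m → F) :=
    (LinearMap.funLeft F F fun i : Fin m => (Sum.inl (Sum.inr i) : (Fin m ⊕ Fin m) ⊕ Fin 2)).comp
      W.subtype
  let Ψ : W →ₗ[F] (Fin m → F) :=
    (LinearMap.funLeft F F fun i : Fin m => (Sum.inl (Sum.inl i) : (Fin m ⊕ Fin m) ⊕ Fin 2)).comp
      W.subtype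
  have hkerz : ∀ x : W, Φ x = 0 → ∀ j, (x : (Fin m ⊕ Fin m) ⊕ Fin 2 → F) (.inr j) = 0 := fun x hx => by
    have hq := hW _ x.2
    have h0 : ∀ i, (x : (Fin m ⊕ Fin m) ⊕ Fin 2 → F) (.inl (.inr i)) = 0 := fun i => congrFun hx i
    simp only [Cfsg.quadFormMinus, h0, mul_zero, Finset.sum_const_zero, zero_add] at hq
    obtain ⟨h1, h2⟩ := hab _ _ hq
    intro j
    fin_cases j
    · exact h1
    · exact h2
  let KX := (LinearMap.ker Φ).map Ψ
  have hKX : Module.finrank F KX = Module.finrank F (LinearMap.ker Φ) := by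
    refine (LinearEquiv.finrank_eq ?_).symm
    refine LinearEquiv.ofBijective (Ψ.submoduleMap _) ⟨?_, Ψ.submoduleMap_surjective _⟩
    intro x y hxy
    have e : Ψ (x : W) = Ψ (y : W) := congrArg Subtype.val hxy
    refine Subtype.ext (Subtype.ext (funext fun j => ?_))
    rcases j with (i | i) | i
    · exact congrFun e i
    · exact (congrFun x.2 i).trans (congrFun y.2 i).symm
    · exact (hkerz _ x.2 i).trans (hkerz _ y.2 i).symm
  -- the two images annihilate one another
  let dot : (Fin m → F) →ₗ[F] Module.Dual F (Fin m → F) := dotProductBilin F F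
  have hann : LinearMap.range Φ ≤ (KX.map dot).dualCoannihilator := by
    rintro _ ⟨y, rfl⟩
    rw [Submodule.mem_dualCoannihilator]
    rintro _ ⟨_, ⟨x, hx, rfl⟩, rfl⟩
    have h1 : QuadraticMap.polar ⇑Q (x : (Fin m ⊕ Fin m) ⊕ Fin 2 → F) (y : (Fin m ⊕ Fin m) ⊕ Fin 2 → F) = 0 :=
      mem_orth.1 (le_orth_of_singular (fun z hz => by rw [hQ]; exact hW z hz) y.2) _ x.2
    rw [hQ, polar_minus] at h1
    have hx' : ∀ i, (x : (Fin m ⊕ Fin m) ⊕ Fin 2 → F) (.inl (.inr i)) = 0 := fun i => congrFun hx i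
    have hz := hkerz x hx
    simp only [hx', mul_zero, add_zero, hz, zero_mul] at h1
    show (fun i => (x : (Fin m ⊕ Fin m) ⊕ Fin 2 → F) (.inl (.inl i))) ⬝ᵥ (fun i => (y : (Fin m ⊕ Fin m) ⊕ Fin 2 → F) (.inl (.inr i))) = 0
    exact h1
  have hdot : Function.Injective dot := fun v w e => funext fun i => by
    have := LinearMap.congr_fun e (Pi.single i 1)
    simpa [dot] using this
  have h1 := Submodule.finrank_mono hann
  have h2 := Subspace.finrank_add_finrank_dualCoannihilator_eq (KX.map dot)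
  have h3 : Module.finrank F (KX.map dot) = Module.finrank F KX :=
    (Submodule.equivMapOfInjective _ hdot KX).finrank_eq.symm
  have h4 := Φ.finrank_range_add_finrank_ker
  rw [Module.finrank_fin_fun] at h2
  omega

theorem good_odd {m : ℕ} (hm : 3 ≤ m) (hodd : Odd (Nat.card F))
    {Q : QuadraticForm F (Unit ⊕ (Fin m ⊕ Fin m) → F)} (hB : Nondeg Q) : Good Q where
  nondeg := hB
  dim := by simp [Fintype.card_sum]; omega
  eight := fun e => by simp [Fintype.card_sum] at e; omega
  seven := fun _ => by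
    have := Finite.one_lt_card (α := F)
    obtain ⟨k, hk⟩ := hodd
    omega

theorem good_plus {m : ℕ} (hm : 5 ≤ m)
    {Q : QuadraticForm F (Fin m ⊕ Fin m → F)} (hB : Nondeg Q) : Good Q where
  nondeg := hB
  dim := by simp [Fintype.card_sum]; omega
  eight := fun e => by simp [Fintype.card_sum] at e; omega
  seven := fun e => by simp [Fintype.card_sum] at e; omega

theorem good_minus {m : ℕ} (hm : 3 ≤ m) {a b : F}
    (hab : ∀ z₁ z₂ : F, z₁ ^ 2 + a * z₁ * z₂ + b * z₂ ^ 2 = 0 → z₁ = 0 ∧ z₂ = 0)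
    {Q : QuadraticForm F ((Fin m ⊕ Fin m) ⊕ Fin 2 → F)} (hQ : ⇑Q = Cfsg.quadFormMinus m F a b)
    (hB : Nondeg Q) : Good Q where
  nondeg := hB
  dim := by simp [Fintype.card_sum]; omega
  eight := fun e R hR => by
    simp [Fintype.card_sum] at e
    have := minus_singular_le m hab R fun x hx => by rw [← hQ]; exact hR x hx
    omega
  seven := fun e => by simp [Fintype.card_sum] at e; omega

end CfsgLib.OrthAut
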