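import Cfsg.Agent.Lib.OrthAut.FieldPlusCent
import Cfsg.Agent.Lib.ChevAut.D4Out
import Cfsg.Agent.Lib.Chev.All
import Cfsg.Agent.Lib.Chev.SimpleData
import Cfsg.Agent.Lib.Chev.OrthModels
import Cfsg.Agent.S1050

/-!
The inner-diagonal group of `PΩ⁺(8, F)` is normal among all automorphisms, triality included.
-/

set_option autoImplicit false
set_option linter.unusedSectionVars false

namespace CfsgLib.OrthAut.D4Normal

open Matrix CfsgLib.Orth CfsgLib.AutPSL Cfsg.Lie CfsgLib.Chev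
open CfsgLib.ClassicalAut (scal scal_coe)
open CfsgLib.ChevAut (stab xE exists_stab)

universe u

local notation "MD" => CfsgLib.ChevOrth.modelD4
local notation "tb" => Cfsg.Lie.chevD4

variable (F : Type u) [Field F] [Fintype F]

local notation "Qp" => CfsgLib.ChevOrth.qPlus F
local notation "PΩ" => Cfsg.POmega F (DFunLike.coe (CfsgLib.ChevOrth.qPlus F))

theorem hQ : ⇑(Qp) = Cfsg.quadFormPlus 4 F := rfl

theorem nondeg : Nondeg (Qp) := by
  obtain ⟨Q, hQ', hB⟩ := CfsgLib.Orth.exists_quadForm_plus (F := F) 4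
  obtain rfl : Q = Qp := DFunLike.coe_injective (hQ'.trans (hQ F).symm)
  exact hB

theorem fine : Fine (Qp) := fine_plus (by norm_num) (nondeg F)

/-- The identification with the Chevalley group. -/
theorem exists_iso : ∃ e : ↥(chevD4.group F) ≃* PΩ, ∀ (r : Fin chevD4.nroots) (t : F),
    ∃ s : ↥(Cfsg.Omega F ⇑(Qp)), (((s : Grp (Qp)) : GL CfsgLib.ChevOrth.IxD4 F) : Matrix _ _ F) = (MD).xh r t ∧
      ∀ W : ↥(chevD4.group F), (W : GL chevD4.Idx F) = X chevD4 r.val t → e W = QuotientGroup.mk s := by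
  have hperf := CfsgLib.Chev.perfectD4 (F := F)
  have hsim := (CfsgLib.Chev.certD4.simple_group CfsgLib.Chev.connectedD4 hperf
    (Cfsg.Agent.S1050.result _ (by simp))).1
  have hx : ∀ (r : Fin chevD4.nroots) (t : F),
      ((X chevD4 r.val t : GL chevD4.Idx F) : Matrix chevD4.Idx chevD4.Idx F) = chevD4.xMat F r t := fun r t => by
    rw [CfsgLib.Chev.certD4.coe_X]
    simp [Cfsg.Lie.ChevalleyDatum.x, r.isLt]
  obtain ⟨e, he⟩ := (CfsgLib.ChevOrth.fitsD4 F).iso_spec (a₀ := Sum.inl 0)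
    (edges := [(.inl 0, .inl 1), (.inl 0, .inl 2), (.inl 0, .inl 3), (.inl 0, .inr 1), (.inl 0, .inr 2),
      (.inl 0, .inr 3), (.inl 1, .inr 0)])
    (by decide +kernel) (by decide +kernel) (r₀ := ⟨0, by decide⟩) (j₀ := Sum.inr ⟨14, by decide⟩)
    (x₀ := Sum.inr 2) (y₀ := Sum.inl 0) (by decide +kernel) hsim hperf
    (by show 2 ≤ 4; norm_num) fun r t => ⟨CfsgLib.Chev.X Cfsg.Lie.chevD4 r.val t, hx r t⟩
  refine ⟨e, fun r t => ?_⟩
  obtain ⟨s, hs, hW⟩ := he r t
  exact ⟨s, by rw [hs]; exact (CfsgLib.ChevOrth.fitsD4 F).coe_root r t, fun W hWt => hW W (by rw [hWt]; exact hx r t)⟩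

/-- The diagonal torus is read on the two coordinates of a root. -/
noncomputable def scale (d : PIdx 4 → Fˣ) (c : Fˣ) (r : Fin chevD4.nroots) : Fˣ :=
  match ((MD).dat r).2.1 with
  | some q => d ((MD).idx ((MD).dat r).1) * d ((MD).idx q) * c⁻¹
  | none => 1

theorem diag_xh (d : PIdx 4 → Fˣ) (c : Fˣ) (hd : ∀ i, d (.inl i) * d (.inr i) = c) (r : Fin chevD4.nroots) (t : F) :
    Matrix.diagonal (fun i => (d i : F)) * (MD).xh r t =
      (MD).xh r ((scale F d c r : F) * t) * Matrix.diagonal (fun i => (d i : F)) := by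
  have hsome : ∀ r, ((MD).dat r).2.1 ≠ none := by decide +kernel
  obtain ⟨p, q, s, hdat⟩ : ∃ p q s, (MD).dat r = (p, some q, s) := by
    rcases hr : (MD).dat r with ⟨p, q, s⟩
    cases q with
    | none => exact absurd (by rw [hr]) (hsome r)
    | some q => exact ⟨p, q, s, rfl⟩
  have hbar : ∀ p : Fin 4 × Bool,
      (d ((MD).idx p) : F) * d ((MD).idx (CfsgLib.ChevOrth.bar p)) = c := by
    rintro ⟨i, b⟩
    rw [← Units.val_mul]
    cases b
    · exact congrArg Units.val (hd i)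
    · exact congrArg Units.val ((mul_comm _ _).trans (hd i))
  have hsc : (scale F d c r : F) = (d ((MD).idx p) : F) * d ((MD).idx q) / c := by
    rw [scale, hdat]
    simp only [Units.val_mul, Units.val_inv_eq_inv_val, div_eq_mul_inv]
  have key : ∀ (a b : PIdx 4) (x : F), Matrix.diagonal (fun i => (d i : F)) * Matrix.single a b x =
      Matrix.single a b ((d a : F) / d b * x) * Matrix.diagonal (fun i => (d i : F)) := by
    intro a b x
    ext i j
    rw [Matrix.diagonal_mul, Matrix.mul_diagonal, Matrix.single_apply, Matrix.single_apply]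
    split_ifs with hh
    · obtain ⟨rfl, rfl⟩ := hh
      have := (d b).ne_zero
      field_simp
    · simp
  have h1 := hbar p
  have h2 := hbar q
  have hp' := (d ((MD).idx (CfsgLib.ChevOrth.bar p))).ne_zero
  have hq' := (d ((MD).idx (CfsgLib.ChevOrth.bar q))).ne_zero
  have hc := c.ne_zero
  have e1 : (d ((MD).idx q) : F) / d ((MD).idx (CfsgLib.ChevOrth.bar p)) = scale F d c r := by
    rw [hsc, div_eq_div_iff hp' hc, ← h1]; ring
  have e2 : (d ((MD).idx p) : F) / d ((MD).idx (CfsgLib.ChevOrth.bar q)) = scale F d c r := by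
    rw [hsc, div_eq_div_iff hq' hc, ← h2]; ring
  simp only [CfsgLib.ChevOrth.Model.xh, CfsgLib.ChevOrth.Model.X, hdat, CfsgLib.ChevOrth.matA,
    CfsgLib.ChevOrth.matB, CfsgLib.ChevOrth.toM_cons, CfsgLib.ChevOrth.toM_nil, smul_zero, add_zero,
    CfsgLib.ChevOrth.toM_oneS (CfsgLib.ChevOrth.fitsD4 F).all_nodup (CfsgLib.ChevOrth.fitsD4 F).all_mem,
    mul_add, add_mul, mul_one, one_mul, smul_add, Matrix.smul_single, smul_eq_mul]
  rw [key, key, e1, e2, mul_assoc, mul_assoc]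

variable {F}

/-- The coordinates of the simple roots and their negatives. -/
def rootCoords : Fin 4 → (PIdx 4 × PIdx 4) × (PIdx 4 × PIdx 4) :=
  ![((.inl 0, .inr 1), (.inl 1, .inr 0)), ((.inl 1, .inr 2), (.inl 2, .inr 1)),
    ((.inl 2, .inr 3), (.inl 3, .inr 2)), ((.inl 2, .inl 3), (.inr 2, .inr 3))]

/-- The two coordinates of a root. -/
def coords (r : Fin chevD4.nroots) : PIdx 4 × PIdx 4 :=
  ((MD).idx ((MD).dat r).1, (MD).idx (((MD).dat r).2.1.getD ((MD).dat r).1))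

instance : NeZero chevD4.nroots := ⟨by decide +kernel⟩

theorem roots_coords : ∀ i : Fin 4,
    coords (Fin.ofNat chevD4.nroots (tabD4.simple i.1)) = (rootCoords i).1 ∧
      coords (Fin.ofNat chevD4.nroots (tabD4.neg (tabD4.simple i.1))) = (rootCoords i).2 := by
  decide +kernel

theorem dat_some : ∀ r, ((MD).dat r).2.1.isSome = true := by decide +kernel

theorem scale_coords (d : PIdx 4 → Fˣ) (c : Fˣ) (r : Fin chevD4.nroots) :
    scale F d c r = d (coords r).1 * d (coords r).2 * c⁻¹ := by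
  obtain ⟨q, hq⟩ := Option.isSome_iff_exists.1 (dat_some r)
  rw [scale, coords, hq]
  rfl

theorem simple_lt24 : ∀ i : Fin 4, tabD4.simple i.1 < 24 ∧ tabD4.neg (tabD4.simple i.1) < 24 := by decide +kernel

theorem nroots24 : chevD4.nroots = 24 := by decide +kernel

/-- The scalar of a simple root. -/
noncomputable def sScale (d : PIdx 4 → Fˣ) (c : Fˣ) (i : Fin tabD4.l) : Fˣ :=
  scale F d c ⟨tabD4.simple i.1, nroots24 ▸ (simple_lt24 i).1⟩

theorem sScale_eq (d : PIdx 4 → Fˣ) (c : Fˣ) (i : Fin 4) :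
    sScale d c i = d (rootCoords i).1.1 * d (rootCoords i).1.2 * c⁻¹ := by
  have h := (roots_coords i).1
  rw [show Fin.ofNat chevD4.nroots (tabD4.simple i.1) = ⟨tabD4.simple i.1, nroots24 ▸ (simple_lt24 i).1⟩ from
    Fin.ext (Nat.mod_eq_of_lt (nroots24 ▸ (simple_lt24 i).1))] at h
  show scale F d c ⟨tabD4.simple i.1, _⟩ = _
  rw [scale_coords, h]

theorem scale_neg (d : PIdx 4 → Fˣ) (c : Fˣ) (hd : ∀ i, d (.inl i) * d (.inr i) = c) (i : Fin 4) :
    scale F d c ⟨tabD4.neg (tabD4.simple i.1), nroots24 ▸ (simple_lt24 i).2⟩ = (sScale d c i)⁻¹ := by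
  have h := (roots_coords i).2
  rw [show Fin.ofNat chevD4.nroots (tabD4.neg (tabD4.simple i.1)) =
    ⟨tabD4.neg (tabD4.simple i.1), nroots24 ▸ (simple_lt24 i).2⟩ from
    Fin.ext (Nat.mod_eq_of_lt (nroots24 ▸ (simple_lt24 i).2))] at h
  rw [sScale_eq, scale_coords, h]
  refine eq_inv_of_mul_eq_one_left ?_
  have hr : ∀ i, d (.inr i) = (d (.inl i))⁻¹ * c := fun i => by rw [← hd i, inv_mul_cancel_left]
  fin_cases i <;> simp [rootCoords, hr, mul_assoc, mul_comm, mul_left_comm]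

/-- A diagonal similitude induces a diagonal automorphism. -/
theorem congr_diag {e : ↥(chevD4.group F) ≃* PΩ}
    (he : ∀ (r : Fin chevD4.nroots) (t : F), ∃ s : ↥(Cfsg.Omega F ⇑(Qp)),
      (((s : Grp (Qp)) : GL CfsgLib.ChevOrth.IxD4 F) : Matrix _ _ F) = (MD).xh r t ∧
      ∀ W : ↥(chevD4.group F), (W : GL chevD4.Idx F) = X chevD4 r.val t → e W = QuotientGroup.mk s)
    (d : PIdx 4 → Fˣ) (c : Fˣ) (hd : ∀ i, d (.inl i) * d (.inr i) = c) :
    MulAut.congr e (CfsgLib.ChevAut.frameD4.diag (sScale d c)) =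
      simAut (Qp) ⟨diagHom F 4 d, diag_mem (hQ F) hd⟩ := by
  set g : Cfsg.Geo.quadSimilarityGroup ⇑(Qp) := ⟨diagHom F 4 d, diag_mem (hQ F) hd⟩
  have key : ∀ (r : Fin chevD4.nroots) (t : F) (x x' : ↥(chevD4.group F)),
      (x : GL chevD4.Idx F) = X chevD4 r.val t →
      (x' : GL chevD4.Idx F) = X chevD4 r.val ((scale F d c r : F) * t) →
        simAut (Qp) g (e x) = e x' := by
    intro r t x x' hx hx'
    obtain ⟨s, hs, hW⟩ := he r t
    obtain ⟨s', hs', hW'⟩ := he r ((scale F d c r : F) * t)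
    rw [hW x hx, hW' x' hx']
    refine psi_spec (simInc (Qp) g) s s' ?_
    show _ = (diagHom F 4 d : Matrix (PIdx 4) (PIdx 4) F) * (_ : Matrix (PIdx 4) (PIdx 4) F).map id *
      (((diagHom F 4 d)⁻¹ : GL (PIdx 4) F) : Matrix (PIdx 4) (PIdx 4) F)
    rw [Matrix.map_id, hs, hs', show ((diagHom F 4 d : GL (PIdx 4) F) : Matrix (PIdx 4) (PIdx 4) F) =
      Matrix.diagonal fun i => (d i : F) from rfl, diag_xh F d c hd r t, mul_assoc,
      show Matrix.diagonal (fun i => (d i : F)) =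
        ((diagHom F 4 d : GL (PIdx 4) F) : Matrix (PIdx 4) (PIdx 4) F) from rfl, Units.mul_inv, mul_one]
  set α := (MulAut.congr e).symm (simAut (Qp) g)
  suffices CfsgLib.ChevAut.frameD4.diag (sScale d c) = α by rw [this, MulEquiv.apply_symm_apply]
  have hα : ∀ x, e (α x) = simAut (Qp) g (e x) := fun x => by
    show e (e.symm _) = _
    rw [e.apply_symm_apply]
    rfl
  refine CfsgLib.ChevAut.frameD4.aut_ext (fun i t x hx => ?_) fun i t x hx => ?_
  · have hlt : tabD4.simple i.1 < chevD4.nroots := nroots24 ▸ (simple_lt24 i).1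
    let x' : ↥(chevD4.group F) := xE certD4 (certD4.simple_lt i.2) ((sScale d c i : F) * t)
    have h1 : α x = x' := e.injective (by rw [hα]; exact key ⟨_, hlt⟩ t x x' hx rfl)
    rw [(CfsgLib.ChevAut.frameD4.diag_spec _).2.1 i t x hx, h1]
    rfl
  · have hlt : tabD4.neg (tabD4.simple i.1) < chevD4.nroots := nroots24 ▸ (simple_lt24 i).2
    have hn : scale F d c ⟨_, hlt⟩ = (sScale d c i)⁻¹ := scale_neg d c hd i
    let x' : ↥(chevD4.group F) :=
      xE certD4 (Cert.neg_lt (T := tabD4) (certD4.simple_lt i.2)) ((sScale d c i : F)⁻¹ * t)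
    have h1 : α x = x' := e.injective (by
      rw [hα]
      refine key ⟨_, hlt⟩ t x x' hx ?_
      rw [hn, Units.val_inv_eq_inv_val]
      rfl)
    rw [(CfsgLib.ChevAut.frameD4.diag_spec _).2.2.1 i t x hx, h1]
    rfl

theorem exists_scales (a : Fin tabD4.l → Fˣ) : ∃ (d : PIdx 4 → Fˣ) (c : Fˣ),
    (∀ i, d (.inl i) * d (.inr i) = c) ∧ sScale d c = a := by
  let a' : Fin 4 → Fˣ := a
  let c : Fˣ := a' 2 * (a' 3)⁻¹
  let u : Fin 4 → Fˣ := ![a' 0 * a' 1 * a' 2, a' 1 * a' 2, a' 2, 1]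
  refine ⟨Sum.elim u fun i => (u i)⁻¹ * c, c, fun i => by simp, funext (α := Fin 4) fun i => ?_⟩
  rw [sScale_eq]
  show _ = a' i
  fin_cases i <;> simp [rootCoords, u, c, mul_assoc, mul_comm, mul_left_comm]

/-- The inner-diagonal group of `PΩ⁺(8, F)` is normal in the automorphism group. -/
theorem plusInn_normal : (plusInn (hQ F) (nondeg F)).Normal := by
  classical
  obtain ⟨e, he⟩ := exists_iso F
  obtain ⟨p, hp⟩ := CharP.exists F
  haveI : Fact p.Prime := ⟨CharP.char_is_prime F p⟩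
  set N : Subgroup (MulAut ↥(chevD4.group F)) :=
    Cfsg.Inn ↥(chevD4.group F) ⊔ (CfsgLib.ChevAut.frameD4.diagHom (F := F)).range with hN
  have hNn : N.Normal := ⟨fun n hn θ => by
    obtain ⟨x, hx⟩ := exists_stab certD4 CfsgLib.ChevAut.frameD4.opp (p := p) θ
    have hxN : MulAut.conj x ∈ N := Subgroup.mem_sup_left ⟨x, rfl⟩
    have hmap : N ≤ N.comap (MulAut.conj (MulAut.conj x * θ)).toMonoidHom := by
      refine sup_le ?_ ?_
      · rintro _ ⟨y, rfl⟩
        exact Subgroup.mem_sup_left ((inferInstance : (Cfsg.Inn ↥(chevD4.group F)).Normal).conj_mem _ ⟨y, rfl⟩ _)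
      · rintro _ ⟨a, rfl⟩
        exact Subgroup.mem_sup_right (CfsgLib.ChevAut.frameD4.diag_normalised hx a)
    have h1 : MulAut.conj x * θ * n * (MulAut.conj x * θ)⁻¹ ∈ N := hmap hn
    have h2 := N.mul_mem (N.mul_mem (N.inv_mem hxN) h1) hxN
    convert h2 using 1
    group⟩
  have heq : plusInn (hQ F) (nondeg F) = N.map (MulAut.congr e).toMonoidHom := by
    have hinn : (Cfsg.Inn ↥(chevD4.group F)).map (MulAut.congr e).toMonoidHom = Cfsg.Inn PΩ := by
      ext β
      constructor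
      · rintro ⟨_, ⟨y, rfl⟩, rfl⟩
        exact ⟨e y, MulEquiv.ext fun z => by simp [MulAut.congr, MulAut.conj_apply]⟩
      · rintro ⟨y, rfl⟩
        exact ⟨MulAut.conj (e.symm y), ⟨_, rfl⟩, MulEquiv.ext fun z => by simp [MulAut.congr, MulAut.conj_apply]⟩
    rw [hN, Subgroup.map_sup, hinn]
    refine le_antisymm ?_ (sup_le (inn_le_plusInn (hQ F) (fine F)) ?_)
    · rintro _ ⟨g, hg, rfl⟩
      set S := Cfsg.Inn PΩ ⊔ ((CfsgLib.ChevAut.frameD4.diagHom (F := F)).range.map (MulAut.congr e).toMonoidHom)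
      have hdiag : ∀ (d : PIdx 4 → Fˣ) (c : Fˣ) (hd : ∀ i, d (.inl i) * d (.inr i) = c),
          simAut (Qp) ⟨diagHom F 4 d, diag_mem (hQ F) hd⟩ ∈ S := fun d c hd =>
        Subgroup.mem_sup_right ⟨_, ⟨sScale d c, rfl⟩, congr_diag he d c hd⟩
      have hscal : ∀ c : Fˣ, simAut (Qp) ⟨scal c, scal_mem_sim c⟩ ∈ S := fun c => by
        rw [show simAut (Qp) ⟨scal c, scal_mem_sim c⟩ = 1 from (psi_simInc_eq_one_iff (fine F) _).2 ⟨c, rfl⟩]
        exact one_mem _
      have hΩ : ∀ s : Grp (Qp), s ∈ Cfsg.Omega F ⇑(Qp) → simAut (Qp) ⟨s, isometry_le_sim s.2⟩ ∈ S := fun s hs =>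
        Subgroup.mem_sup_left ⟨prj (Qp) ⟨s, hs⟩, (psi_incl ⟨s, hs⟩).symm⟩
      by_cases h2 : (2 : F) = 0
      · exact mem_of_gens_two (hQ F) (fine F) h2 _ S hscal hΩ g hg
      · obtain ⟨c, hc⟩ := FiniteField.exists_nonsquare (F := F) fun hc => h2 (by
          haveI : CharP F 2 := hc ▸ ringChar.charP F
          exact_mod_cast CharP.cast_eq_zero F 2)
        have hc0 : c ≠ 0 := fun e0 => hc (e0 ▸ IsSquare.zero)
        exact mem_of_gens (hQ F) (fine F) h2 (by norm_num) (c := Units.mk0 c hc0) hc _ S hscal hΩ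
          (hdiag (halfDiag 4 (Units.mk0 c hc0)) (Units.mk0 c hc0) fun i => by simp [halfDiag])
          (hdiag (Sum.elim _ fun i => ((Pi.mulSingle (0 : Fin 4) (Units.mk0 c hc0) : Fin 4 → Fˣ) i)⁻¹) 1 fun i => by simp) g hg
    · rintro _ ⟨_, ⟨a, rfl⟩, rfl⟩
      obtain ⟨d, c, hd, rfl⟩ := exists_scales a
      exact ⟨⟨_, diag_mem (hQ F) hd⟩, chiP_diag (hQ F) (nondeg F) d _, (congr_diag he d c hd).symm⟩
  rw [heq]
  exact hNn.map _ (MulAut.congr e).surjective

end CfsgLib.OrthAut.D4Normal
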