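import Cfsg.Agent.Lib.Classical.OrthDisc
import Mathlib.RingTheory.AdjoinRoot
import Mathlib.RingTheory.Norm.Basic

/-!
An element of odd order prime to `p` of an orthogonal group is centralised by a proper isometry of
nontrivial spinor norm.
-/

set_option autoImplicit false
set_option linter.unusedSectionVars false

namespace CfsgLib.Orth

open Matrix Polynomial

universe u

variable {F : Type u} [Field F] [Finite F] {ι : Type} [Fintype ι] [DecidableEq ι]
variable {Q : QuadraticForm F (ι → F)}

local notation "B" => QuadraticMap.polar (DFunLike.coe Q)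

/-- Spinor norms of two reflections. -/
theorem spinor_refl_sqc (hB : Nondeg Q) (h2 : (2 : F) ≠ 0) (hn : 2 ≤ Module.finrank F (ι → F))
    {v u : ι → F} {r r' : Grp Q} (hr : IsRefl v r) (hr' : IsRefl u r') :
    spinor Q 1 r = spinor Q 1 r' * sqc (Q u) * sqc (Q v) := by
  have h := (omega_eq_ker_psi hB h2 hn (one_ne_zero (α := F))).2.2 v u r r' hr hr'
  rw [← sqc_eq_one, sqc_mul hr.1 hr'.1] at h
  rcases Int.units_eq_one_or (spinor Q 1 r) with a | a <;>
    rcases Int.units_eq_one_or (spinor Q 1 r') with b | b <;>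
    rcases Int.units_eq_one_or (sqc (Q u)) with c | c <;>
    rcases Int.units_eq_one_or (sqc (Q v)) with d | d <;> simp [a, b, c, d] at h ⊢

/-- The product of the reflections in a family of pairwise orthogonal anisotropic vectors. -/
theorem exists_refl_prod (hB : Nondeg Q) (h2 : (2 : F) ≠ 0) (hn : 2 ≤ Module.finrank F (ι → F)) {κ : Type} [Fintype κ] (e : κ → ι → F)
    (he : ∀ i, Q (e i) ≠ 0) (hp : ∀ i j, i ≠ j → B (e i) (e j) = 0) :
    ∃ g : Grp Q, (∀ x, ap g x = x - ∑ i, ((Q (e i))⁻¹ * B (e i) x) • e i) ∧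
      dickson hB g = (-1) ^ Fintype.card κ ∧
      ∀ (u : ι → F) (r : Grp Q), IsRefl u r → spinor Q 1 g =
        (spinor Q 1 r * sqc (Q u)) ^ Fintype.card κ * sqc (∏ i, Q (e i)) := by
  classical
  suffices ∀ s : Finset κ, ∃ g : Grp Q, (∀ x, ap g x = x - ∑ i ∈ s, ((Q (e i))⁻¹ * B (e i) x) • e i) ∧
      dickson hB g = (-1) ^ s.card ∧
      ∀ (u : ι → F) (r : Grp Q), IsRefl u r → spinor Q 1 g =
        (spinor Q 1 r * sqc (Q u)) ^ s.card * sqc (∏ i ∈ s, Q (e i)) by
    simpa using this Finset.univ
  intro s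
  induction s using Finset.induction_on with
  | empty => exact ⟨1, fun x => by simp, by simp, fun u r _ => by simpa using (sqc_eq_one.2 (IsSquare.one : IsSquare (1 : F))).symm⟩
  | insert j s hj ih =>
    obtain ⟨g, hg, hd, hsp⟩ := ih
    obtain ⟨r, hr⟩ := exists_refl hB (he j)
    refine ⟨r * g, fun x => ?_, ?_, fun u r' hr' => ?_⟩
    · rw [ap_mul, hr.2, hg, Finset.sum_insert hj]
      have : B (e j) (∑ i ∈ s, ((Q (e i))⁻¹ * B (e i) x) • e i) = 0 := by
        rw [← QuadraticMap.polarBilin_apply_apply, map_sum]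
        refine Finset.sum_eq_zero fun i hi => ?_
        rw [map_smul, QuadraticMap.polarBilin_apply_apply, hp j i fun h => hj (h ▸ hi), smul_zero]
      rw [b_sub_right, this, sub_zero]
      abel
    · rw [map_mul, hd, dickson_refl hB hr, Finset.card_insert_of_notMem hj, pow_succ']
    · rw [map_mul, hsp u r' hr', spinor_refl_sqc hB h2 hn hr hr', Finset.card_insert_of_notMem hj,
        Finset.prod_insert hj, sqc_mul (he j) (Finset.prod_ne_zero_iff.2 fun i _ => he i), pow_succ']
      exact mul_mul_mul_comm _ _ _ _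

/-- An element of a finite field whose norm is a square is a square. -/
theorem isSquare_of_norm {K : Type u} [Field K] [Finite K] [Algebra F K] {x : K} (hx : x ≠ 0)
    (h : IsSquare (Algebra.norm F x)) : IsSquare x := by
  classical
  haveI := Fintype.ofFinite F
  haveI := Fintype.ofFinite K
  by_cases hK2 : ringChar K = 2
  · exact FiniteField.isSquare_of_char_two hK2 x
  haveI : Algebra.IsAlgebraic F K := inferInstance
  obtain ⟨y, hy⟩ := h
  rw [FiniteField.isSquare_iff hK2 hx]
  obtain ⟨p, hp⟩ := CharP.exists F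
  have h1 : algebraMap F K (Algebra.norm F x) = x ^ ((Nat.card K - 1) / (Nat.card F - 1)) :=
    FiniteField.algebraMap_norm_eq_pow
  rw [hy] at h1
  have hy0 : y ≠ 0 := fun e => pow_ne_zero _ hx (by rw [← h1, e, mul_zero, map_zero])
  rw [Nat.card_eq_fintype_card, Nat.card_eq_fintype_card] at h1
  have hq : 2 < Fintype.card F := by
    have h3 := Fintype.one_lt_card (α := F)
    by_contra hc
    apply hK2
    haveI : CharP F 2 := CharTwo.of_one_ne_zero_of_two_eq_zero one_ne_zero (by
      have := FiniteField.cast_card_eq_zero F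
      rwa [show Fintype.card F = 2 by omega, Nat.cast_ofNat] at this)
    haveI : CharP K 2 := charP_of_injective_algebraMap (algebraMap F K).injective 2
    exact ringChar.eq K 2
  have hodd := FiniteField.odd_card_of_char_ne_two hK2
  have hFodd : Fintype.card F % 2 = 1 := by
    refine FiniteField.odd_card_of_char_ne_two fun e => hK2 ?_
    haveI : CharP F 2 := e ▸ ringChar.charP F
    haveI : CharP K 2 := charP_of_injective_algebraMap (algebraMap F K).injective 2
    exact ringChar.eq K 2
  obtain ⟨d, hd⟩ : Fintype.card F - 1 ∣ Fintype.card K - 1 := by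
    rw [Module.card_eq_pow_finrank (K := F) (V := K)]
    simpa using Nat.sub_dvd_pow_sub_pow (Fintype.card F) 1 (Module.finrank F K)
  rw [hd, Nat.mul_div_cancel_left _ (by omega)] at h1
  have he : Fintype.card K / 2 = d * ((Fintype.card F - 1) / 2) := by
    obtain ⟨j, hj⟩ : ∃ j, Fintype.card F - 1 = 2 * j := ⟨(Fintype.card F - 1) / 2, by omega⟩
    rw [hj, mul_assoc] at hd
    rw [hj, Nat.mul_div_cancel_left _ two_pos, mul_comm d j]
    omega
  rw [he, pow_mul, ← h1, ← map_pow, ← pow_two, ← pow_mul,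
    Nat.mul_div_cancel' (show 2 ∣ Fintype.card F - 1 by omega), FiniteField.pow_card_sub_one_eq_one y hy0, map_one]

/-- The linear map of an isometry. -/
def opr (Q : QuadraticForm F (ι → F)) : Grp Q →* Module.End F (ι → F) :=
  ((Matrix.toLinAlgEquiv' : Matrix ι ι F ≃ₐ[F] Module.End F (ι → F)).toMonoidHom).comp
    ((Units.coeHom (Matrix ι ι F)).comp (Cfsg.isometryGroup F ⇑Q).subtype)

theorem opr_apply (g : Grp Q) (x : ι → F) : opr Q g x = ap g x :=
  Matrix.toLinAlgEquiv'_apply _ _

/-- A polynomial in `S + S⁻¹` is self-adjoint. -/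
theorem aeval_selfadj (s : Grp Q) (p : F[X]) (x y : ι → F) :
    B (aeval (opr Q s + opr Q s⁻¹) p x) y = B x (aeval (opr Q s + opr Q s⁻¹) p y) := by
  have h1 : ∀ (g : Grp Q) x y, B (opr Q g x) y = B x (opr Q g⁻¹ y) := fun g x y => by
    rw [opr_apply, opr_apply]
    conv_rhs => rw [← ap_b g, ← ap_mul, mul_inv_cancel, ap_one]
  set T := opr Q s + opr Q s⁻¹
  have h2 : ∀ x y, B (T x) y = B x (T y) := fun x y => by
    simp only [T, LinearMap.add_apply, b_add_left, b_add_right, h1, inv_inv]
    ring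
  induction p using Polynomial.induction_on' generalizing x y with
  | add p q hp hq => simp only [map_add, LinearMap.add_apply, b_add_left, b_add_right, hp, hq]
  | monomial n c =>
    rw [aeval_monomial, Module.algebraMap_end_eq_smul_id]
    simp only [Module.End.mul_apply, LinearMap.smul_apply, LinearMap.id_apply, b_smul_left, b_smul_right]
    congr 1
    induction n generalizing x y with
    | zero => rfl
    | succ n ih => rw [pow_succ, Module.End.mul_apply, ih, h2, ← Module.End.mul_apply T (T ^ n), ← pow_succ', pow_succ]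

variable {r : ℕ} (hr : 2 ≤ r) (hrF : (r : F) ≠ 0) (s : Grp Q) (hsr : s ^ r = 1)

include hr hrF hsr in
/-- Semisimplicity: kernels of polynomials in `S + S⁻¹` are stable. -/
theorem aeval_ker_sq (P : F[X]) {w : ι → F}
    (h : aeval (opr Q s) P (aeval (opr Q s) P w) = 0) : aeval (opr Q s) P w = 0 := by
  classical
  set S := opr Q s
  have hsq : Squarefree (X ^ r - 1 : F[X]) := (Polynomial.X_pow_sub_one_separable_iff.2 hrF).squarefree
  set G := EuclideanDomain.gcd (P * P) (X ^ r - 1)
  have hG : aeval S G w = 0 := by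
    show aeval S (EuclideanDomain.gcd (P * P) (X ^ r - 1)) w = 0
    rw [EuclideanDomain.gcd_eq_gcd_ab, mul_comm (P * P), mul_comm (X ^ r - 1), map_add, LinearMap.add_apply,
      map_mul, map_mul, map_mul, Module.End.mul_apply, Module.End.mul_apply, Module.End.mul_apply, h]
    have hSr : S ^ r = 1 := by rw [← map_pow, hsr, map_one]
    simp [hSr]
  have hd : G ∣ P := (hsq.squarefree_of_dvd (EuclideanDomain.gcd_dvd_right _ _)).isRadical 2 P
    (by rw [pow_two]; exact EuclideanDomain.gcd_dvd_left _ _)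
  obtain ⟨Z, hZ⟩ := hd
  rw [hZ, mul_comm, map_mul, Module.End.mul_apply, hG, map_zero]

include hr hrF hsr in
/-- An invariant plane over the extension field generated by `S + S⁻¹`: the data of a nonsquare ratio. -/
theorem exists_centralising_nonsquare (hB : Nondeg Q) (h2 : (2 : F) ≠ 0)
    (hn : 2 ≤ Module.finrank F (ι → F)) (hodd : Odd r) (hs1 : s ≠ 1) :
    ∃ h : Grp Q, h * s = s * h ∧ dickson hB h = 1 ∧ spinor Q 1 h = -1 := by
  classical
  set S := opr Q s with hSdef
  set S' := opr Q s⁻¹ with hS'def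
  have hSS : S * S' = 1 := by rw [← map_mul, mul_inv_cancel, map_one]
  have hSS' : S' * S = 1 := by rw [← map_mul, inv_mul_cancel, map_one]
  set T := S + S' with hT
  set D := S - S' with hD
  have hS' : S' = S ^ (r - 1) := by
    have e : s⁻¹ = s ^ (r - 1) := inv_eq_of_mul_eq_one_right (by
      rw [← pow_succ', show r - 1 + 1 = r by omega, hsr])
    rw [← map_pow, ← e]
  have hTp : ∀ p : F[X], aeval T p = aeval S (p.comp (X + X ^ (r - 1))) := fun p => by
    rw [aeval_comp, map_add, map_pow, aeval_X, hT, hS']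
  have hss : ∀ (P : F[X]) w, aeval T P (aeval T P w) = 0 → aeval T P w = 0 := fun P w h => by
    rw [hTp] at h ⊢
    exact aeval_ker_sq hr hrF s hsr _ h
  have hTD : ∀ p : F[X], aeval T p * D = D * aeval T p := by
    have h1 : Commute T D := by
      show (S + S') * (S - S') = (S - S') * (S + S')
      simp only [mul_add, add_mul, mul_sub, sub_mul, hSS, hSS']
      abel
    intro p
    induction p using Polynomial.induction_on' with
    | add p q hp hq => rw [map_add, add_mul, mul_add, hp, hq]
    | monomial n c =>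
      rw [aeval_monomial, mul_assoc, (h1.pow_left n).eq, ← mul_assoc, ← mul_assoc, Algebra.commutes]
  have hDD : D * D = aeval T (X ^ 2 - C 4 : F[X]) := by
    rw [map_sub, map_pow, aeval_X, aeval_C, map_ofNat, hT, hD]
    simp only [pow_two, mul_add, add_mul, mul_sub, sub_mul, hSS, hSS']
    rw [show (4 : Module.End F (ι → F)) = 1 + 1 + 1 + 1 by norm_num]
    abel
  have hskew : ∀ x y, B (D x) y = -B x (D y) := fun x y => by
    have h1 : ∀ (g : Grp Q) x y, B (opr Q g x) y = B x (opr Q g⁻¹ y) := fun g x y => by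
      rw [opr_apply, opr_apply]
      conv_rhs => rw [← ap_b g, ← ap_mul, mul_inv_cancel, ap_one]
    simp only [hD, hSdef, hS'def, LinearMap.sub_apply, b_sub_left, b_sub_right, h1, inv_inv]
    ring
  have hperp : ∀ (p : F[X]) x, B (aeval T p x) (D x) = 0 := fun p x => by
    have h1 : B (aeval T p x) (D x) = -B (aeval T p x) (D x) := by
      conv_lhs => rw [b_comm, hskew, b_comm, ← Module.End.mul_apply, ← hTD, Module.End.mul_apply,
        aeval_selfadj, b_comm]
    have h3 : (2 : F) * B (aeval T p x) (D x) = 0 := by linear_combination h1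
    exact (mul_eq_zero.1 h3).resolve_left h2
  -- an irreducible factor away from `±2`
  have hT2 : ∀ x, T x = (2 : F) • x → S x = x := fun x hx => by
    have h1 : aeval S (X - 1 : F[X]) (aeval S (X - 1 : F[X]) x) = 0 := by
      have h5 := congrArg S hx
      simp only [hT, LinearMap.add_apply, map_add, map_smul] at h5
      rw [← Module.End.mul_apply S S', hSS, Module.End.one_apply] at h5
      simp only [map_sub, aeval_X, map_one, LinearMap.sub_apply, Module.End.one_apply]
      linear_combination (norm := module) h5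
    exact sub_eq_zero.1 (by simpa using aeval_ker_sq hr hrF s hsr _ h1)
  have hTn : ∀ x, T x = -(2 : F) • x → x = 0 := fun x hx => by
    have h1 : aeval S (X + 1 : F[X]) (aeval S (X + 1 : F[X]) x) = 0 := by
      have h5 := congrArg S hx
      simp only [hT, LinearMap.add_apply, map_add, map_smul] at h5
      rw [← Module.End.mul_apply S S', hSS, Module.End.one_apply] at h5
      simp only [map_add, aeval_X, map_one, LinearMap.add_apply, Module.End.one_apply]
      linear_combination (norm := module) h5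
    have h3 : S x = (-1 : F) • x := by
      rw [neg_one_smul]
      exact eq_neg_of_add_eq_zero_left (by simpa using aeval_ker_sq hr hrF s hsr _ h1)
    have h4 : ∀ k : ℕ, (S ^ k) x = (-1 : F) ^ k • x := fun k => by
      induction k with
      | zero => simp
      | succ k ih => rw [pow_succ, Module.End.mul_apply, h3, map_smul, ih, smul_smul, ← pow_succ']
    have h5 := h4 r
    rw [← map_pow, hsr, map_one, Module.End.one_apply, hodd.neg_one_pow] at h5
    have h6 : (2 : F) • x = 0 := by linear_combination (norm := module) h5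
    exact (smul_eq_zero.1 h6).resolve_left h2
  have hint : IsIntegral F T := IsIntegral.of_finite F T
  have hm0 : minpoly F T ≠ 0 := minpoly.ne_zero hint
  obtain ⟨m', hm', hm2⟩ := Polynomial.exists_eq_pow_rootMultiplicity_mul_and_not_dvd _ hm0 (2 : F)
  have hm'u : ¬ IsUnit m' := fun hu => hs1 (by
    obtain ⟨u, hu⟩ := hu
    have h1 : aeval T ((X - C (2 : F)) ^ (minpoly F T).rootMultiplicity 2) = 0 := by
      have h := minpoly.aeval F T
      rw [hm', ← hu, map_mul] at h
      exact (((Units.map (aeval T).toMonoidHom u).isUnit.mul_left_eq_zero).1 h)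
    have h3 : ∀ x, T x = (2 : F) • x := fun x => by
      have hz : ∀ k x, aeval T ((X - C (2 : F)) ^ k) x = 0 → aeval T (X - C (2 : F)) x = 0 := by
        intro k
        induction k with
        | zero => intro x hx; simp only [pow_zero, map_one, Module.End.one_apply] at hx; rw [hx, map_zero]
        | succ k ih =>
          intro x hx
          rw [pow_succ, map_mul, Module.End.mul_apply] at hx
          exact hss _ _ (ih _ hx)
      exact sub_eq_zero.1 (by simpa using hz _ x (by rw [h1, LinearMap.zero_apply]))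
    exact ext_ap fun x => by rw [← opr_apply, hT2 x (h3 x), ap_one])
  obtain ⟨g, hg, hgm⟩ := WfDvdMonoid.exists_irreducible_factor hm'u fun h0 => hm0 (by rw [hm', h0, mul_zero])
  obtain ⟨x₀, hx₀0, hx₀⟩ : ∃ x, x ≠ 0 ∧ aeval T g x = 0 := by
    by_contra hc
    push Not at hc
    obtain ⟨k, hk⟩ : g ∣ minpoly F T := hgm.trans (hm' ▸ dvd_mul_left _ _)
    have hk0 : k ≠ 0 := fun e => hm0 (by rw [hk, e, mul_zero])
    have hkT : aeval T k = 0 := LinearMap.ext fun x => by
      by_contra hx
      refine hc _ hx ?_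
      have h1 := minpoly.aeval F T
      rw [hk, map_mul] at h1
      rw [← Module.End.mul_apply, h1]
      rfl
    have h1 := Polynomial.natDegree_le_of_dvd (minpoly.dvd F T hkT) hk0
    have h3 := congrArg natDegree hk
    rw [natDegree_mul hg.ne_zero hk0] at h3
    have := hg.natDegree_pos
    omega
  haveI : Fact (Irreducible g) := ⟨hg⟩
  have hθ : AdjoinRoot.mk g (X ^ 2 - C 4) ≠ 0 := by
    rw [Ne, AdjoinRoot.mk_eq_zero, show (X ^ 2 - C 4 : F[X]) = (X - C 2) * (X - C (-2)) by
      simp only [map_neg, show (4 : F) = 2 * 2 by norm_num, map_mul]; ring]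
    intro hd
    rcases (UniqueFactorizationMonoid.irreducible_iff_prime.1 hg).dvd_or_dvd hd with h1 | h1
    · have h3 := hg.associated_of_dvd (Polynomial.irreducible_X_sub_C (2 : F)) h1
      exact hm2 (h3.symm.dvd.trans hgm)
    · obtain ⟨k, hk⟩ := h1
      refine hx₀0 (hTn _ ?_)
      have h3 : aeval T (X - C (-2 : F)) x₀ = 0 := by
        rw [hk, mul_comm, map_mul, Module.End.mul_apply, hx₀, map_zero]
      simp only [map_sub, aeval_X, aeval_C, LinearMap.sub_apply, sub_eq_zero, Module.algebraMap_end_apply] at h3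
      exact h3
  -- an anisotropic vector killed by `g`
  set Nk := LinearMap.ker (aeval T g) with hNk
  obtain ⟨v, hv, hQv⟩ : ∃ v, aeval T g v = 0 ∧ Q v ≠ 0 := by
    by_contra hc
    push Not at hc
    have htop : Nk ⊔ LinearMap.range (aeval T g) = ⊤ := by
      have hd : Nk ⊓ LinearMap.range (aeval T g) = ⊥ := by
        rw [eq_bot_iff]
        rintro x ⟨hx, y, rfl⟩
        exact hss g y hx
      refine Submodule.eq_top_of_finrank_eq ?_
      have h1 := Submodule.finrank_sup_add_finrank_inf_eq Nk (LinearMap.range (aeval T g))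
      rw [hd, finrank_bot] at h1
      have h3 := LinearMap.finrank_range_add_finrank_ker (aeval T g)
      rw [← hNk] at h3
      omega
    refine hx₀0 (hB x₀ fun z => ?_)
    obtain ⟨a, ha, _, ⟨b, rfl⟩, rfl⟩ := Submodule.mem_sup.1 (htop ▸ Submodule.mem_top : z ∈ Nk ⊔ _)
    rw [b_add_right, ← aeval_selfadj, hx₀, b_zero_left, add_zero]
    show QuadraticMap.polar Q x₀ a = 0
    rw [QuadraticMap.polar, hc _ hx₀, hc a ha, hc (x₀ + a) (by rw [map_add, hx₀, show aeval T g a = 0 from ha, add_zero])]
    ring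
  let K := AdjoinRoot g
  let pb := AdjoinRoot.powerBasis hg.ne_zero
  haveI : Module.Finite F K := pb.finite
  haveI : Finite K := Module.finite_of_finite F
  have hgm' : (g * C g.leadingCoeff⁻¹).Monic := monic_mul_leadingCoeff_inv hg.ne_zero
  let rep : K → F[X] := fun k => Function.surjInv (AdjoinRoot.mk_surjective) k
  have hrep : ∀ (p : F[X]) (w : ι → F), aeval T g w = 0 → aeval T (rep (AdjoinRoot.mk g p)) w = aeval T p w := by
    intro p w hw
    obtain ⟨k, hk⟩ := AdjoinRoot.mk_eq_mk.1 (Function.surjInv_eq AdjoinRoot.mk_surjective (AdjoinRoot.mk g p))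
    have h1 : rep (AdjoinRoot.mk g p) = p + k * g := by
      show Function.surjInv _ _ = _
      linear_combination hk
    rw [h1, map_add, LinearMap.add_apply, map_mul, Module.End.mul_apply, hw, map_zero, add_zero]
  have hgD : ∀ p x, aeval T g x = 0 → aeval T g (aeval T p x) = 0 ∧ aeval T g (D x) = 0 := fun p x hx => by
    refine ⟨?_, ?_⟩
    · rw [← Module.End.mul_apply, ← map_mul, mul_comm, map_mul, Module.End.mul_apply, hx, map_zero]
    · rw [← Module.End.mul_apply, hTD, Module.End.mul_apply, hx, map_zero]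
  -- the action of the field
  let L : ∀ w : ι → F, aeval T g w = 0 → K →ₗ[F] (ι → F) := fun w hw =>
    { toFun := fun k => aeval T (rep k) w
      map_add' := fun k l => by
        obtain ⟨p, rfl⟩ := AdjoinRoot.mk_surjective k
        obtain ⟨q, rfl⟩ := AdjoinRoot.mk_surjective l
        rw [← map_add, hrep _ w hw, hrep _ w hw, hrep _ w hw, map_add, LinearMap.add_apply]
      map_smul' := fun c k => by
        obtain ⟨p, rfl⟩ := AdjoinRoot.mk_surjective k
        rw [AdjoinRoot.smul_mk, hrep _ w hw, hrep _ w hw, map_smul, RingHom.id_apply, LinearMap.smul_apply] }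
  have hL : ∀ w hw (p : F[X]), L w hw (AdjoinRoot.mk g p) = aeval T p w := fun w hw p => hrep p w hw
  let φ : K →ₗ[F] F := ((QuadraticMap.polarBilin Q).flip v).comp (L v hv)
  have hφ : ∀ k, φ k = B (L v hv k) v := fun k => rfl
  have hφ1 : φ 1 ≠ 0 := by
    rw [hφ, ← map_one (AdjoinRoot.mk g), hL v hv, map_one, Module.End.one_apply, b_self]
    exact mul_ne_zero h2 hQv
  have hφnd : ∀ a : K, (∀ k, φ (a * k) = 0) → a = 0 := fun a ha => by
    by_contra h0
    exact hφ1 (by rw [← mul_inv_cancel₀ h0]; exact ha _)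
  obtain ⟨θ, hθdef⟩ : ∃ θ : K, θ = AdjoinRoot.mk g (X ^ 2 - C 4) := ⟨_, rfl⟩
  rw [← hθdef] at hθ
  have hprod : ∀ a b : K, B (L v hv a) (L v hv b) = φ (a * b) ∧ B (L v hv a) (D (L v hv b)) = 0 ∧
      B (D (L v hv a)) (D (L v hv b)) = -φ (a * b * θ) := by
    intro a b
    obtain ⟨p, rfl⟩ := AdjoinRoot.mk_surjective a
    obtain ⟨q, rfl⟩ := AdjoinRoot.mk_surjective b
    simp only [hθdef, ← map_mul, hφ, hL]
    have hq : ∀ y, B (aeval T p v) (aeval T q y) = B (aeval T (p * q) v) y := fun y => by
      rw [← aeval_selfadj, ← Module.End.mul_apply, ← map_mul, mul_comm]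
    refine ⟨hq v, ?_, ?_⟩
    · rw [← Module.End.mul_apply D, ← hTD, Module.End.mul_apply, hq]
      exact hperp _ _
    · rw [hskew, ← Module.End.mul_apply D D, hDD, ← Module.End.mul_apply (aeval T _) (aeval T q), ← map_mul,
        ← aeval_selfadj, ← Module.End.mul_apply, ← map_mul, show (X ^ 2 - C 4) * q * p = p * q * (X ^ 2 - C 4) by ring]
  -- a nonsquare value of the binary form
  obtain ⟨α, β, hρ⟩ : ∃ α β : K, ¬ IsSquare (α * α - θ * (β * β)) := by
    haveI := Fintype.ofFinite K
    have hK2 : ringChar K ≠ 2 := fun e => h2 ((algebraMap F K).injective (by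
      rw [map_ofNat, map_zero]
      haveI : CharP K 2 := e ▸ ringChar.charP K
      exact_mod_cast CharP.cast_eq_zero K 2))
    obtain ⟨ν, hν⟩ := FiniteField.exists_nonsquare hK2
    obtain ⟨x, y, hxy⟩ := FiniteField.exists_root_sum_quadratic (R := K) (f := X ^ 2) (g := C (-θ) * X ^ 2 - C ν)
      (by simp) (by
        rw [degree_sub_C (by rw [degree_C_mul_X_pow 2 (neg_ne_zero.2 hθ)]; norm_num),
          degree_C_mul_X_pow 2 (neg_ne_zero.2 hθ)]
        rfl)
      (FiniteField.odd_card_of_char_ne_two hK2)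
    refine ⟨x, y, ?_⟩
    simp only [eval_pow, eval_X, eval_sub, eval_mul, eval_C] at hxy
    rwa [show x * x - θ * (y * y) = ν by linear_combination hxy]
  obtain ⟨ρ, hρdef⟩ : ∃ ρ : K, ρ = α * α - θ * (β * β) := ⟨_, rfl⟩
  rw [← hρdef] at hρ
  have hρ0 : ρ ≠ 0 := fun e => hρ (e ▸ IsSquare.zero)
  -- the two lines
  let M : K × K →ₗ[F] (ι → F) := (L v hv).coprod (D.comp (L v hv))
  have hM : ∀ a b, M (a, b) = L v hv a + D (L v hv b) := fun a b => rfl
  have hMB : ∀ a b a' b', B (M (a, b)) (M (a', b')) = φ (a * a') - φ (b * b' * θ) := by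
    intro a b a' b'
    simp only [hM, b_add_left, b_add_right]
    rw [(hprod a a').1, (hprod a b').2.1, (hprod b b').2.2, b_comm, (hprod a' b).2.1]
    ring
  have hMT : ∀ (p : F[X]) a b, aeval T p (M (a, b)) = M (AdjoinRoot.mk g p * a, AdjoinRoot.mk g p * b) := by
    intro p a b
    obtain ⟨a, rfl⟩ := AdjoinRoot.mk_surjective a
    obtain ⟨b, rfl⟩ := AdjoinRoot.mk_surjective b
    simp only [hM, ← map_mul, hL, map_add, ← Module.End.mul_apply (aeval T p) D, hTD]
    rw [map_mul, map_mul, Module.End.mul_apply, Module.End.mul_apply, Module.End.mul_apply]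
  have hMD : ∀ a b, D (M (a, b)) = M (θ * b, a) := by
    intro a b
    obtain ⟨b, rfl⟩ := AdjoinRoot.mk_surjective b
    simp only [hM, hθdef, ← map_mul, hL, map_add, ← Module.End.mul_apply D D, hDD]
    rw [map_mul, Module.End.mul_apply, add_comm]
  -- the lines and their reflections
  have hline : ∀ a₀ b₀ : K, a₀ * a₀ - θ * (b₀ * b₀) ≠ 0 →
      ∃ (R : Grp Q) (c : Module.Basis (Fin (Module.finrank F K)) F K),
        (∀ k, ap R (M (k * a₀, k * b₀)) = -M (k * a₀, k * b₀)) ∧
        (∀ x, (∀ k, B (M (k * a₀, k * b₀)) x = 0) → ap R x = x) ∧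
        dickson hB R = (-1) ^ Module.finrank F K ∧
        (∀ i j, i ≠ j → φ (c i * c j * (a₀ * a₀ - θ * (b₀ * b₀))) = 0) ∧
        (∀ i, φ (c i * c i * (a₀ * a₀ - θ * (b₀ * b₀))) ≠ 0) ∧
        ∀ (u : ι → F) (q : Grp Q), IsRefl u q → spinor Q 1 R = (spinor Q 1 q * sqc (Q u)) ^ Module.finrank F K *
          sqc (∏ i, φ (c i * c i * (a₀ * a₀ - θ * (b₀ * b₀))) / 2) := by
    intro a₀ b₀ h0
    let W : K →ₗ[F] (ι → F) := M.comp ((LinearMap.mulRight F a₀).prod (LinearMap.mulRight F b₀))
    have hW : ∀ k, W k = M (k * a₀, k * b₀) := fun k => rfl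
    obtain ⟨e₀, he₀⟩ : ∃ e₀ : K, e₀ = a₀ * a₀ - θ * (b₀ * b₀) := ⟨_, rfl⟩
    rw [← he₀] at h0 ⊢
    have hWB : ∀ k l, B (W k) (W l) = φ (k * l * e₀) := fun k l => by
      rw [hW, hW, hMB, ← map_sub, he₀]
      congr 1
      ring
    haveI : Invertible (2 : F) := invertibleOfNonzero h2
    have hsym : LinearMap.IsSymm ((QuadraticMap.polarBilin Q).compl₁₂ W W) :=
      ⟨fun x y => b_comm (Q := Q) (W x) (W y)⟩
    obtain ⟨c, hc⟩ := LinearMap.BilinForm.exists_orthogonal_basis hsym
    rw [LinearMap.isOrthoᵢ_def] at hc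
    have hc' : ∀ i j, i ≠ j → φ (c i * c j * e₀) = 0 := fun i j hij => by
      rw [← hWB]
      exact hc i j hij
    have hcc : ∀ i, φ (c i * c i * e₀) ≠ 0 := fun i hi => by
      refine c.ne_zero i ((mul_eq_zero.1 (hφnd (c i * e₀) fun k => ?_)).resolve_right h0)
      conv_lhs => rw [← c.sum_repr k, Finset.mul_sum, map_sum]
      refine Finset.sum_eq_zero fun j _ => ?_
      rw [mul_smul_comm, map_smul, show c i * e₀ * c j = c i * c j * e₀ by ring]
      rcases eq_or_ne i j with rfl | hij
      · rw [hi, smul_zero]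
      · rw [hc' i j hij, smul_zero]
    have hQe : ∀ i, Q (W (c i)) = φ (c i * c i * e₀) / 2 := fun i => by
      rw [← hWB, b_self, mul_div_cancel_left₀ _ h2]
    obtain ⟨R, hR, hd, hsp⟩ := exists_refl_prod hB h2 hn (fun i => W (c i))
      (fun i => by rw [hQe]; exact div_ne_zero (hcc i) h2)
      (fun i j hij => by rw [hWB]; exact hc' i j hij)
    refine ⟨R, c, fun k => ?_, fun x hx => ?_, by rw [hd, Fintype.card_fin], hc', hcc, fun u q hq => ?_⟩
    · rw [← hW, hR]
      have h1 : ∑ i, ((Q (W (c i)))⁻¹ * B (W (c i)) (W k)) • W (c i) = (2 : F) • W k := by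
        have h3 : ∀ i, (Q (W (c i)))⁻¹ * B (W (c i)) (W k) = 2 * c.repr k i := fun i => by
          rw [hWB, hQe]
          conv_lhs => rw [← c.sum_repr k, Finset.mul_sum, Finset.sum_mul, map_sum,
            Finset.sum_eq_single i (fun j _ hj => by
              rw [mul_smul_comm, smul_mul_assoc, map_smul, hc' i j hj.symm, smul_zero])
            (fun h => absurd (Finset.mem_univ i) h), mul_smul_comm, smul_mul_assoc, map_smul, smul_eq_mul]
          have := hcc i
          field_simp
        simp only [h3, mul_smul]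
        rw [← Finset.smul_sum]
        conv_rhs => rw [← c.sum_repr k, map_sum]
        simp only [map_smul]
      rw [h1]
      module
    · rw [hR, Finset.sum_eq_zero, sub_zero]
      intro i _
      rw [show B (W (c i)) x = 0 from hx _, mul_zero, zero_smul]
    · rw [hsp u q hq, Fintype.card_fin]
      simp only [hQe]
  obtain ⟨R₁, c₁, h11, h12, h13, h14, h15, h16⟩ := hline 1 0 (by simp)
  obtain ⟨R₂, c₂, h21, h22, h23, h24, h25, h26⟩ := hline α β (hρdef ▸ hρ0)
  simp only [← hρdef] at h24 h25 h26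
  simp only [mul_one, one_mul, mul_zero, sub_zero] at h11 h12 h14 h15 h16
  refine ⟨R₂ * R₁, ?_, by rw [map_mul, h13, h23, ← mul_pow, neg_one_mul, neg_neg, one_pow], ?_⟩
  · -- both products anticommute with `D` on the plane and commute with `T`
    have hanti : ∀ (R : Grp Q) (a₀ b₀ : K), a₀ * a₀ - θ * (b₀ * b₀) ≠ 0 →
        (∀ k, ap R (M (k * a₀, k * b₀)) = -M (k * a₀, k * b₀)) →
        (∀ x, (∀ k, B (M (k * a₀, k * b₀)) x = 0) → ap R x = x) →
        ∀ a b, ∃ a' b', ap R (M (a, b)) = M (a', b') ∧ ap R (D (M (a, b))) = -D (ap R (M (a, b))) ∧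
          ap R (T (M (a, b))) = T (ap R (M (a, b))) := by
      intro R a₀ b₀ h0 hneg hfix a b
      have hperp' : ∀ l, ap R (M (l * b₀ * θ, l * a₀)) = M (l * b₀ * θ, l * a₀) := fun l =>
        hfix _ fun k => by
          rw [hMB, ← map_sub, show k * a₀ * (l * b₀ * θ) - k * b₀ * (l * a₀) * θ = 0 by ring, map_zero]
      set e₀ := a₀ * a₀ - θ * (b₀ * b₀)
      obtain ⟨k, hk⟩ : ∃ k, k = (a * a₀ - b * b₀ * θ) / e₀ := ⟨_, rfl⟩
      obtain ⟨l, hl⟩ : ∃ l, l = (b * a₀ - a * b₀) / e₀ := ⟨_, rfl⟩
      have hab : ∀ z : K, M (z * a, z * b) = M (z * k * a₀, z * k * b₀) + M (z * l * b₀ * θ, z * l * a₀) := fun z => by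
        rw [← map_add, Prod.mk_add_mk, hk, hl]
        have hh : (a₀ * a₀ - θ * (b₀ * b₀)) * e₀⁻¹ = 1 := mul_inv_cancel₀ h0
        congr 2 <;> simp only [div_eq_mul_inv]
        · linear_combination -(z * a) * hh
        · linear_combination -(z * b) * hh
      have hR : ∀ z : K, ap R (M (z * a, z * b)) = -M (z * k * a₀, z * k * b₀) + M (z * l * b₀ * θ, z * l * a₀) := fun z => by
        rw [hab, ap_add, hneg, hperp']
      have hR1 : ap R (M (a, b)) = -M (k * a₀, k * b₀) + M (l * b₀ * θ, l * a₀) := by simpa using hR 1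
      have h1 : M (a, b) = M (k * a₀, k * b₀) + M (l * b₀ * θ, l * a₀) := by simpa using hab 1
      refine ⟨-(k * a₀) + l * b₀ * θ, -(k * b₀) + l * a₀, ?_, ?_, ?_⟩
      · rw [hR1, ← map_neg, ← map_add]
        rfl
      · rw [hR1, h1, map_add D, map_add D, map_neg, hMD, hMD]
        rw [show (θ * (k * b₀), k * a₀) = (k * b₀ * θ, k * a₀) by rw [mul_comm θ],
          show (θ * (l * a₀), l * b₀ * θ) = (θ * l * a₀, θ * l * b₀) by congr 1 <;> ring, ap_add, hperp', hneg]
        abel
      · have hTa : T = aeval T (X : F[X]) := (aeval_X T).symm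
        rw [hTa, hMT, hR, hR1, map_add, map_neg, hMT, hMT]
        congr 2 <;> simp only [mul_assoc]
    have ha1 := hanti R₁ 1 0 (by simp) (by simpa using h11) (by simpa using h12)
    have ha2 := hanti R₂ α β (hρdef ▸ hρ0) h21 h22
    set U := LinearMap.range M
    have htop : U ⊔ orth Q U = ⊤ := by
      have hd : U ⊓ orth Q U = ⊥ := by
        rw [eq_bot_iff]
        rintro _ ⟨⟨⟨a, b⟩, rfl⟩, hx⟩
        have h1 : a = 0 := hφnd a fun k => by
          have := mem_orth.1 hx _ ⟨(k, 0), rfl⟩
          rw [hMB] at this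
          simpa [mul_comm] using this
        have h3 : b * θ = 0 := hφnd _ fun k => by
          have := mem_orth.1 hx _ ⟨(0, k), rfl⟩
          rw [hMB] at this
          rw [mul_comm b θ, mul_assoc, mul_comm θ]
          simpa [mul_comm b k] using this
        rw [Submodule.mem_bot, h1, (mul_eq_zero.1 h3).resolve_right hθ]
        exact map_zero M
      refine Submodule.eq_top_of_finrank_eq ?_
      have h1 := Submodule.finrank_sup_add_finrank_inf_eq U (orth Q U)
      rw [hd, finrank_bot] at h1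
      have h3 := finrank_orth hB U
      omega
    refine ext_ap fun x => ?_
    obtain ⟨_, ⟨⟨a, b⟩, rfl⟩, y, hy, rfl⟩ := Submodule.mem_sup.1 (htop ▸ Submodule.mem_top : x ∈ U ⊔ _)
    simp only [ap_add, ap_mul]
    have hfixy : ∀ y, y ∈ orth Q U → ap R₂ (ap R₁ y) = y := fun y hy => by
      rw [h12 y fun k => mem_orth.1 hy _ ⟨_, rfl⟩, h22 y fun k => mem_orth.1 hy _ ⟨_, rfl⟩]
    have hsy : ap s y ∈ orth Q U := mem_orth.2 fun u hu => by
      obtain ⟨⟨a, b⟩, rfl⟩ := hu
      have h3 : (2 : F) • ap s⁻¹ (M (a, b)) = T (M (a, b)) - D (M (a, b)) := by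
        simp only [hT, hD, LinearMap.add_apply, LinearMap.sub_apply, hS'def, opr_apply]
        module
      have h4 : T (M (a, b)) - D (M (a, b)) ∈ U := by
        refine sub_mem ?_ ?_
        · rw [show T = aeval T (X : F[X]) from (aeval_X T).symm, hMT]
          exact ⟨_, rfl⟩
        · rw [hMD]
          exact ⟨_, rfl⟩
      have h5 : B ((2 : F) • ap s⁻¹ (M (a, b))) y = 0 := by
        rw [h3]
        exact mem_orth.1 hy _ h4
      rw [b_smul_left, mul_eq_zero] at h5
      have h6 := h5.resolve_left h2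
      rw [← ap_b s, ← ap_mul, mul_inv_cancel, ap_one] at h6
      exact h6
    rw [hfixy y hy, hfixy _ hsy]
    congr 1
    -- on the plane
    have hsum : ∀ u, (2 : F) • ap s u = T u + D u := fun u => by
      simp only [hT, hD, LinearMap.add_apply, LinearMap.sub_apply, hSdef, opr_apply]
      module
    obtain ⟨a₁, b₁, e1, hD1, hT1⟩ := ha1 a b
    obtain ⟨a₂, b₂, e2, hD2, hT2'⟩ := ha2 a₁ b₁
    refine smul_right_injective _ h2 ?_
    show (2 : F) • ap R₂ (ap R₁ (ap s (M (a, b)))) = (2 : F) • ap s (ap R₂ (ap R₁ (M (a, b))))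
    rw [← ap_smul, ← ap_smul, hsum, hsum, ap_add, ap_add, hT1, hD1, e1, ← neg_one_smul F (D _), ap_smul, hT2', hD2]
    module
  · -- the ratio of the discriminants is the norm of a nonsquare
    obtain ⟨u, hu⟩ := exists_aniso hB (by omega)
    obtain ⟨q, hq⟩ := exists_refl hB hu
    rw [map_mul, h16 u q hq, h26 u q hq]
    rw [show ∀ a b c : ℤˣ, a * b * (a * c) = a * a * (b * c) from fun a b c => mul_mul_mul_comm _ _ _ _,
      Int.units_mul_self, one_mul, ← sqc_mul (Finset.prod_ne_zero_iff.2 fun i _ => div_ne_zero (h25 i) h2)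
      (Finset.prod_ne_zero_iff.2 fun i _ => div_ne_zero (h15 i) h2)]
    refine (Int.units_eq_one_or _).resolve_left fun hsq => hρ ?_
    rw [sqc_eq_one] at hsq
    let β₁ : LinearMap.BilinForm F K := (LinearMap.mul F K).compr₂ φ
    have hcomp : ∀ x y, β₁ (LinearMap.mulLeft F ρ x) y = φ (x * y * ρ) := fun x y => by
      show φ (ρ * x * y) = _
      congr 1; ring
    have hdiag₁ : LinearMap.BilinForm.toMatrix c₁ β₁ = Matrix.diagonal fun i => φ (c₁ i * c₁ i) := by
      ext i j
      rw [LinearMap.BilinForm.toMatrix_apply]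
      rcases eq_or_ne i j with rfl | hij
      · rw [Matrix.diagonal_apply_eq]; rfl
      · rw [Matrix.diagonal_apply_ne _ hij]; exact h14 i j hij
    have hdiag₂ : LinearMap.BilinForm.toMatrix c₂ (β₁.compLeft (LinearMap.mulLeft F ρ)) =
        Matrix.diagonal fun i => φ (c₂ i * c₂ i * ρ) := by
      ext i j
      rw [LinearMap.BilinForm.toMatrix_apply]
      show β₁ _ _ = _
      rw [hcomp]
      rcases eq_or_ne i j with rfl | hij
      · rw [Matrix.diagonal_apply_eq]
      · rw [Matrix.diagonal_apply_ne _ hij]; exact h24 i j hij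
    have hdet : (∏ i, φ (c₂ i * c₂ i * ρ)) =
        (c₁.toMatrix c₂).det * (c₁.toMatrix c₂).det * (Algebra.norm F ρ * ∏ i, φ (c₁ i * c₁ i)) := by
      have h1 := congrArg Matrix.det hdiag₂
      rw [Matrix.det_diagonal, ← LinearMap.BilinForm.toMatrix_mul_basis_toMatrix c₁ c₂,
        LinearMap.BilinForm.toMatrix_compLeft, hdiag₁] at h1
      simp only [Matrix.det_mul, Matrix.det_transpose, Matrix.det_diagonal, LinearMap.det_toMatrix] at h1
      rw [← h1, Algebra.norm_apply]
      show _ = _ * (LinearMap.det (LinearMap.mulLeft F ρ) * _)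
      ring
    have hnorm : IsSquare (Algebra.norm F ρ) := by
      simp only [Finset.prod_div_distrib, hdet] at hsq
      set P := ∏ i, φ (c₁ i * c₁ i)
      set d := (c₁.toMatrix c₂).det
      set t := ∏ _i : Fin (Module.finrank F K), (2 : F)
      obtain ⟨y, hy⟩ := hsq
      have hP : P ≠ 0 := Finset.prod_ne_zero_iff.2 fun i _ => h15 i
      have ht : t ≠ 0 := Finset.prod_ne_zero_iff.2 fun i _ => h2
      have hdne : d ≠ 0 := fun h => by
        have := congrArg Matrix.det (c₁.toMatrix_mul_toMatrix_flip c₂)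
        rw [Matrix.det_mul, show (c₁.toMatrix c₂).det = 0 from h, zero_mul, Matrix.det_one] at this
        exact zero_ne_one this
      refine ⟨y * t / (d * P), ?_⟩
      field_simp at hy ⊢
      linear_combination hy
    haveI := Fintype.ofFinite K
    haveI := Fintype.ofFinite F
    exact isSquare_of_norm hρ0 hnorm

end CfsgLib.Orth
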