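import Mathlib

/-!
Two facts on symmetric bilinear forms over finite fields of odd characteristic: a group of odd order of isometries
normalised by the reflections of one class is trivial, and a map preserving the anisotropic lines is a homothety.
-/

set_option autoImplicit false
set_option linter.unusedSectionVars false

namespace CfsgLib.OrthAut.Bil

universe u v

variable {K : Type u} [Field K] [Fintype K] {V : Type v} [AddCommGroup V] [Module K V] [FiniteDimensional K V]
variable (f : V →ₗ[K] V →ₗ[K] K)

/-- The subspace orthogonal to `U`. -/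
def perp (U : Submodule K V) : Submodule K V where
  carrier := {x | ∀ y ∈ U, f y x = 0}
  zero_mem' := fun y _ => map_zero _
  add_mem' := fun {x x'} h h' y hy => by rw [map_add, h y hy, h' y hy, add_zero]
  smul_mem' := fun c x h y hy => by rw [map_smul, h y hy, smul_zero]

/-- `U` is nondegenerate. -/
def Nd (U : Submodule K V) : Prop := ∀ x ∈ U, (∀ y ∈ U, f x y = 0) → x = 0

variable {f}
variable (h2 : (2 : K) ≠ 0) (hs : ∀ x y, f x y = f y x)

include h2 hs in
theorem exists_aniso_mem {U : Submodule K V} (hU : Nd f U) (hd : 1 ≤ Module.finrank K U) :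
    ∃ x ∈ U, f x x ≠ 0 := by
  by_contra hc
  push Not at hc
  obtain ⟨x, hx, hx0⟩ := Submodule.exists_mem_ne_zero_of_ne_bot (fun e : U = ⊥ => by
    rw [e, finrank_bot] at hd; omega)
  refine hx0 (hU x hx fun y hy => ?_)
  have h1 := hc _ (U.add_mem hx hy)
  simp only [map_add, LinearMap.add_apply, hc x hx, hc y hy, hs y x] at h1
  exact mul_left_cancel₀ h2 (by linear_combination h1)

include hs in
theorem perp_step {U : Submodule K V} (hU : Nd f U) {v : V} (hv : v ∈ U) (hvv : f v v ≠ 0) :
    Nd f (U ⊓ LinearMap.ker (f v)) ∧ Module.finrank K ↥(U ⊓ LinearMap.ker (f v)) + 1 = Module.finrank K U := by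
  refine ⟨fun x hx hxy => ?_, ?_⟩
  · refine hU x hx.1 fun y hy => ?_
    have hvx : f x v = 0 := (hs x v).trans hx.2
    have h1 := hxy (y - (f v y / f v v) • v) ⟨U.sub_mem hy (U.smul_mem _ hv), by
      show f v _ = 0
      rw [map_sub, map_smul, smul_eq_mul, div_mul_cancel₀ _ hvv, sub_self]⟩
    rwa [map_sub, map_smul, hvx, smul_zero, sub_zero] at h1
  · let g : U →ₗ[K] K := (f v).comp U.subtype
    have hg : LinearMap.range g = ⊤ := LinearMap.range_eq_top.2 fun c => ⟨(c / f v v) • ⟨v, hv⟩, by
      show f v ((c / f v v) • v) = c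
      rw [map_smul, smul_eq_mul, div_mul_cancel₀ _ hvv]⟩
    have h1 := g.finrank_range_add_finrank_ker
    rw [hg, finrank_top, Module.finrank_self] at h1
    have h3 : (LinearMap.ker g).map U.subtype = U ⊓ LinearMap.ker (f v) := by
      rw [LinearMap.ker_comp, Submodule.map_comap_eq, Submodule.range_subtype]
    rw [← h3, Submodule.finrank_map_subtype_eq]
    omega

include h2 hs in
theorem exists_value {U : Submodule K V} (hU : Nd f U) (hd : 2 ≤ Module.finrank K U) {a : K} (ha : a ≠ 0) :
    ∃ x ∈ U, f x x = a := by
  obtain ⟨v, hv, hvv⟩ := exists_aniso_mem h2 hs hU (by omega)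
  obtain ⟨h1, h1'⟩ := perp_step hs hU hv hvv
  obtain ⟨w, hw, hww⟩ := exists_aniso_mem h2 hs h1 (by omega)
  have hvw : f v w = 0 := hw.2
  have hch : ringChar K ≠ 2 := fun hc => h2 (by
    haveI : CharP K 2 := hc ▸ ringChar.charP K
    exact_mod_cast CharP.cast_eq_zero K 2)
  obtain ⟨s, t, hst⟩ := FiniteField.exists_root_sum_quadratic
    (f := Polynomial.C (f v v) * Polynomial.X ^ 2 - Polynomial.C a)
    (g := Polynomial.C (f w w) * Polynomial.X ^ 2)
    (by rw [Polynomial.degree_sub_C (by rw [Polynomial.degree_C_mul_X_pow 2 hvv]; norm_num),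
      Polynomial.degree_C_mul_X_pow 2 hvv]; rfl)
    (by rw [Polynomial.degree_C_mul_X_pow 2 hww]; rfl) (FiniteField.odd_card_of_char_ne_two hch)
  simp only [Polynomial.eval_sub, Polynomial.eval_mul, Polynomial.eval_C, Polynomial.eval_pow, Polynomial.eval_X] at hst
  refine ⟨s • v + t • w, U.add_mem (U.smul_mem _ hv) (U.smul_mem _ hw.1), ?_⟩
  simp only [map_add, map_smul, LinearMap.add_apply, LinearMap.smul_apply, smul_eq_mul, hvw, hs w v]
  linear_combination hst

variable (f) in
/-- The reflection in an anisotropic vector. -/
noncomputable def rfl' (v : V) (hv : f v v ≠ 0) : V ≃ₗ[K] V :=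
  LinearEquiv.ofInvolutive (LinearMap.id - ((2 / f v v) • f v).smulRight v) fun x => by
    have e : 2 / f v v * f v v = 2 := div_mul_cancel₀ _ hv
    simp only [LinearMap.sub_apply, LinearMap.id_apply, LinearMap.smulRight_apply, LinearMap.smul_apply, smul_eq_mul,
      map_sub, map_smul]
    match_scalars <;> field_simp <;> ring

theorem rfl'_apply (v : V) (hv : f v v ≠ 0) (x : V) : rfl' f v hv x = x - (2 / f v v * f v x) • v := rfl

theorem rfl'_self (v : V) (hv : f v v ≠ 0) : rfl' f v hv v = -v := by
  rw [rfl'_apply, div_mul_cancel₀ _ hv, two_smul]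
  abel

theorem rfl'_fix (v : V) (hv : f v v ≠ 0) {x : V} (hx : f v x = 0) : rfl' f v hv x = x := by
  rw [rfl'_apply, hx, mul_zero, zero_smul, sub_zero]

theorem rfl'_mul_self (v : V) (hv : f v v ≠ 0) : rfl' f v hv * rfl' f v hv = 1 :=
  LinearEquiv.ext fun x => (rfl' f v hv).symm_apply_apply x

include hs in
theorem rfl'_form (v : V) (hv : f v v ≠ 0) (x y : V) : f (rfl' f v hv x) (rfl' f v hv y) = f x y := by
  simp only [rfl'_apply, map_sub, map_smul, LinearMap.sub_apply, LinearMap.smul_apply, smul_eq_mul, hs x v]
  field_simp
  ring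

section Trivial

variable (hN : ∀ x, (∀ y, f x y = 0) → x = 0) (M : Subgroup (V ≃ₗ[K] V)) (hodd : Odd (Nat.card M))
variable (hM : ∀ t ∈ M, ∀ x y, f (t x) (t y) = f x y)
variable (ν : K) (hν : ν ≠ 0) (hd : 3 ≤ Module.finrank K V)
variable (hnorm : ∀ v (hv : f v v ≠ 0), (Module.finrank K V = 3 ∨ IsSquare (ν * f v v)) →
  ∀ t ∈ M, rfl' f v hv * t * rfl' f v hv ∈ M)

include hodd in
theorem eq_one_of_sq {t : V ≃ₗ[K] V} (ht : t ∈ M) (h : t * t = 1) : t = 1 := by
  have h1 : orderOf (⟨t, ht⟩ : M) ∣ 2 := orderOf_dvd_of_pow_eq_one (Subtype.ext (by rw [pow_two]; exact h))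
  have h3 : orderOf (⟨t, ht⟩ : M) ∣ Nat.card M := orderOf_dvd_natCard _
  have h4 := Nat.dvd_gcd h1 h3
  rw [show Nat.gcd 2 (Nat.card M) = 1 from (Nat.coprime_two_left.2 hodd), Nat.dvd_one, orderOf_eq_one_iff] at h4
  exact congrArg Subtype.val h4

include h2 hodd in
theorem fix_of_neg {t : V ≃ₗ[K] V} (ht : t ∈ M) {v : V} {a : K} (hta : t v = a • v) (ha : a * a = 1) : t v = v := by
  rcases mul_self_eq_one_iff.1 ha with rfl | rfl
  · rw [hta, one_smul]
  have hpow : ∀ n : ℕ, (t ^ n) v = ((-1 : K) ^ n) • v := by
    intro n
    induction n with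
    | zero => simp
    | succ n ih => rw [pow_succ', LinearEquiv.mul_apply, ih, map_smul, hta, smul_smul, ← pow_succ]
  have h1 := hpow (Nat.card M)
  rw [show t ^ Nat.card M = 1 from congrArg Subtype.val (pow_card_eq_one' (x := (⟨t, ht⟩ : M))),
    hodd.neg_one_pow, neg_one_smul] at h1
  have h3 : (2 : K) • v = 0 := by rw [two_smul]; exact eq_neg_iff_add_eq_zero.1 h1
  rw [(smul_eq_zero.1 h3).resolve_left h2, map_zero]

include h2 hs hN hodd hM hν hd hnorm in
theorem fixed_aux : ∀ k, ∀ U : Submodule K V, Module.finrank K U = k → Nd f U →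
    ∀ t ∈ M, (∀ x ∈ perp f U, t x = x) → t = 1 := by
  intro k
  induction k using Nat.strong_induction_on with
  | _ k ih =>
    intro U hk hU t ht hfix
    have hcompl : ∀ x : V, ∃ y ∈ U, x - y ∈ perp f U := by
      have hdisj : Disjoint U (perp f U) := disjoint_iff.2 ((Submodule.eq_bot_iff _).2 fun x hx =>
        hU x hx.1 fun y hy => (hs x y).trans (hx.2 y hy))
      let g : V →ₗ[K] (U →ₗ[K] K) := LinearMap.flip (f.comp U.subtype)
      have hker : LinearMap.ker g = perp f U := by
        ext x
        constructor
        · intro hx y hy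
          exact LinearMap.congr_fun (LinearMap.mem_ker.1 hx) ⟨y, hy⟩
        · exact fun hx => LinearMap.ext fun y => hx y y.2
      have h1 := g.finrank_range_add_finrank_ker
      have h3 := Submodule.finrank_le (LinearMap.range g)
      rw [Subspace.dual_finrank_eq] at h3
      have h4 := Submodule.finrank_sup_add_finrank_inf_eq U (perp f U)
      rw [hdisj.eq_bot, finrank_bot] at h4
      rw [hker] at h1
      have h5 : U ⊔ perp f U = ⊤ := Submodule.eq_top_of_finrank_eq (le_antisymm (Submodule.finrank_le _) (by omega))
      intro x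
      obtain ⟨y, hy, z, hz, rfl⟩ := Submodule.mem_sup.1 (h5 ▸ Submodule.mem_top (x := x))
      exact ⟨y, hy, by rwa [add_sub_cancel_left]⟩
    have hext : (∀ y ∈ U, t y = y) → t = 1 := fun h => LinearEquiv.ext fun x => by
      obtain ⟨y, hy, hz⟩ := hcompl x
      have := hfix _ hz
      rw [map_sub, h y hy] at this
      exact sub_left_inj.1 this
    have hmemU : ∀ y ∈ U, t y ∈ U := fun y hy => by
      obtain ⟨y', hy', hz⟩ := hcompl (t y)
      have h1 : ∀ z ∈ perp f U, f z (t y) = 0 := fun z hz => by
        rw [← hfix z hz, hM t ht, hs]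
        exact hz y hy
      suffices t y - y' = 0 from (sub_eq_zero.1 this).symm ▸ hy'
      refine hN _ fun x => ?_
      obtain ⟨u, hu, hw⟩ := hcompl x
      rw [show x = u + (x - u) by abel, map_add, hs, hz u hu, zero_add, hs, map_sub, h1 _ hw, zero_sub, neg_eq_zero, hs]
      exact hw y' hy'
    -- shrink along an eigenvector
    have hshrink : ∀ s ∈ M, (∀ x ∈ perp f U, s x = x) → ∀ v ∈ U, f v v ≠ 0 → s v = v → s = 1 := by
      intro s hsM hsfix v hv hvv hsv
      obtain ⟨h1, h1'⟩ := perp_step hs hU hv hvv
      refine ih _ (by omega) _ rfl h1 s hsM fun x hx => ?_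
      have h3 : x - (f v x / f v v) • v ∈ perp f U := fun y hy => by
        have h4 := hx (y - (f v y / f v v) • v) ⟨U.sub_mem hy (U.smul_mem _ hv), by
          show f v _ = 0
          rw [map_sub, map_smul, smul_eq_mul, div_mul_cancel₀ _ hvv, sub_self]⟩
        rw [map_sub, map_smul, LinearMap.sub_apply, LinearMap.smul_apply, smul_eq_mul] at h4
        rw [map_sub, map_smul, smul_eq_mul, hs y v]
        linear_combination h4
      have h4 := hsfix _ h3
      rw [map_sub, map_smul, hsv] at h4
      exact sub_left_inj.1 h4
    rcases le_or_gt 3 k with hk3 | hk3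
    · -- two commuting reflections
      obtain ⟨v, hv, hvv⟩ := exists_value h2 hs hU (by omega) (inv_ne_zero hν)
      obtain ⟨h1, h1'⟩ := perp_step hs hU hv (by rw [hvv]; exact inv_ne_zero hν)
      obtain ⟨w, hw, hww⟩ := exists_value h2 hs h1 (by omega) (inv_ne_zero hν)
      have hvw : f v w = 0 := hw.2
      have key : ∀ v ∈ U, ∀ hvv : f v v = ν⁻¹, t * rfl' f v (by rw [hvv]; exact inv_ne_zero hν) * t =
          rfl' f v (by rw [hvv]; exact inv_ne_zero hν) := by
        intro v hv hvv
        have hv0 : f v v ≠ 0 := by rw [hvv]; exact inv_ne_zero hν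
        set R := rfl' f v hv0
        let N : Subgroup (V ≃ₗ[K] V) :=
          { carrier := {s | s ∈ M ∧ ∀ x ∈ perp f U, s x = x}
            one_mem' := ⟨one_mem _, fun x _ => rfl⟩
            mul_mem' := fun {a b} ha hb => ⟨mul_mem ha.1 hb.1, fun x hx => by
              rw [LinearEquiv.mul_apply, hb.2 x hx, ha.2 x hx]⟩
            inv_mem' := fun {a} ha => ⟨inv_mem ha.1, fun x hx => (LinearEquiv.symm_apply_eq a).2 (ha.2 x hx).symm⟩ }
        have hRN : ∀ s ∈ N, R * s * R ∈ N := fun s hs' => ⟨hnorm v hv0 (Or.inr (by
          rw [hvv, mul_inv_cancel₀ hν]; exact IsSquare.one)) s hs'.1, fun x hx => by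
            rw [LinearEquiv.mul_apply, LinearEquiv.mul_apply, rfl'_fix v hv0 (hx v hv), hs'.2 x hx,
              rfl'_fix v hv0 (hx v hv)]⟩
        let φ : N →* N :=
          { toFun := fun s => ⟨R * s * R, hRN s s.2⟩
            map_one' := Subtype.ext (by
              show R * (1 : V ≃ₗ[K] V) * R = 1
              rw [mul_one, rfl'_mul_self])
            map_mul' := fun a b => Subtype.ext (by
              show R * ((a : V ≃ₗ[K] V) * b) * R = R * a * R * (R * b * R)
              rw [show R * (a : V ≃ₗ[K] V) * R * (R * b * R) = R * a * (R * R) * b * R by simp only [mul_assoc],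
                rfl'_mul_self, mul_one]
              simp only [mul_assoc]) }
        haveI : Finite M := Nat.finite_of_card_ne_zero fun e => by rw [e] at hodd; simp at hodd
        haveI : Finite N := Finite.of_injective (fun s : N => (⟨s.1, s.2.1⟩ : M)) fun a b e =>
          Subtype.ext (congrArg (fun z : M => (z : V ≃ₗ[K] V)) e)
        have hfp : MonoidHom.FixedPointFree φ := fun s e => by
          have e1 : R * (s : V ≃ₗ[K] V) * R = s := congrArg Subtype.val e
          have e2 : R * (s : V ≃ₗ[K] V) = s * R := by
            calc R * (s : V ≃ₗ[K] V) = R * s * (R * R) := by rw [rfl'_mul_self, mul_one]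
              _ = R * s * R * R := by simp only [mul_assoc]
              _ = s * R := by rw [e1]
          have e3 := LinearEquiv.congr_fun e2 v
          rw [LinearEquiv.mul_apply, LinearEquiv.mul_apply, rfl'_self, map_neg, rfl'_apply] at e3
          set c := f v ((s : V ≃ₗ[K] V) v) / f v v
          have e4 : (s : V ≃ₗ[K] V) v = c • v := by
            have e5 : (2 : K) • ((s : V ≃ₗ[K] V) v) = (2 : K) • (c • v) := by
              rw [smul_smul, show 2 * c = 2 / f v v * f v ((s : V ≃ₗ[K] V) v) by simp only [c]; ring]
              linear_combination (norm := module) e3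
            exact smul_right_injective V h2 e5
          have e6 := hM _ s.2.1 v v
          rw [e4, map_smul, LinearMap.map_smul₂, smul_eq_mul, smul_eq_mul, ← mul_assoc] at e6
          exact Subtype.ext (hshrink _ s.2.1 s.2.2 v hv hv0
            (fix_of_neg h2 M hodd s.2.1 e4 (mul_right_cancel₀ hv0 (e6.trans (one_mul _).symm))))
        have hinv := congrFun (hfp.coe_eq_inv_of_sq_eq_one (funext fun s => Subtype.ext (by
          show R * (R * (s : V ≃ₗ[K] V) * R) * R = s
          rw [show R * (R * (s : V ≃ₗ[K] V) * R) * R = R * R * s * (R * R) by simp only [mul_assoc], rfl'_mul_self,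
            one_mul, mul_one]))) (⟨t, ht, hfix⟩ : N)
        have e7 : R * t * R = t⁻¹ := congrArg Subtype.val hinv
        calc t * R * t = R * R * (t * R * t) := by rw [rfl'_mul_self, one_mul]
          _ = R * (R * t * R) * t := by simp only [mul_assoc]
          _ = R := by rw [e7, inv_mul_cancel_right]
      have k1 := key v hv hvv
      have k2 := key w hw.1 hww
      set Rv := rfl' f v (by rw [hvv]; exact inv_ne_zero hν)
      set Rw := rfl' f w (by rw [hww]; exact inv_ne_zero hν)
      have hwU := hw.1
      -- the square lives in the plane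
      have hvv0 : f v v ≠ 0 := by rw [hvv]; exact inv_ne_zero hν
      have hww0 : f w w ≠ 0 := by rw [hww]; exact inv_ne_zero hν
      have hcomm : Rv * Rw * t = t * (Rv * Rw) := by
        have a1 : Rw * t = t⁻¹ * Rw := by rw [eq_inv_mul_iff_mul_eq, ← mul_assoc]; exact k2
        have a2 : Rv * t⁻¹ = t * Rv := by
          rw [mul_inv_eq_iff_eq_mul]; exact k1.symm
        rw [mul_assoc, a1, ← mul_assoc, a2, mul_assoc]
      let P : Submodule K V := Submodule.span K {v, w}
      have hRR : ∀ x, Rv (Rw x) = x - (2 / f v v * f v x) • v - (2 / f w w * f w x) • w := fun x => by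
        rw [rfl'_apply, rfl'_apply, map_sub, map_smul, hvw, smul_zero, sub_zero]
        abel
      have hPfix : ∀ x, f v x = 0 → f w x = 0 → f v (t x) = 0 ∧ f w (t x) = 0 := by
        intro x hx hx'
        have e := LinearEquiv.congr_fun hcomm x
        rw [LinearEquiv.mul_apply, LinearEquiv.mul_apply, LinearEquiv.mul_apply, LinearEquiv.mul_apply,
          show Rv (Rw x) = x by rw [hRR, hx, hx']; simp, hRR] at e
        constructor
        · have h3 := congrArg (f v) e
          simp only [map_sub, map_smul, smul_eq_mul, hvw, mul_zero, sub_zero] at h3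
          field_simp at h3
          exact mul_left_cancel₀ h2 (by linear_combination -h3)
        · have h3 := congrArg (f w) e
          simp only [map_sub, map_smul, smul_eq_mul, hs w v, hvw, mul_zero, sub_zero] at h3
          field_simp at h3
          exact mul_left_cancel₀ h2 (by linear_combination -h3)
      have hP : Nd f P ∧ Module.finrank K P ≤ 2 := by
        refine ⟨fun x hx hxy => ?_, ?_⟩
        · obtain ⟨a, b, rfl⟩ := Submodule.mem_span_pair.1 hx
          have h3 := hxy v (Submodule.subset_span (Or.inl rfl))
          have h4 := hxy w (Submodule.subset_span (Or.inr rfl))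
          simp only [map_add, map_smul, LinearMap.add_apply, LinearMap.smul_apply, smul_eq_mul, hs w v, hvw,
            mul_zero, add_zero, zero_add] at h3 h4
          rw [(mul_eq_zero.1 h3).resolve_right hvv0, (mul_eq_zero.1 h4).resolve_right hww0, zero_smul, zero_smul,
            add_zero]
        · classical
          have := finrank_span_finset_le_card (R := K) ({v, w} : Finset V)
          simp only [Finset.coe_insert, Finset.coe_singleton] at this
          exact this.trans Finset.card_le_two
      have hsq : t * t = 1 := by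
        refine ih _ (lt_of_le_of_lt hP.2 (by omega)) P rfl hP.1 _ (mul_mem ht ht) fun x hx => ?_
        have hx1 : f v x = 0 := hx v (Submodule.subset_span (Or.inl rfl))
        have hx2 : f w x = 0 := hx w (Submodule.subset_span (Or.inr rfl))
        obtain ⟨h3, -⟩ := hPfix x hx1 hx2
        have e := LinearEquiv.congr_fun k1 x
        rw [LinearEquiv.mul_apply, LinearEquiv.mul_apply, rfl'_fix v hvv0 h3, rfl'_fix v hvv0 hx1] at e
        exact e
      exact eq_one_of_sq M hodd ht hsq
    rcases Nat.lt_or_ge k 2 with hk2 | hk2
    · rcases Nat.eq_zero_or_pos k with h0 | h0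
      · refine hext fun y hy => ?_
        rw [Submodule.finrank_eq_zero.1 (hk.trans h0)] at hy
        rw [(Submodule.mem_bot K).1 hy, map_zero]
      obtain ⟨v, hv, hvv⟩ := exists_aniso_mem h2 hs hU (by omega)
      have hspan : ∀ y ∈ U, ∃ c : K, c • v = y := fun y hy => by
        obtain ⟨h1, h1'⟩ := perp_step hs hU hv hvv
        have hbot := Submodule.finrank_eq_zero.1 (show Module.finrank K ↥(U ⊓ LinearMap.ker (f v)) = 0 by omega)
        refine ⟨f v y / f v v, (sub_eq_zero.1 ((Submodule.mem_bot K).1 (hbot ▸ ?_))).symm⟩
        exact ⟨U.sub_mem hy (U.smul_mem _ hv), by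
          show f v _ = 0
          rw [map_sub, map_smul, smul_eq_mul, div_mul_cancel₀ _ hvv, sub_self]⟩
      obtain ⟨c, hc⟩ := hspan _ (hmemU v hv)
      have h3 := hM t ht v v
      rw [← hc, map_smul, LinearMap.map_smul₂, smul_eq_mul, smul_eq_mul, ← mul_assoc] at h3
      have h4 := fix_of_neg h2 M hodd ht hc.symm (mul_right_cancel₀ hvv (h3.trans (one_mul _).symm))
      refine hext fun y hy => ?_
      obtain ⟨d, rfl⟩ := hspan y hy
      rw [map_smul, h4]
    · -- a plane rotation
      obtain rfl : k = 2 := by omega
      obtain ⟨v, hv, hvv⟩ := exists_aniso_mem h2 hs hU (by omega)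
      obtain ⟨h1, h1'⟩ := perp_step hs hU hv hvv
      obtain ⟨w, hw, hww⟩ := exists_aniso_mem h2 hs h1 (by omega)
      have hvw : f v w = 0 := hw.2
      have hbot : ∀ y ∈ U, y = (f v y / f v v) • v + (f w y / f w w) • w := fun y hy => by
        obtain ⟨h3, h3'⟩ := perp_step hs h1 hw hww
        have hb := Submodule.finrank_eq_zero.1 (show Module.finrank K ↥(U ⊓ LinearMap.ker (f v) ⊓ LinearMap.ker (f w)) = 0 by omega)
        have h5 : y - (f v y / f v v) • v - (f w y / f w w) • w ∈ U ⊓ LinearMap.ker (f v) ⊓ LinearMap.ker (f w) := by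
          refine ⟨⟨U.sub_mem (U.sub_mem hy (U.smul_mem _ hv)) (U.smul_mem _ hw.1), ?_⟩, ?_⟩
          · show f v _ = 0
            rw [map_sub, map_sub, map_smul, map_smul, hvw, smul_zero, sub_zero, smul_eq_mul, div_mul_cancel₀ _ hvv, sub_self]
          · show f w _ = 0
            rw [map_sub, map_sub, map_smul, map_smul, hs w v, hvw, smul_zero, sub_zero, smul_eq_mul,
              div_mul_cancel₀ _ hww, sub_self]
        rw [hb, Submodule.mem_bot, sub_sub, sub_eq_zero] at h5
        exact h5
      have ev := hbot _ (hmemU v hv)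
      have ew := hbot _ (hmemU w hw.1)
      set α := f v (t v) / f v v
      set β := f w (t v) / f w w
      set γ := f v (t w) / f v v
      set δ := f w (t w) / f w w
      have q1 : α * α * f v v + β * β * f w w = f v v := by
        have := hM t ht v v
        rw [ev] at this
        simp only [map_add, map_smul, LinearMap.add_apply, LinearMap.smul_apply, smul_eq_mul, hvw, hs w v] at this
        linear_combination this
      have q2 : γ * γ * f v v + δ * δ * f w w = f w w := by
        have := hM t ht w w
        rw [ew] at this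
        simp only [map_add, map_smul, LinearMap.add_apply, LinearMap.smul_apply, smul_eq_mul, hvw, hs w v] at this
        linear_combination this
      have q3 : α * γ * f v v + β * δ * f w w = 0 := by
        have := hM t ht v w
        rw [ev, ew, hvw] at this
        simp only [map_add, map_smul, LinearMap.add_apply, LinearMap.smul_apply, smul_eq_mul, hvw, hs w v] at this
        linear_combination this
      have hD : (α * δ - β * γ) * (α * δ - β * γ) = 1 := by
        refine mul_right_cancel₀ (mul_ne_zero hvv hww) ?_
        linear_combination (γ * γ * f v v + δ * δ * f w w) * q1 + f v v * q2 - (α * γ * f v v + β * δ * f w w) * q3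
      have hδ : δ = α := by
        rcases mul_self_eq_one_iff.1 hD with hd1 | hd1
        · refine mul_right_cancel₀ hvv ?_
          linear_combination α * f v v * hd1 - δ * q1 + β * q3
        · -- an improper involution
          have h5 : δ = -α := by
            refine mul_right_cancel₀ hvv ?_
            linear_combination α * f v v * hd1 - δ * q1 + β * q3
          have h6 : α * α + β * γ = 1 := by rw [h5] at hd1; linear_combination -hd1
          have h7 : β * (α + δ) = 0 ∧ γ * (α + δ) = 0 := by rw [h5]; simp
          have hsq : t * t = 1 := LinearEquiv.ext fun x => by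
            obtain ⟨y, hy, hz⟩ := hcompl x
            have hxy : x = y + (x - y) := by abel
            rw [LinearEquiv.mul_apply, LinearEquiv.coe_one, id_eq, hxy, map_add, map_add, hfix _ hz, hfix _ hz, hbot y hy]
            congr 1
            simp only [map_add, map_smul, ev, ew]
            rw [h5]
            match_scalars
            · linear_combination (f v y / f v v) * h6
            · linear_combination (f w y / f w w) * h6
          have h8 := eq_one_of_sq M hodd ht hsq
          have h9 : δ = 1 ∧ α = 1 := by
            simp only [δ, α, h8, LinearEquiv.coe_one, id_eq, div_self hvv, div_self hww, and_self]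
          exact h9.1.trans h9.2.symm
      have hγ : γ * f v v = -(β * f w w) := by
        by_cases hα : α = 0
        · have hb0 : β ≠ 0 := fun e => hvv (by rw [← q1, hα, e]; ring)
          have hd1 : (β * γ) * (β * γ) = 1 := by rw [hδ, hα] at hD; linear_combination hD
          rcases mul_self_eq_one_iff.1 hd1 with h4 | h4
          · -- again an involution
            exfalso
            have hsq : t * t = 1 := LinearEquiv.ext fun x => by
              obtain ⟨y, hy, hz⟩ := hcompl x
              have hxy : x = y + (x - y) := by abel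
              rw [LinearEquiv.mul_apply, LinearEquiv.coe_one, id_eq, hxy, map_add, map_add, hfix _ hz, hfix _ hz, hbot y hy]
              congr 1
              simp only [map_add, map_smul, ev, ew, hδ, hα]
              match_scalars
              · linear_combination (f v y / f v v) * h4
              · linear_combination (f w y / f w w) * h4
            have h8 := eq_one_of_sq M hodd ht hsq
            have h9 : α = 1 := by simp only [α, h8, LinearEquiv.coe_one, id_eq, div_self hvv]
            exact one_ne_zero (h9.symm.trans hα)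
          · refine mul_left_cancel₀ hb0 ?_
            rw [hα] at q1
            linear_combination f v v * h4 + q1
        · refine mul_left_cancel₀ hα ?_
          rw [hδ] at q3
          linear_combination q3
      have hself : ∀ u ∈ U, f u (t u) = α * f u u := fun u hu => by
        rw [hbot u hu]
        set p := f v u / f v v
        set q := f w u / f w w
        simp only [map_add, map_smul, ev, ew, LinearMap.add_apply, LinearMap.smul_apply, smul_eq_mul, hvw, hs w v, hδ]
        linear_combination p * q * hγ
      by_cases hα1 : α = 1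
      · have hb0 : β = 0 := by
          rw [hα1] at q1
          exact mul_self_eq_zero.1 ((mul_eq_zero.1 (show β * β * f w w = 0 by linear_combination q1)).resolve_right hww)
        have hg0 : γ = 0 := by
          rw [hb0, zero_mul, neg_zero] at hγ
          exact (mul_eq_zero.1 hγ).resolve_right hvv
        refine hext fun y hy => ?_
        rw [hbot y hy]
        simp only [map_add, map_smul, ev, ew, hδ, hα1, hb0, hg0, one_smul, zero_smul, add_zero, zero_add]
      by_cases hα0 : α = 0
      · have hsq : t * t * (t * t) = 1 := LinearEquiv.ext fun x => by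
          obtain ⟨y, hy, hz⟩ := hcompl x
          have hxy : x = y + (x - y) := by abel
          have hbg : β * γ * f v v = -f v v := by
            rw [hα0] at q1
            linear_combination β * hγ - q1
          have hbg' : β * γ = -1 := mul_right_cancel₀ hvv (by rw [hbg]; ring)
          simp only [LinearEquiv.mul_apply, LinearEquiv.coe_one, id_eq]
          rw [hxy]
          simp only [map_add, hfix _ hz]
          rw [hbot y hy]
          congr 1
          simp only [map_add, map_smul, ev, ew, hδ, hα0, zero_smul, add_zero, zero_add]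
          match_scalars
          · linear_combination (f v y / f v v) * (β * γ - 1) * hbg'
          · linear_combination (f w y / f w w) * (β * γ - 1) * hbg'
        have h8 := eq_one_of_sq M hodd (mul_mem ht ht) hsq
        exact eq_one_of_sq M hodd ht h8
      -- a vector orthogonal to its image
      have hα' : 1 - α ≠ 0 := sub_ne_zero.2 (Ne.symm hα1)
      set a₀ := ν⁻¹ / (1 - α)
      have ha₀ : a₀ ≠ 0 := div_ne_zero (inv_ne_zero hν) hα'
      have hperp : Nd f (perp f U) ∧ Module.finrank K (perp f U) + 2 = Module.finrank K V := by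
        refine ⟨fun x hx hxy => hN x fun y => ?_, ?_⟩
        · obtain ⟨u, hu, hz⟩ := hcompl y
          rw [show y = u + (y - u) by abel, map_add, hxy _ hz, add_zero, hs]
          exact hx u hu
        · have hsup : U ⊔ perp f U = ⊤ := eq_top_iff.2 fun x _ => by
            obtain ⟨u, hu, hz⟩ := hcompl x
            rw [show x = u + (x - u) by abel]
            exact Submodule.add_mem_sup hu hz
          have hinf : U ⊓ perp f U = ⊥ := (Submodule.eq_bot_iff _).2 fun x hx =>
            hU x hx.1 fun y hy => (hs x y).trans (hx.2 y hy)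
          have h4 := Submodule.finrank_sup_add_finrank_inf_eq U (perp f U)
          rw [hsup, hinf, finrank_top, finrank_bot, hk] at h4
          omega
      obtain ⟨u, hu, e, he, hsum, hcls⟩ : ∃ u ∈ U, ∃ e ∈ perp f U, f e e + α * f u u = 0 ∧
          (f e e + f u u ≠ 0 ∧ (Module.finrank K V = 3 ∨ IsSquare (ν * (f e e + f u u)))) := by
        rcases Nat.lt_or_ge (Module.finrank K V) 4 with h4 | h4
        · obtain ⟨e, he, hee⟩ := exists_aniso_mem h2 hs hperp.1 (by omega)
          obtain ⟨u, hu, huu⟩ := exists_value h2 hs hU (by omega) (a := -f e e / α) (div_ne_zero (neg_ne_zero.2 hee) hα0)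
          refine ⟨u, hu, e, he, by rw [huu, mul_div_cancel₀ _ hα0]; ring, ?_, Or.inl (by omega)⟩
          rw [huu]
          intro h0
          field_simp at h0
          exact hα' (mul_right_cancel₀ hee (by linear_combination -h0))
        · obtain ⟨u, hu, huu⟩ := exists_value h2 hs hU (by omega) ha₀
          obtain ⟨e, he, hee⟩ := exists_value h2 hs hperp.1 (by omega) (a := -(α * a₀)) (neg_ne_zero.2 (mul_ne_zero hα0 ha₀))
          have e1 : f e e + f u u = ν⁻¹ := by
            rw [hee, huu]
            simp only [a₀]
            field_simp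
            ring
          exact ⟨u, hu, e, he, by rw [hee, huu]; ring, by rw [e1]; exact inv_ne_zero hν,
            Or.inr (by rw [e1, mul_inv_cancel₀ hν]; exact IsSquare.one)⟩
      set x := e + u
      have hxx : f x x = f e e + f u u := by
        simp only [x, map_add, LinearMap.add_apply, hs e u, he u hu]; ring
      have hxt : f x (t x) = 0 := by
        simp only [x, map_add, LinearMap.add_apply, hfix e he, hs e (t u), he _ (hmemU u hu), he u hu, hself u hu]
        linear_combination hsum
      have hx0 : f x x ≠ 0 := by rw [hxx]; exact hcls.1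
      set R := rfl' f x hx0
      have hmem : R * t * R * t⁻¹ ∈ M := mul_mem (hnorm x hx0 (by rw [hxx]; exact hcls.2) t ht) (inv_mem ht)
      have htx : f (t x) (t x) ≠ 0 := by rw [hM t ht]; exact hx0
      have hconj : t * R * t⁻¹ = rfl' f (t x) htx := by
        refine LinearEquiv.ext fun z => ?_
        obtain ⟨y, rfl⟩ := t.surjective z
        rw [LinearEquiv.mul_apply, LinearEquiv.mul_apply, show t⁻¹ (t y) = y from t.symm_apply_apply y, rfl'_apply,
          rfl'_apply, map_sub, map_smul, hM t ht, hM t ht]
      have hprod : R * t * R * t⁻¹ = R * rfl' f (t x) htx := by rw [← hconj]; simp only [mul_assoc]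
      have hinv : (R * rfl' f (t x) htx) * (R * rfl' f (t x) htx) = 1 := LinearEquiv.ext fun z => by
        simp only [LinearEquiv.mul_apply, LinearEquiv.coe_one, id_eq, R, rfl'_apply, map_sub, map_smul, smul_eq_mul,
          hxt, hs (t x) x, hM t ht]
        match_scalars <;> field_simp <;> ring
      have h8 := eq_one_of_sq M hodd hmem (by rw [hprod]; exact hinv)
      rw [hprod] at h8
      have h9 := LinearEquiv.congr_fun h8 x
      rw [LinearEquiv.mul_apply, rfl'_fix (t x) htx (by rw [hs]; exact hxt), rfl'_self, LinearEquiv.coe_one, id_eq] at h9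
      have h10 : (2 : K) • x = 0 := by rw [two_smul]; exact eq_neg_iff_add_eq_zero.1 h9.symm
      exact absurd (by rw [(smul_eq_zero.1 h10).resolve_left h2, map_zero]) hx0

include h2 hs hN hodd hM hν hd hnorm in
/-- A group of odd order normalised by the reflections of one class is trivial. -/
theorem eq_bot : M = ⊥ := by
  refine (Subgroup.eq_bot_iff_forall _).2 fun t ht =>
    fixed_aux h2 hs hN M hodd hM ν hν hd hnorm _ ⊤ rfl (fun x _ h => hN x fun y => h y trivial) t ht fun x hx => ?_
  have : x = 0 := hN x fun y => (hs x y).trans (hx y trivial)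
  rw [this, map_zero]

end Trivial

include h2 hs in
/-- An additive map preserving every anisotropic line is a homothety. -/
theorem homothety (hN : ∀ x, (∀ y, f x y = 0) → x = 0) (hd : 3 ≤ Module.finrank K V) {X : Type*} [AddCommGroup X]
    [Module K X] {j : V →ₗ[K] X} (hj : Function.Injective j) {g : V → X}
    (hadd : ∀ x y, g (x + y) = g x + g y) (hline : ∀ x, f x x ≠ 0 → ∃ c : K, g x = c • j x) :
    ∃ c : K, ∀ x, g x = c • j x := by
  have hch : ringChar K ≠ 2 := fun hc => h2 (by
    haveI : CharP K 2 := hc ▸ ringChar.charP K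
    exact_mod_cast CharP.cast_eq_zero K 2)
  obtain ⟨ν, hν⟩ := FiniteField.exists_nonsquare (F := K) hch
  have hν0 : ν ≠ 0 := fun e => hν (e ▸ IsSquare.zero)
  have hT : Nd f (⊤ : Submodule K V) := fun x _ h => hN x fun y => h y trivial
  have hdT : Module.finrank K (⊤ : Submodule K V) = Module.finrank K V := finrank_top K V
  have hg0 : g 0 = 0 := by simpa using hadd 0 0
  choose! c hc using hline
  have hpair : ∀ x y, f x x ≠ 0 → f y y ≠ 0 → f (x + y) (x + y) ≠ 0 → (∀ a b : K, a • x + b • y = 0 → a = 0 ∧ b = 0) →
      c x = c y := by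
    intro x y hx hy hxy hind
    have e := hadd x y
    rw [hc _ hxy, hc _ hx, hc _ hy, map_add, smul_add] at e
    obtain ⟨e1, e2⟩ := hind (c (x + y) - c x) (c (x + y) - c y) (hj (by
      rw [map_zero, map_add, map_smul, map_smul]; linear_combination (norm := module) e))
    exact (sub_eq_zero.1 e1).symm.trans (sub_eq_zero.1 e2)
  have hsmul : ∀ x, f x x ≠ 0 → ∀ a : K, g (a • x) = c x • j (a • x) := by
    intro x hx a
    obtain ⟨h1, h1'⟩ := perp_step hs hT (Submodule.mem_top (x := x)) hx
    obtain ⟨y, hy, hyy⟩ := exists_value h2 hs h1 (by omega) (a := -(ν * f x x)) (neg_ne_zero.2 (mul_ne_zero hν0 hx))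
    have hxy : f x y = 0 := hy.2
    have hy0 : f y y ≠ 0 := by rw [hyy]; exact neg_ne_zero.2 (mul_ne_zero hν0 hx)
    have hval : ∀ p q : K, (p ≠ 0 ∨ q ≠ 0) → f (p • x + q • y) (p • x + q • y) ≠ 0 := by
      intro p q hpq h0
      simp only [map_add, map_smul, LinearMap.add_apply, LinearMap.smul_apply, smul_eq_mul, hxy, hs y x, hyy] at h0
      have h3 : p * p = ν * (q * q) := mul_right_cancel₀ hx (by linear_combination h0)
      by_cases hq : q = 0
      · rw [hq, mul_zero, mul_zero] at h3
        exact hpq.elim (fun h => h (mul_self_eq_zero.1 h3)) (fun h => h hq)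
      · exact hν ⟨p / q, by field_simp; linear_combination -h3⟩
    have hind : ∀ p q : K, p ≠ 0 → q ≠ 0 → ∀ a b : K, a • p • x + b • q • y = 0 → a = 0 ∧ b = 0 := by
      intro p q hp hq a b h0
      have h3 := congrArg (f x) h0
      have h4 := congrArg (f y) h0
      simp only [map_add, map_smul, smul_eq_mul, hxy, hs y x, hyy, map_zero] at h3 h4
      constructor
      · exact (mul_eq_zero.1 (show a * (p * f x x) = 0 by linear_combination h3)).resolve_right (mul_ne_zero hp hx)
      · exact (mul_eq_zero.1 (show b * (q * -(ν * f x x)) = 0 by linear_combination h4)).resolve_right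
          (mul_ne_zero hq (neg_ne_zero.2 (mul_ne_zero hν0 hx)))
    by_cases ha : a = 0
    · rw [ha, zero_smul, hg0, map_zero, smul_zero]
    rw [hc _ (by simpa using hval a 0 (Or.inl ha))]
    congr 1
    have e1 := hpair (a • x) y (by simpa using hval a 0 (Or.inl ha)) hy0
      (by simpa using hval a 1 (Or.inl ha)) (by simpa using hind a 1 ha one_ne_zero)
    have e2 := hpair x y hx hy0 (by simpa using hval 1 1 (Or.inl one_ne_zero))
      (by simpa using hind 1 1 one_ne_zero one_ne_zero)
    exact e1.trans e2.symm
  have horth : ∀ x y, f x x ≠ 0 → f y y ≠ 0 → f x y = 0 → c x = c y := by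
    have hind : ∀ x y, f x x ≠ 0 → f y y ≠ 0 → f x y = 0 → ∀ a b : K, a • x + b • y = 0 → a = 0 ∧ b = 0 := by
      intro x y hx hy hxy a b h0
      have h3 := congrArg (f x) h0
      have h4 := congrArg (f y) h0
      simp only [map_add, map_smul, smul_eq_mul, hxy, hs y x, mul_zero, map_zero, add_zero, zero_add] at h3 h4
      exact ⟨(mul_eq_zero.1 h3).resolve_right hx, (mul_eq_zero.1 h4).resolve_right hy⟩
    intro x y hx hy hxy
    by_cases hsum : f x x + f y y = 0
    swap
    · exact hpair x y hx hy (by simpa [map_add, hxy, hs y x] using hsum) (hind x y hx hy hxy)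
    obtain ⟨h1, h1'⟩ := perp_step hs hT (Submodule.mem_top (x := x)) hx
    obtain ⟨h3, h3'⟩ := perp_step hs h1 (v := y) ⟨trivial, hxy⟩ hy
    obtain ⟨e, he, hee0⟩ := exists_aniso_mem h2 hs h3 (by omega)
    have hxe : f x e = 0 := he.1.2
    have hye : f y e = 0 := he.2
    by_cases hxe2 : f x x + f e e = 0
    · -- then `y + e` separates
      have hye2 : f y y + f e e ≠ 0 := fun h0 => hx (mul_left_cancel₀ h2 (by linear_combination hsum + hxe2 - h0))
      have ee : c y = c e := hpair y e hy hee0 (by simpa [map_add, hye, hs e y] using hye2) (hind y e hy hee0 hye)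
      have hz : f (y + e) (y + e) ≠ 0 := by simpa [map_add, hye, hs e y] using hye2
      have e1 : c (y + e) = c y := by
        have e := hadd y e
        rw [hc _ hz, hc _ hy, hc _ hee0, ← ee, ← smul_add, ← map_add] at e
        exact smul_left_injective K (fun h0 => hz (by rw [hj (h0.trans (map_zero j).symm), map_zero])) e
      have e2 : c x = c (y + e) := hpair x (y + e) hx hz (by
        simp only [map_add, LinearMap.add_apply, hxy, hxe, hye, hs y x, hs e x, hs e y]
        intro h0
        exact hx (by linear_combination hsum + hxe2 - h0)) (hind x (y + e) hx hz (by rw [map_add, hxy, hxe, add_zero]))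
      exact e2.trans e1
    · have hye2 : c x = c e := hpair x e hx hee0 (by simpa [map_add, hxe, hs e x] using hxe2) (hind x e hx hee0 hxe)
      by_cases hye3 : f y y + f e e = 0
      · have hz : f (x + e) (x + e) ≠ 0 := by simpa [map_add, hxe, hs e x] using hxe2
        have e1 : c (x + e) = c x := by
          have e := hadd x e
          rw [hc _ hz, hc _ hx, hc _ hee0, ← hye2, ← smul_add, ← map_add] at e
          exact smul_left_injective K (fun h0 => hz (by rw [hj (h0.trans (map_zero j).symm), map_zero])) e
        have e2 : c y = c (x + e) := hpair y (x + e) hy hz (by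
          simp only [map_add, LinearMap.add_apply, hxy, hxe, hye, hs y x, hs e x, hs e y]
          intro h0
          exact hy (by linear_combination hsum + hye3 - h0)) (hind y (x + e) hy hz (by rw [map_add, hs y x, hxy, hye, add_zero]))
        exact (e2.trans e1).symm
      · exact hye2.trans (hpair y e hy hee0 (by simpa [map_add, hye, hs e y] using hye3) (hind y e hy hee0 hye)).symm
  obtain ⟨v, -, hv⟩ := exists_aniso_mem h2 hs hT (by omega)
  refine ⟨c v, ?_⟩
  have hperpv : ∀ k, ∀ U : Submodule K V, Module.finrank K U = k → Nd f U → (∀ x ∈ U, f v x = 0) →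
      ∀ x ∈ U, g x = c v • j x := by
    intro k
    induction k using Nat.strong_induction_on with
    | _ k ih =>
      intro U hk hU hUv x hx
      rcases Nat.eq_zero_or_pos k with h0 | h0
      · have : x = 0 := (Submodule.eq_bot_iff U).1 (Submodule.finrank_eq_zero.1 (hk.trans h0)) x hx
        rw [this, hg0, map_zero, smul_zero]
      obtain ⟨e, he, hee⟩ := exists_aniso_mem h2 hs hU (by omega)
      obtain ⟨h1, h1'⟩ := perp_step hs hU he hee
      set t := f e x / f e e with ht
      have hx' : x - t • e ∈ U ⊓ LinearMap.ker (f e) := ⟨U.sub_mem hx (U.smul_mem _ he), by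
        show f e _ = 0
        rw [map_sub, map_smul, smul_eq_mul, ht, div_mul_cancel₀ _ hee, sub_self]⟩
      have e1 := ih _ (by omega) _ rfl h1 (fun y hy => hUv y hy.1) _ hx'
      have e2 := hsmul e hee t
      rw [horth e v hee hv (by rw [hs]; exact hUv e he)] at e2
      calc g x = g (t • e + (x - t • e)) := by rw [add_sub_cancel]
        _ = c v • j (t • e) + c v • j (x - t • e) := by rw [hadd, e1, e2]
        _ = c v • j x := by rw [← smul_add, ← map_add, add_sub_cancel]
  obtain ⟨h1, -⟩ := perp_step hs hT (Submodule.mem_top (x := v)) hv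
  intro x
  set t := f v x / f v v with ht
  have hx' : x - t • v ∈ (⊤ : Submodule K V) ⊓ LinearMap.ker (f v) := ⟨trivial, by
    show f v _ = 0
    rw [map_sub, map_smul, smul_eq_mul, ht, div_mul_cancel₀ _ hv, sub_self]⟩
  calc g x = g (t • v + (x - t • v)) := by rw [add_sub_cancel]
    _ = c v • j (t • v) + c v • j (x - t • v) := by
        rw [hadd, hsmul v hv t, hperpv _ _ rfl h1 (fun y hy => hy.2) _ hx']
    _ = c v • j x := by rw [← smul_add, ← map_add, add_sub_cancel]

end CfsgLib.OrthAut.Bil
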