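import Cfsg.Agent.Lib.OrthAut.FieldOddCent
import Cfsg.Agent.Lib.ClassicalAut.SympBalance
import Cfsg.Agent.Lib.Classical.OrthSimple

/-!
The rational subgroup of a field automorphism of an orthogonal group: rigidity and local balance.
-/

set_option autoImplicit false
set_option linter.unusedSectionVars false

namespace CfsgLib.OrthAut

open Matrix CfsgLib.Orth CfsgLib.AutPSL
open CfsgLib.ClassicalAut (scal scal_coe)

universe u

variable {F : Type u} [Field F] [Fintype F] {ι : Type} [Fintype ι] [DecidableEq ι]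
variable {Q : QuadraticForm F (ι → F)} {σ : F ≃+* F}
variable {Q₀ : QuadraticForm (fixedField σ) (ι → fixedField σ)}

/-- An entrywise field automorphism as a semisimilarity. -/
def fldS (Q : QuadraticForm F (ι → F)) (σ : F ≃+* F) (hmap : ∀ v, Q (fun i => σ (v i)) = σ (Q v)) : semi Q :=
  ⟨⟨1, σ⟩, 1, fun v => by simpa using hmap v⟩

theorem onGrp_fldS (hmap : ∀ v, Q (fun i => σ (v i)) = σ (Q v)) (g : Grp Q) :
    ((onGrp Q (fldS Q σ hmap) g : Grp Q) : GL ι F) = entryAct F ι σ g := by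
  rw [onGrp_coe]
  show (1 : GL ι F) * entryAct F ι σ g * 1⁻¹ = _
  rw [one_mul, inv_one, mul_one]

section Descent

variable (hQ₀ : ∀ x, Q (emb _ x) = ((Q₀ x : fixedField σ) : F))

include hQ₀

theorem b_emb (x y : ι → fixedField σ) :
    QuadraticMap.polar Q (emb _ x) (emb _ y) = ((QuadraticMap.polar Q₀ x y : fixedField σ) : F) := by
  simp only [QuadraticMap.polar, ← emb_add, hQ₀]
  push_cast
  rfl

/-- A rational isometry, read over `F`. -/
def liftGrp : Grp Q₀ →* Grp Q :=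
  MonoidHom.codRestrict ((Units.map (fixedField σ).subtype.mapMatrix.toMonoidHom).comp
    (Cfsg.isometryGroup (fixedField σ) ⇑Q₀).subtype) _ fun g => by
      have key : pull Q (((g : GL ι (fixedField σ)) : Matrix ι ι (fixedField σ)).map (fun z : fixedField σ => (z : F))) = Q :=
        ext_emb (fixedField σ) fun x => by
          rw [pull_apply, ← emb_mulVec, hQ₀, hQ₀]
          exact congrArg Subtype.val (ap_q g x)
      intro v _
      exact DFunLike.congr_fun key v

theorem ap_lift (g : Grp Q₀) (x : ι → fixedField σ) : ap (liftGrp hQ₀ g) (emb _ x) = emb _ (ap g x) :=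
  (emb_mulVec _ _ x).symm

theorem lift_entry (g : Grp Q₀) :
    entryAct F ι σ ((liftGrp hQ₀ g : Grp Q) : GL ι F) = ((liftGrp hQ₀ g : Grp Q) : GL ι F) :=
  Units.ext (Matrix.ext fun i j => (((g : GL ι (fixedField σ)) : Matrix ι ι (fixedField σ)) i j).2)

theorem lift_injective : Function.Injective (liftGrp hQ₀) := fun g g' e => by
  refine Subtype.ext (Units.ext (Matrix.ext fun i j => Subtype.ext ?_))
  exact congrArg (fun z : Grp Q => ((z : GL ι F) : Matrix ι ι F) i j) e

theorem exists_unlift {t : Grp Q} (ht : entryAct F ι σ (t : GL ι F) = t) : ∃ g, liftGrp hQ₀ g = t := by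
  let M : Matrix ι ι (fixedField σ) := fun i j => ⟨((t : GL ι F) : Matrix ι ι F) i j,
    congrFun (congrFun (congrArg (fun z : GL ι F => (z : Matrix ι ι F)) ht) i) j⟩
  have hmap : M.map (fun z : fixedField σ => (z : F)) = ((t : GL ι F) : Matrix ι ι F) := rfl
  have hdet : M.det ≠ 0 := fun h0 => by
    apply ((Matrix.isUnit_iff_isUnit_det _).1 (t : GL ι F).isUnit).ne_zero
    rw [← hmap, show (fun z : fixedField σ => (z : F)) = ⇑(fixedField σ).subtype from rfl,
      ← RingHom.mapMatrix_apply, ← RingHom.map_det, h0, map_zero]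
  let u : GL ι (fixedField σ) := Matrix.GeneralLinearGroup.mkOfDetNeZero M hdet
  refine ⟨⟨u, fun x _ => ?_⟩, Subtype.ext (Units.ext hmap)⟩
  show Q₀ (M *ᵥ x) = Q₀ x
  refine Subtype.ext ?_
  rw [← hQ₀, ← hQ₀, emb_mulVec, hmap]
  exact ap_q t _

theorem lift_siegel {u v : ι → fixedField σ} {g : Grp Q₀} (hg : IsSiegel u v g) :
    IsSiegel (emb _ u) (emb _ v) (liftGrp hQ₀ g) := by
  refine ⟨by rw [hQ₀, hg.1]; rfl, by rw [b_emb hQ₀, hg.2.1]; rfl, fun x => ?_⟩
  let L : (ι → F) →ₗ[F] (ι → F) := (((liftGrp hQ₀ g : Grp Q) : GL ι F) : Matrix ι ι F).mulVecLin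
  let L' : (ι → F) →ₗ[F] (ι → F) :=
    LinearMap.id + ((QuadraticMap.polarBilin Q).flip (emb _ u)).smulRight (emb _ v) -
      ((QuadraticMap.polarBilin Q).flip (emb _ v)).smulRight (emb _ u) -
      (Q (emb _ v) • (QuadraticMap.polarBilin Q).flip (emb _ u)).smulRight (emb _ u)
  suffices L = L' from LinearMap.congr_fun this x
  refine (Pi.basisFun F ι).ext fun i => ?_
  rw [Pi.basisFun_apply, ← emb_single (fixedField σ) i]
  show ap (liftGrp hQ₀ g) (emb _ (Pi.single i 1)) = emb _ (Pi.single i 1) +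
    QuadraticMap.polar Q (emb _ (Pi.single i 1)) (emb _ u) • emb _ v -
    QuadraticMap.polar Q (emb _ (Pi.single i 1)) (emb _ v) • emb _ u -
    (Q (emb _ v) * QuadraticMap.polar Q (emb _ (Pi.single i 1)) (emb _ u)) • emb _ u
  rw [ap_lift hQ₀, hg.2.2, b_emb hQ₀, b_emb hQ₀, hQ₀]
  funext j
  simp [emb]

/-- The rational elements of `PΩ`. -/
def ratHom : Cfsg.Omega (fixedField σ) ⇑Q₀ →* Cfsg.POmega F ⇑Q :=
  (prj Q).comp (MonoidHom.codRestrict ((liftGrp hQ₀).comp (Cfsg.Omega (fixedField σ) ⇑Q₀).subtype) _ fun g => by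
    have h1 : (Cfsg.Omega (fixedField σ) ⇑Q₀).map (liftGrp hQ₀) ≤ Cfsg.Omega F ⇑Q := by
      show (commutator _).map _ ≤ commutator _
      rw [commutator_def, Subgroup.map_commutator]
      exact Subgroup.commutator_mono le_top le_top
    exact h1 ⟨g, g.2, rfl⟩)

theorem rat_fixed (hmap : ∀ v, Q (fun i => σ (v i)) = σ (Q v)) (g : Cfsg.Omega (fixedField σ) ⇑Q₀) :
    psi Q (fldS Q σ hmap) (ratHom hQ₀ g) = ratHom hQ₀ g := by
  refine (psi_mk _ _).trans (congrArg (prj Q) (Subtype.ext (Subtype.ext ?_)))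
  rw [onOmega_coe, onGrp_fldS]
  exact lift_entry hQ₀ _

/-- An element fixing the rational Siegel elements commutes with them. -/
theorem sv_commute (h : Fine Q) (h₀ : Fine Q₀) {x : semi Q} (hfix : ∀ g, psi Q x (ratHom hQ₀ g) = ratHom hQ₀ g)
    {u v : ι → fixedField σ} (hu : Q₀ u = 0) (huv : QuadraticMap.polar Q₀ u v = 0) :
    ∃ s : Grp Q, IsSiegel (emb _ u) (emb _ v) s ∧
      ∀ z, sv (x : Semilin F ι) (ap s z) = ap s (sv (x : Semilin F ι) z) := by
  obtain ⟨p, _⟩ := CharP.exists F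
  haveI : Fact p.Prime := ⟨CharP.char_is_prime F p⟩
  obtain ⟨s₀, hs₀⟩ := exists_siegel h₀.nondeg hu huv
  have hmem : s₀ ∈ Cfsg.Omega (fixedField σ) ⇑Q₀ := by
    rw [omega_eq_El h₀.nondeg h₀.five]; exact siegel_mem_El hs₀
  have hs := lift_siegel hQ₀ hs₀
  refine ⟨_, hs, ?_⟩
  obtain ⟨t, ht⟩ : ∃ t : Cfsg.Omega F ⇑Q, prj Q t = ratHom hQ₀ ⟨s₀, hmem⟩ ∧ (t : Grp Q) = liftGrp hQ₀ s₀ :=
    ⟨_, rfl, rfl⟩
  obtain ⟨ht1, ht2⟩ := ht
  have hp : t ^ p = 1 := sieg_pow_char (u := emb _ u) (by rw [hQ₀, hu]; rfl) p ⟨emb _ v, ht2 ▸ hs⟩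
  have he := hfix ⟨s₀, hmem⟩
  rw [← ht1, psi_mk] at he
  have hc : t⁻¹ * onOmega Q x t ∈ Subgroup.center (Cfsg.Omega F ⇑Q) := QuotientGroup.eq.1 he.symm
  obtain ⟨a, ha⟩ := center_scalar h.nondeg h.five hc
  have h1 : ∀ z, sv (x : Semilin F ι) (ap (t : Grp Q) z) = a • ap (t : Grp Q) (sv (x : Semilin F ι) z) := fun z => by
    rw [← ap_onGrp, ← onOmega_coe, show onOmega Q x t = t * (t⁻¹ * onOmega Q x t) by rw [mul_inv_cancel_left],
      Subgroup.coe_mul, ap_mul, ha, ap_smul]
  have hxa : ∀ k : ℕ, ∀ z, ∃ b : F, b = a ^ k ∧ sv (x : Semilin F ι) (ap ((t : Grp Q) ^ k) z) =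
      b • ap ((t : Grp Q) ^ k) (sv (x : Semilin F ι) z) := by
    intro k
    induction k with
    | zero => exact fun z => ⟨1, (pow_zero a).symm, by rw [pow_zero, ap_one, ap_one, one_smul]⟩
    | succ k ih =>
      intro z
      obtain ⟨b, hb, e⟩ := ih (ap (t : Grp Q) z)
      refine ⟨b * a, by rw [hb, pow_succ], ?_⟩
      rw [pow_succ, ap_mul, ap_mul, e, h1, ap_smul, smul_smul]
  obtain ⟨z, hz⟩ := exists_aniso h.nondeg (le_trans (by norm_num) h.five)
  have hz0 : sv (x : Semilin F ι) z ≠ 0 := fun e => hz (by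
    obtain ⟨c, hcx⟩ := mem_semi.1 x.2
    have h2 := hcx z
    rw [e, QuadraticMap.map_zero, eq_comm, mul_eq_zero] at h2
    exact (_root_.map_eq_zero _).1 (h2.resolve_left c.ne_zero))
  have ha1 : a = 1 := by
    obtain ⟨b, hb, e⟩ := hxa p z
    rw [show (t : Grp Q) ^ p = 1 from congrArg Subtype.val hp, ap_one, ap_one] at e
    have h2 : b = 1 := smul_left_injective F hz0 (e.symm.trans (one_smul F _).symm)
    refine frobenius_inj F p ?_
    rw [frobenius_def, frobenius_def, one_pow, ← hb, h2]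
  intro y
  rw [← ht2, h1, ha1, one_smul]

/-- The field part fixes the fixed field. -/
theorem right_fix (h : Fine Q) (h₀ : Fine Q₀) {x : semi Q} (hfix : ∀ g, psi Q x (ratHom hQ₀ g) = ratHom hQ₀ g)
    {c : F} (hc : σ c = c) : (x : Semilin F ι).right c = c := by
  obtain ⟨u, hu, hu0⟩ := exists_nonzero_singular (Q := Q₀) h₀.five
  obtain ⟨f, hf, huf⟩ := exists_partner h₀.nondeg hu hu0
  obtain ⟨a, b, ha, hb, hab, hua, hub, hfa, hfb⟩ := exists_pair_orth h₀.nondeg hu hf huf h₀.five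
  have ha0 : a ≠ 0 := ne_zero_of_b (Q := Q₀) (y := b) (by rw [hab]; exact one_ne_zero)
  set U := emb (fixedField σ) u
  set A := emb (fixedField σ) a
  set Z := emb (fixedField σ) f
  let N : (ι → F) → (ι → F) := fun z => QuadraticMap.polar Q z U • A - QuadraticMap.polar Q z A • U
  have hcomm : ∀ d : fixedField σ, ∀ z, (x : Semilin F ι).right (d : F) • sv (x : Semilin F ι) (N z) =
      (d : F) • N (sv (x : Semilin F ι) z) := by
    intro d z
    obtain ⟨s, hs, hsz⟩ := sv_commute hQ₀ h h₀ hfix hu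
      (show QuadraticMap.polar Q₀ u (d • a) = 0 by rw [b_smul_right, hua, mul_zero])
    have hQA : Q A = 0 := by rw [hQ₀, ha]; rfl
    have hap : ∀ y, ap s y = y + (d : F) • N y := fun y => by
      rw [hs.2.2, emb_smul, q_smul, hQA, mul_zero, zero_mul, zero_smul, sub_zero, b_smul_right]
      simp only [N]
      module
    have h1 := hsz z
    rw [hap, hap, sv_add, sv_smul] at h1
    exact add_left_cancel h1
  have hN : N Z = A := by
    simp only [N, U, A, Z, b_emb hQ₀, b_comm f u, huf, hfa]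
    simp
  have hne : sv (x : Semilin F ι) A ≠ 0 := fun e => ha0 (by
    have h1 : A = 0 := sv_inj (x : Semilin F ι) (e.trans (by
      simp [sv, show (fun _ : ι => (0 : F)) = 0 from rfl] : (0 : ι → F) = sv _ 0))
    funext i
    exact Subtype.ext (congrFun h1 i))
  have e1 := hcomm 1 Z
  rw [hN, OneMemClass.coe_one, map_one, one_smul, one_smul] at e1
  have e2 := hcomm ⟨c, hc⟩ Z
  rw [hN, ← e1] at e2
  exact smul_left_injective F hne e2

/-- A linear element fixing the rational elements is scalar. -/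
theorem scalar_of_fix (h : Fine Q) (h₀ : Fine Q₀) {x : semi Q} (hx1 : (x : Semilin F ι).right = 1)
    (hfix : ∀ g, psi Q x (ratHom hQ₀ g) = ratHom hQ₀ g) : psi Q x = 1 := by
  classical
  set M := ((x : Semilin F ι).left : Matrix ι ι F) with hMdef
  have hsv : ∀ z, sv (x : Semilin F ι) z = M *ᵥ z := fun z => by simp [sv, hx1, hMdef]
  set E := emb (fixedField σ) (ι := ι) with hE
  have hEadd : ∀ y z, E (y + z) = E y + E z := emb_add _
  -- the image of a Siegel displacement
  have hN : ∀ u v, Q₀ u = 0 → QuadraticMap.polar Q₀ u v = 0 → ∀ z,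
      M *ᵥ (QuadraticMap.polar Q (E z) (E u) • E v - QuadraticMap.polar Q (E z) (E v) • E u -
        (Q (E v) * QuadraticMap.polar Q (E z) (E u)) • E u) ∈ Submodule.span F {E u, E v} := by
    intro u v hu huv z
    obtain ⟨s, hs, hsz⟩ := sv_commute hQ₀ h h₀ hfix hu huv
    have h1 := hsz (E z)
    rw [hsv, hsv, hs.2.2, hs.2.2, add_sub_assoc, add_sub_assoc, add_sub_assoc, add_sub_assoc, mulVec_add] at h1
    rw [add_left_cancel h1]
    refine Submodule.mem_span_pair.2 ⟨-QuadraticMap.polar Q (M *ᵥ E z) (E v) -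
      Q (E v) * QuadraticMap.polar Q (M *ᵥ E z) (E u), QuadraticMap.polar Q (M *ᵥ E z) (E u), ?_⟩
    module
  have hline : ∀ u, Q₀ u = 0 → u ≠ 0 → ∃ l : F, M *ᵥ E u = l • E u := by
    intro u hu hu0
    obtain ⟨f, hf, huf⟩ := exists_partner h₀.nondeg hu hu0
    obtain ⟨a, b, ha, hb, hab, hua, hub, hfa, hfb⟩ := exists_pair_orth h₀.nondeg hu hf huf h₀.five
    have m1 : M *ᵥ E u ∈ Submodule.span F {E u, E a} := by
      have h1 := hN u a hu hua b
      simp only [hE, b_emb hQ₀, hQ₀, ha, b_comm b u, hub, b_comm b a, hab] at h1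
      simpa [mulVec_neg] using h1
    have m2 : M *ᵥ E u ∈ Submodule.span F {E u, E b} := by
      have h1 := hN u b hu hub a
      simp only [hE, b_emb hQ₀, hQ₀, hb, b_comm a u, hua, hab] at h1
      simpa [mulVec_neg] using h1
    obtain ⟨p₁, q₁, e₁⟩ := Submodule.mem_span_pair.1 m1
    obtain ⟨p₂, q₂, e₂⟩ := Submodule.mem_span_pair.1 m2
    have h3 := congrArg (fun y => QuadraticMap.polar Q y (E a)) (e₁.trans e₂.symm)
    simp only [hE, b_add_left, b_smul_left, b_emb hQ₀, hua, b_self_zero ha, b_comm b a, hab, ZeroMemClass.coe_zero,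
      OneMemClass.coe_one, mul_zero, mul_one, zero_add] at h3
    exact ⟨p₂, by rw [← e₂, ← h3, zero_smul, add_zero]⟩
  obtain ⟨u, hu, hu0⟩ := exists_nonzero_singular (Q := Q₀) h₀.five
  obtain ⟨f, hf, huf⟩ := exists_partner h₀.nondeg hu hu0
  have hf0 : f ≠ 0 := ne_zero_of_b (Q := Q₀) (y := u) (by rw [b_comm, huf]; exact one_ne_zero)
  obtain ⟨l, hl⟩ := hline u hu hu0
  obtain ⟨l', hl'⟩ := hline f hf hf0
  have hperp : ∀ w, QuadraticMap.polar Q₀ u w = 0 → QuadraticMap.polar Q₀ f w = 0 →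
      ∃ m : F, M *ᵥ E w = m • E w := by
    intro w huw hfw
    have m1 : M *ᵥ E w ∈ Submodule.span F {E u, E w} := by
      have h1 := hN u w hu huw f
      simp only [hE, b_emb hQ₀, hQ₀, b_comm f u, huf, hfw, OneMemClass.coe_one, ZeroMemClass.coe_zero, one_smul,
        zero_smul, sub_zero, mul_one] at h1
      rw [mulVec_sub, mulVec_smul, ← hE, hl, smul_smul] at h1
      exact (Submodule.sub_mem_iff_left (p := Submodule.span F {E u, E w}) (Submodule.smul_mem _ _ (Submodule.subset_span (Or.inl rfl)))).1 h1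
    have m2 : M *ᵥ E w ∈ Submodule.span F {E f, E w} := by
      have h1 := hN f w hf hfw u
      simp only [hE, b_emb hQ₀, hQ₀, huf, huw, OneMemClass.coe_one, ZeroMemClass.coe_zero, one_smul,
        zero_smul, sub_zero, mul_one] at h1
      rw [mulVec_sub, mulVec_smul, ← hE, hl', smul_smul] at h1
      exact (Submodule.sub_mem_iff_left (p := Submodule.span F {E f, E w}) (Submodule.smul_mem _ _ (Submodule.subset_span (Or.inl rfl)))).1 h1
    obtain ⟨p₁, q₁, e₁⟩ := Submodule.mem_span_pair.1 m1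
    obtain ⟨p₂, q₂, e₂⟩ := Submodule.mem_span_pair.1 m2
    have h3 := congrArg (fun y => QuadraticMap.polar Q y (E f)) (e₁.trans e₂.symm)
    simp only [hE, b_add_left, b_smul_left, b_emb hQ₀, huf, b_self_zero hf, b_comm w f, hfw, ZeroMemClass.coe_zero,
      OneMemClass.coe_one, mul_zero, mul_one, add_zero] at h3
    exact ⟨q₁, by rw [← e₁, h3, zero_smul, zero_add]⟩
  obtain ⟨a, b, ha, hb, hab, hua, hub, hfa, hfb⟩ := exists_pair_orth h₀.nondeg hu hf huf h₀.five
  have hpf : ∀ y, QuadraticMap.polar Q₀ u y = 0 → QuadraticMap.polar Q₀ f y = 0 →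
      Q₀ (u - Q₀ y • f + y) = 0 := fun y h1 h2 => by
    simp only [q_add, q_sub, q_smul, hu, hf, b_sub_left, b_smul_left, b_smul_right, huf, h1, h2]; ring
  have hll : l = l' ∧ ∀ w, QuadraticMap.polar Q₀ u w = 0 → QuadraticMap.polar Q₀ f w = 0 →
      M *ᵥ E w = l • E w := by
    have hgen : ∀ w, QuadraticMap.polar Q₀ u w = 0 → QuadraticMap.polar Q₀ f w = 0 →
        ((Q₀ w : fixedField σ) : F) * (l - l') = 0 ∧ M *ᵥ E w = l • E w := by
      intro w huw hfw
      set z := u - Q₀ w • f + w with hz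
      have hzf : QuadraticMap.polar Q₀ z f = 1 := by
        simp only [hz, b_add_left, b_sub_left, b_smul_left, huf, b_self_zero hf, b_comm w f, hfw]; ring
      have hz0 : z ≠ 0 := ne_zero_of_b (Q := Q₀) (y := f) (by rw [hzf]; exact one_ne_zero)
      obtain ⟨n, hn⟩ := hline z (hpf w huw hfw) hz0
      obtain ⟨m, hm⟩ := hperp w huw hfw
      have hEz : E z = E u - ((Q₀ w : fixedField σ) : F) • E f + E w := by
        funext i; simp [hE, hz, emb]
      rw [hEz, mulVec_add, mulVec_sub, mulVec_smul, hl, hl', hm] at hn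
      have k1 := congrArg (fun y => QuadraticMap.polar Q y (E f)) hn
      have k2 := congrArg (fun y => QuadraticMap.polar Q y (E u)) hn
      simp only [hE, b_add_left, b_sub_left, b_smul_left, b_emb hQ₀, huf, b_self_zero hf, b_self_zero hu,
        b_comm w f, b_comm w u, b_comm f u, hfw, huw, ZeroMemClass.coe_zero, OneMemClass.coe_one] at k1 k2
      have hnl : l = n := by linear_combination k1
      refine ⟨by rw [hnl]; linear_combination k2, ?_⟩
      by_cases hw0 : w = 0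
      · subst hw0
        rw [hm, show E (0 : ι → fixedField σ) = 0 from funext fun i => rfl, smul_zero, smul_zero]
      · rw [hm]
        congr 1
        have h4 : (m - n) • E w = 0 := by
          have h5 : ((Q₀ w : fixedField σ) : F) * l' = n * ((Q₀ w : fixedField σ) : F) := by linear_combination -k2
          rw [hnl, smul_smul, h5] at hn
          linear_combination (norm := module) hn
        have h6 : E w ≠ 0 := fun e => hw0 (funext fun i => Subtype.ext (congrFun e i))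
        exact (sub_eq_zero.1 ((smul_eq_zero.1 h4).resolve_right h6)).trans hnl.symm
    have hab1 : Q₀ (a + b) = 1 := by rw [q_add, ha, hb, hab, zero_add, zero_add]
    obtain ⟨h1, -⟩ := hgen (a + b) (by rw [b_add_right, hua, hub, add_zero]) (by rw [b_add_right, hfa, hfb, add_zero])
    rw [hab1, OneMemClass.coe_one, one_mul, sub_eq_zero] at h1
    exact ⟨h1, fun w h1 h2 => (hgen w h1 h2).2⟩
  obtain ⟨rfl, hw⟩ := hll
  have hall : ∀ y, M *ᵥ E y = l • E y := by
    intro y
    set w := y - QuadraticMap.polar Q₀ f y • u - QuadraticMap.polar Q₀ u y • f with hwy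
    have hwu : QuadraticMap.polar Q₀ u w = 0 := by
      simp only [hwy, b_sub_right, b_smul_right, b_self_zero hu, huf]; ring
    have hwf : QuadraticMap.polar Q₀ f w = 0 := by
      simp only [hwy, b_sub_right, b_smul_right, b_self_zero hf, b_comm f u, huf]; ring
    have hy : E y = ((QuadraticMap.polar Q₀ f y : fixedField σ) : F) • E u +
        ((QuadraticMap.polar Q₀ u y : fixedField σ) : F) • E f + E w := by
      funext i; simp [hE, hwy, emb]
    rw [hy, mulVec_add, mulVec_add, mulVec_smul, mulVec_smul, hl, hl', hw w hwu hwf]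
    module
  have hM : M = l • 1 := Matrix.ext_of_mulVec_single fun i => by
    rw [← emb_single (fixedField σ) i, smul_mulVec, one_mulVec]
    exact hall _
  obtain ⟨c, hc⟩ := mem_semi.1 x.2
  let g : Cfsg.Geo.quadSimilarityGroup ⇑Q := ⟨(x : Semilin F ι).left, c, fun v => by
    have h1 := hc v
    simp only [sv, hx1, RingAut.one_apply] at h1
    exact h1⟩
  rw [show x = simInc Q g from Subtype.ext (SemidirectProduct.ext rfl hx1), psi_simInc_eq_one_iff h]
  haveI : Nonempty ι := Fintype.card_pos_iff.1 (by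
    have := h.five; rw [Module.finrank_fintype_fun_eq_card] at this; omega)
  obtain ⟨i⟩ := ‹Nonempty ι›
  exact CfsgLib.ClassicalAut.exists_scal_of_smul (b := l) hM

/-- The centraliser of the rational elements. -/
theorem rigid (h : Fine Q) (h₀ : Fine Q₀) (hmap : ∀ v, Q (fun i => σ (v i)) = σ (Q v)) {x : semi Q}
    (hfix : ∀ g, psi Q x (ratHom hQ₀ g) = ratHom hQ₀ g) :
    psi Q x ∈ Subgroup.zpowers (psi Q (fldS Q σ hmap)) := by
  obtain ⟨k, hk⟩ := Subgroup.mem_zpowers_iff.1 (CfsgLib.ClassicalAut.Symp.fixedField_fix_mem σ _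
    fun c hc => right_fix hQ₀ h h₀ hfix hc)
  set φ := fldS Q σ hmap
  have hφk : ∀ g, psi Q (φ ^ k) (ratHom hQ₀ g) = ratHom hQ₀ g := fun g => by
    have : psi Q φ ∈ MulAction.stabilizer (MulAut (Cfsg.POmega F ⇑Q)) (ratHom hQ₀ g) := rat_fixed hQ₀ hmap g
    have h1 := Subgroup.zpow_mem _ this k
    rw [← map_zpow] at h1
    exact h1
  have hright : ((φ ^ k : semi Q) : Semilin F ι).right = σ ^ k := by
    rw [Subgroup.coe_zpow, SemidirectProduct.rightHom_eq_right.symm, map_zpow]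
    rfl
  have h1 := scalar_of_fix hQ₀ h h₀ (x := x * (φ ^ k)⁻¹) (by
    rw [Subgroup.coe_mul, Subgroup.coe_inv, SemidirectProduct.mul_right, SemidirectProduct.inv_right, hright, hk,
      mul_inv_cancel]) fun g => by
    rw [map_mul, map_inv, MulAut.mul_apply, show (psi Q (φ ^ k))⁻¹ (ratHom hQ₀ g) = ratHom hQ₀ g from
      (MulEquiv.symm_apply_eq _).2 (hφk g).symm, hfix]
  refine Subgroup.mem_zpowers_iff.2 ⟨k, ?_⟩
  rw [map_mul, map_inv, mul_inv_eq_one, map_zpow] at h1
  exact h1.symm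

theorem ker_ratHom (h : Fine Q) (h₀ : Fine Q₀) :
    (ratHom hQ₀).ker = Subgroup.center (Cfsg.Omega (fixedField σ) ⇑Q₀) := by
  ext g
  constructor
  · intro hg
    obtain ⟨a, ha⟩ := center_scalar h.nondeg h.five ((QuotientGroup.eq_one_iff _).1 hg)
    haveI : Nonempty ι := Fintype.card_pos_iff.1 (by
      have := h.five; rw [Module.finrank_fintype_fun_eq_card] at this; omega)
    obtain ⟨i⟩ := ‹Nonempty ι›
    refine mem_center_of_scalar (a := ap (g : Grp Q₀) (Pi.single i 1) i) fun x => funext fun j => Subtype.ext ?_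
    have e := fun y : ι → fixedField σ => ha (emb _ y)
    have h1 : ((ap (g : Grp Q₀) (Pi.single i 1) i : fixedField σ) : F) = a := by
      have h2 := congrFun ((ap_lift hQ₀ _ _).symm.trans (e (Pi.single i 1))) i
      simpa [emb] using h2
    have h3 := congrFun ((ap_lift hQ₀ _ _).symm.trans (e x)) j
    simpa [emb, h1] using h3
  · intro hg
    obtain ⟨a, ha⟩ := center_scalar h₀.nondeg h₀.five hg
    refine (QuotientGroup.eq_one_iff _).2 (mem_center_of_scalar (a := (a : F)) fun x => ?_)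
    suffices (((liftGrp hQ₀ (g : Grp Q₀) : Grp Q) : GL ι F) : Matrix ι ι F).mulVecLin = (a : F) • LinearMap.id from
      LinearMap.congr_fun this x
    refine (Pi.basisFun F ι).ext fun i => ?_
    rw [Pi.basisFun_apply, ← emb_single (fixedField σ) i]
    show ap (liftGrp hQ₀ (g : Grp Q₀)) (emb _ (Pi.single i 1)) = (a : F) • emb _ (Pi.single i 1)
    rw [ap_lift hQ₀, ha, emb_smul]

theorem rat_simple (h : Fine Q) (h₀ : Fine Q₀) : IsSimpleGroup (ratHom hQ₀).range := by
  have := pOmega_simple h₀.nondeg h₀.five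
  exact ((QuotientGroup.quotientMulEquivOfEq (ker_ratHom hQ₀ h h₀).symm).trans
      (QuotientGroup.quotientKerEquivRange (ratHom hQ₀))).isSimpleGroup_congr.1 this

/-- A lift of a fixed point is rational up to a sign, normalising the rational elements. -/
theorem exists_lift_fixed (h : Fine Q) (hmap : ∀ v, Q (fun i => σ (v i)) = σ (Q v)) {k : Cfsg.POmega F ⇑Q}
    (hk : psi Q (fldS Q σ hmap) k = k) :
    ∃ (s : Cfsg.Omega F ⇑Q) (a : F), prj Q s = k ∧ a * a = 1 ∧
      ((entryAct F ι σ ((s : Grp Q) : GL ι F) : GL ι F) : Matrix ι ι F) =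
        a • (((s : Grp Q) : GL ι F) : Matrix ι ι F) := by
  obtain ⟨s, rfl⟩ := prj_surjective (Q := Q) k
  rw [psi_mk] at hk
  have hc : s⁻¹ * onOmega Q (fldS Q σ hmap) s ∈ Subgroup.center (Cfsg.Omega F ⇑Q) := QuotientGroup.eq.1 hk.symm
  obtain ⟨a, ha⟩ := center_scalar h.nondeg h.five hc
  obtain ⟨z, hz⟩ := exists_aniso h.nondeg (le_trans (by norm_num) h.five)
  refine ⟨s, a, rfl, ?_, ?_⟩
  · have h1 := ap_q ((s⁻¹ * onOmega Q (fldS Q σ hmap) s : Cfsg.Omega F ⇑Q) : Grp Q) z
    rw [ha, q_smul] at h1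
    exact mul_right_cancel₀ hz (h1.trans (one_mul _).symm)
  · rw [← onGrp_fldS hmap, ← onOmega_coe]
    refine Matrix.ext_iff_mulVec.2 fun y => ?_
    show ap ((onOmega Q (fldS Q σ hmap) s : Cfsg.Omega F ⇑Q) : Grp Q) y = _
    rw [smul_mulVec, show onOmega Q (fldS Q σ hmap) s = s * (s⁻¹ * onOmega Q (fldS Q σ hmap) s) by
      rw [mul_inv_cancel_left], Subgroup.coe_mul, ap_mul, ha, ap_smul]
    rfl

theorem rat_normal (h : Fine Q) (hmap : ∀ v, Q (fun i => σ (v i)) = σ (Q v)) {k : Cfsg.POmega F ⇑Q}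
    (hk : psi Q (fldS Q σ hmap) k = k) {y : Cfsg.POmega F ⇑Q} (hy : y ∈ (ratHom hQ₀).range) :
    k * y * k⁻¹ ∈ (ratHom hQ₀).range := by
  obtain ⟨g, rfl⟩ := hy
  obtain ⟨s, a, rfl, ha, hs⟩ := exists_lift_fixed hQ₀ h hmap hk
  have ha0 : a ≠ 0 := fun e => zero_ne_one (by rw [← ha, e, mul_zero])
  have hfix : ∀ t : Grp Q₀, entryAct F ι σ (((s : Grp Q) * liftGrp hQ₀ t * (s : Grp Q)⁻¹ : Grp Q) : GL ι F) =
      (((s : Grp Q) * liftGrp hQ₀ t * (s : Grp Q)⁻¹ : Grp Q) : GL ι F) := fun t => by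
    have e : entryAct F ι σ ((s : Grp Q) : GL ι F) = scal (Units.mk0 a ha0) * ((s : Grp Q) : GL ι F) :=
      Units.ext (by rw [CfsgLib.ClassicalAut.scal_mul_coe, Units.val_mk0]; exact hs)
    rw [Subgroup.coe_mul, Subgroup.coe_mul, Subgroup.coe_inv, map_mul, map_mul, map_inv, lift_entry hQ₀, e,
      show ∀ C S T : GL ι F, C * S * T * (C * S)⁻¹ = C * (S * T * S⁻¹) * C⁻¹ from fun C S T => by group,
      ← CfsgLib.ClassicalAut.scal_comm, mul_inv_cancel_right]
  let e := MonoidHom.ofInjective (lift_injective hQ₀)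
  have hm : ∀ t, (s : Grp Q) * liftGrp hQ₀ t * (s : Grp Q)⁻¹ ∈ (liftGrp hQ₀).range := fun t =>
    exists_unlift hQ₀ (hfix t)
  let c : Grp Q₀ →* Grp Q₀ := e.symm.toMonoidHom.comp
    (((MulAut.conj (s : Grp Q)).toMonoidHom.comp (liftGrp hQ₀)).codRestrict _ hm)
  have hc : ∀ t, liftGrp hQ₀ (c t) = (s : Grp Q) * liftGrp hQ₀ t * (s : Grp Q)⁻¹ := fun t =>
    congrArg Subtype.val (e.apply_symm_apply ⟨_, hm t⟩)
  have h1 : c (g : Grp Q₀) ∈ Cfsg.Omega (fixedField σ) ⇑Q₀ := by
    have h2 : (commutator (Grp Q₀)).map c ≤ commutator (Grp Q₀) := by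
      rw [commutator_def, Subgroup.map_commutator]
      exact Subgroup.commutator_mono le_top le_top
    exact h2 ⟨g, g.2, rfl⟩
  refine ⟨⟨_, h1⟩, ?_⟩
  show prj Q _ = prj Q s * prj Q _ * (prj Q s)⁻¹
  rw [← map_inv, ← map_mul, ← map_mul]
  exact congrArg (prj Q) (Subtype.ext (hc g))

theorem sq_mem_omega (h₀ : Fine Q₀) (g : Grp Q₀) : g * g ∈ Cfsg.Omega (fixedField σ) ⇑Q₀ := by
  have hg : g ∈ Refl Q₀ := by
    rw [refl_eq_top h₀.nondeg fun e => by have := h₀.five; omega]
    exact Subgroup.mem_top g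
  have h1 : Abelianization.of g * Abelianization.of g = 1 := by
    induction hg using Subgroup.closure_induction with
    | mem s hs =>
      obtain ⟨w, hw⟩ := hs
      rw [← map_mul, refl_mul_self hw, map_one]
    | one => rw [map_one, one_mul]
    | mul a b _ _ ha hb => rw [map_mul, mul_mul_mul_comm, ha, hb, one_mul]
    | inv a _ ha => rw [map_inv, ← _root_.mul_inv_rev, ha, inv_one]
  rw [← map_mul] at h1
  exact (QuotientGroup.eq_one_iff _).1 h1

theorem two_dvd_rat (h : Fine Q) (h₀ : Fine Q₀) (h2 : (2 : F) ≠ 0) : 2 ∣ Nat.card (ratHom hQ₀).range := by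
  haveI : Fintype (fixedField σ) := Fintype.ofFinite _
  have h2₀ : (2 : fixedField σ) ≠ 0 := fun e0 => h2 (by
    have := congrArg (fixedField σ).subtype e0
    rwa [map_ofNat, map_zero] at this)
  obtain ⟨u, hu, hu0⟩ := exists_nonzero_singular (Q := Q₀) h₀.five
  obtain ⟨f, hf, huf⟩ := exists_partner h₀.nondeg hu hu0
  obtain ⟨a, b, ha, hb, hab, hua, hub, hfa, hfb⟩ := exists_pair_orth h₀.nondeg hu hf huf h₀.five
  have hv : Q₀ (a + b) = 1 := by rw [q_add, ha, hb, hab, zero_add, zero_add]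
  have hw : Q₀ (u + f) = 1 := by rw [q_add, hu, hf, huf, zero_add, zero_add]
  have hvw : QuadraticMap.polar Q₀ (a + b) (u + f) = 0 := by
    simp only [b_add_left, b_add_right, b_comm a u, b_comm a f, b_comm b u, b_comm b f, hua, hub, hfa, hfb, add_zero]
  obtain ⟨r₁, hr₁⟩ := exists_refl h₀.nondeg (v := a + b) (by rw [hv]; exact one_ne_zero)
  obtain ⟨r₂, hr₂⟩ := exists_refl h₀.nondeg (v := u + f) (by rw [hw]; exact one_ne_zero)
  have hmem : r₁ * r₂ ∈ Cfsg.Omega (fixedField σ) ⇑Q₀ := by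
    have h3 := QuotientGroup.eq.1 (mk_refl_of_square h₀.nondeg h2₀ hr₁ hr₂ (by rw [hv, hw, one_mul]; exact IsSquare.one))
    rwa [refl_inv hr₁] at h3
  have hne : ratHom hQ₀ ⟨_, hmem⟩ ≠ 1 := fun e => by
    obtain ⟨c, hc⟩ := center_scalar h₀.nondeg h₀.five (show (⟨_, hmem⟩ : Cfsg.Omega (fixedField σ) ⇑Q₀) ∈
      Subgroup.center _ by rw [← ker_ratHom hQ₀ h h₀]; exact e)
    have hneg : ap (r₁ * r₂) (a + b) = -(a + b) := by
      rw [ap_mul, refl_fix hr₂ (by rw [b_comm]; exact hvw), refl_self hr₁]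
    obtain ⟨y, hy, hy0, hy1, hy2⟩ := exists_singular_perp h₀.nondeg h₀.five (a + b) (u + f)
    have hfx : ap (r₁ * r₂) y = y := by rw [ap_mul, refl_fix hr₂ hy2, refl_fix hr₁ hy1]
    have hc1 : c = 1 := smul_left_injective (fixedField σ) hy0 ((hc y).symm.trans (hfx.trans (one_smul _ y).symm))
    have h3 := hc (a + b)
    rw [hneg, hc1, one_smul] at h3
    have h4 : (2 : fixedField σ) • (a + b) = 0 := by
      rw [two_smul]; exact eq_neg_iff_add_eq_zero.1 h3.symm
    have h5 : a + b = 0 := (smul_eq_zero.1 h4).resolve_left h2₀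
    rw [h5, QuadraticMap.map_zero] at hv
    exact zero_ne_one hv
  have hsq : ratHom hQ₀ ⟨_, hmem⟩ ^ 2 = 1 := by
    rw [← map_pow]
    refine (congrArg (ratHom hQ₀) (Subtype.ext ?_)).trans (map_one _)
    show (r₁ * r₂) ^ 2 = 1
    refine ext_ap fun x => ?_
    have hcomm : ∀ z, ap r₂ (ap r₁ z) = ap r₁ (ap r₂ z) := fun z => by
      rw [hr₁.2, hr₂.2, hr₂.2, hr₁.2, b_sub_right, b_sub_right, b_smul_right, b_smul_right,
        b_comm (u + f) (a + b), hvw]
      module
    rw [pow_two, ap_mul, ap_mul, ap_mul, hcomm, ← ap_mul, refl_mul_self hr₁, ap_one, ← ap_mul, refl_mul_self hr₂]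
  have := orderOf_eq_prime (G := (ratHom hQ₀).range) (x := ⟨_, ⟨_, hmem⟩, rfl⟩) (p := 2) (Subtype.ext hsq)
    fun e => hne (congrArg Subtype.val e)
  exact this ▸ orderOf_dvd_natCard _

/-- Local balance fails exactly when `p` is prime to the fixed points. -/
theorem balance_field (h : Good Q) (h₀ : Fine Q₀) (hmap : ∀ v, Q (fun i => σ (v i)) = σ (Q v)) {p : ℕ}
    [Fact p.Prime] (hσ : orderOf σ = p) (hp2 : p = 2 → (2 : F) ≠ 0)
    (A : Subgroup (MulAut (Cfsg.POmega F ⇑Q))) (hinn : ∀ k, MulAut.conj k ∈ A) {x α : MulAut (Cfsg.POmega F ⇑Q)}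
    (hxA : x ∈ A) (hx : x = α * psi Q (fldS Q σ hmap) * α⁻¹) (hord : orderOf x = p) :
    Cfsg.pPrimeCore p ↥(A ⊓ Subgroup.centralizer {x}) ≠ ⊥ ↔
      Nat.Coprime p (Nat.card (CfsgLib.ClassicalAut.Balance.Fix x)) := by
  haveI : Finite (Cfsg.POmega F ⇑Q) := inferInstance
  set φ := psi Q (fldS Q σ hmap)
  have hker : ∀ k : Cfsg.POmega F ⇑Q, MulAut.conj k = 1 → k = 1 := fun k hk => by
    obtain ⟨s, rfl⟩ := prj_surjective (Q := Q) k
    rw [← psi_incl, show incl Q (s : Grp Q) = simInc Q ⟨((s : Grp Q) : GL ι F), isometry_le_sim (s : Grp Q).2⟩ from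
      Subtype.ext (SemidirectProduct.ext rfl rfl), psi_simInc_eq_one_iff h] at hk
    obtain ⟨c, hc⟩ := hk
    exact (QuotientGroup.eq_one_iff _).2 (mem_center_of_scalar (a := (c : F)) fun y => by
      show (((s : Grp Q) : GL ι F) : Matrix ι ι F) *ᵥ y = _
      rw [show ((s : Grp Q) : GL ι F) = scal c from hc, scal_coe, smul_mulVec, one_mulVec])
  have hsimple := rat_simple hQ₀ h h₀
  refine CfsgLib.ClassicalAut.Balance.pPrimeCore_ne_bot_iff A hinn hker hxA hord ?_ ?_ ?_
  · obtain ⟨⟨y, hy⟩, hy1⟩ := exists_ne (1 : (ratHom hQ₀).range)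
    obtain ⟨g, rfl⟩ := hy
    refine ⟨α (ratHom hQ₀ g), fun e => hy1 (Subtype.ext ((map_eq_one_iff _ α.injective).1 e)), ?_⟩
    rw [hx, MulAut.mul_apply, MulAut.mul_apply, MulAut.inv_apply_self, rat_fixed hQ₀ hmap]
  · rw [hx]
    refine fun hd M hn hne => CfsgLib.ClassicalAut.Balance.hM_conj (fun hd M hMn hne => ?_) hd M hn hne
    let L : Subgroup (Cfsg.POmega F ⇑Q) := CfsgLib.ClassicalAut.Balance.Fix φ
    let R : Subgroup L := (ratHom hQ₀).range.subgroupOf L
    have hRle : (ratHom hQ₀).range ≤ L := by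
      rintro _ ⟨g, rfl⟩; exact rat_fixed hQ₀ hmap g
    have hRn : R.Normal := ⟨fun y hy k => rat_normal hQ₀ h hmap k.2 hy⟩
    haveI : IsSimpleGroup R := (Subgroup.subgroupOfEquivOfLe hRle).isSimpleGroup_congr.2 hsimple
    have hcardR : Nat.card R = Nat.card (ratHom hQ₀).range :=
      Nat.card_congr (Subgroup.subgroupOfEquivOfLe hRle).toEquiv
    have hpR : p ∣ Nat.card R := by
      rw [hcardR]
      by_cases hp : p = 2
      · rw [hp]; exact two_dvd_rat hQ₀ h h₀ (hp2 hp)
      obtain ⟨k, hk⟩ := exists_prime_orderOf_dvd_card' (G := L) p hd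
      obtain ⟨s, a, hsk, ha, hs⟩ := exists_lift_fixed hQ₀ h hmap k.2
      have ha1 : a = 1 := by
        obtain ⟨i, j, hij⟩ : ∃ i j, (((s : Grp Q) : GL ι F) : Matrix ι ι F) i j ≠ 0 := by
          by_contra hc
          push Not at hc
          have : Nonempty ι := Fintype.card_pos_iff.1 (by
            have := h.dim; rw [Module.finrank_fintype_fun_eq_card] at this; omega)
          exact (((s : Grp Q) : GL ι F).ne_zero) (Matrix.ext hc)
        set e := (((s : Grp Q) : GL ι F) : Matrix ι ι F) i j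
        have he : σ e = a * e := congrFun (congrFun hs i) j
        have hσa : σ a = a := by
          rcases mul_self_eq_one_iff.1 ha with e | e <;> simp [e]
        have hpow : ∀ n : ℕ, (σ ^ n) e = a ^ n * e := by
          intro n
          induction n with
          | zero => simp
          | succ n ih =>
            rw [pow_succ', RingAut.mul_apply, ih, map_mul, map_pow, hσa, he, ← mul_assoc, ← pow_succ]
        have h1 := hpow p
        rw [← hσ, pow_orderOf_eq_one, RingAut.one_apply, hσ] at h1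
        rcases mul_self_eq_one_iff.1 ha with e2 | e2
        · exact e2
        · rw [e2, (Fact.out : p.Prime).odd_of_ne_two hp |>.neg_one_pow, neg_one_mul] at h1
          by_contra hne1
          refine hne1 ?_
          rw [e2]
          have h3 : (2 : F) * e = 0 := by linear_combination h1
          have h4 : (2 : F) = 0 := (mul_eq_zero.1 h3).resolve_right hij
          linear_combination -h4
      obtain ⟨g, hg⟩ := exists_unlift hQ₀ (t := (s : Grp Q)) (Units.ext (hs.trans (by rw [ha1, one_smul])))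
      have hmem : (k : Cfsg.POmega F ⇑Q) * k ∈ (ratHom hQ₀).range := by
        refine ⟨⟨g * g, sq_mem_omega hQ₀ h₀ g⟩, ?_⟩
        rw [← hsk, ← map_mul]
        refine congrArg (prj Q) (Subtype.ext ?_)
        show liftGrp hQ₀ (g * g) = _
        rw [map_mul, hg]
        rfl
      have hord2 : orderOf ((k : Cfsg.POmega F ⇑Q) * k) = p := by
        rw [← pow_two, Nat.Coprime.orderOf_pow] <;> rw [Subgroup.orderOf_coe, hk]
        exact ((Fact.out : p.Prime).coprime_iff_not_dvd).2 fun e => hp ((Nat.prime_dvd_prime_iff_eq Fact.out Nat.prime_two).1 e)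
      rw [← hord2]
      exact (Subgroup.orderOf_coe (⟨_, hmem⟩ : (ratHom hQ₀).range)).dvd.trans (orderOf_dvd_natCard _)
    rcases (hMn.subgroupOf R).eq_bot_or_eq_top with hb | ht
    swap
    · exact hpR.trans (Subgroup.card_dvd_of_le (Subgroup.subgroupOf_eq_top.1 ht))
    exfalso
    refine hne ((Subgroup.eq_bot_iff_forall _).2 fun m hm => ?_)
    have hcomm : ∀ g, (m : Cfsg.POmega F ⇑Q) * ratHom hQ₀ g = ratHom hQ₀ g * m := fun g => by
      let r : L := ⟨ratHom hQ₀ g, rat_fixed hQ₀ hmap g⟩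
      have hr : r ∈ R := ⟨g, rfl⟩
      have h1 : m * r * m⁻¹ * r⁻¹ ∈ R := mul_mem (hRn.conj_mem r hr m) (inv_mem hr)
      have h2 : m * r * m⁻¹ * r⁻¹ ∈ M := by
        rw [mul_assoc, mul_assoc]
        exact mul_mem hm (by simpa [mul_assoc] using hMn.conj_mem _ (inv_mem hm) r)
      have h3 : (⟨_, h1⟩ : R) ∈ M.subgroupOf R := h2
      rw [hb, Subgroup.mem_bot] at h3
      have h4 : m * r * m⁻¹ * r⁻¹ = 1 := congrArg Subtype.val h3
      rw [mul_inv_eq_one, mul_inv_eq_iff_eq_mul] at h4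
      exact congrArg Subtype.val h4
    obtain ⟨z, hz⟩ := psi_surjective h (MulAut.conj (m : Cfsg.POmega F ⇑Q))
    obtain ⟨i, hi⟩ := Subgroup.mem_zpowers_iff.1 (rigid hQ₀ h h₀ hmap (x := z) fun g => by
      rw [hz, MulAut.conj_apply, hcomm, mul_inv_cancel_right])
    rw [hz] at hi
    refine Subtype.ext (hker _ ?_)
    obtain ⟨s, hs⟩ := prj_surjective (Q := Q) (m : Cfsg.POmega F ⇑Q)
    rw [← hs, ← psi_incl, ← map_zpow] at hi
    have h5 := (psi_eq_one h (x := fldS Q σ hmap ^ i * (incl Q (s : Grp Q))⁻¹) (by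
      rw [map_mul, map_inv, hi, mul_inv_cancel])).1
    rw [Subgroup.coe_mul, Subgroup.coe_inv, SemidirectProduct.mul_right, SemidirectProduct.inv_right] at h5
    have h6 : ((fldS Q σ hmap ^ i : semi Q) : Semilin F ι).right = σ ^ i := by
      rw [Subgroup.coe_zpow, SemidirectProduct.rightHom_eq_right.symm, map_zpow]
      rfl
    rw [h6, show ((incl Q (s : Grp Q) : semi Q) : Semilin F ι).right = 1 from rfl, inv_one, mul_one] at h5
    have h7 : fldS Q σ hmap ^ i = 1 := by
      refine Subtype.ext ?_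
      rw [Subgroup.coe_zpow, show ((fldS Q σ hmap : semi Q) : Semilin F ι) = SemidirectProduct.inr σ from rfl,
        ← map_zpow, h5, map_one]
      rfl
    rw [h7, map_one, psi_incl, hs] at hi
    exact hi.symm
  · intro g hg
    obtain ⟨z, hz⟩ := psi_surjective h (α⁻¹ * g * α)
    have h1 := rigid hQ₀ h h₀ hmap (x := z) fun y => by
      have h2 := hg (α (ratHom hQ₀ y)) (by
        rw [hx, MulAut.mul_apply, MulAut.mul_apply, MulAut.inv_apply_self, rat_fixed hQ₀ hmap])
      rw [hz, MulAut.mul_apply, MulAut.mul_apply, h2, MulAut.inv_apply_self]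
    rw [hz] at h1
    obtain ⟨i, hi⟩ := Subgroup.mem_zpowers_iff.1 h1
    refine ⟨i, ?_⟩
    show x ^ i = g
    rw [hx, conj_zpow, hi]
    group

end Descent

end CfsgLib.OrthAut
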