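import Cfsg.Agent.Lib.OrthAut.Semi
import Cfsg.Agent.Lib.OrthAut.Standard
import Cfsg.Agent.Lib.Classical.OrthPOrder
import Cfsg.Agent.Lib.Classical.OrthDisc
import Cfsg.Agent.Lib.Classical.OrthModels
import Cfsg.Agent.Lib.Classical.BinaryNorm
import Cfsg.Agent.Lib.AutPSL.Out

/-!
The order of the similitude group and of `Aut PΩ` for the odd-dimensional and minus-type standard forms.
-/

set_option autoImplicit false
set_option linter.unusedSectionVars false

namespace CfsgLib.OrthAut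

open Matrix CfsgLib.Orth

variable {F : Type*} [Field F] [Finite F] {ι : Type} [Fintype ι] [DecidableEq ι]
variable {Q : QuadraticForm F (ι → F)}

local notation "GO" => Cfsg.Geo.quadSimilarityGroup (DFunLike.coe Q)

theorem multiplier_unique (hB : Nondeg Q) (hn : 1 ≤ Module.finrank F (ι → F)) (g : GO) {c d : Fˣ}
    (hc : ∀ v, Q ((g : GL ι F).val *ᵥ v) = (c : F) * Q v) (hd : ∀ v, Q ((g : GL ι F).val *ᵥ v) = (d : F) * Q v) :
    c = d := by
  obtain ⟨v, hv⟩ := exists_aniso hB hn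
  exact Units.ext (mul_right_cancel₀ hv ((hc v).symm.trans (hd v)))

/-- The multiplier of a similitude. -/
noncomputable def multiplier (hB : Nondeg Q) (hn : 1 ≤ Module.finrank F (ι → F)) : GO →* Fˣ :=
  MonoidHom.mk' (fun g => g.2.choose) fun g h => multiplier_unique hB hn (g * h) (g * h).2.choose_spec fun v => by
    rw [Subgroup.coe_mul, Units.val_mul, ← mulVec_mulVec, g.2.choose_spec, h.2.choose_spec, Units.val_mul, mul_assoc]

theorem multiplier_eq (hB : Nondeg Q) (hn : 1 ≤ Module.finrank F (ι → F)) (g : GO) {c : Fˣ}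
    (hc : ∀ v, Q ((g : GL ι F).val *ᵥ v) = (c : F) * Q v) : multiplier hB hn g = c :=
  multiplier_unique hB hn g g.2.choose_spec hc

theorem card_sim (hB : Nondeg Q) (hn : 1 ≤ Module.finrank F (ι → F)) :
    Nat.card GO = Nat.card (Grp Q) * Nat.card (multiplier hB hn).range := by
  rw [Subgroup.card_eq_card_quotient_mul_card_subgroup (multiplier hB hn).ker,
    Nat.card_congr (QuotientGroup.quotientKerEquivRange _).toEquiv, mul_comm]
  congr 1
  refine Nat.card_congr
    { toFun := fun g => ⟨g.1.1, fun u _ => ?_⟩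
      invFun := fun g => ⟨⟨g.1, 1, fun v => ?_⟩, MonoidHom.mem_ker.2 (multiplier_eq hB hn _ fun v => ?_)⟩
      left_inv := fun g => rfl
      right_inv := fun g => rfl }
  · have h := g.1.2.choose_spec u
    rw [show g.1.2.choose = multiplier hB hn g.1 from rfl, MonoidHom.mem_ker.1 g.2, Units.val_one, one_mul] at h
    exact h
  · exact (g.2 v v).trans (by simp)
  · exact (g.2 v v).trans (by simp)

theorem multiplier_surjective (hB : Nondeg Q) (hn : 1 ≤ Module.finrank F (ι → F))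
    (hrep : ∀ c : Fˣ, ∃ M : Matrix ι ι F, ∀ v, Q (M *ᵥ v) = (c : F) * Q v) :
    Function.Surjective (multiplier hB hn) := by
  intro c
  obtain ⟨M, hM⟩ := hrep c
  have hinj : Function.Injective (M *ᵥ ·) := by
    intro x y e
    rw [← sub_eq_zero]
    refine hB _ fun w => ?_
    have e0 : ∀ w, Q (M *ᵥ (x - y) + M *ᵥ w) = Q (M *ᵥ w) := fun w => by
      rw [show M *ᵥ (x - y) = 0 by rw [mulVec_sub]; exact sub_eq_zero.2 e, zero_add]
    have h0 : Q (x - y) = 0 := by
      have := e0 0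
      rw [mulVec_zero, add_zero, QuadraticMap.map_zero, hM] at this
      exact (mul_eq_zero.1 this).resolve_left c.ne_zero
    show Q (x - y + w) - Q (x - y) - Q w = 0
    have := e0 w
    rw [← mulVec_add, hM, hM] at this
    rw [mul_left_cancel₀ c.ne_zero this, h0]; ring
  refine ⟨⟨Matrix.GeneralLinearGroup.mkOfDetNeZero M
    ((Matrix.isUnit_iff_isUnit_det _).1 (Matrix.mulVec_injective_iff_isUnit.1 hinj)).ne_zero, c, hM⟩, ?_⟩
  exact multiplier_eq hB hn _ hM

theorem card_mulAut_of_top (h : Good Q) (hfield : Function.Surjective (fieldPart Q))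
    (hrep : ∀ c : Fˣ, ∃ M : Matrix ι ι F, ∀ v, Q (M *ᵥ v) = (c : F) * Q v) :
    Nat.card (MulAut (Cfsg.POmega F ⇑Q)) = Nat.card (Grp Q) * Nat.card (F ≃+* F) := by
  have hn : 1 ≤ Module.finrank F (ι → F) := le_trans (by norm_num) h.dim
  have e := card_mulAut_mul h hfield
  rw [card_sim h.nondeg hn, MonoidHom.range_eq_top.2 (multiplier_surjective h.nondeg hn hrep), Subgroup.card_top,
    mul_right_comm] at e
  exact Nat.eq_of_mul_eq_mul_right Nat.card_pos e

/-- In odd dimension every multiplier is a square. -/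
theorem multiplier_isSquare (hB : Nondeg Q) (h2 : (2 : F) ≠ 0) (hodd : Odd (Fintype.card ι))
    (hn : 1 ≤ Module.finrank F (ι → F)) (g : GO) : IsSquare (multiplier hB hn g : F) := by
  obtain ⟨c, hc⟩ := g.2
  rw [multiplier_eq hB hn g hc]
  let M := LinearMap.toMatrix₂ (Pi.basisFun F ι) (Pi.basisFun F ι) (QuadraticMap.polarBilin Q)
  have hM : M.det ≠ 0 := (LinearMap.separatingLeft_iff_det_ne_zero _).1 hB
  have key : (g : GL ι F).valᵀ * M * (g : GL ι F).val = (c : F) • M := by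
    ext i j
    have hg : ∀ u v, QuadraticMap.polar ⇑Q ((g : GL ι F).val *ᵥ u) ((g : GL ι F).val *ᵥ v) =
        (c : F) * QuadraticMap.polar ⇑Q u v := fun u v => by
      simp only [QuadraticMap.polar, ← mulVec_add, hc]; ring
    have hb : ∀ u v : ι → F, u ⬝ᵥ (M *ᵥ v) = QuadraticMap.polar ⇑Q u v := fun u v => by
      rw [← Matrix.toLinearMap₂'_apply' M u v]
      show (Matrix.toLinearMap₂' F M) u v = _
      rw [show Matrix.toLinearMap₂' F M = QuadraticMap.polarBilin Q from by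
        rw [← Matrix.toLinearMap₂_basisFun]; exact Matrix.toLinearMap₂_toMatrix₂ _ _ _]
      rfl
    have h := hg (Pi.single i 1) (Pi.single j 1)
    rw [← hb, ← hb, mulVec_mulVec, dotProduct_mulVec, ← Matrix.vecMul_transpose, vecMul_vecMul, ← Matrix.mul_assoc,
      ← dotProduct_mulVec] at h
    simpa using h
  have hdet := congrArg Matrix.det key
  rw [Matrix.det_mul, Matrix.det_mul, Matrix.det_transpose, Matrix.det_smul, mul_right_comm] at hdet
  have h' := mul_right_cancel₀ hM hdet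
  obtain ⟨k, hk⟩ := hodd
  rw [hk, pow_succ, pow_mul'] at h'
  have hk0 : ((c : F) ^ k) ≠ 0 := pow_ne_zero _ c.ne_zero
  refine ⟨(g : GL ι F).val.det / (c : F) ^ k, ?_⟩
  field_simp
  linear_combination -h'

theorem card_squares (h2 : (2 : F) ≠ 0) :
    2 * Nat.card (powMonoidHom 2 : Fˣ →* Fˣ).range = Nat.card Fˣ := by
  have hk : Nat.card (powMonoidHom 2 : Fˣ →* Fˣ).ker = 2 := by
    rw [Nat.card_eq_two_iff]
    refine ⟨1, ⟨-1, by simp⟩, fun e => h2 ?_, Set.eq_univ_of_forall fun z => ?_⟩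
    · have : (1 : F) = -1 := congrArg (fun z : (powMonoidHom 2 : Fˣ →* Fˣ).ker => ((z : Fˣ) : F)) e
      linear_combination this
    · have h : ((z : Fˣ) : F) * ((z : Fˣ) : F) = 1 := by
        have := congrArg Units.val (show (z : Fˣ) ^ 2 = 1 from z.2)
        simpa [pow_two] using this
      rcases mul_self_eq_one_iff.1 h with e | e
      · exact Or.inl (Subtype.ext (Units.ext e))
      · exact Or.inr (Set.mem_singleton_iff.2 (Subtype.ext (Units.ext (by simpa using e))))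
  rw [Subgroup.card_eq_card_quotient_mul_card_subgroup (powMonoidHom 2 : Fˣ →* Fˣ).ker, hk,
    Nat.card_congr (QuotientGroup.quotientKerEquivRange _).toEquiv, mul_comm]

/-- The order of `Aut PΩ` in odd dimension. -/
theorem card_mulAut_odd (h : Good Q) (h2 : (2 : F) ≠ 0) (hodd : Odd (Fintype.card ι))
    (hfield : Function.Surjective (fieldPart Q)) :
    Nat.card (MulAut (Cfsg.POmega F ⇑Q)) = 2 * Nat.card (F ≃+* F) * Nat.card (Cfsg.POmega F ⇑Q) := by
  have hn : 1 ≤ Module.finrank F (ι → F) := le_trans (by norm_num) h.dim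
  have hr : (multiplier h.nondeg hn).range = (powMonoidHom 2 : Fˣ →* Fˣ).range := by
    ext c
    constructor
    · rintro ⟨g, rfl⟩
      obtain ⟨s, hs⟩ := multiplier_isSquare h.nondeg h2 hodd hn g
      have hs0 : s ≠ 0 := fun e => (multiplier h.nondeg hn g).ne_zero (by rw [hs, e, zero_mul])
      exact ⟨Units.mk0 s hs0, Units.ext (by simp [hs, pow_two])⟩
    · rintro ⟨s, rfl⟩
      refine ⟨⟨Units.map (Matrix.scalar ι).toMonoidHom s, (powMonoidHom 2 s), fun v => ?_⟩,
        multiplier_eq h.nondeg hn _ fun v => ?_⟩ <;>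
      · show Q (Matrix.scalar ι (s : F) *ᵥ v) = _
        rw [show Matrix.scalar ι (s : F) *ᵥ v = (s : F) • v by ext i; simp [Matrix.mulVec_diagonal], q_smul]
        simp [pow_two]
  have e := card_mulAut_mul h hfield
  rw [card_sim h.nondeg hn, hr, ← card_squares h2,
    grp_no_neg h.nondeg h.five h2 (no_neg_of_odd h.nondeg h2 (by rwa [Module.finrank_pi]))] at e
  refine Nat.eq_of_mul_eq_mul_right (Nat.mul_pos two_pos Nat.card_pos) (e.trans ?_)
  ring

/-! ### The standard forms -/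

/-- A form commuting with all field automorphisms. -/
theorem fieldPart_surjective (hQ : ∀ (σ : F ≃+* F) v, Q (fun i => σ (v i)) = σ (Q v)) :
    Function.Surjective (fieldPart Q) := fun σ =>
  ⟨⟨⟨1, σ⟩, 1, fun v => by simpa using hQ σ v⟩, rfl⟩

theorem odd_map {m : ℕ} (σ : F ≃+* F) (v : Unit ⊕ (Fin m ⊕ Fin m) → F) :
    Cfsg.quadFormOdd m F (fun i => σ (v i)) = σ (Cfsg.quadFormOdd m F v) := by
  simp [Cfsg.quadFormOdd, map_add, map_sum, map_mul, map_pow]

theorem card_mulAut_pomega_odd [Fintype F] (p f : ℕ) [Fact p.Prime] (hf : 1 ≤ f) (hF : Fintype.card F = p ^ f)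
    (hp : Odd p) (m : ℕ) (hm : 3 ≤ m) : Nat.card (MulAut (Cfsg.POmega F (Cfsg.quadFormOdd m F))) =
      2 * f * Nat.card (Cfsg.POmega F (Cfsg.quadFormOdd m F)) := by
  have hodd : Odd (Fintype.card F) := hF ▸ hp.pow
  have h2 : (2 : F) ≠ 0 := fun h => (Nat.not_even_iff_odd.2 hodd) <| Nat.even_iff.2 <|
    FiniteField.even_card_iff_char_two.1 <| by
      by_contra hc
      exact Ring.two_ne_zero hc h
  obtain ⟨Q, hQ, hB⟩ := exists_quadForm_odd (F := F) h2 m
  rw [← hQ, card_mulAut_odd (good_odd hm (by rwa [Nat.card_eq_fintype_card]) hB) h2 ⟨m, by simp; omega⟩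
    (fieldPart_surjective fun σ v => by rw [hQ]; exact odd_map σ v),
    (CfsgLib.AutPSL.card_ringAut_isCyclic hF hf).2]

/-- A matrix carrying a binary anisotropic form to another one. -/
theorem exists_bin {a b a' b' : F} (hab : ∀ z₁ z₂ : F, z₁ ^ 2 + a * z₁ * z₂ + b * z₂ ^ 2 = 0 → z₁ = 0 ∧ z₂ = 0)
    (hab' : ∀ z₁ z₂ : F, z₁ ^ 2 + a' * z₁ * z₂ + b' * z₂ ^ 2 = 0 → z₁ = 0 ∧ z₂ = 0) :
    ∃ M : Matrix (Fin 2) (Fin 2) F, ∀ z, Classical.OrthModels.bin a b (M *ᵥ z) =
      Classical.OrthModels.bin a' b' z := by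
  cases nonempty_fintype F
  obtain ⟨e, he⟩ := CfsgLib.Classical.OrthModels.bin_bin a' b' a b hab' hab
  exact ⟨LinearMap.toMatrix' e.toLinearMap, fun z => by rw [LinearMap.toMatrix'_mulVec]; exact he z⟩

theorem minus_rep {m : ℕ} {a b : F} (hab : ∀ z₁ z₂ : F, z₁ ^ 2 + a * z₁ * z₂ + b * z₂ ^ 2 = 0 → z₁ = 0 ∧ z₂ = 0)
    (c : Fˣ) : ∃ M : Matrix ((Fin m ⊕ Fin m) ⊕ Fin 2) ((Fin m ⊕ Fin m) ⊕ Fin 2) F,
      ∀ v, Cfsg.quadFormMinus m F a b (M *ᵥ v) = (c : F) * Cfsg.quadFormMinus m F a b v := by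
  cases nonempty_fintype F
  obtain ⟨u, w, huw⟩ := CfsgLib.Classical.BinaryNorm.surjective_ext (E := F) a b hab (c : F)
  simp only [Algebra.algebraMap_self, RingHom.id_apply, CfsgLib.Classical.BinaryNorm.bq] at huw
  have hbin : ∀ z : Fin 2 → F, (!![u, -b * w; w, u + a * w] *ᵥ z) 0 = u * z 0 + -b * w * z 1 ∧
      (!![u, -b * w; w, u + a * w] *ᵥ z) 1 = w * z 0 + (u + a * w) * z 1 := fun z => by
    constructor <;> simp [Matrix.mulVec, dotProduct, Fin.sum_univ_two]
  refine ⟨Matrix.fromBlocks (Matrix.diagonal (Sum.elim (fun _ => (c : F)) fun _ => 1)) 0 0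
    !![u, -b * w; w, u + a * w], fun v => ?_⟩
  simp only [Cfsg.quadFormMinus, fromBlocks_mulVec, Sum.elim_inl, Sum.elim_inr, zero_mulVec, add_zero, zero_add,
    mulVec_diagonal, one_mul, Function.comp_apply, (hbin _).1, (hbin _).2]
  rw [mul_add (c : F), Finset.mul_sum]
  congr 1
  · exact Finset.sum_congr rfl fun i _ => (mul_assoc _ _ _)
  · rw [← huw]; ring

theorem minus_field {m : ℕ} {a b : F} (hab : ∀ z₁ z₂ : F, z₁ ^ 2 + a * z₁ * z₂ + b * z₂ ^ 2 = 0 → z₁ = 0 ∧ z₂ = 0)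
    {Q : QuadraticForm F ((Fin m ⊕ Fin m) ⊕ Fin 2 → F)} (hQ : ⇑Q = Cfsg.quadFormMinus m F a b) (hB : Nondeg Q) :
    Function.Surjective (fieldPart Q) := by
  intro σ
  obtain ⟨M, hM⟩ := exists_bin hab (a' := σ a) (b' := σ b) fun z₁ z₂ h => by
    obtain ⟨e1, e2⟩ := hab (σ.symm z₁) (σ.symm z₂) (σ.injective (by simpa using h))
    exact ⟨σ.symm.injective (e1.trans (map_zero _).symm), σ.symm.injective (e2.trans (map_zero _).symm)⟩
  let N : Matrix ((Fin m ⊕ Fin m) ⊕ Fin 2) ((Fin m ⊕ Fin m) ⊕ Fin 2) F := Matrix.fromBlocks 1 0 0 M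
  have hN : ∀ v, Q (N *ᵥ fun i => σ (v i)) = σ (Q v) := fun v => by
    rw [hQ]
    have e := hM (fun i => σ (v (.inr i)))
    simp only [Cfsg.quadFormMinus, N, fromBlocks_mulVec, Sum.elim_inl, Sum.elim_inr, zero_mulVec, add_zero, zero_add,
      one_mulVec, Function.comp_apply, map_add, map_sum, map_mul, map_pow]
    congr 1
  have hdet : N.det ≠ 0 := by
    refine ((Matrix.isUnit_iff_isUnit_det _).1 (Matrix.mulVec_injective_iff_isUnit.1 fun x y e => ?_)).ne_zero
    rw [← sub_eq_zero]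
    have h0 : N *ᵥ (x - y) = 0 := by rw [mulVec_sub]; exact sub_eq_zero.2 e
    obtain ⟨x', hx'⟩ : ∃ x', (fun i => σ (x' i)) = x - y := ⟨fun i => σ.symm ((x - y) i), by funext i; simp⟩
    have hx0 : x' = 0 := hB x' fun w => σ.injective (by
      show σ (Q (x' + w) - Q x' - Q w) = σ 0
      rw [map_sub, map_sub, ← hN, ← hN, ← hN, show (fun i => σ ((x' + w) i)) = (x - y) + fun i => σ (w i) by
        rw [← hx']; funext i; simp, hx', mulVec_add, h0, QuadraticMap.map_zero, zero_add, map_zero]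
      ring)
    rw [← hx', hx0]
    funext i
    simp
  exact ⟨⟨⟨Matrix.GeneralLinearGroup.mkOfDetNeZero N hdet, σ⟩, 1, fun v => by
    rw [Units.val_one, one_mul]; exact hN v⟩, rfl⟩

theorem card_mulAut_pomega_minus [Fintype F] (p f : ℕ) [Fact p.Prime] (hf : 1 ≤ f) (hF : Fintype.card F = p ^ f)
    (m : ℕ) (hm : 4 ≤ m) (a b : F)
    (hab : ∀ z₁ z₂ : F, z₁ ^ 2 + a * z₁ * z₂ + b * z₂ ^ 2 = 0 → z₁ = 0 ∧ z₂ = 0) :
    Nat.card (MulAut (Cfsg.POmega F (Cfsg.quadFormMinus (m - 1) F a b))) =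
      (if p = 2 then 2 else (if Even (m * (p ^ f - 1) / 2) then 4 else 8)) * f *
        Nat.card (Cfsg.POmega F (Cfsg.quadFormMinus (m - 1) F a b)) := by
  obtain ⟨Q, hQ, hB⟩ := exists_quadForm_minus (m - 1) hab
  have hgood := good_minus (m := m - 1) (by omega) hab hQ hB
  rw [← hQ, card_mulAut_of_top hgood (minus_field hab hQ hB) (fun c => by rw [hQ]; exact minus_rep hab c),
    (CfsgLib.AutPSL.card_ringAut_isCyclic hF hf).2]
  haveI := CfsgLib.AutPSL.charP_of_card (F := F) hF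
  by_cases hp : p = 2
  · subst hp
    have h2 : (2 : F) = 0 := by exact_mod_cast CharP.cast_eq_zero F 2
    rw [if_pos rfl, grp_char_two hB hgood.five h2]
    ring
  have hp2 : p % 2 = 1 := (Fact.out : p.Prime).eq_two_or_odd.resolve_left hp
  have hodd : Odd (Fintype.card F) := hF ▸ (Nat.odd_iff.2 hp2).pow
  have h2 : (2 : F) ≠ 0 := Ring.two_ne_zero fun e =>
    Nat.not_even_iff_odd.2 hodd (Nat.even_iff.2 (FiniteField.even_card_of_char_two e))
  rw [if_neg hp]
  obtain ⟨e, he, hpair, hprod⟩ := frame_minus h2 (m - 1) hab hQ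
  have hd : ¬ IsSquare (a ^ 2 - 4 * b) := by
    rintro ⟨r, hr⟩
    exact h2 (hab (-a + r) 2 (by linear_combination -hr)).2
  have hd0 : a ^ 2 - 4 * b ≠ 0 := fun e' => hd (e' ▸ IsSquare.zero)
  have e1 : (-1 : F) ^ (m - 1) * (4 * b - a ^ 2) = (-1) ^ m * (a ^ 2 - 4 * b) := by
    obtain ⟨j, rfl⟩ : ∃ j, m = j + 1 := ⟨m - 1, by omega⟩
    rw [Nat.add_sub_cancel, pow_succ]; ring
  have hiff := neg_one_mem_omega_iff hB h2 (Module.finrank_pi F).symm
    ⟨m, by simp only [Fintype.card_sum, Fintype.card_fin]; omega⟩ (by have := hgood.five; omega) e he hpair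
  rw [hprod, e1, isSquare_mul_iff (pow_ne_zero _ (neg_ne_zero.2 one_ne_zero))] at hiff
  simp only [hd0, hd, iff_false, false_or] at hiff
  have hsq : IsSquare ((-1 : F) ^ m) ↔ Even (m * (p ^ f - 1) / 2) := by
    rw [← hF]
    have ho := Nat.odd_iff.1 hodd
    obtain ⟨j, hj⟩ : ∃ j, Fintype.card F = 2 * j + 1 := ⟨Fintype.card F / 2, by omega⟩
    rw [show m * (Fintype.card F - 1) / 2 = m * j by
      rw [hj, Nat.add_sub_cancel, mul_left_comm, Nat.mul_div_cancel_left _ two_pos], Nat.even_mul]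
    rcases Nat.even_or_odd m with h | h
    · rw [h.neg_one_pow]
      exact iff_of_true IsSquare.one (Or.inl h)
    · rw [h.neg_one_pow, FiniteField.isSquare_neg_one_iff, or_iff_right (Nat.not_even_iff_odd.2 h), Nat.even_iff]
      omega
  by_cases h : IsSquare ((-1 : F) ^ m)
  · rw [if_pos (hsq.1 h), grp_no_neg hB hgood.five h2 fun h' => (hiff.1 h') h]
    ring
  · rw [if_neg (mt hsq.2 h), grp_neg hB hgood.five h2 (hiff.2 h)]
    ring

end CfsgLib.OrthAut
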