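import Cfsg.Agent.Lib.OrthAut.Split

/-!
Rational similitudes inside the similitude group.
-/

set_option autoImplicit false
set_option linter.unusedSectionVars false

namespace CfsgLib.OrthAut

open Matrix CfsgLib.Orth CfsgLib.AutPSL
open CfsgLib.ClassicalAut (scal scal_coe)

universe u v

variable {F : Type u} [Field F] [Finite F] {ι : Type} [Fintype ι] [DecidableEq ι]
variable {Q : QuadraticForm F (ι → F)}

/-- A smaller field realising the fixed points, with the rational form. -/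
structure Rat (T : TData Q) (σ : T.S) (F₀ : Type v) [Field F₀] where
  e : F₀ →+* F
  fix : ∀ y, (σ : F ≃+* F) (e y) = e y
  surj : ∀ z, (σ : F ≃+* F) z = z → ∃ y, e y = z
  Q₀ : QuadraticForm F₀ (ι → F₀)
  form : ∀ y, Q ((T.P : Matrix ι ι F) *ᵥ fun i => e (y i)) = e (Q₀ y)

/-- A field with as many elements as a fixed field maps onto it. -/
theorem exists_emb_fixed {σ : F ≃+* F} (F₀ : Type v) [Field F₀] [Fintype F₀]
    (hc : Nat.card F₀ = Nat.card (fixedField σ)) :
    ∃ e : F₀ →+* F, (∀ y, σ (e y) = e y) ∧ ∀ z, σ z = z → ∃ y, e y = z := by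
  haveI : Fintype (fixedField σ) := Fintype.ofFinite _
  let ε : F₀ ≃+* fixedField σ := FiniteField.ringEquivOfCardEq (by
    rw [← Nat.card_eq_fintype_card, ← Nat.card_eq_fintype_card, hc])
  refine ⟨(fixedField σ).subtype.comp ε.toRingHom, fun y => (ε y).2, fun z hz => ⟨ε.symm ⟨z, hz⟩, ?_⟩⟩
  show ((ε (ε.symm ⟨z, hz⟩) : fixedField σ) : F) = z
  rw [ε.apply_symm_apply]

namespace Rat

variable {T : TData Q} {σ : T.S} {F₀ : Type v} [Field F₀] (R : Rat T σ F₀)

/-- Rational matrices. -/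
def theta : GL ι F₀ →* GL ι F :=
  (MulAut.conj T.P).toMonoidHom.comp (Units.map R.e.mapMatrix.toMonoidHom)

theorem theta_eq (u : GL ι F₀) : R.theta u = T.P * Units.map R.e.mapMatrix.toMonoidHom u * T.P⁻¹ := rfl

theorem theta_apply (u : GL ι F₀) (y : ι → F₀) :
    (R.theta u : Matrix ι ι F) *ᵥ ((T.P : Matrix ι ι F) *ᵥ fun i => R.e (y i)) =
      (T.P : Matrix ι ι F) *ᵥ fun i => R.e (((u : Matrix ι ι F₀) *ᵥ y) i) := by
  rw [theta_eq, mulVec_mulVec, ← Units.val_mul, inv_mul_cancel_right, Units.val_mul, ← mulVec_mulVec]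
  exact congrArg _ (funext fun i => (RingHom.map_mulVec R.e (u : Matrix ι ι F₀) y i).symm)

theorem theta_mem {u : GL ι F₀} (hu : u ∈ Cfsg.Geo.quadSimilarityGroup ⇑R.Q₀) :
    R.theta u ∈ Cfsg.Geo.quadSimilarityGroup ⇑Q := by
  obtain ⟨c, hc⟩ := hu
  refine ⟨Units.map R.e.toMonoidHom c, ?_⟩
  have key : pull Q ((R.theta u * T.P : GL ι F) : Matrix ι ι F) = R.e c • pull Q (T.P : Matrix ι ι F) :=
    ext_emb (fixedField (σ : F ≃+* F)) fun x => by
      choose y hy using fun i => R.surj (x i : F) (x i).2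
      rw [show emb _ x = fun i => R.e (y i) from funext fun i => (hy i).symm, pull_apply,
        _root_.QuadraticMap.smul_apply, pull_apply, Units.val_mul, ← mulVec_mulVec, R.theta_apply, R.form, hc, R.form,
        map_mul, smul_eq_mul]
  intro v
  have := DFunLike.congr_fun key (((T.P⁻¹ : GL ι F) : Matrix ι ι F) *ᵥ v)
  rw [pull_apply, _root_.QuadraticMap.smul_apply, pull_apply, mulVec_mulVec, mulVec_mulVec, Units.mul_inv, one_mulVec,
    ← Units.val_mul, mul_inv_cancel_right, smul_eq_mul] at this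
  exact this

/-- Rational similitudes. -/
def thetaSim : Cfsg.Geo.quadSimilarityGroup ⇑R.Q₀ →* Cfsg.Geo.quadSimilarityGroup ⇑Q :=
  MonoidHom.codRestrict (R.theta.comp (Cfsg.Geo.quadSimilarityGroup ⇑R.Q₀).subtype) _ fun u => R.theta_mem u.2

theorem theta_fix (u : GL ι F₀) : T.R σ * entryAct F ι σ (R.theta u) * (T.R σ)⁻¹ = R.theta u := by
  have hfix : entryAct F ι σ (Units.map R.e.mapMatrix.toMonoidHom u) = Units.map R.e.mapMatrix.toMonoidHom u :=
    Units.ext (Matrix.ext fun i j => R.fix _)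
  rw [theta_eq, map_mul, map_mul, map_inv, hfix, TData.R]
  group

theorem theta_scal (c : F₀ˣ) : R.theta (scal c) = scal (Units.map R.e.toMonoidHom c) := by
  have h1 : Units.map R.e.mapMatrix.toMonoidHom (scal c : GL ι F₀) = scal (Units.map R.e.toMonoidHom c) :=
    Units.ext (by
      show ((scal c : GL ι F₀) : Matrix ι ι F₀).map R.e = _
      rw [scal_coe, scal_coe]
      ext i j
      by_cases h : i = j <;> simp [h])
  rw [theta_eq, h1, CfsgLib.ClassicalAut.scal_comm, mul_assoc, mul_inv_cancel, mul_one]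

theorem theta_scalar_iff [Nonempty ι] (u : GL ι F₀) :
    (∃ c : Fˣ, R.theta u = scal c) ↔ ∃ c : F₀ˣ, u = scal c := by
  constructor
  · rintro ⟨c, hc⟩
    have h1 : Units.map R.e.mapMatrix.toMonoidHom u = scal c := by
      have := congrArg (fun z => T.P⁻¹ * z * T.P) hc
      simp only [theta_eq] at this
      rw [show T.P⁻¹ * scal c * T.P = scal c by
        rw [CfsgLib.ClassicalAut.scal_comm, mul_assoc, inv_mul_cancel, mul_one]] at this
      simpa [mul_assoc] using this
    obtain ⟨i⟩ := ‹Nonempty ι›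
    have h2 : ∀ a b, R.e ((u : Matrix ι ι F₀) a b) = if a = b then (c : F) else 0 := fun a b => by
      have := congrFun (congrFun (congrArg (fun z : GL ι F => (z : Matrix ι ι F)) h1) a) b
      simp only [scal_coe, Matrix.smul_apply, Matrix.one_apply, smul_eq_mul, mul_ite, mul_one, mul_zero] at this
      exact this
    refine CfsgLib.ClassicalAut.exists_scal_of_smul (b := (u : Matrix ι ι F₀) i i) ?_
    ext a b
    apply R.e.injective
    rw [h2]
    by_cases h : a = b <;> simp [h, h2]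
  · rintro ⟨c, rfl⟩
    exact ⟨_, R.theta_scal c⟩

/-- A similitude fixed modulo scalars is a rational one times a scalar. -/
theorem exists_rational (h : Fine Q) {r : ℕ} (hr : 0 < r) (hσ : orderOf σ = r) {g : T.H}
    (hg : (T.twist h).δ ((T.twist h).act σ g) = (T.twist h).δ g) :
    ∃ (c : Fˣ) (u : Cfsg.Geo.quadSimilarityGroup ⇑R.Q₀), (g : GL ι F) = scal c * R.theta u := by
  have hn : 1 ≤ Fintype.card ι := by
    have := h.five
    rw [Module.finrank_fintype_fun_eq_card] at this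
    omega
  haveI : Nonempty ι := Fintype.card_pos_iff.1 hn
  obtain ⟨lam, hlam⟩ := (T.delta_eq_iff h _ _).1 hg
  rw [show (T.twist h).act = T.act from rfl, TData.act_coe] at hlam
  have hfix : entryAct F ι σ (T.P⁻¹ * (g : GL ι F) * T.P) = scal lam * (T.P⁻¹ * (g : GL ι F) * T.P) := by
    have h1 := congrArg (fun z => T.P⁻¹ * z * T.P) hlam
    simp only [TData.R] at h1
    have hc : T.P⁻¹ * scal lam = scal lam * T.P⁻¹ := CfsgLib.ClassicalAut.scal_comm _ _
    rw [← mul_assoc T.P⁻¹ (scal lam), hc] at h1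
    rw [map_mul, map_mul, map_inv, show scal lam * (T.P⁻¹ * (g : GL ι F) * T.P) = scal lam * T.P⁻¹ * (g : GL ι F) * T.P by group,
      ← h1]
    group
  have hσ' : orderOf (σ : F ≃+* F) = r := by rw [Subgroup.orderOf_coe]; exact hσ
  obtain ⟨c, g₁, hg₁, hg₁'⟩ := exists_fixed hr hσ' hfix
  have he : ∀ a b, (σ : F ≃+* F) ((g₁ : Matrix ι ι F) a b) = (g₁ : Matrix ι ι F) a b := fun a b =>
    congrFun (congrFun (congrArg (fun z : GL ι F => (z : Matrix ι ι F)) hg₁') a) b
  choose M hM using fun a b => R.surj _ (he a b)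
  have hmap : (Matrix.of M).map R.e = (g₁ : Matrix ι ι F) := Matrix.ext hM
  have hdet : (Matrix.of M).det ≠ 0 := fun h0 => by
    apply ((Matrix.isUnit_iff_isUnit_det _).1 g₁.isUnit).ne_zero
    rw [← hmap, ← RingHom.mapMatrix_apply, ← RingHom.map_det, h0, map_zero]
  let u : GL ι F₀ := Matrix.GeneralLinearGroup.mkOfDetNeZero _ hdet
  have hu1 : Units.map R.e.mapMatrix.toMonoidHom u = g₁ := Units.ext hmap
  have hgu : (g : GL ι F) = scal c * R.theta u := by
    rw [theta_eq, hu1]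
    have hc : T.P * scal c = scal c * T.P := CfsgLib.ClassicalAut.scal_comm _ _
    calc (g : GL ι F) = T.P * (T.P⁻¹ * (g : GL ι F) * T.P) * T.P⁻¹ := by group
      _ = _ := by rw [hg₁, ← mul_assoc, hc]; group
  have hθ : R.theta u ∈ Cfsg.Geo.quadSimilarityGroup ⇑Q := by
    rw [show R.theta u = (scal c)⁻¹ * (g : GL ι F) by rw [hgu, inv_mul_cancel_left]]
    exact mul_mem (inv_mem (scal_mem_sim c)) (T.le g.2)
  obtain ⟨d, hd⟩ := hθ
  obtain ⟨y₀, hy₀⟩ : ∃ y, R.e (R.Q₀ y) ≠ 0 := by
    by_contra hno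
    push Not at hno
    have : pull Q (T.P : Matrix ι ι F) = 0 := ext_emb (fixedField (σ : F ≃+* F)) fun x => by
      choose y hy using fun i => R.surj (x i : F) (x i).2
      rw [show emb _ x = fun i => R.e (y i) from funext fun i => (hy i).symm, pull_apply, R.form, hno,
        QuadraticMap.zero_apply]
    obtain ⟨v, hv⟩ := exists_aniso (nondeg_pull h.nondeg T.P)
      (by rw [Module.finrank_fintype_fun_eq_card]; exact hn)
    exact hv (by rw [this]; rfl)
  have hkey : ∀ y, R.e (R.Q₀ ((u : Matrix ι ι F₀) *ᵥ y)) = (d : F) * R.e (R.Q₀ y) := fun y => by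
    rw [← R.form, ← R.form, ← R.theta_apply, hd]
  have hdfix : (σ : F ≃+* F) d = d := by
    have h1 := congrArg (σ : F ≃+* F) (hkey y₀)
    rw [map_mul, R.fix, R.fix, hkey] at h1
    exact (mul_right_cancel₀ hy₀ h1).symm
  obtain ⟨d₀, hd₀⟩ := R.surj _ hdfix
  have hd0 : d₀ ≠ 0 := fun e0 => d.ne_zero (by rw [← hd₀, e0, map_zero])
  exact ⟨c, ⟨u, Units.mk0 d₀ hd0, fun y => R.e.injective (by rw [hkey, map_mul, Units.val_mk0, hd₀])⟩, hgu⟩

end Rat

end CfsgLib.OrthAut
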