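import Cfsg.Agent.Lib.OrthAut.FieldOdd
import Cfsg.Agent.Lib.OrthAut.Rational
import Cfsg.Agent.Lib.OrthAut.Count

/-!
Centralisers and splitting for field automorphisms of `Ω` in odd dimension.
-/

set_option autoImplicit false
set_option linter.unusedSectionVars false

namespace CfsgLib.OrthAut

open Matrix CfsgLib.Orth CfsgLib.AutPSL
open CfsgLib.ClassicalAut (scal scal_coe)

universe u v

variable {F : Type u} [Field F] [Finite F] {ι : Type} [Fintype ι] [DecidableEq ι]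
variable {Q : QuadraticForm F (ι → F)}

theorem exists_omega_of_inner {T : TData Q} (h : Fine Q) {g : T.H}
    (hg : (T.twist h).δ g ∈ Cfsg.Inn (Cfsg.POmega F ⇑Q)) :
    ∃ (c : Fˣ) (s : Grp Q), s ∈ Cfsg.Omega F ⇑Q ∧ (g : GL ι F) = scal c * (s : GL ι F) := by
  obtain ⟨c, s, hs, he⟩ := outHom_eq_one h (x := simInc Q ⟨g, T.le g.2⟩) ((QuotientGroup.eq_one_iff _).2 hg)
  refine ⟨c, s, hs, ?_⟩
  have h1 := congrArg (fun z : semi Q => (z : Semilin F ι).left) he
  simp only [simInc, scalarHom, incl, MonoidHom.coe_mk, OneHom.coe_mk, Subgroup.coe_mul, SemidirectProduct.mul_left,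
    map_one, MulAut.one_apply] at h1
  exact h1

theorem psi_incl_cls (g : Grp Q) : psi Q (incl Q g) ∈ Cfsg.Inn (Cfsg.POmega F ⇑Q) ↔ cls Q g = 1 :=
  (QuotientGroup.eq_one_iff _).symm

/-- A product of two reflections of different square classes is outer in odd dimension. -/
theorem cls_pair_ne_odd (h : Fine Q) (h2 : (2 : F) ≠ 0) (hodd : Odd (Fintype.card ι)) {v w : ι → F} {r₁ r₂ : Grp Q}
    (hr₁ : IsRefl v r₁) (hr₂ : IsRefl w r₂) (hvw : ¬ IsSquare (Q v * Q w)) : cls Q (r₁ * r₂) ≠ 1 := fun e => by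
  rcases incl_outer h e with h' | ⟨g, hg, h'⟩
  · have h1 : spinor Q 1 (r₁ * r₂) = 1 := Abelianization.commutator_subset_ker _ h'
    rw [(spinor_pair h h2 hr₁ hr₂ hvw).2] at h1
    exact absurd h1 (by decide)
  · have h1 : dickson h.nondeg (g * (r₁ * r₂)) = 1 := Abelianization.commutator_subset_ker _ h'
    rw [map_mul, (spinor_pair h h2 hr₁ hr₂ hvw).1, mul_one, dickson_iff_det h.nondeg h2 h.five, hg, det_neg, det_one,
      hodd.neg_one_pow, mul_one] at h1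
    exact h2 (by linear_combination -h1)

namespace Rat

variable {T : TData Q} {σ : T.S} {F₀ : Type v} [Field F₀] (R : Rat T σ F₀)

theorem theta_isometry {g : GL ι F₀} (hg : g ∈ Cfsg.isometryGroup F₀ ⇑R.Q₀) :
    R.theta g ∈ Cfsg.isometryGroup F ⇑Q := by
  intro v _
  show Q _ = Q v
  obtain ⟨w, rfl⟩ : ∃ w, (T.P : Matrix ι ι F) *ᵥ w = v :=
    ⟨((T.P⁻¹ : GL ι F) : Matrix ι ι F) *ᵥ v, by rw [mulVec_mulVec, Units.mul_inv, one_mulVec]⟩
  have key : pull Q ((R.theta g * T.P : GL ι F) : Matrix ι ι F) = pull Q (T.P : Matrix ι ι F) :=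
    ext_emb (fixedField (σ : F ≃+* F)) fun x => by
      choose y hy using fun i => R.surj (x i : F) (x i).2
      rw [show emb _ x = fun i => R.e (y i) from funext fun i => (hy i).symm, pull_apply, pull_apply, Units.val_mul,
        ← mulVec_mulVec, R.theta_apply, R.form, R.form]
      exact congrArg R.e (hg y y)
  have := DFunLike.congr_fun key w
  rw [pull_apply, pull_apply, Units.val_mul, ← mulVec_mulVec] at this
  exact this

/-- Rational isometries. -/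
def thetaGrp : Grp R.Q₀ →* Grp Q :=
  MonoidHom.codRestrict (R.theta.comp (Cfsg.isometryGroup F₀ ⇑R.Q₀).subtype) _ fun g => R.theta_isometry g.2

theorem thetaGrp_refl [Finite F₀] {v : ι → F₀} {g : Grp R.Q₀} (hg : IsRefl v g) :
    IsRefl ((T.P : Matrix ι ι F) *ᵥ fun i => R.e (v i)) (R.thetaGrp g) := by
  refine ⟨by rw [R.form, _root_.map_ne_zero]; exact hg.1, fun x => ?_⟩
  obtain ⟨w, rfl⟩ : ∃ w, (T.P : Matrix ι ι F) *ᵥ w = x :=
    ⟨((T.P⁻¹ : GL ι F) : Matrix ι ι F) *ᵥ x, by rw [mulVec_mulVec, Units.mul_inv, one_mulVec]⟩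
  set u := (T.P : Matrix ι ι F) *ᵥ fun i => R.e (v i)
  let L : (ι → F) →ₗ[F] (ι → F) :=
    ((R.theta g : GL ι F) : Matrix ι ι F).mulVecLin.comp (T.P : Matrix ι ι F).mulVecLin
  let L' : (ι → F) →ₗ[F] (ι → F) :=
    (LinearMap.id - ((Q u)⁻¹ • (QuadraticMap.polarBilin Q u)).smulRight u).comp (T.P : Matrix ι ι F).mulVecLin
  suffices L = L' from LinearMap.congr_fun this w
  refine (Pi.basisFun F ι).ext fun i => ?_
  have hi : (Pi.basisFun F ι) i = fun j => R.e ((Pi.single i (1 : F₀) : ι → F₀) j) := funext fun j => by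
    by_cases hji : j = i <;> simp [Pi.basisFun_apply, hji]
  rw [hi]
  set y : ι → F₀ := Pi.single i 1
  show ((R.theta g : GL ι F) : Matrix ι ι F) *ᵥ ((T.P : Matrix ι ι F) *ᵥ fun j => R.e (y j)) =
    ((T.P : Matrix ι ι F) *ᵥ fun j => R.e (y j)) -
      ((Q u)⁻¹ * QuadraticMap.polar Q u ((T.P : Matrix ι ι F) *ᵥ fun j => R.e (y j))) • u
  have hpol : QuadraticMap.polar Q u ((T.P : Matrix ι ι F) *ᵥ fun j => R.e (y j)) =
      R.e (QuadraticMap.polar R.Q₀ v y) := by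
    simp only [QuadraticMap.polar, map_sub, ← R.form, u, ← mulVec_add]
    congr 4
    funext j
    exact (map_add R.e _ _).symm
  rw [R.theta_apply, hpol, R.form, ← map_inv₀, ← map_mul, show ((g : GL ι F₀) : Matrix ι ι F₀) *ᵥ y = _ from hg.2 y,
    ← mulVec_smul, ← mulVec_sub]
  congr 1
  funext j
  simp

end Rat

variable [Fintype F]

/-- The inner group has index two among the similitude automorphisms in odd dimension. -/
theorem relIndex_inn_odd {m : ℕ} {Q : QuadraticForm F (OIdx m → F)} (hQ : ⇑Q = Cfsg.quadFormOdd m F)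
    (hodd : Odd (Fintype.card F)) (h : Good Q) :
    (Cfsg.Inn (Cfsg.POmega F ⇑Q)).relIndex ((oddData hQ).twist h).δ.range = 2 := by
  haveI := finite_semilin (F := F) (ι := OIdx m)
  haveI : Finite (MulAut (Cfsg.POmega F ⇑Q)) := Finite.of_surjective _ (psi_surjective h)
  have h1 := ((oddData hQ).twist h).card_eq ((oddData hQ).full h rfl rfl)
  rw [card_mulAut_odd h (two_ne_of_odd hodd) ⟨m, by simp; omega⟩ (fieldPart_surjective fun σ v => by
      rw [hQ]; exact odd_map σ v),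
    show Nat.card (oddData hQ).S = Nat.card (F ≃+* F) from Nat.card_congr Subgroup.topEquiv.toEquiv] at h1
  have h2 := Subgroup.card_mul_index ((Cfsg.Inn (Cfsg.POmega F ⇑Q)).subgroupOf ((oddData hQ).twist h).δ.range)
  rw [Nat.card_congr (Subgroup.subgroupOfEquivOfLe ((oddData hQ).twist h).inn_le).toEquiv, card_center_eq h] at h2
  rw [← h2] at h1
  rw [Subgroup.relIndex]
  haveI : Finite (F ≃+* F) := Finite.of_injective (fun σ => (⇑σ : F → F)) DFunLike.coe_injective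
  haveI : Finite (Cfsg.POmega F ⇑Q) := inferInstance
  have hX : 0 < Nat.card (Cfsg.POmega F ⇑Q) := Nat.card_pos
  have hG : 0 < Nat.card (F ≃+* F) := Nat.card_pos
  refine Nat.eq_of_mul_eq_mul_left (Nat.mul_pos hX hG) ?_
  rw [mul_right_comm, ← h1]
  ring

theorem odd_rep {F₀ : Type v} [Field F₀] {m : ℕ} (hm : 1 ≤ m) (c : F₀) :
    ∃ v : OIdx m → F₀, Cfsg.quadFormOdd m F₀ v = c := by
  let i₀ : Fin m := ⟨0, hm⟩
  refine ⟨Sum.elim (fun _ => 0) (Sum.elim (fun i => if i = i₀ then 1 else 0) fun i => if i = i₀ then c else 0), ?_⟩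
  simp only [Cfsg.quadFormOdd, Sum.elim_inl, Sum.elim_inr]
  rw [Finset.sum_eq_single i₀ (fun b _ hb => by simp [hb]) (by simp)]
  simp

end CfsgLib.OrthAut

namespace CfsgLib.OrthAut

open Matrix CfsgLib.Orth CfsgLib.AutPSL
open CfsgLib.ClassicalAut (scal scal_coe)

universe u v

variable {F : Type u} [Field F] [Fintype F]

/-- Squares of a subfield under an extension of odd degree. -/
theorem not_isSquare_odd_ext {σ : F ≃+* F} {r : ℕ} (hσ : orderOf σ = r) (hr : Odd r)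
    {c : F} (hc : σ c = c) (hns : ∀ e, σ e = e → c ≠ e * e) : ¬ IsSquare c := by
  rintro ⟨e, he⟩
  have he0 : e ≠ 0 := fun h0 => hns 0 (map_zero _) (by rw [he, h0])
  set E := Units.mk0 e he0
  have hpow : ∀ k, unorm σ k (E * E) = (E * E) ^ k := by
    intro k
    induction k with
    | zero => simp [unorm]
    | succ k ih =>
      have hfix : Units.map σ.toRingHom.toMonoidHom (E * E) = E * E := Units.ext (by
        show σ (e * e) = e * e
        rw [← he, hc])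
      show E * E * Units.map σ.toRingHom.toMonoidHom (unorm σ k (E * E)) = _
      rw [ih, map_pow, hfix, ← pow_succ']
  have hN := congrArg Units.val (hpow r)
  rw [map_mul, Units.val_mul, Units.val_pow_eq_pow_val, Units.val_mul, show (E : F) = e from rfl, ← he] at hN
  have hn : σ ((unorm σ r E : Fˣ) : F) = (unorm σ r E : Fˣ) := unorm_mem_fixedUnits hσ E
  obtain ⟨k, rfl⟩ := hr
  have hc0 : c ^ k ≠ 0 := pow_ne_zero _ (he ▸ mul_ne_zero he0 he0)
  refine hns (((unorm σ (2 * k + 1) E : Fˣ) : F) / c ^ k) (by rw [map_div₀, map_pow, hc, hn]) ?_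
  rw [div_mul_div_comm, hN, eq_div_iff (mul_ne_zero hc0 hc0)]
  ring

/-- Everything in a subfield of index two is a square. -/
theorem isSquare_quadratic_ext (hodd : Odd (Fintype.card F)) {q : ℕ} (hq : Fintype.card F = q ^ 2) {c : F}
    (hc0 : c ≠ 0) (hc : c ^ (q - 1) = 1) : IsSquare c := by
  rw [FiniteField.isSquare_iff (fun e => Nat.not_even_iff_odd.2 hodd
    (Nat.even_iff.2 (FiniteField.even_card_of_char_two e))) hc0]
  rw [hq] at hodd
  obtain ⟨j, hj⟩ : Odd q := by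
    by_contra hne
    exact Nat.not_even_iff_odd.2 hodd ((Nat.not_odd_iff_even.1 hne).pow_of_ne_zero two_ne_zero)
  have hdiv : Fintype.card F / 2 = (q - 1) * (j + 1) := by
    rw [hq, hj, Nat.add_sub_cancel, show (2 * j + 1) ^ 2 = 1 + 2 * (2 * j * (j + 1)) by ring,
      Nat.add_mul_div_left _ _ two_pos]
    omega
  rw [hdiv, pow_mul, hc, one_pow]

theorem ringHom_two_ne {F₀ : Type v} [Field F₀] (e : F₀ →+* F) (h2 : (2 : F) ≠ 0) : (2 : F₀) ≠ 0 := fun e0 =>
  h2 (by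
    have := congrArg e e0
    rwa [map_ofNat, map_zero] at this)

variable {m : ℕ} {Q : QuadraticForm F (OIdx m → F)}

/-- A character of the rational similitudes killing scalars and `Ω` takes at most the value at a fixed outer element. -/
theorem char_odd_two_values {F₀ : Type v} [Field F₀] [Fintype F₀] {Q₀ : QuadraticForm F₀ (OIdx m → F₀)}
    (hQ₀ : ⇑Q₀ = Cfsg.quadFormOdd m F₀) (hodd₀ : Odd (Fintype.card F₀)) (h₀ : Good Q₀)
    (μ : Cfsg.Geo.quadSimilarityGroup ⇑Q₀ →* ℤˣ)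
    (hscal : ∀ g : Cfsg.Geo.quadSimilarityGroup ⇑Q₀, (∃ c : F₀ˣ, (g : GL (OIdx m) F₀) = scal c) → μ g = 1)
    {s₀ : Grp Q₀} (hs₀ : cls Q₀ s₀ ≠ 1) (u : Cfsg.Geo.quadSimilarityGroup ⇑Q₀) :
    μ u = 1 ∨ μ u = μ ⟨s₀, isometry_le_sim s₀.2⟩ := by
  let D₀ := (oddData hQ₀).twist h₀
  obtain ⟨ν₀, hν₀, -⟩ := exists_char_two D₀ (relIndex_inn_odd hQ₀ hodd₀ h₀)
  set t : Cfsg.Geo.quadSimilarityGroup ⇑Q₀ := ⟨s₀, isometry_le_sim s₀.2⟩
  let η : Grp Q₀ →* ℤˣ := μ.comp (Subgroup.inclusion isometry_le_sim)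
  have hker : ∀ g : (oddData hQ₀).H, ν₀ g = 1 → μ g = 1 := fun g hg => by
    obtain ⟨c, s, hs, he⟩ := exists_omega_of_inner h₀ ((hν₀ g).1 hg)
    have e1 : g = (⟨scal c, scal_mem_sim c⟩ * ⟨s, isometry_le_sim s.2⟩ : Cfsg.Geo.quadSimilarityGroup ⇑Q₀) :=
      Subtype.ext he
    rw [e1, map_mul, hscal _ ⟨c, rfl⟩, one_mul]
    exact Abelianization.commutator_subset_ker η hs
  have ht : ν₀ t ≠ 1 := fun e => hs₀ ((psi_incl_cls s₀).1 ((hν₀ t).1 e))
  rcases Int.units_eq_one_or (ν₀ u) with e | e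
  · exact Or.inl (hker u e)
  · right
    let u' : (oddData hQ₀).H := u
    let t' : (oddData hQ₀).H := t
    have e2 : ν₀ (u' * t'⁻¹) = 1 := by
      rw [map_mul, map_inv, show ν₀ u' = -1 from e, show ν₀ t' = -1 from (Int.units_eq_one_or _).resolve_left ht,
        mul_inv_cancel]
    have h3 : μ u * (μ t)⁻¹ = 1 := by
      rw [← map_inv, ← map_mul]
      exact hker _ e2
    exact mul_inv_eq_one.1 h3

variable (p : ℕ) [Fact p.Prime] [CharP F p]

set_option maxHeartbeats 1000000 in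
include p in
/-- Centraliser and splitting of a field automorphism of prime order in odd dimension. -/
theorem field_odd {f : ℕ} (hF : Fintype.card F = p ^ f) (hodd : Odd (Fintype.card F)) (hm : 3 ≤ m)
    (hQ : ⇑Q = Cfsg.quadFormOdd m F) (h : Good Q) {x : MulAut (Cfsg.POmega F ⇑Q)}
    (hx : Cfsg.IsFieldAutClassPOmega (⇑Q) x) {r : ℕ} (hr : r.Prime)
    (hxr : orderOf x = r) (F₀ : Type v) [Field F₀] [Fintype F₀] (hF₀ : Fintype.card F₀ = p ^ (f / r)) :
    r ∣ f ∧ Nonempty (↥(Cfsg.pgoAut F ⇑Q ⊓ Subgroup.centralizer {x}) ≃*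
        ↥(Cfsg.pgoAut F₀ (Cfsg.quadFormOdd m F₀))) ∧
      (Odd r → Cfsg.splitClassCount (Cfsg.pgoAut F ⇑Q) (Cfsg.Inn (Cfsg.POmega F ⇑Q)) x = 1) ∧
      (r = 2 → Cfsg.splitClassCount (Cfsg.pgoAut F ⇑Q) (Cfsg.Inn (Cfsg.POmega F ⇑Q)) x = 2) := by
  classical
  obtain ⟨a, σ, -, hxa, hord⟩ := exists_rep_odd hQ h hx
  have hσ : orderOf σ = r := hord ▸ hxr
  have hσ' : orderOf (σ : F ≃+* F) = r := by rw [Subgroup.orderOf_coe]; exact hσ
  obtain ⟨hrf, hK⟩ := card_fixedField_eq hF hr.pos hσ'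
  obtain ⟨e, hefix, hesurj⟩ := exists_emb_fixed (σ := (σ : F ≃+* F)) F₀ (by rw [Nat.card_eq_fintype_card, hF₀, hK])
  have h2 := two_ne_of_odd hodd
  have h2₀ : (2 : F₀) ≠ 0 := ringHom_two_ne e h2
  have hodd₀ : Odd (Fintype.card F₀) := Nat.odd_iff.2 (FiniteField.odd_card_of_char_ne_two fun hc => h2₀ (by
    haveI : CharP F₀ 2 := hc ▸ ringChar.charP F₀
    exact_mod_cast CharP.cast_eq_zero F₀ 2))
  obtain ⟨Q₀, hQ₀, hB₀⟩ := exists_quadForm_odd (F := F₀) h2₀ m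
  have h₀ : Good Q₀ := good_odd hm (by rwa [Nat.card_eq_fintype_card]) hB₀
  let R : Rat (oddData hQ) σ F₀ := ⟨e, hefix, hesurj, Q₀, fun y => by
    show Q (((1 : GL (OIdx m) F) : Matrix (OIdx m) (OIdx m) F) *ᵥ _) = _
    rw [Units.val_one, one_mulVec, hQ, hQ₀]
    exact odd_emb e y⟩
  let D := (oddData hQ).twist h
  let D₀ := (oddData hQ₀).twist h₀
  let θ : Cfsg.Geo.quadSimilarityGroup ⇑Q₀ →* (oddData hQ).H := R.thetaSim
  have hfix : ∀ u, D.act σ (θ u) = θ u := fun u => Subtype.ext (R.theta_fix u)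
  have hsurj : ∀ g, D.δ (D.act σ g) = D.δ g → ∃ u, D.δ g = D.δ (θ u) := fun g hg => by
    obtain ⟨c, u, hu⟩ := R.exists_rational h hr.pos hσ hg
    exact ⟨u, ((oddData hQ).delta_eq_iff h g (θ u)).2 ⟨c, hu⟩⟩
  obtain ⟨ν, hν, hνs⟩ := exists_char_two D (relIndex_inn_odd hQ hodd h)
  have hscal : ∀ g : (oddData hQ).H, D.δ g = 1 → ν g = 1 := fun g hg => (hν g).2 (by rw [hg]; exact one_mem _)
  let μ : Cfsg.Geo.quadSimilarityGroup ⇑Q₀ →* ℤˣ := ν.comp θ
  have hsplit : Cfsg.splitClassCount (Cfsg.pgoAut F ⇑Q) (Cfsg.Inn (Cfsg.POmega F ⇑Q)) x = μ.range.index := by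
    rw [← simData_range h 1 ⊤ (oddData hQ).hP]
    show Cfsg.splitClassCount D.δ.range _ x = _
    have hP1 : ∀ g, D.δ (D.act σ g) = D.δ g → ν g ∈ μ.range := fun g hg => by
      obtain ⟨u, hu⟩ := hsurj g hg
      refine ⟨u, ?_⟩
      show ν (θ u) = ν g
      rw [← mul_inv_eq_one, ← map_inv, ← map_mul]
      exact hscal _ (by rw [map_mul, map_inv, hu, mul_inv_cancel])
    have hP2 : ∀ c ∈ μ.range, ∃ g, ν g = c ∧ D.δ (D.act σ g) = D.δ g := by
      rintro _ ⟨u, rfl⟩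
      exact ⟨θ u, rfl, by rw [hfix]⟩
    rw [D.splitClassCount_eq ν hν hxa μ.range hP1 hP2, hνs, Subgroup.relIndex_top_right]
  obtain ⟨c, hc⟩ := FiniteField.exists_nonsquare (F := F₀) fun hc => h2₀ (by
    haveI : CharP F₀ 2 := hc ▸ ringChar.charP F₀
    exact_mod_cast CharP.cast_eq_zero F₀ 2)
  have hc0 : c ≠ 0 := fun e0 => hc (e0 ▸ IsSquare.zero)
  obtain ⟨v, hv⟩ := odd_rep (F₀ := F₀) (m := m) (by omega) 1
  obtain ⟨w, hw⟩ := odd_rep (F₀ := F₀) (m := m) (by omega) c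
  rw [← hQ₀] at hv hw
  obtain ⟨r₁, hr₁⟩ := exists_refl hB₀ (v := v) (by rw [hv]; exact one_ne_zero)
  obtain ⟨r₂, hr₂⟩ := exists_refl hB₀ (v := w) (by rw [hw]; exact hc0)
  have hcard : Odd (Fintype.card (OIdx m)) := ⟨m, by simp; omega⟩
  have hs₀ : cls Q₀ (r₁ * r₂) ≠ 1 := cls_pair_ne_odd h₀ h2₀ hcard hr₁ hr₂ (by rwa [hv, hw, one_mul])
  set t : Cfsg.Geo.quadSimilarityGroup ⇑Q₀ := ⟨_, isometry_le_sim (r₁ * r₂).2⟩
  have hval := char_odd_two_values hQ₀ hodd₀ h₀ μ (fun g hg => hscal _ (((oddData hQ).delta_eq_one_iff h _).2 (by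
    obtain ⟨b, hb⟩ := hg
    exact ⟨_, (congrArg R.theta hb).trans (R.theta_scal b)⟩))) hs₀
  have hti : μ t = 1 ↔ cls Q (R.thetaGrp r₁ * R.thetaGrp r₂) = 1 := by
    rw [← map_mul R.thetaGrp, ← psi_incl_cls]
    exact hν (θ t)
  have hq₁ := R.thetaGrp_refl hr₁
  have hq₂ := R.thetaGrp_refl hr₂
  have hprod : Q (((oddData hQ).P : Matrix _ _ F) *ᵥ fun i => e (v i)) *
      Q (((oddData hQ).P : Matrix _ _ F) *ᵥ fun i => e (w i)) = e c := by
    rw [show Q (((oddData hQ).P : Matrix _ _ F) *ᵥ fun i => e (v i)) = e (Q₀ v) from R.form v,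
      show Q (((oddData hQ).P : Matrix _ _ F) *ᵥ fun i => e (w i)) = e (Q₀ w) from R.form w, hv, hw, map_one, one_mul]
  refine ⟨hrf, ?_, fun hro => ?_, fun hr2 => ?_⟩
  · rw [← simData_range h 1 ⊤ (oddData hQ).hP, ← hQ₀, ← simData_range h₀ 1 ⊤ (oddData hQ₀).hP]
    let δ₀ : Cfsg.Geo.quadSimilarityGroup ⇑Q₀ →* MulAut (Cfsg.POmega F₀ ⇑Q₀) := D₀.δ
    refine ⟨(D.exists_centralizer_equiv hxa θ (fun u => by rw [hfix]) hsurj δ₀.ker fun u => ?_).some.trans
      (QuotientGroup.quotientKerEquivRange δ₀)⟩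
    rw [MonoidHom.mem_ker, show δ₀ u = 1 ↔ _ from (oddData hQ₀).delta_eq_one_iff h₀ u,
      (oddData hQ).delta_eq_one_iff h]
    exact (R.theta_scalar_iff (u : GL (OIdx m) F₀)).symm
  · rw [hsplit]
    have hns : ¬ IsSquare (e c) := not_isSquare_odd_ext hσ' hro (hefix c) fun z hz hcz => by
      obtain ⟨y, rfl⟩ := hesurj z hz
      exact hc ⟨y, e.injective (by rw [map_mul]; exact hcz)⟩
    have hne : μ t ≠ 1 := fun h1 => cls_pair_ne_odd h h2 hcard hq₁ hq₂ (hprod ▸ hns) (hti.1 h1)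
    rw [show μ.range = ⊤ from eq_top_iff.2 fun z _ => ?_, Subgroup.index_top]
    rcases Int.units_eq_one_or z with rfl | rfl
    · exact one_mem _
    · exact ⟨t, (Int.units_eq_one_or _).resolve_left hne⟩
  · rw [hsplit]
    have hq : Fintype.card F = (Fintype.card F₀) ^ 2 := by
      rw [hF, hF₀, ← pow_mul, ← hr2, Nat.div_mul_cancel hrf]
    have hsq : IsSquare (e c) := isSquare_quadratic_ext hodd hq (by simpa using hc0)
      (by rw [← map_pow, FiniteField.pow_card_sub_one_eq_one c hc0, map_one])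
    have he1 : μ t = 1 := hti.2 (by
      rw [map_mul, cls_refl_eq h h2 hq₂ hq₁ (by rw [mul_comm, hprod]; exact hsq)]
      exact cls_refl_sq hq₁)
    rw [show μ.range = ⊥ from eq_bot_iff.2 ?_, Subgroup.index_bot, Nat.card_eq_fintype_card]
    · rfl
    · rintro _ ⟨u, rfl⟩
      rcases hval u with h1 | h1
      · exact h1
      · exact h1.trans he1

end CfsgLib.OrthAut
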