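import Cfsg.Agent.Lib.OrthAut.PlusTypes
import Cfsg.Agent.Lib.Classical.Reflect

/-!
Field and graph-field automorphisms of plus-type groups in their coset.
-/

set_option autoImplicit false
set_option linter.unusedSectionVars false

namespace CfsgLib.OrthAut

open Matrix CfsgLib.Orth CfsgLib.AutPSL
open CfsgLib.ClassicalAut (scal scal_coe)

universe u v

variable {F : Type u} [Field F] [Fintype F] {m : ℕ}
variable {Q : QuadraticForm F (PIdx m → F)}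

/-- The similitudes fixing both classes. -/
noncomputable def plusH (hQ : ⇑Q = Cfsg.quadFormPlus m F) (hB : Nondeg Q) : Subgroup (GL (PIdx m) F) :=
  (chiP hQ hB).ker.map (Cfsg.Geo.quadSimilarityGroup ⇑Q).subtype

theorem mem_plusH {hQ : ⇑Q = Cfsg.quadFormPlus m F} {hB : Nondeg Q} {g : GL (PIdx m) F} :
    g ∈ plusH hQ hB ↔ ∃ hg : g ∈ Cfsg.Geo.quadSimilarityGroup ⇑Q, chiP hQ hB ⟨g, hg⟩ = 1 := by
  constructor
  · rintro ⟨g, hg, rfl⟩
    exact ⟨g.2, hg⟩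
  · rintro ⟨hg, h⟩
    exact ⟨⟨g, hg⟩, h, rfl⟩

/-- The inner-diagonal part with a rational structure. -/
noncomputable def plusData (hQ : ⇑Q = Cfsg.quadFormPlus m F) (hB : Nondeg Q) (P : GL (PIdx m) F) (S : Subgroup (F ≃+* F))
    (hP : ∀ σ ∈ S, ∀ v, Q ((P : Matrix (PIdx m) (PIdx m) F) *ᵥ fun i => σ (v i)) =
      σ (Q ((P : Matrix (PIdx m) (PIdx m) F) *ᵥ v))) : TData Q where
  P := P
  S := S
  H := plusH hQ hB
  hP := hP
  le g hg := (mem_plusH.1 hg).1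
  stable σ hσ g hg := by
    obtain ⟨hg, h1⟩ := mem_plusH.1 hg
    let x : semi Q := (simData Q P S hP).fld ⟨σ, hσ⟩
    have hmem : P * (entryAct F (PIdx m) σ P)⁻¹ * entryAct F (PIdx m) σ g * (P * (entryAct F (PIdx m) σ P)⁻¹)⁻¹ ∈
        Cfsg.Geo.quadSimilarityGroup ⇑Q := (simData Q P S hP).stable σ hσ g hg
    refine mem_plusH.2 ⟨hmem, ?_⟩
    have e : simInc Q ⟨_, hmem⟩ = x * simInc Q ⟨g, hg⟩ * x⁻¹ := by
      rw [eq_mul_inv_iff_mul_eq]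
      refine Subtype.ext (SemidirectProduct.ext ?_ ?_)
      · show P * (entryAct F (PIdx m) σ P)⁻¹ * entryAct F (PIdx m) σ g * (P * (entryAct F (PIdx m) σ P)⁻¹)⁻¹ *
          entryAct F (PIdx m) (1 : F ≃+* F) (P * (entryAct F (PIdx m) σ P)⁻¹) =
            P * (entryAct F (PIdx m) σ P)⁻¹ * entryAct F (PIdx m) σ g
        rw [map_one, MulAut.one_apply, inv_mul_cancel_right]
      · show (1 : F ≃+* F) * σ = σ * 1
        rw [one_mul, mul_one]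
    show chi hB (isHalf_std hQ) (simInc Q _) = 1
    rw [e, map_mul, map_mul, map_inv, show chi hB (isHalf_std hQ) (simInc Q ⟨g, hg⟩) = 1 from h1, mul_one,
      mul_inv_cancel]
  omega g hg := mem_plusH.2 ⟨isometry_le_sim g.2, by
    rw [chiP_grp hQ hB]; exact Abelianization.commutator_subset_ker _ hg⟩

theorem plusData_range (hQ : ⇑Q = Cfsg.quadFormPlus m F) (h : Good Q) (P : GL (PIdx m) F) (S : Subgroup (F ≃+* F))
    (hP) : ((plusData hQ h.nondeg P S hP).twist h).δ.range =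
      Cfsg.autSubgroupOf fun β : MulAut (Cfsg.POmega F ⇑Q) => ∃ g : GL (PIdx m) F,
        g ∈ Cfsg.Geo.quadSimilarityGroup ⇑Q ∧
        Cfsg.PreservesSingularClasses ⇑Q (g : Matrix (PIdx m) (PIdx m) F) ∧
        Cfsg.IsInducedBySemilinearPOmega ⇑Q g (RingEquiv.refl F) β := by
  refine le_antisymm ?_ ((Subgroup.closure_le _).2 ?_)
  · rintro _ ⟨g, rfl⟩
    obtain ⟨hg, h1⟩ := mem_plusH.1 g.2
    refine Subgroup.subset_closure ⟨g, hg, ?_, psi_spec (simInc Q ⟨g, hg⟩)⟩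
    rw [hQ]
    exact (chiP_iff hQ h.nondeg ⟨g, hg⟩).2 h1
  · rintro β ⟨g, hg, hpres, hβ⟩
    exact ⟨⟨g, mem_plusH.2 ⟨hg, (chiP_iff hQ h.nondeg ⟨g, hg⟩).1 (hQ ▸ hpres)⟩⟩, psi_eq_lin hg hβ⟩

/-- The entrywise field automorphism, followed by an isometry. -/
def entryElt (hQ : ⇑Q = Cfsg.quadFormPlus m F) (g : Grp Q) (σ : F ≃+* F) : semi Q :=
  ⟨⟨g, σ⟩, 1, fun v => by
    show Q (ap g fun i => σ (v i)) = _
    rw [ap_q, plus_map hQ, Units.val_one, one_mul]⟩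

theorem conj_entry (hQ : ⇑Q = Cfsg.quadFormPlus m F) (h : Good Q) {g : Grp Q} {σ : F ≃+* F} (y : semi Q) :
    ∃ (a : Cfsg.Geo.quadSimilarityGroup ⇑Q) (τ : F ≃+* F),
      y = simInc Q a * entryElt hQ 1 τ ∧ psi Q (y * entryElt hQ g σ * y⁻¹) =
        psi Q (simInc Q a * entryElt hQ (onGrp Q (entryElt hQ 1 τ) g) σ * (simInc Q a)⁻¹) := by
  obtain ⟨c, hc⟩ := mem_semi.1 y.2
  set τ := (y : Semilin F (PIdx m)).right
  have ha : (y : Semilin F (PIdx m)).left ∈ Cfsg.Geo.quadSimilarityGroup ⇑Q := ⟨c, fun v => by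
    have := hc fun i => τ.symm (v i)
    rw [← plus_map hQ] at this
    simpa [sv, τ] using this⟩
  refine ⟨⟨_, ha⟩, τ, Subtype.ext (SemidirectProduct.ext ?_ ?_), congrArg _ ?_⟩
  · simp [simInc, entryElt]
  · simp [simInc, entryElt, τ]
  have hy : y = simInc Q ⟨_, ha⟩ * entryElt hQ 1 τ :=
    Subtype.ext (SemidirectProduct.ext (by simp [simInc, entryElt]) (by simp [simInc, entryElt, τ]))
  have hconj : entryElt hQ 1 τ * entryElt hQ g σ * (entryElt hQ 1 τ)⁻¹ =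
      entryElt hQ (onGrp Q (entryElt hQ 1 τ) g) σ := by
    rw [mul_inv_eq_iff_eq_mul]
    refine Subtype.ext (SemidirectProduct.ext ?_ ?_)
    · simp [entryElt, onGrp_coe]
    · show τ * σ = σ * τ
      exact (ringAut_commute τ σ).eq
  rw [← hconj]
  conv_lhs => rw [hy]
  group

/-- The representative of a field or graph-field automorphism. -/
theorem exists_rep_plus (hQ : ⇑Q = Cfsg.quadFormPlus m F) (h : Good Q) (hm : 1 ≤ m)
    {x : MulAut (Cfsg.POmega F ⇑Q)} {g : Grp Q} {σ : F ≃+* F}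
    (hg : g = 1 ∨ ∃ v, IsRefl v g ∧ ∀ i, σ (v i) = v i) (α : MulAut (Cfsg.POmega F ⇑Q))
    (he : α * x * α⁻¹ = psi Q (entryElt hQ g σ)) :
    ∃ (a : GL (PIdx m) F) (ha : a ∈ plusH hQ h.nondeg) (g' : Grp Q),
      (g' = 1 ∧ g = 1 ∨ ∃ v, IsRefl v g' ∧ (∀ i, σ (v i) = v i)) ∧
      x = psi Q (simInc Q ⟨a, (mem_plusH.1 ha).1⟩) * psi Q (entryElt hQ g' σ) *
        (psi Q (simInc Q ⟨a, (mem_plusH.1 ha).1⟩))⁻¹ := by
  obtain ⟨y, hy⟩ := psi_surjective h α⁻¹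
  obtain ⟨a, τ, hyτ, hconj⟩ := conj_entry hQ h (g := g) (σ := σ) y
  set g' := onGrp Q (entryElt hQ 1 τ) g
  have hx : x = psi Q (simInc Q a) * psi Q (entryElt hQ g' σ) * (psi Q (simInc Q a))⁻¹ := by
    rw [← map_inv, ← map_mul, ← map_mul, ← hconj, map_mul, map_mul, map_inv, hy, ← he]
    simp [mul_assoc]
  have hg' : g' = 1 ∧ g = 1 ∨ ∃ v, IsRefl v g' ∧ (∀ i, σ (v i) = v i) := by
    rcases hg with rfl | ⟨v, hv, hfix⟩
    · exact Or.inl ⟨map_one _, rfl⟩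
    · refine Or.inr ⟨_, refl_conj (x := entryElt hQ 1 τ) hv, fun i => ?_⟩
      show σ ((((1 : GL (PIdx m) F) : Matrix (PIdx m) (PIdx m) F) *ᵥ fun j => τ (v j)) i) =
        (((1 : GL (PIdx m) F) : Matrix (PIdx m) (PIdx m) F) *ᵥ fun j => τ (v j)) i
      rw [Units.val_one, one_mulVec, show σ (τ (v i)) = (σ * τ) (v i) from rfl, (ringAut_commute σ τ).eq]
      exact congrArg τ (hfix i)
  by_cases hchi : chiP hQ h.nondeg a = 1
  · exact ⟨a, mem_plusH.2 ⟨a.2, hchi⟩, g', hg', hx⟩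
  obtain ⟨v₀, g₀, hg₀, hv₀⟩ : ∃ (v₀ : PIdx m → F) (g₀ : Grp Q), IsRefl v₀ g₀ ∧
      (entryAct F (PIdx m) σ (g₀ : GL (PIdx m) F) = g₀) ∧ g₀ * g' = g' * g₀ := by
    rcases hg' with ⟨e, -⟩ | ⟨v, hv, hfix⟩
    · obtain ⟨v₀, g₀, hg₀, hv₀⟩ := exists_refl_rat hQ h.nondeg hm
      exact ⟨v₀, g₀, hg₀, refl_entry hQ σ hg₀ (hv₀ σ), by rw [e, one_mul, mul_one]⟩
    · exact ⟨v, g', hv, refl_entry hQ σ hv hfix, rfl⟩
  have hcomm : Commute (simInc Q ⟨g₀, isometry_le_sim g₀.2⟩) (entryElt hQ g' σ) := by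
    refine Subtype.ext (SemidirectProduct.ext ?_ ?_)
    · show (g₀ : GL (PIdx m) F) * entryAct F (PIdx m) (1 : F ≃+* F) (g' : GL (PIdx m) F) =
        (g' : GL (PIdx m) F) * entryAct F (PIdx m) σ (g₀ : GL (PIdx m) F)
      rw [map_one, MulAut.one_apply, hv₀.1]
      exact congrArg Subtype.val hv₀.2
    · show (1 : F ≃+* F) * σ = σ * 1
      rw [one_mul, mul_one]
  refine ⟨a * (⟨g₀, isometry_le_sim g₀.2⟩ : Cfsg.Geo.quadSimilarityGroup ⇑Q), mem_plusH.2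
    ⟨(a * ⟨g₀, isometry_le_sim g₀.2⟩ : Cfsg.Geo.quadSimilarityGroup ⇑Q).2, ?_⟩, g', hg', ?_⟩
  · show chiP hQ h.nondeg (a * ⟨g₀, isometry_le_sim g₀.2⟩) = 1
    rw [map_mul, chiP_refl hQ h.nondeg hg₀, (Int.units_eq_one_or _).resolve_left hchi]
    rfl
  · show x = psi Q (simInc Q (a * ⟨g₀, isometry_le_sim g₀.2⟩)) * psi Q (entryElt hQ g' σ) *
      (psi Q (simInc Q (a * ⟨g₀, isometry_le_sim g₀.2⟩)))⁻¹
    have hc := (hcomm.map (psi Q)).eq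
    set A := psi Q (simInc Q a)
    set G := psi Q (simInc Q ⟨g₀, isometry_le_sim g₀.2⟩)
    set E := psi Q (entryElt hQ g' σ)
    rw [show psi Q (simInc Q (a * ⟨g₀, isometry_le_sim g₀.2⟩)) = A * G by rw [map_mul, map_mul], hx,
      mul_assoc A G E, hc]
    group

/-- The order of an entrywise automorphism followed by a commuting reflection. -/
theorem graph_field_order (hQ : ⇑Q = Cfsg.quadFormPlus m F) (h : Good Q) {v : PIdx m → F} {g : Grp Q}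
    (hg : IsRefl v g) {σ : F ≃+* F} (hv : ∀ i, σ (v i) = v i) (hσ : σ ≠ 1) {r : ℕ} (hr : r.Prime)
    (ho : orderOf (psi Q (entryElt hQ g σ)) = r) : r = 2 ∧ orderOf σ = 2 := by
  have hpow : ∀ k, ((entryElt hQ g σ ^ k : semi Q) : Semilin F (PIdx m)) = ⟨(g : GL (PIdx m) F) ^ k, σ ^ k⟩ := by
    intro k
    induction k with
    | zero => simp only [pow_zero]; rfl
    | succ k ih =>
      rw [pow_succ', Subgroup.coe_mul, ih]
      refine SemidirectProduct.ext ?_ ?_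
      · show (g : GL (PIdx m) F) * entryAct F (PIdx m) σ ((g : GL (PIdx m) F) ^ k) = _
        rw [map_pow, refl_entry hQ σ hg hv, ← pow_succ']
      · exact (pow_succ' σ k).symm
  have h1 : psi Q (entryElt hQ g σ ^ r) = 1 := by rw [map_pow, ← ho, pow_orderOf_eq_one]
  obtain ⟨h2, a, ha, h3⟩ := psi_eq_one h h1
  rw [hpow] at h2 h3
  have hr2 : r = 2 := by
    by_contra hne
    obtain ⟨k, hk⟩ := hr.odd_of_ne_two hne
    have h4 : (g : GL (PIdx m) F) ^ r = g := by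
      have hsq : (g : GL (PIdx m) F) * g = 1 := congrArg Subtype.val (refl_sq hg)
      rw [hk, pow_succ, pow_mul, pow_two, hsq, one_pow, one_mul]
    simp only [h4] at h3
    have h5 := chiP_refl hQ h.nondeg hg
    rw [show (⟨(g : GL (PIdx m) F), isometry_le_sim g.2⟩ : Cfsg.Geo.quadSimilarityGroup ⇑Q) =
      ⟨scal (Units.mk0 a ha), scal_mem_sim _⟩ from Subtype.ext (Units.ext (by rw [scal_coe]; exact h3)),
      chiP_scal] at h5
    exact absurd h5 (by decide)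
  exact ⟨hr2, (orderOf_eq_prime (hr2 ▸ h2) hσ)⟩

theorem coset_plus_aux (hQ : ⇑Q = Cfsg.quadFormPlus m F) (h : Good Q) (hm : 1 ≤ m) {x : MulAut (Cfsg.POmega F ⇑Q)}
    {r : ℕ} (hr : r.Prime) (hxr : orderOf x = r) {σ : F ≃+* F} (hσ1 : orderOf σ = r) {a : GL (PIdx m) F}
    (ha : a ∈ plusH hQ h.nondeg) {g : Grp Q} (hg : g = 1 ∨ r = 2 ∧ ∃ v, IsRefl v g ∧ ∀ i, σ (v i) = v i)
    {P : GL (PIdx m) F} (hR : P * (entryAct F (PIdx m) σ P)⁻¹ = g)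
    (hP : ∀ τ ∈ Subgroup.zpowers σ, ∀ v, Q ((P : Matrix (PIdx m) (PIdx m) F) *ᵥ fun i => τ (v i)) =
      τ (Q ((P : Matrix (PIdx m) (PIdx m) F) *ᵥ v)))
    (hxa : x = psi Q (simInc Q ⟨a, (mem_plusH.1 ha).1⟩) * psi Q (entryElt hQ g σ) *
      (psi Q (simInc Q ⟨a, (mem_plusH.1 ha).1⟩))⁻¹)
    {δ : MulAut (Cfsg.POmega F ⇑Q)}
    (hδ : δ ∈ ((plusData hQ h.nondeg P _ hP).twist h).δ.range) :
    orderOf (δ * x) = r ↔ Cfsg.IsConjUnder ((plusData hQ h.nondeg P _ hP).twist h).δ.range x (δ * x) := by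
  set T := plusData hQ h.nondeg P _ hP
  let σ' : T.S := ⟨σ, Subgroup.mem_zpowers σ⟩
  have hRσ : T.R (σ' : F ≃+* F) = g := hR
  have hphi : (T.twist h).φ σ' = psi Q (entryElt hQ g σ) :=
    congrArg (psi Q) (Subtype.ext (SemidirectProduct.ext hRσ rfl))
  have hσ' : orderOf σ' = r := by rw [← Subgroup.orderOf_coe]; exact hσ1
  refine (T.twist h).coset_conjugacy (a := ⟨a, ha⟩) (σ := σ') (hphi ▸ hxa) hxr (fun d hd => ?_) hδ
  obtain ⟨e, k₀, ν, R₁, he, hν, hnd, hh⟩ := T.exists_descent h hr.pos hσ' hd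
  rw [hRσ] at he
  obtain ⟨hdm, hd1⟩ := mem_plusH.1 d.2
  have hE : k₀ * (entryAct F (PIdx m) σ k₀)⁻¹ = scal e * (d : GL (PIdx m) F) * (g : GL (PIdx m) F) := by
    rw [he, inv_mul_cancel_right]
  have hEm : k₀ * (entryAct F (PIdx m) σ k₀)⁻¹ ∈ Cfsg.Geo.quadSimilarityGroup ⇑Q := by
    rw [hE]; exact mul_mem (mul_mem (scal_mem_sim e) hdm) (isometry_le_sim g.2)
  have hchiE : chiP hQ h.nondeg ⟨_, hEm⟩ = chiP hQ h.nondeg ⟨g, isometry_le_sim g.2⟩ := by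
    rw [show (⟨_, hEm⟩ : Cfsg.Geo.quadSimilarityGroup ⇑Q) =
      ⟨scal e, scal_mem_sim e⟩ * ⟨d, hdm⟩ * ⟨g, isometry_le_sim g.2⟩ from Subtype.ext hE, map_mul, map_mul,
      chiP_scal, hd1, one_mul, one_mul]
  have fin : ∀ k, (hk : k ∈ Cfsg.Geo.quadSimilarityGroup ⇑Q) →
      k₀ * (entryAct F (PIdx m) σ k₀)⁻¹ = k * (g : GL (PIdx m) F) * (entryAct F (PIdx m) σ k)⁻¹ →
      chiP hQ h.nondeg ⟨k, hk⟩ = 1 → ∃ k : T.H, (T.twist h).δ d = (T.twist h).δ (k * ((T.twist h).act σ' k)⁻¹) := by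
    intro k hk hk' hchi
    refine ⟨⟨k, mem_plusH.2 ⟨hk, hchi⟩⟩, (T.delta_eq_iff h _ _).2 ⟨e⁻¹, ?_⟩⟩
    rw [Subgroup.coe_mul, Subgroup.coe_inv, show (T.twist h).act = T.act from rfl, TData.act_coe, hRσ]
    show (d : GL (PIdx m) F) = scal e⁻¹ * (k * ((g : GL (PIdx m) F) * entryAct F (PIdx m) σ k *
      (g : GL (PIdx m) F)⁻¹)⁻¹)
    rw [show k * ((g : GL (PIdx m) F) * entryAct F (PIdx m) σ k * (g : GL (PIdx m) F)⁻¹)⁻¹ =
      k * (g : GL (PIdx m) F) * (entryAct F (PIdx m) σ k)⁻¹ * (g : GL (PIdx m) F)⁻¹ by group, ← hk', ← he, map_inv,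
      inv_mul_cancel_left]
  obtain ⟨v₀, g₀, hg₀, hg₀σ, hg₀g⟩ : ∃ (v₀ : PIdx m → F) (g₀ : Grp Q), IsRefl v₀ g₀ ∧
      entryAct F (PIdx m) σ (g₀ : GL (PIdx m) F) = g₀ ∧ g₀ * g = g * g₀ := by
    rcases hg with e | ⟨-, v, hv, hfix⟩
    · obtain ⟨v₀, g₀, hg₀, hv₀⟩ := exists_refl_rat hQ h.nondeg hm
      exact ⟨v₀, g₀, hg₀, refl_entry hQ σ hg₀ (hv₀ σ), by rw [e, one_mul, mul_one]⟩
    · exact ⟨v, g, hv, refl_entry hQ σ hv hfix, rfl⟩
  obtain ⟨k, hk, hk'⟩ : ∃ k ∈ Cfsg.Geo.quadSimilarityGroup ⇑Q,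
      k₀ * (entryAct F (PIdx m) σ k₀)⁻¹ = k * (g : GL (PIdx m) F) * (entryAct F (PIdx m) σ k)⁻¹ := by
    rcases structure_cases hQ h.nondeg hm hr hσ1 hν hnd hh hEm with ⟨h1, k, hk, hk'⟩ | ⟨hr2, h1, hall⟩
    · rcases hg with e | ⟨-, v, hv, -⟩
      · subst e
        exact ⟨k, hk, by rw [hk', OneMemClass.coe_one, mul_one]⟩
      · rw [h1, chiP_refl hQ h.nondeg hv] at hchiE
        exact absurd hchiE (by decide)
    · rcases hg with e | ⟨-, v, hv, hfix⟩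
      · subst e
        rw [h1, show (⟨((1 : Grp Q) : GL (PIdx m) F), isometry_le_sim (1 : Grp Q).2⟩ :
          Cfsg.Geo.quadSimilarityGroup ⇑Q) = 1 from rfl, map_one] at hchiE
        exact absurd hchiE (by decide)
      · exact hall v g hv hfix
  by_cases hchi : chiP hQ h.nondeg ⟨k, hk⟩ = 1
  · exact fin k hk hk' hchi
  refine fin (k * (g₀ : GL (PIdx m) F)) (mul_mem hk (isometry_le_sim g₀.2)) ?_ ?_
  · rw [hk', map_mul, hg₀σ, _root_.mul_inv_rev, mul_assoc k (g₀ : GL (PIdx m) F),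
      show (g₀ : GL (PIdx m) F) * (g : GL (PIdx m) F) = (g : GL (PIdx m) F) * g₀ from congrArg Subtype.val hg₀g]
    group
  · rw [show (⟨k * (g₀ : GL (PIdx m) F), mul_mem hk (isometry_le_sim g₀.2)⟩ : Cfsg.Geo.quadSimilarityGroup ⇑Q) =
      ⟨k, hk⟩ * ⟨g₀, isometry_le_sim g₀.2⟩ from rfl, map_mul, chiP_refl hQ h.nondeg hg₀,
      (Int.units_eq_one_or _).resolve_left hchi]
    rfl

theorem hP_zpowers {σ : F ≃+* F} {P : GL (PIdx m) F}
    (hP : ∀ v, Q ((P : Matrix (PIdx m) (PIdx m) F) *ᵥ fun i => σ (v i)) = σ (Q ((P : Matrix (PIdx m) (PIdx m) F) *ᵥ v))) :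
    ∀ τ ∈ Subgroup.zpowers σ, ∀ v, Q ((P : Matrix (PIdx m) (PIdx m) F) *ᵥ fun i => τ (v i)) =
      τ (Q ((P : Matrix (PIdx m) (PIdx m) F) *ᵥ v)) := by
  haveI : Finite (F ≃+* F) := Finite.of_injective (fun τ => (⇑τ : F → F)) DFunLike.coe_injective
  intro τ hτ
  obtain ⟨k, rfl⟩ := (isOfFinOrder_of_finite σ).mem_powers_iff_mem_zpowers.2 hτ
  induction k with
  | zero => intro v; simp
  | succ k ih =>
    intro v
    show Q ((P : Matrix (PIdx m) (PIdx m) F) *ᵥ fun i => (σ ^ (k + 1)) (v i)) =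
      (σ ^ (k + 1)) (Q ((P : Matrix (PIdx m) (PIdx m) F) *ᵥ v))
    rw [pow_succ]
    exact (ih (Subgroup.npow_mem_zpowers σ k) fun i => σ (v i)).trans (congrArg (σ ^ k) (hP v))

/-- Elements of prime order in the coset of a field or graph-field automorphism. -/
theorem coset_plus (hQ : ⇑Q = Cfsg.quadFormPlus m F) (h : Good Q) (hm : 1 ≤ m) {x : MulAut (Cfsg.POmega F ⇑Q)}
    (hx : Cfsg.IsFieldAutClassPOmega (⇑Q) x ∨ ∃ (α γ φ : MulAut (Cfsg.POmega F ⇑Q)) (σ : F ≃+* F)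
      (v : PIdx m → F) (r : GL (PIdx m) F), σ ≠ RingEquiv.refl F ∧ Q v ≠ 0 ∧ (∀ i, σ (v i) = v i) ∧
      (r : Matrix (PIdx m) (PIdx m) F) = Cfsg.reflectionMatrix (⇑Q) v ∧
      Cfsg.IsInducedBySemilinearPOmega (⇑Q) r (RingEquiv.refl F) γ ∧
      Cfsg.IsFieldAutPOmegaOf (⇑Q) σ φ ∧ α * x * α⁻¹ = γ * φ) {r : ℕ} (hr : r.Prime) (hxr : orderOf x = r)
    {δ : MulAut (Cfsg.POmega F ⇑Q)} {S : Subgroup (MulAut (Cfsg.POmega F ⇑Q))}
    (hS : S = Cfsg.autSubgroupOf fun β : MulAut (Cfsg.POmega F ⇑Q) => ∃ g : GL (PIdx m) F,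
        g ∈ Cfsg.Geo.quadSimilarityGroup ⇑Q ∧
        Cfsg.PreservesSingularClasses ⇑Q (g : Matrix (PIdx m) (PIdx m) F) ∧
        Cfsg.IsInducedBySemilinearPOmega ⇑Q g (RingEquiv.refl F) β)
    (hδ : δ ∈ S) :
    orderOf (δ * x) = r ↔ Cfsg.IsConjUnder S x (δ * x) := by
  subst hS
  have hord : ∀ a y : MulAut (Cfsg.POmega F ⇑Q), orderOf (a * y * a⁻¹) = orderOf y := fun a y =>
    MulEquiv.orderOf_eq (MulAut.conj a) y
  obtain ⟨α, σ, g, hσ, hg, he⟩ : ∃ (α : MulAut (Cfsg.POmega F ⇑Q)) (σ : F ≃+* F) (g : Grp Q), σ ≠ 1 ∧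
      (g = 1 ∨ ∃ v, IsRefl v g ∧ ∀ i, σ (v i) = v i) ∧ α * x * α⁻¹ = psi Q (entryElt hQ g σ) := by
    rcases hx with ⟨α, φ, σ, hσ, hφ, he⟩ | ⟨α, γ, φ, σ, v, r, hσ, hv0, hv, hr', hγ, hφ, he⟩
    · exact ⟨α, σ, 1, hσ, Or.inl rfl, he.trans ((isField_iff (x := entryElt hQ 1 σ) rfl rfl φ).1 hφ)⟩
    · obtain ⟨g, hg⟩ := exists_refl h.nondeg hv0
      have hgr : (g : GL (PIdx m) F) = r := by
        refine Units.ext ?_
        rw [hr']
        refine Matrix.ext_iff_mulVec.2 fun z => ?_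
        show ap g z = _
        rw [hg.2, CfsgLib.Reflect.reflection_mulVec]
      refine ⟨α, σ, g, hσ, Or.inr ⟨v, hg, hv⟩, he.trans ?_⟩
      rw [(isField_iff (x := entryElt hQ 1 σ) rfl rfl φ).1 hφ,
        ← psi_eq_lin (g := r) (hgr ▸ isometry_le_sim g.2) hγ, ← map_mul]
      refine congrArg _ (Subtype.ext (SemidirectProduct.ext ?_ ?_))
      · simp [simInc, entryElt, hgr]
      · simp [simInc, entryElt]
  obtain ⟨a, ha, g', hg', hxa⟩ := exists_rep_plus hQ h hm hg α he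
  have ho : orderOf (psi Q (entryElt hQ g' σ)) = r := by rw [← hxr, hxa, hord]
  rcases hg' with ⟨rfl, -⟩ | ⟨v, hv, hfix⟩
  · let T₀ := simData Q 1 ⊤ fun τ _ v => by simp only [Units.val_one, one_mulVec]; exact plus_map hQ τ v
    have hphi : (T₀.twist h).φ ⟨σ, Subgroup.mem_top σ⟩ = psi Q (entryElt hQ 1 σ) :=
      congrArg (psi Q) (Subtype.ext (SemidirectProduct.ext (show (1 : GL (PIdx m) F) * (entryAct F (PIdx m) σ 1)⁻¹ = ((1 : Grp Q) : GL (PIdx m) F) by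
        simp) rfl))
    have hσr : orderOf σ = r := by
      rw [← ho, ← hphi, (T₀.twist h).orderOf_φ, ← Subgroup.orderOf_coe]
    have hP : ∀ τ ∈ Subgroup.zpowers σ, ∀ v, Q (((1 : GL (PIdx m) F) : Matrix (PIdx m) (PIdx m) F) *ᵥ fun i => τ (v i)) =
        τ (Q (((1 : GL (PIdx m) F) : Matrix (PIdx m) (PIdx m) F) *ᵥ v)) := fun τ _ v => by
      simp only [Units.val_one, one_mulVec]; exact plus_map hQ τ v
    rw [← plusData_range hQ h 1 (Subgroup.zpowers σ) hP] at hδ ⊢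
    exact coset_plus_aux hQ h hm hr hxr hσr ha (Or.inl rfl) (by simp) hP hxa hδ
  · obtain ⟨hr2, hσ2⟩ := graph_field_order hQ h hv hfix hσ hr ho
    obtain ⟨P, hPR, hPσ⟩ := exists_refl_structure hQ hσ2 hv hfix
    rw [← plusData_range hQ h P (Subgroup.zpowers σ) (hP_zpowers hPσ)] at hδ ⊢
    exact coset_plus_aux hQ h hm hr hxr (hr2 ▸ hσ2) ha (Or.inr ⟨hr2, v, hv, hfix⟩) hPR (hP_zpowers hPσ) hxa hδ

/-- The same statement for the named predicates. -/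
theorem coset_plus_named (hQ : ⇑Q = Cfsg.quadFormPlus m F) (h : Good Q) (hm : 1 ≤ m)
    {q : (PIdx m → F) → F} (hq : ⇑Q = q) {x δ : MulAut (Cfsg.POmega F q)}
    (hx : Cfsg.IsFieldAutClassPOmega q x ∨ ∃ (α γ φ : MulAut (Cfsg.POmega F q)) (σ : F ≃+* F)
      (v : PIdx m → F) (r : GL (PIdx m) F), σ ≠ RingEquiv.refl F ∧ q v ≠ 0 ∧ (∀ i, σ (v i) = v i) ∧
      (r : Matrix (PIdx m) (PIdx m) F) = Cfsg.reflectionMatrix q v ∧
      Cfsg.IsInducedBySemilinearPOmega q r (RingEquiv.refl F) γ ∧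
      Cfsg.IsFieldAutPOmegaOf q σ φ ∧ α * x * α⁻¹ = γ * φ) {r : ℕ} (hr : r.Prime) (hxr : orderOf x = r)
    (hδ : δ ∈ Cfsg.autSubgroupOf fun β : MulAut (Cfsg.POmega F q) => ∃ g : GL (PIdx m) F,
        g ∈ Cfsg.Geo.quadSimilarityGroup q ∧ Cfsg.PreservesSingularClasses q (g : Matrix (PIdx m) (PIdx m) F) ∧
        Cfsg.IsInducedBySemilinearPOmega q g (RingEquiv.refl F) β) :
    orderOf (δ * x) = r ↔ Cfsg.IsConjUnder (Cfsg.autSubgroupOf fun β : MulAut (Cfsg.POmega F q) => ∃ g : GL (PIdx m) F,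
        g ∈ Cfsg.Geo.quadSimilarityGroup q ∧ Cfsg.PreservesSingularClasses q (g : Matrix (PIdx m) (PIdx m) F) ∧
        Cfsg.IsInducedBySemilinearPOmega q g (RingEquiv.refl F) β) x (δ * x) := by
  subst hq
  exact coset_plus hQ h hm hx hr hxr rfl hδ

end CfsgLib.OrthAut
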