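import Cfsg.Agent.Lib.OrthAut.PlusCentral
import Cfsg.Agent.Lib.OrthAut.PlusCoset
import Cfsg.Agent.Lib.OrthAut.FieldOddCent
import Cfsg.Agent.Lib.Classical.RestrictScalars

/-!
The character measuring the action on the two classes for minus-type forms.
-/

set_option autoImplicit false
set_option linter.unusedSectionVars false

namespace CfsgLib.OrthAut

open Matrix CfsgLib.Orth CfsgLib.AutPSL
open CfsgLib.ClassicalAut (scal scal_coe)

universe u v

variable {F : Type u} [Field F] [Fintype F] {n : ℕ}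

/-- The hyperbolic form over the quadratic extension. -/
theorem exists_frame (n : ℕ) (a b : F)
    (hab : ∀ z₁ z₂ : F, z₁ ^ 2 + a * z₁ * z₂ + b * z₂ ^ 2 = 0 → z₁ = 0 ∧ z₂ = 0) :
    ∃ (L : Type u) (_ : Field L) (_ : Fintype L) (Q : QuadraticForm L (PIdx (n + 1) → L))
      (hQ : ⇑Q = Cfsg.quadFormPlus (n + 1) L) (τ : L ≃+* L) (M : MinusStr hQ τ F),
      Nondeg Q ∧ M.a₀ = a ∧ M.b₀ = b := by
  obtain ⟨L, _, _, hL⟩ := CfsgLib.Classical.OrthModels.exists_field (F := F)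
  obtain ⟨fr⟩ := CfsgLib.Classical.RestrictScalars.exists_Frame (F := F) (K := L) rfl hL a b hab
  obtain ⟨Q, hQ, hB⟩ := exists_quadForm_plus (F := L) (n + 1)
  let τ : L ≃+* L := RingEquiv.ofBijective fr.σ
    ⟨fr.σ.injective, fun x => ⟨fr.σ x, fr.σσ x⟩⟩
  exact ⟨L, inferInstance, inferInstance, Q, hQ, τ,
    ⟨fr.emb, fun y => fr.σ_emb y, fun z hz => (fr.fixed z).1 hz,
      by rw [Nat.card_eq_fintype_card, Nat.card_eq_fintype_card, hL],
      fr.ω, fun e => fr.ω_ne e.symm, fr.σσ _, a, b, fr.sum_eq.symm, fr.prod_eq.symm, hab⟩, hB, rfl, rfl⟩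

section Frame

variable {L : Type u} [Field L] [Fintype L] {Q : QuadraticForm L (PIdx (n + 1) → L)}
variable {hQ : ⇑Q = Cfsg.quadFormPlus (n + 1) L} {τ : L ≃+* L}

namespace MinusStr

variable (M : MinusStr hQ τ F)

/-- The rational structure without the simplicity hypotheses. -/
noncomputable def rat' (hB : Nondeg Q) {Qm : QuadraticForm F (MIdx n → F)}
    (hQm : ⇑Qm = Cfsg.quadFormMinus n F M.a₀ M.b₀) :
    Rat (plusData hQ hB M.P (Subgroup.zpowers τ) (hP_zpowers M.P_comm)) ⟨τ, Subgroup.mem_zpowers τ⟩ F :=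
  ⟨M.e, M.fix, M.surj, minusOnPlus Qm, fun y => M.form_emb hQm y⟩

/-- Similitudes of the minus form read over the extension. -/
noncomputable def toSim (hB : Nondeg Q) {Qm : QuadraticForm F (MIdx n → F)}
    (hQm : ⇑Qm = Cfsg.quadFormMinus n F M.a₀ M.b₀) :
    Cfsg.Geo.quadSimilarityGroup ⇑Qm →* Cfsg.Geo.quadSimilarityGroup ⇑Q :=
  (M.rat' hB hQm).thetaSim.comp (MonoidHom.codRestrict ((reind F n).comp (Cfsg.Geo.quadSimilarityGroup ⇑Qm).subtype)
    (Cfsg.Geo.quadSimilarityGroup ⇑(minusOnPlus Qm)) fun u => reind_mem u.2)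

theorem toSim_coe (hB : Nondeg Q) {Qm : QuadraticForm F (MIdx n → F)}
    (hQm : ⇑Qm = Cfsg.quadFormMinus n F M.a₀ M.b₀) (g : Cfsg.Geo.quadSimilarityGroup ⇑Qm) :
    ((M.toSim hB hQm g : GL (PIdx (n + 1)) L)) =
      M.P * Units.map M.e.mapMatrix.toMonoidHom (reind F n (g : GL (MIdx n) F)) * M.P⁻¹ := rfl

theorem preserves_chi (hB : Nondeg Q) {Qm : QuadraticForm F (MIdx n → F)}
    (hQm : ⇑Qm = Cfsg.quadFormMinus n F M.a₀ M.b₀) (g : Cfsg.Geo.quadSimilarityGroup ⇑Qm) :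
    Cfsg.PreservesSingularClassesMinus n M.a₀ M.b₀ ((g : GL (MIdx n) F) : Matrix (MIdx n) (MIdx n) F) ↔
      chiP hQ hB (M.toSim hB hQm g) = 1 :=
  (M.preserves_iff (g : GL (MIdx n) F) (M.toSim_coe hB hQm g)).trans (chiP_iff hQ hB _)

set_option maxHeartbeats 400000 in
theorem chi_grp (hB : Nondeg Q) {Qm : QuadraticForm F (MIdx n → F)}
    (hQm : ⇑Qm = Cfsg.quadFormMinus n F M.a₀ M.b₀) (hBm : Nondeg Qm) (hn : 2 ≤ n) (s : Grp Qm) :
    chiP hQ hB (M.toSim hB hQm ⟨s, isometry_le_sim s.2⟩) = dickson hBm s := by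
  let η : Grp Qm →* ℤˣ := ((chiP hQ hB).comp (M.toSim hB hQm)).comp (Subgroup.inclusion isometry_le_sim)
  have hs : s ∈ Refl Qm := by
    rw [refl_eq_top hBm fun e => by simp at e; omega]
    trivial
  refine MonoidHom.eqOn_closure (f := η) (g := dickson hBm) ?_ hs
  rintro g ⟨v, hg⟩
  rw [dickson_refl hBm hg]
  let g' : Grp (minusOnPlus Qm) := ⟨reind F n g, fun x _ => by
    show minusOnPlus Qm ((reind F n (g : GL (MIdx n) F) : Matrix (PIdx (n + 1)) (PIdx (n + 1)) F) *ᵥ x) =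
      minusOnPlus Qm x
    rw [minusOnPlus_apply, minusOnPlus_apply, reind_mulVec, Function.comp_assoc, Equiv.symm_comp_self,
      Function.comp_id]
    exact ap_q g _⟩
  have hg' : IsRefl (v ∘ (rho n).symm) g' := by
    refine ⟨?_, fun x => ?_⟩
    · rw [minusOnPlus_apply, Function.comp_assoc, Equiv.symm_comp_self, Function.comp_id]
      exact hg.1
    · show ((reind F n (g : GL (MIdx n) F) : Matrix (PIdx (n + 1)) (PIdx (n + 1)) F) *ᵥ x) = _
      rw [reind_mulVec]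
      rw [show ((g : GL (MIdx n) F) : Matrix (MIdx n) (MIdx n) F) *ᵥ (x ∘ rho n) = _ from hg.2 (x ∘ rho n)]
      funext i
      simp [QuadraticMap.polarBilin, QuadraticMap.polar, minusOnPlus_apply, Function.comp_assoc, Pi.add_comp]
  show chiP hQ hB (M.toSim hB hQm ⟨(g : GL (MIdx n) F), isometry_le_sim g.2⟩) = -1
  rw [show M.toSim hB hQm ⟨(g : GL (MIdx n) F), isometry_le_sim g.2⟩ =
    ⟨((M.rat' hB hQm).thetaGrp g' : GL (PIdx (n + 1)) L), isometry_le_sim ((M.rat' hB hQm).thetaGrp g').2⟩ from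
      Subtype.ext rfl]
  exact chiP_refl hQ hB ((M.rat' hB hQm).thetaGrp_refl hg')

end MinusStr

end Frame

/-- The character on the similitudes of a minus form. -/
theorem exists_mu {a b : F} (hab : ∀ z₁ z₂ : F, z₁ ^ 2 + a * z₁ * z₂ + b * z₂ ^ 2 = 0 → z₁ = 0 ∧ z₂ = 0)
    {Qm : QuadraticForm F (MIdx n → F)} (hQm : ⇑Qm = Cfsg.quadFormMinus n F a b) (hBm : Nondeg Qm) (hn : 2 ≤ n) :
    ∃ μ : Cfsg.Geo.quadSimilarityGroup ⇑Qm →* ℤˣ,
      (∀ g : Cfsg.Geo.quadSimilarityGroup ⇑Qm,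
        Cfsg.PreservesSingularClassesMinus n a b ((g : GL (MIdx n) F) : Matrix (MIdx n) (MIdx n) F) ↔ μ g = 1) ∧
      (∀ s : Grp Qm, μ ⟨s, isometry_le_sim s.2⟩ = dickson hBm s) ∧
      ∀ c : Fˣ, μ ⟨scal c, scal_mem_sim c⟩ = 1 := by
  obtain ⟨L, _, _, Q, hQ, τ, M, hB, rfl, rfl⟩ := exists_frame n a b hab
  refine ⟨(chiP hQ hB).comp (M.toSim hB hQm), M.preserves_chi hB hQm, M.chi_grp hB hQm hBm hn, fun c => ?_⟩
  have e : M.toSim hB hQm ⟨scal c, scal_mem_sim c⟩ =
      ⟨scal (Units.map M.e.toMonoidHom c), scal_mem_sim _⟩ := Subtype.ext (by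
    show (M.rat' hB hQm).theta (reind F n (scal c)) = _
    rw [show reind F n (scal c) = scal c from Units.ext (by
      show Matrix.reindexAlgEquiv F F (rho n) ((scal c : GL (MIdx n) F) : Matrix (MIdx n) (MIdx n) F) = _
      rw [scal_coe, scal_coe, map_smul, map_one]), (M.rat' hB hQm).theta_scal]
    rfl)
  rw [MonoidHom.comp_apply, e, chiP_scal]

/-- The two classes correspond along semilinear maps between minus forms over finite fields. -/
theorem preservesMinus_map {F' : Type v} [Field F'] [Fintype F'] {e : F →+* F'} {a b : F} {a' b' : F'}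
    (hab : ∀ z₁ z₂ : F, z₁ ^ 2 + a * z₁ * z₂ + b * z₂ ^ 2 = 0 → z₁ = 0 ∧ z₂ = 0)
    (hab' : ∀ z₁ z₂ : F', z₁ ^ 2 + a' * z₁ * z₂ + b' * z₂ ^ 2 = 0 → z₁ = 0 ∧ z₂ = 0)
    {Qm : QuadraticForm F (MIdx n → F)} (hQm : ⇑Qm = Cfsg.quadFormMinus n F a b)
    {Qm' : QuadraticForm F' (MIdx n → F')} (hQm' : ⇑Qm' = Cfsg.quadFormMinus n F' a' b')
    {P : GL (MIdx n) F'} {c : F'} (hc : c ≠ 0)
    (hP : ∀ v, Qm' ((P : Matrix (MIdx n) (MIdx n) F') *ᵥ fun i => e (v i)) = c * e (Qm v))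
    (g : Cfsg.Geo.quadSimilarityGroup ⇑Qm) (g' : Cfsg.Geo.quadSimilarityGroup ⇑Qm')
    (hg : (g' : GL (MIdx n) F') * P = P * Units.map e.mapMatrix.toMonoidHom (g : GL (MIdx n) F)) :
    Cfsg.PreservesSingularClassesMinus n a b ((g : GL (MIdx n) F) : Matrix (MIdx n) (MIdx n) F) ↔
      Cfsg.PreservesSingularClassesMinus n a' b' ((g' : GL (MIdx n) F') : Matrix (MIdx n) (MIdx n) F') := by
  obtain ⟨L, _, _, Q, hQ, τ, M, hB, rfl, rfl⟩ := exists_frame n a b hab
  obtain ⟨L', _, _, Q', hQ', τ', M', hB', rfl, rfl⟩ := exists_frame n a' b' hab'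
  rw [M.preserves_chi hB hQm, M'.preserves_chi hB' hQm']
  suffices chiP hQ hB (M.toSim hB hQm g) = chiP hQ' hB' (M'.toSim hB' hQm' g') by rw [this]
  -- an embedding of the extensions
  obtain ⟨ε, hε⟩ : ∃ ε : L →+* L', ∀ y, ε (M.e y) = M'.e (e y) := by
    letI := M.e.toAlgebra
    letI := (M'.e.comp e).toAlgebra
    have h2 : Module.finrank F L = 2 := by
      refine Nat.pow_right_injective (Finite.one_lt_card : 2 ≤ Nat.card F) ?_
      show Nat.card F ^ _ = Nat.card F ^ 2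
      rw [← Module.natCard_eq_pow_finrank, M.card]
    obtain ⟨d, hd⟩ : 2 ∣ Module.finrank F L' := by
      letI := e.toAlgebra
      refine ⟨Module.finrank F F', Nat.pow_right_injective (Finite.one_lt_card : 2 ≤ Nat.card F) ?_⟩
      show Nat.card F ^ _ = Nat.card F ^ (2 * _)
      rw [← Module.natCard_eq_pow_finrank, M'.card, mul_comm, pow_mul, ← Module.natCard_eq_pow_finrank]
    obtain ⟨A⟩ : Nonempty (L →ₐ[F] L') := FiniteField.nonempty_algHom_of_finrank_dvd (by rw [h2, hd]; exact dvd_mul_right 2 d)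
    exact ⟨A.toRingHom, fun y => A.commutes y⟩
  let ρP : GL (PIdx (n + 1)) L' := Units.map M'.e.mapMatrix.toMonoidHom (reind F' n P)
  let Z : GL (PIdx (n + 1)) L' := M'.P * ρP * (Units.map ε.mapMatrix.toMonoidHom M.P)⁻¹
  have hZP : Z * Units.map ε.mapMatrix.toMonoidHom M.P = M'.P * ρP := inv_mul_cancel_right _ _
  have hc' : M'.e c ≠ 0 := by simpa using hc
  have hZ : ∀ v, Q' ((Z : Matrix (PIdx (n + 1)) (PIdx (n + 1)) L') *ᵥ fun i => ε (v i)) = M'.e c * ε (Q v) := by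
    intro v
    obtain ⟨w, rfl⟩ : ∃ w, (M.P : Matrix (PIdx (n + 1)) (PIdx (n + 1)) L) *ᵥ w = v :=
      ⟨((M.P⁻¹ : GL (PIdx (n + 1)) L) : Matrix (PIdx (n + 1)) (PIdx (n + 1)) L) *ᵥ v, by
        rw [mulVec_mulVec, Units.mul_inv, one_mulVec]⟩
    rw [show (fun i => ε (((M.P : Matrix (PIdx (n + 1)) (PIdx (n + 1)) L) *ᵥ w) i)) =
      ((Units.map ε.mapMatrix.toMonoidHom M.P : GL (PIdx (n + 1)) L') : Matrix (PIdx (n + 1)) (PIdx (n + 1)) L') *ᵥ
        fun i => ε (w i) from funext fun i => RingHom.map_mulVec ε _ w i,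
      mulVec_mulVec, ← Units.val_mul, hZP]
    have hεP : ∀ z, Q' (((Units.map ε.mapMatrix.toMonoidHom M.P : GL (PIdx (n + 1)) L') :
        Matrix (PIdx (n + 1)) (PIdx (n + 1)) L') *ᵥ fun i => ε (z i)) =
        ε (Q ((M.P : Matrix (PIdx (n + 1)) (PIdx (n + 1)) L) *ᵥ z)) := fun z => by
      rw [show ((Units.map ε.mapMatrix.toMonoidHom M.P : GL (PIdx (n + 1)) L') :
        Matrix (PIdx (n + 1)) (PIdx (n + 1)) L') *ᵥ (fun i => ε (z i)) =
          fun i => ε (((M.P : Matrix (PIdx (n + 1)) (PIdx (n + 1)) L) *ᵥ z) i) from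
        funext fun i => (RingHom.map_mulVec ε _ z i).symm, hQ', hQ]
      exact plus_emb ε _
    have heq : pull Q' ((M'.P * ρP : GL (PIdx (n + 1)) L') : Matrix (PIdx (n + 1)) (PIdx (n + 1)) L') =
        M'.e c • pull Q' ((Units.map ε.mapMatrix.toMonoidHom M.P : GL (PIdx (n + 1)) L') :
          Matrix (PIdx (n + 1)) (PIdx (n + 1)) L') :=
      ext_emb (M'.e.comp e).fieldRange fun z => by
        choose y hy using fun i => (z i).2
        have hz : emb _ z = fun i => M'.e (e (y i)) := funext fun i => (hy i).symm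
        have hz' : emb _ z = fun i => ε (M.e (y i)) := funext fun i => by rw [hz, hε]
        rw [_root_.QuadraticMap.smul_apply, pull_apply, pull_apply, smul_eq_mul]
        conv_rhs => rw [hz', hεP, M.form_emb hQm, hε, ← map_mul, minusOnPlus_apply, ← hP]
        rw [hz, Units.val_mul, ← mulVec_mulVec]
        have hρ : ((ρP : GL (PIdx (n + 1)) L') : Matrix (PIdx (n + 1)) (PIdx (n + 1)) L') *ᵥ
            (fun i => M'.e (e (y i))) = fun i => M'.e ((((reind F' n P : GL (PIdx (n + 1)) F') :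
              Matrix (PIdx (n + 1)) (PIdx (n + 1)) F') *ᵥ fun j => e (y j)) i) :=
          funext fun i => (RingHom.map_mulVec M'.e _ _ i).symm
        rw [hρ, M'.form_emb hQm', minusOnPlus_apply, reind_mulVec, Function.comp_assoc, Equiv.symm_comp_self,
          Function.comp_id]
        rfl
    have := DFunLike.congr_fun heq fun i => ε (w i)
    rw [pull_apply, _root_.QuadraticMap.smul_apply, pull_apply, hεP, smul_eq_mul] at this
    exact this
  have hU : IsHalf Q' (ext ε Z (stdHalf (n + 1) L)) := half_ext hZ (isHalf_std hQ)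
  show hpar (stdHalf (n + 1) L) _ = chi hB' (isHalf_std hQ') (simInc Q' (M'.toSim hB' hQm' g'))
  rw [← chi_eq hB' (isHalf_std hQ') hU, ← hpar_ext ε Z]
  refine congrArg _ ?_
  rw [extS, extS, ext_ext, ext_ext]
  congr 1
  show Z * Units.map ε.mapMatrix.toMonoidHom (M.toSim hB hQm g : GL (PIdx (n + 1)) L) =
    (M'.toSim hB' hQm' g' : GL (PIdx (n + 1)) L') * Units.map (RingHom.id L').mapMatrix.toMonoidHom Z
  rw [show Units.map (RingHom.id L').mapMatrix.toMonoidHom Z = Z from Units.ext (Matrix.ext fun _ _ => rfl),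
    M.toSim_coe, M'.toSim_coe, map_mul, map_mul, map_inv, ← mul_assoc, ← mul_assoc, hZP]
  have h1 : ρP * Units.map ε.mapMatrix.toMonoidHom (Units.map M.e.mapMatrix.toMonoidHom (reind F n (g : GL (MIdx n) F))) =
      Units.map M'.e.mapMatrix.toMonoidHom (reind F' n (g' : GL (MIdx n) F')) * ρP := by
    rw [show Units.map ε.mapMatrix.toMonoidHom (Units.map M.e.mapMatrix.toMonoidHom (reind F n (g : GL (MIdx n) F))) =
      Units.map M'.e.mapMatrix.toMonoidHom (reind F' n (Units.map e.mapMatrix.toMonoidHom (g : GL (MIdx n) F))) from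
        Units.ext (Matrix.ext fun i j => hε _), ← map_mul, ← map_mul, ← map_mul, ← map_mul, hg]
  simp only [Z, mul_assoc]
  rw [inv_mul_cancel_left, ← mul_assoc ρP, h1, mul_assoc]

end CfsgLib.OrthAut
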