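import Mathlib
import Cfsg.Prelude.Def_LieTypeDatum

/-!
The number of classes into which a class splits under a normal subgroup.
-/

set_option autoImplicit false

namespace CfsgLib.OrthAut

theorem splitClassCount_conj {X : Type*} [Group X] (H K : Subgroup X) (x : X) {a : X} (ha : a ∈ H) :
    Cfsg.splitClassCount H K (a * x * a⁻¹) = Cfsg.splitClassCount H K x := by
  have e : Cfsg.IsConjUnder H (a * x * a⁻¹) = Cfsg.IsConjUnder H x := by
    funext y
    refine propext ⟨?_, ?_⟩
    · rintro ⟨h, hh, rfl⟩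
      exact ⟨h * a, mul_mem hh ha, by group⟩
    · rintro ⟨h, hh, rfl⟩
      exact ⟨h * a⁻¹, mul_mem hh (inv_mem ha), by group⟩
  unfold Cfsg.splitClassCount
  rw [e]

/-- The count times the index of `N` in the product with the centraliser is the index of `N`. -/
theorem splitClassCount_mul {X : Type*} [Group X] (H N : Subgroup X) [N.Normal] (hN : N ≤ H) (x : X) :
    Cfsg.splitClassCount H N x * N.relIndex (H ⊓ Subgroup.centralizer {x}) = N.relIndex H := by
  set C := H ⊓ Subgroup.centralizer {x}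
  rw [← Subgroup.relIndex_sup_right (H := C) (K := N), mul_comm,
    ← Subgroup.relIndex_mul_relIndex N (C ⊔ N) H le_sup_right (sup_le inf_le_left hN)]
  congr 1
  let M : Subgroup H := (C ⊔ N).subgroupOf H
  have hM : ∀ g g' : H, g⁻¹ * g' ∈ M ↔ Cfsg.IsConjUnder N ((g : X) * x * (g : X)⁻¹) ((g' : X) * x * (g' : X)⁻¹) := by
    intro g g'
    show (g : X)⁻¹ * (g' : X) ∈ C ⊔ N ↔ _
    constructor
    · intro hmem
      rw [← SetLike.mem_coe, Subgroup.mul_normal C N] at hmem
      obtain ⟨k, hk, n, hn, he⟩ := Set.mem_mul.1 hmem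
      refine ⟨(g : X) * k * n * k⁻¹ * (g : X)⁻¹, ?_, ?_⟩
      · have : k * n * k⁻¹ ∈ N := Subgroup.Normal.conj_mem inferInstance n hn k
        simpa [mul_assoc] using Subgroup.Normal.conj_mem (inferInstance : N.Normal) _ this (g : X)
      · have hkx : k * x = x * k := Subgroup.mem_centralizer_singleton_iff.1 hk.2
        have hc : k * x * k⁻¹ = x := by rw [hkx, mul_inv_cancel_right]
        rw [show (g' : X) = (g : X) * (k * n) by rw [show k * n = _ from he]; group]
        calc (g : X) * (k * n) * x * ((g : X) * (k * n))⁻¹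
            = (g : X) * (k * n) * x * n⁻¹ * k⁻¹ * (g : X)⁻¹ := by group
          _ = (g : X) * k * n * k⁻¹ * (k * x * k⁻¹) * (k * n⁻¹ * k⁻¹) * (g : X)⁻¹ := by group
          _ = (g : X) * k * n * k⁻¹ * x * (k * n⁻¹ * k⁻¹) * (g : X)⁻¹ := by rw [hc]
          _ = _ := by group
    · rintro ⟨n, hn, he⟩
      have hk : (g' : X)⁻¹ * n * (g : X) ∈ C := by
        refine ⟨H.mul_mem (H.mul_mem (H.inv_mem g'.2) (hN hn)) g.2, Subgroup.mem_centralizer_singleton_iff.2 ?_⟩
        have h1 := congrArg (fun z => (g' : X)⁻¹ * z * (n * (g : X))) he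
        simp only [mul_assoc, inv_mul_cancel_left, inv_mul_cancel, mul_one] at h1 ⊢
        exact h1.symm
      have h2 : (g : X)⁻¹ * n⁻¹ * (g : X) ∈ N := by
        simpa using Subgroup.Normal.conj_mem (inferInstance : N.Normal) _ (inv_mem hn) (g : X)⁻¹
      have h3 : (g' : X)⁻¹ * (g : X) = ((g' : X)⁻¹ * n * (g : X)) * ((g : X)⁻¹ * n⁻¹ * (g : X)) := by group
      have h4 : (g' : X)⁻¹ * (g : X) ∈ C ⊔ N :=
        h3 ▸ mul_mem (Subgroup.mem_sup_left hk) (Subgroup.mem_sup_right h2)
      simpa using inv_mem h4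
  have heqv : Equivalence fun y z : {y : X // Cfsg.IsConjUnder H x y} => Cfsg.IsConjUnder N y.1 z.1 := by
    refine ⟨fun y => ⟨1, one_mem _, by simp⟩, ?_, ?_⟩
    · rintro y z ⟨i, hi, he⟩
      exact ⟨i⁻¹, inv_mem hi, by rw [he]; simp [mul_assoc]⟩
    · rintro y z w ⟨i, hi, he⟩ ⟨j, hj, he'⟩
      exact ⟨j * i, mul_mem hj hi, by rw [he', he]; simp [mul_assoc]⟩
  refine (Nat.card_eq_of_bijective
    (Quotient.lift (fun g : H => Quot.mk _ (⟨(g : X) * x * (g : X)⁻¹, g, g.2, rfl⟩ :
      {y : X // Cfsg.IsConjUnder H x y})) fun g g' h =>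
        Quot.sound ((hM g g').1 ((QuotientGroup.leftRel_apply (s := M)).1 h))) ⟨?_, ?_⟩).symm
  · intro q q'
    induction q using Quotient.inductionOn with
    | _ g =>
    induction q' using Quotient.inductionOn with
    | _ g' =>
    intro h
    exact Quotient.sound ((QuotientGroup.leftRel_apply (s := M)).2
      ((hM g g').2 (heqv.eqvGen_iff.1 (Quot.eqvGen_exact h))))
  · intro q
    induction q using Quot.inductionOn with
    | _ y =>
    obtain ⟨y, g, hg, rfl⟩ := y
    exact ⟨Quotient.mk _ ⟨g, hg⟩, rfl⟩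

end CfsgLib.OrthAut
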