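import Cfsg.Agent.Lib.OrthAut.MinusClass
import Cfsg.Agent.Lib.OrthAut.PlusClasses
import Cfsg.Agent.Lib.OrthAut.SplitCount

/-!
Field automorphisms of minus-type groups.
-/

set_option autoImplicit false
set_option linter.unusedSectionVars false

namespace CfsgLib.OrthAut

open Matrix CfsgLib.Orth CfsgLib.AutPSL
open CfsgLib.ClassicalAut (scal scal_coe)
open CfsgLib.Classical.OrthModels (Iso)

universe u v

variable {F : Type u} [Field F] [Fintype F] {n : ℕ}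
variable {a b : F} {Qm : QuadraticForm F (MIdx n → F)}

/-- An entrywise fixed reflection. -/
theorem refl_entry_of_map {ι : Type} [Fintype ι] [DecidableEq ι] {Q : QuadraticForm F (ι → F)} (σ : F ≃+* F)
    (hmap : ∀ w, Q (fun i => σ (w i)) = σ (Q w)) {v : ι → F} {g : Grp Q} (hg : IsRefl v g)
    (hv : ∀ i, σ (v i) = v i) : entryAct F ι σ (g : GL ι F) = g := by
  let x : semi Q := ⟨⟨1, σ⟩, 1, fun w => by simpa using hmap w⟩
  have h1 := refl_conj (x := x) hg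
  rw [show sv (x : Semilin F ι) v = v by
    show ((1 : GL ι F) : Matrix ι ι F) *ᵥ _ = v
    rw [Units.val_one, one_mulVec]
    exact funext hv] at h1
  have h2 : onGrp Q x g = g := ext_ap fun z => by rw [h1.2, hg.2]
  have h3 := congrArg (fun z : Grp Q => (z : GL ι F)) h2
  simpa [onGrp_coe, x] using h3

theorem minus_map (hQm : ⇑Qm = Cfsg.quadFormMinus n F a b) {σ : F ≃+* F} (ha : σ a = a) (hb : σ b = b)
    (v : MIdx n → F) : Qm (fun i => σ (v i)) = σ (Qm v) := by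
  rw [hQm]
  simp [Cfsg.quadFormMinus, map_sum, ha, hb]

theorem minus_emb {F₀ : Type v} [Field F₀] (e : F₀ →+* F) {a₀ b₀ : F₀} (ha : e a₀ = a) (hb : e b₀ = b)
    (y : MIdx n → F₀) :
    Cfsg.quadFormMinus n F a b (fun i => e (y i)) = e (Cfsg.quadFormMinus n F₀ a₀ b₀ y) := by
  simp [Cfsg.quadFormMinus, map_sum, ha, hb]

/-- The similitudes fixing both families. -/
def minusH (Qm : QuadraticForm F (MIdx n → F)) (a b : F) : Subgroup (GL (MIdx n) F) :=
  Subgroup.closure {g | g ∈ Cfsg.Geo.quadSimilarityGroup ⇑Qm ∧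
    Cfsg.PreservesSingularClassesMinus n a b (g : Matrix (MIdx n) (MIdx n) F)}

section Basics

variable (hab : ∀ z₁ z₂ : F, z₁ ^ 2 + a * z₁ * z₂ + b * z₂ ^ 2 = 0 → z₁ = 0 ∧ z₂ = 0)
variable (hQm : ⇑Qm = Cfsg.quadFormMinus n F a b) (hBm : Nondeg Qm) (hn : 2 ≤ n)

include hab hQm hBm hn

theorem mem_minusH {g : GL (MIdx n) F} :
    g ∈ minusH Qm a b ↔ g ∈ Cfsg.Geo.quadSimilarityGroup ⇑Qm ∧
      Cfsg.PreservesSingularClassesMinus n a b (g : Matrix (MIdx n) (MIdx n) F) := by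
  obtain ⟨μ, hμ, -, -⟩ := exists_mu hab hQm hBm hn
  refine ⟨fun hg => ?_, fun hg => Subgroup.subset_closure hg⟩
  have hle : minusH Qm a b ≤ μ.ker.map (Cfsg.Geo.quadSimilarityGroup ⇑Qm).subtype :=
    (Subgroup.closure_le _).2 fun z ⟨hz, hp⟩ => ⟨⟨z, hz⟩, (hμ ⟨z, hz⟩).1 hp, rfl⟩
  obtain ⟨z, hz, rfl⟩ := hle hg
  exact ⟨z.2, (hμ z).2 hz⟩

theorem omega_le_minusH (g : Grp Qm) (hg : g ∈ Cfsg.Omega F ⇑Qm) : (g : GL (MIdx n) F) ∈ minusH Qm a b := by
  obtain ⟨μ, hμ, hμd, -⟩ := exists_mu hab hQm hBm hn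
  exact Subgroup.subset_closure ⟨isometry_le_sim g.2, (hμ ⟨g, isometry_le_sim g.2⟩).2 (by
    rw [hμd]; exact Abelianization.commutator_subset_ker _ hg)⟩

/-- The twisted structure given by a group of field automorphisms fixing the coefficients. -/
noncomputable def minusTD (S : Subgroup (F ≃+* F)) (hS : ∀ σ ∈ S, σ a = a ∧ σ b = b) : TData Qm where
  P := 1
  S := S
  H := minusH Qm a b
  hP σ hσ v := by
    simp only [Units.val_one, one_mulVec]
    exact minus_map hQm (hS σ hσ).1 (hS σ hσ).2 v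
  le g hg := ((mem_minusH hab hQm hBm hn).1 hg).1
  stable σ hσ g hg := by
    obtain ⟨hgs, hgp⟩ := (mem_minusH hab hQm hBm hn).1 hg
    have hmem : entryAct F (MIdx n) σ g ∈ Cfsg.Geo.quadSimilarityGroup ⇑Qm := by
      obtain ⟨c, hc⟩ := hgs
      refine ⟨Units.map σ.toRingHom.toMonoidHom c, fun v => ?_⟩
      obtain ⟨w, rfl⟩ : ∃ w, (fun i => σ (w i)) = v :=
        ⟨fun i => σ.symm (v i), funext fun i => σ.apply_symm_apply _⟩
      rw [entryAct_coe, show (g : Matrix (MIdx n) (MIdx n) F).map σ *ᵥ (fun i => σ (w i)) =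
          fun i => σ (((g : Matrix (MIdx n) (MIdx n) F) *ᵥ w) i) from
          (funext fun i => RingHom.map_mulVec σ.toRingHom _ w i).symm,
        minus_map hQm (hS σ hσ).1 (hS σ hσ).2, minus_map hQm (hS σ hσ).1 (hS σ hσ).2, hc, map_mul]
      rfl
    have hp : Cfsg.PreservesSingularClassesMinus n a b
        ((entryAct F (MIdx n) σ g : GL (MIdx n) F) : Matrix (MIdx n) (MIdx n) F) :=
      (preservesMinus_map (e := σ.toRingHom) hab hab hQm hQm (P := 1) one_ne_zero (fun v => by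
        rw [Units.val_one, one_mulVec, one_mul]
        exact minus_map hQm (hS σ hσ).1 (hS σ hσ).2 v) ⟨g, hgs⟩ ⟨_, hmem⟩ (by
        rw [mul_one, one_mul]
        exact Units.ext (entryAct_coe σ g))).1 hgp
    have h3 : entryAct F (MIdx n) σ g ∈ minusH Qm a b := Subgroup.subset_closure ⟨hmem, hp⟩
    simpa using h3
  omega g hg := omega_le_minusH hab hQm hBm hn g hg

theorem minusTD_R (S : Subgroup (F ≃+* F)) (hS : ∀ σ ∈ S, σ a = a ∧ σ b = b) (σ : F ≃+* F) :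
    (minusTD hab hQm hBm hn S hS).R σ = 1 := by
  show (1 : GL (MIdx n) F) * (entryAct F (MIdx n) σ 1)⁻¹ = 1
  simp

theorem minusTD_range (h : Good Qm) (S : Subgroup (F ≃+* F)) (hS : ∀ σ ∈ S, σ a = a ∧ σ b = b) :
    ((minusTD hab hQm hBm hn S hS).twist h).δ.range =
      Cfsg.autSubgroupOf fun β : MulAut (Cfsg.POmega F ⇑Qm) => ∃ g : GL (MIdx n) F,
        g ∈ Cfsg.Geo.quadSimilarityGroup ⇑Qm ∧
        Cfsg.PreservesSingularClassesMinus n a b (g : Matrix (MIdx n) (MIdx n) F) ∧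
        Cfsg.IsInducedBySemilinearPOmega ⇑Qm g (RingEquiv.refl F) β := by
  refine le_antisymm ?_ ((Subgroup.closure_le _).2 ?_)
  · rintro _ ⟨g, rfl⟩
    obtain ⟨hg, hp⟩ := (mem_minusH hab hQm hBm hn).1 g.2
    exact Subgroup.subset_closure ⟨g, hg, hp, psi_spec (simInc Qm ⟨g, hg⟩)⟩
  · rintro β ⟨g, hg, hp, hβ⟩
    exact ⟨⟨g, Subgroup.subset_closure ⟨hg, hp⟩⟩, psi_eq_lin hg hβ⟩

/-- A rational reflection. -/
theorem exists_refl_minus :
    ∃ (v : MIdx n → F) (r : Grp Qm), IsRefl v r ∧ ∀ (σ : F ≃+* F) i, σ (v i) = v i := by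
  let i₀ : Fin n := ⟨0, by omega⟩
  let v : MIdx n → F := Sum.elim (Sum.elim (fun i => if i = i₀ then 1 else 0) fun i => if i = i₀ then 1 else 0) fun _ => 0
  have hv : Qm v = 1 := by
    rw [hQm, Cfsg.quadFormMinus, Finset.sum_eq_single i₀ (fun b _ hb => by simp [v, hb]) (by simp)]
    simp [v]
  obtain ⟨r, hr⟩ := exists_refl hBm (v := v) (by rw [hv]; exact one_ne_zero)
  exact ⟨v, r, hr, fun σ i => by rcases i with (i | i) | i <;> simp [v, apply_ite σ]⟩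

end Basics

/-- A minus form has no rational structure of plus type. -/
theorem not_plus_structure (hab : ∀ z₁ z₂ : F, z₁ ^ 2 + a * z₁ * z₂ + b * z₂ ^ 2 = 0 → z₁ = 0 ∧ z₂ = 0)
    (hQm : ⇑Qm = Cfsg.quadFormMinus n F a b) {K : Subfield F} {h : GL (MIdx n) F} {ν : F}
    {R₁ : QuadraticForm K (MIdx n → K)}
    (hh : ∀ x, Qm ((h : Matrix (MIdx n) (MIdx n) F) *ᵥ emb _ x) = ν * ((R₁ x : K) : F)) :
    ¬ Iso (⇑R₁) (Cfsg.quadFormPlus (n + 1) K) := by
  rintro ⟨g, hg⟩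
  haveI : Fintype K := Fintype.ofFinite K
  let U : Submodule K (MIdx n → K) := (stdHalf (n + 1) K).comap g.toLinearMap
  have hU : ∀ x ∈ U, R₁ x = 0 := fun x hx => by
    rw [← hg x]
    have hx' : g x ∈ stdHalf (n + 1) K := hx
    simp [Cfsg.quadFormPlus, mem_stdHalf.1 hx']
  have h1 := minus_singular_le n hab (ext K.subtype h U) fun x hx => by
    rw [← hQm]
    exact ext_singular (Q := R₁) (c := ν) (fun v => hh v) hU x hx
  rw [finrank_ext] at h1
  obtain ⟨Qp, hQp, -⟩ := exists_quadForm_plus (F := K) (n + 1)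
  have h2 : Module.finrank K U = Module.finrank K (stdHalf (n + 1) K) := by
    rw [show U = (stdHalf (n + 1) K).map g.symm.toLinearMap from Submodule.comap_equiv_eq_map_symm g _]
    exact (g.symm.submoduleMap _).finrank_eq.symm
  have h3 := (isHalf_std hQp).2
  rw [h2] at h1
  simp only [Module.finrank_fintype_fun_eq_card, Fintype.card_sum, Fintype.card_fin] at h3
  omega

section Field

variable (hab : ∀ z₁ z₂ : F, z₁ ^ 2 + a * z₁ * z₂ + b * z₂ ^ 2 = 0 → z₁ = 0 ∧ z₂ = 0)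
variable (hQm : ⇑Qm = Cfsg.quadFormMinus n F a b) (hBm : Nondeg Qm) (hn : 2 ≤ n)

theorem zpowers_fix {σ : F ≃+* F} (ha : σ a = a) (hb : σ b = b) :
    ∀ τ ∈ Subgroup.zpowers σ, τ a = a ∧ τ b = b := by
  intro τ hτ
  have h1 : ∀ {z : F}, σ z = z → τ z = z := fun {z} hz => by
    have hle : Subgroup.zpowers σ ≤ MulAction.stabilizer (F ≃+* F) z := by
      rw [Subgroup.zpowers_le]
      exact hz
    exact hle hτ
  exact ⟨h1 ha, h1 hb⟩

/-- Vanishing of the first cohomology in minus type. -/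
theorem coboundary_minus (h : Good Qm) {σ : F ≃+* F} (ha : σ a = a) (hb : σ b = b) {r : ℕ} (hr : 0 < r)
    (hσ : orderOf σ = r) (d : (minusTD hab hQm hBm hn _ (zpowers_fix ha hb)).H)
    (hd : ((minusTD hab hQm hBm hn _ (zpowers_fix ha hb)).twist h).δ
      (((minusTD hab hQm hBm hn _ (zpowers_fix ha hb)).twist h).tnorm ⟨σ, Subgroup.mem_zpowers σ⟩ d r) = 1) :
    ∃ k, ((minusTD hab hQm hBm hn _ (zpowers_fix ha hb)).twist h).δ d =
      ((minusTD hab hQm hBm hn _ (zpowers_fix ha hb)).twist h).δ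
        (k * (((minusTD hab hQm hBm hn _ (zpowers_fix ha hb)).twist h).act ⟨σ, Subgroup.mem_zpowers σ⟩ k)⁻¹) := by
  set T := minusTD hab hQm hBm hn _ (zpowers_fix ha hb)
  let σ' : T.S := ⟨σ, Subgroup.mem_zpowers σ⟩
  obtain ⟨e, k₀, ν, R₁, he, hν, hnd, hR⟩ := T.exists_descent h (σ := σ') hr (by rw [← Subgroup.orderOf_coe]; exact hσ) hd
  let K := fixedField σ
  haveI : Fintype K := Fintype.ofFinite K
  have hab' : ∀ z₁ z₂ : K, z₁ ^ 2 + (⟨a, ha⟩ : K) * z₁ * z₂ + (⟨b, hb⟩ : K) * z₂ ^ 2 = 0 → z₁ = 0 ∧ z₂ = 0 :=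
    fun z₁ z₂ hz => by
      have h1 := congrArg Subtype.val hz
      push_cast at h1
      obtain ⟨e1, e2⟩ := hab _ _ h1
      exact ⟨Subtype.ext e1, Subtype.ext e2⟩
  obtain ⟨Q₀, hQ₀, -⟩ := exists_quadForm_minus (F := K) n hab'
  have hd' : Module.finrank K (MIdx n → K) = 2 * (n + 1) := by simp; omega
  rcases CfsgLib.Classical.OrthModels.classify_even R₁ hnd hd' _ _ hab' with hplus | ⟨j, hj, hminus⟩
  · exact absurd hplus (not_plus_structure hab hQm hR)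
  obtain rfl : j = n := by omega
  obtain ⟨g, hg⟩ := hminus
  obtain ⟨k, hk, hk'⟩ := exists_similitude (P := 1) hν hR (R₀ := Q₀) (fun x => by
    rw [Units.val_one, one_mulVec, hQm, hQ₀]
    exact minus_emb (a₀ := (⟨a, ha⟩ : K)) (b₀ := (⟨b, hb⟩ : K)) K.subtype rfl rfl x) g.symm one_ne_zero fun x => by
    rw [one_mul, hQ₀, ← hg (g.symm x), LinearEquiv.apply_symm_apply]
  obtain ⟨v, r₀, hr₀, hv⟩ := exists_refl_minus hab hQm hBm hn
  have hfix := refl_entry_of_map σ (minus_map hQm ha hb) hr₀ (hv σ)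
  obtain ⟨μ, hμ, hμd, -⟩ := exists_mu hab hQm hBm hn
  obtain ⟨k', hk'H, hkk⟩ : ∃ k' : GL (MIdx j) F, k' ∈ T.H ∧
      k' * (entryAct F (MIdx j) σ k')⁻¹ = k * (entryAct F (MIdx j) σ k)⁻¹ := by
    rcases Int.units_eq_one_or (μ ⟨k, hk⟩) with h1 | h1
    · exact ⟨k, Subgroup.subset_closure ⟨hk, (hμ ⟨k, hk⟩).2 h1⟩, rfl⟩
    · let s : Cfsg.Geo.quadSimilarityGroup ⇑Qm := ⟨(r₀ : GL (MIdx j) F), isometry_le_sim r₀.2⟩
      let k₁ : Cfsg.Geo.quadSimilarityGroup ⇑Qm := ⟨k, hk⟩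
      have h2 : μ (k₁ * s) = 1 := by
        rw [map_mul, h1, hμd, dickson_refl hBm hr₀]
        rfl
      have h3 : k * (r₀ : GL (MIdx j) F) ∈ minusH Qm a b :=
        Subgroup.subset_closure ⟨(k₁ * s).2, (hμ (k₁ * s)).2 h2⟩
      refine ⟨k * (r₀ : GL (MIdx j) F), h3, ?_⟩
      rw [map_mul, hfix]
      group
  refine ⟨⟨k', hk'H⟩, (T.delta_eq_iff h _ _).2 ⟨e⁻¹, ?_⟩⟩
  rw [minusTD_R, inv_one, mul_one] at he
  rw [map_one, inv_one, mul_one, mul_one] at hk'
  rw [Subgroup.coe_mul, Subgroup.coe_inv, show (T.twist h).act = T.act from rfl, TData.act_coe,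
    minusTD_R, one_mul, inv_one, mul_one, hkk, ← hk', ← he, ← mul_assoc, ← map_mul, inv_mul_cancel, map_one, one_mul]

/-- Field automorphisms fixing the coefficients. -/
theorem phi_eq_field (h : Good Qm) {σ : F ≃+* F} (ha : σ a = a) (hb : σ b = b)
    {x : MulAut (Cfsg.POmega F ⇑Qm)} (hx : Cfsg.IsFieldAutPOmegaOf (⇑Qm) σ x) :
    x = ((minusTD hab hQm hBm hn _ (zpowers_fix ha hb)).twist h).φ ⟨σ, Subgroup.mem_zpowers σ⟩ :=
  (isField_iff (x := (minusTD hab hQm hBm hn _ (zpowers_fix ha hb)).fld ⟨σ, Subgroup.mem_zpowers σ⟩)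
    (minusTD_R hab hQm hBm hn _ _ σ) rfl x).1 hx

/-- Elements of prime order in the coset. -/
theorem coset_minus (h : Good Qm) {σ : F ≃+* F} (ha : σ a = a) (hb : σ b = b)
    {x δ : MulAut (Cfsg.POmega F ⇑Qm)} (hx : Cfsg.IsFieldAutPOmegaOf (⇑Qm) σ x) {r : ℕ} (hr : r.Prime)
    (hxr : orderOf x = r)
    (hδ : δ ∈ ((minusTD hab hQm hBm hn _ (zpowers_fix ha hb)).twist h).δ.range) :
    orderOf (δ * x) = r ↔
      Cfsg.IsConjUnder ((minusTD hab hQm hBm hn _ (zpowers_fix ha hb)).twist h).δ.range x (δ * x) := by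
  set T := minusTD hab hQm hBm hn _ (zpowers_fix ha hb)
  let σ' : T.S := ⟨σ, Subgroup.mem_zpowers σ⟩
  have hxe := phi_eq_field hab hQm hBm hn h ha hb hx
  have hσ : orderOf σ = r := by
    have e := (T.twist h).orderOf_φ σ'
    rw [← hxe, hxr, ← Subgroup.orderOf_coe] at e
    exact e.symm
  exact (T.twist h).coset_conjugacy (a := 1) (σ := σ') (by rw [map_one, inv_one, mul_one, one_mul]; exact hxe) hxr
    (coboundary_minus hab hQm hBm hn h ha hb hr.pos hσ) hδ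

end Field

end CfsgLib.OrthAut
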