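import Cfsg.Agent.Lib.OrthAut.InndiagQuot
import Cfsg.Agent.Lib.OrthAut.MinusClass
import Cfsg.Agent.Lib.OrthAut.MinusField

/-!
The conformal, special and inner-diagonal images for minus-type groups.
-/

set_option autoImplicit false
set_option linter.unusedSectionVars false

namespace CfsgLib.OrthAut

open Matrix CfsgLib.Orth CfsgLib.AutPSL
open CfsgLib.ClassicalAut (scal scal_coe)

universe u

variable {F : Type u} [Field F] [Fintype F] {n : ℕ}
variable {a b : F} {Qm : QuadraticForm F (MIdx n → F)}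

/-- Multiplication in the anisotropic plane, with the matching diagonal elsewhere. -/
def mulPlane (n : ℕ) (a b c u w : F) : Matrix (MIdx n) (MIdx n) F :=
  Matrix.fromBlocks (Matrix.diagonal (Sum.elim (fun _ => c) fun _ => 1)) 0 0 !![u, -b * w; w, u + a * w]

theorem mulPlane_mulVec (c u w : F) (v : MIdx n → F) :
    mulPlane n a b c u w *ᵥ v = Sum.elim (Sum.elim (fun i => c * v (.inl (.inl i))) fun i => v (.inl (.inr i)))
      ![u * v (.inr 0) + -b * w * v (.inr 1), w * v (.inr 0) + (u + a * w) * v (.inr 1)] := by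
  funext i
  rcases i with (i | i) | i
  · simp [mulPlane, fromBlocks_mulVec, mulVec_diagonal]
  · simp [mulPlane, fromBlocks_mulVec, mulVec_diagonal]
  · fin_cases i <;> simp [mulPlane, fromBlocks_mulVec, Matrix.mulVec, dotProduct, Fin.sum_univ_two]

theorem mulPlane_q (hQm : ⇑Qm = Cfsg.quadFormMinus n F a b) {c u w : F} (hN : u ^ 2 + a * u * w + b * w ^ 2 = c)
    (v : MIdx n → F) : Qm (mulPlane n a b c u w *ᵥ v) = c * Qm v := by
  rw [hQm, mulPlane_mulVec]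
  simp only [Cfsg.quadFormMinus, Sum.elim_inl, Sum.elim_inr, Matrix.cons_val_zero, Matrix.cons_val_one]
  rw [mul_add c, Finset.mul_sum]
  congr 1
  · exact Finset.sum_congr rfl fun i _ => (mul_assoc _ _ _)
  · rw [← hN]; ring

/-- Multiplication in the plane fixes both families. -/
theorem mulPlane_mu (hab : ∀ z₁ z₂ : F, z₁ ^ 2 + a * z₁ * z₂ + b * z₂ ^ 2 = 0 → z₁ = 0 ∧ z₂ = 0)
    (hQm : ⇑Qm = Cfsg.quadFormMinus n F a b) {c u w : F} (hc : c ≠ 0)
    (hN : u ^ 2 + a * u * w + b * w ^ 2 = c) (g : Cfsg.Geo.quadSimilarityGroup ⇑Qm)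
    (hg : ((g : GL (MIdx n) F) : Matrix (MIdx n) (MIdx n) F) = mulPlane n a b c u w) :
    Cfsg.PreservesSingularClassesMinus n a b ((g : GL (MIdx n) F) : Matrix (MIdx n) (MIdx n) F) := by
  obtain ⟨L, _, _, Q, hQ, τ, M, hB, rfl, rfl⟩ := exists_frame n a b hab
  rw [M.preserves_chi hB hQm]
  set x := M.e u + M.ω * M.e w with hx
  set y := M.e u + τ M.ω * M.e w with hy
  have hxy : x * y = M.e c := by
    rw [hx, hy, ← hN]
    simp only [map_add, map_mul, map_pow, M.ha, M.hb]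
    ring
  have hec : M.e c ≠ 0 := by simpa using hc
  have hx0 : x ≠ 0 := fun e => hec (by rw [← hxy, e, zero_mul])
  have hy0 : y ≠ 0 := fun e => hec (by rw [← hxy, e, mul_zero])
  let d : PIdx (n + 1) → Lˣ := Sum.elim (Fin.cases (Units.mk0 x hx0) fun _ => Units.mk0 (M.e c) hec)
    (Fin.cases (Units.mk0 y hy0) fun _ => 1)
  have hd : ∀ i, d (.inl i) * d (.inr i) = Units.mk0 (M.e c) hec := fun i => by
    induction i using Fin.cases
    · exact Units.ext hxy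
    · simp [d]
  rw [show M.toSim hB hQm g = ⟨diagHom L (n + 1) d, diag_mem hQ hd⟩ from Subtype.ext ?_]
  · exact chiP_diag hQ hB d _
  rw [M.toSim_coe, mul_inv_eq_iff_eq_mul]
  refine Units.ext (Matrix.ext_iff_mulVec.2 fun z => funext fun i => ?_)
  rw [Units.val_mul, ← mulVec_mulVec, Units.val_mul, ← mulVec_mulVec, diagHom_mulVec]
  rw [show M.P = planeP n M.ne from rfl, planeP_mulVec, planeP_mulVec]
  have e : ((Units.map M.e.mapMatrix.toMonoidHom (reind F n (g : GL (MIdx n) F)) : GL (PIdx (n + 1)) L) :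
      Matrix (PIdx (n + 1)) (PIdx (n + 1)) L) *ᵥ z =
      (Sum.elim (Sum.elim (fun i => M.e c * z (rho n (.inl (.inl i)))) fun i => z (rho n (.inl (.inr i))))
        ![M.e u * z (rho n (.inr 0)) + -M.e M.b₀ * M.e w * z (rho n (.inr 1)),
          M.e w * z (rho n (.inr 0)) + (M.e u + M.e M.a₀ * M.e w) * z (rho n (.inr 1))]) ∘ (rho n).symm := by
    show (Matrix.reindex (rho n) (rho n) ((g : GL (MIdx n) F) : Matrix (MIdx n) (MIdx n) F)).map M.e *ᵥ z = _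
    rw [show (Matrix.reindex (rho n) (rho n) ((g : GL (MIdx n) F) : Matrix (MIdx n) (MIdx n) F)).map M.e =
      Matrix.reindex (rho n) (rho n) (mulPlane n (M.e M.a₀) (M.e M.b₀) (M.e c) (M.e u) (M.e w)) by
        rw [hg]
        ext i j
        simp only [Matrix.map_apply, Matrix.reindex_apply, Matrix.submatrix_apply]
        generalize (rho n).symm i = i'
        generalize (rho n).symm j = j'
        rcases i' with (i' | i') | i' <;> rcases j' with (j' | j') | j' <;>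
          simp [mulPlane, Matrix.diagonal_apply, apply_ite M.e]
        fin_cases i' <;> fin_cases j' <;> simp]
    rw [Matrix.reindex_apply, Matrix.submatrix_mulVec_equiv, mulPlane_mulVec]
    simp [Function.comp_def]
  rw [e]
  rcases i with i | i <;> induction i using Fin.cases <;> simp [planeLin, rho, d, hx, hy, M.ha, M.hb] <;> ring

/-- The minus-type criterion for `-1 ∈ Ω`. -/
theorem neg_iff_minus (hab : ∀ z₁ z₂ : F, z₁ ^ 2 + a * z₁ * z₂ + b * z₂ ^ 2 = 0 → z₁ = 0 ∧ z₂ = 0)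
    (hQm : ⇑Qm = Cfsg.quadFormMinus n F a b) (h : Fine Qm) (h2 : (2 : F) ≠ 0) :
    (∃ g : Grp Qm, g ∈ Cfsg.Omega F ⇑Qm ∧ ((g : GL (MIdx n) F) : Matrix (MIdx n) (MIdx n) F) = -1) ↔
      Even n ∧ Fintype.card F % 4 = 3 := by
  have hd : ¬ IsSquare (a ^ 2 - 4 * b) := by
    rintro ⟨r, hr⟩
    exact h2 (hab (-a + r) 2 (by linear_combination -hr)).2
  have hd0 : a ^ 2 - 4 * b ≠ 0 := fun e' => hd (e' ▸ IsSquare.zero)
  have hev : Even (Fintype.card (MIdx n)) := ⟨n + 1, by simp; omega⟩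
  obtain ⟨e, he, hpair, hprod⟩ := frame_minus h2 n hab hQm
  rw [neg_one_mem_omega_iff h.nondeg h2 (Module.finrank_pi F).symm hev (by have := h.five; omega) e he hpair, hprod,
    show (-1 : F) ^ n * (4 * b - a ^ 2) = (-1) ^ (n + 1) * (a ^ 2 - 4 * b) by rw [pow_succ]; ring,
    CfsgLib.Orth.isSquare_mul_iff (pow_ne_zero _ (neg_ne_zero.2 one_ne_zero))]
  simp only [hd0, hd, iff_false, false_or]
  rcases Nat.even_or_odd n with h' | h'
  · rw [h'.add_one.neg_one_pow, FiniteField.isSquare_neg_one_iff]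
    simp [h']
  · rw [h'.add_one.neg_one_pow]
    simp [Nat.not_even_iff_odd.2 h']

/-- The data of minus type. -/
theorem exists_cdata_minus (hab : ∀ z₁ z₂ : F, z₁ ^ 2 + a * z₁ * z₂ + b * z₂ ^ 2 = 0 → z₁ = 0 ∧ z₂ = 0)
    (hQm : ⇑Qm = Cfsg.quadFormMinus n F a b) (hB : Nondeg Qm) (h2 : (2 : F) ≠ 0) (hn : 2 ≤ n)
    (c : Fˣ) (hc : ¬ IsSquare (c : F)) :
    ∃ D : CData Qm, (∀ g : Cfsg.Geo.quadSimilarityGroup ⇑Qm, Cfsg.PreservesSingularClassesMinus n a b ((g : GL (MIdx n) F) : Matrix (MIdx n) (MIdx n) F) ↔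
      D.χ g = 1) ∧ D.c = c ∧ ∃ u w : F, u ^ 2 + a * u * w + b * w ^ 2 = (c : F) ∧
        ((D.G : GL (MIdx n) F) : Matrix (MIdx n) (MIdx n) F) = mulPlane n a b c u w := by
  obtain ⟨μ, hμ, hμd, hμc⟩ := exists_mu hab hQm hB hn
  obtain ⟨u, w, huw⟩ := CfsgLib.Classical.BinaryNorm.surjective_ext (E := F) a b hab (c : F)
  simp only [Algebra.algebraMap_self, RingHom.id_apply, CfsgLib.Classical.BinaryNorm.bq] at huw
  obtain ⟨g, hgs, hgc⟩ : ∃ g : GL (MIdx n) F, g ∈ Cfsg.Geo.quadSimilarityGroup ⇑Qm ∧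
      (g : Matrix (MIdx n) (MIdx n) F) = mulPlane n a b c u w := by
    have hinj : Function.Injective (mulPlane n a b (c : F) u w *ᵥ ·) := fun x y e => by
      rw [← sub_eq_zero]
      refine hB _ fun z => ?_
      have h0 : mulPlane n a b (c : F) u w *ᵥ (x - y) = 0 := by rw [mulVec_sub]; exact sub_eq_zero.2 e
      show QuadraticMap.polar Qm (x - y) z = 0
      have h1 : (c : F) * QuadraticMap.polar Qm (x - y) z =
          QuadraticMap.polar Qm (mulPlane n a b c u w *ᵥ (x - y)) (mulPlane n a b c u w *ᵥ z) := by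
        simp only [QuadraticMap.polar, ← mulVec_add, mulPlane_q hQm huw]
        ring
      rw [h0, b_zero_left] at h1
      exact (mul_eq_zero.1 h1).resolve_left c.ne_zero
    obtain ⟨g, hg⟩ := Matrix.mulVec_injective_iff_isUnit.1 hinj
    exact ⟨g, ⟨c, fun v => by rw [hg]; exact mulPlane_q hQm huw v⟩, hg⟩
  let i₀ : Fin n := ⟨0, by omega⟩
  let vv : F → MIdx n → F := fun t =>
    Sum.elim (Sum.elim (fun i => if i = i₀ then 1 else 0) fun i => if i = i₀ then t else 0) fun _ => 0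
  have hvv : ∀ t, Qm (vv t) = t := fun t => by
    rw [hQm, Cfsg.quadFormMinus, Finset.sum_eq_single i₀ (fun b _ hb => by simp [vv, hb]) (by simp)]
    simp [vv]
  obtain ⟨r₁, hr₁⟩ := exists_refl hB (v := vv 1) (by rw [hvv]; exact one_ne_zero)
  obtain ⟨r₂, hr₂⟩ := exists_refl hB (v := vv c) (by rw [hvv]; exact c.ne_zero)
  exact ⟨{ fine := ⟨hB, by simp; omega⟩
           h2 := h2
           ev := ⟨n + 1, by simp; omega⟩
           χ := μ
           χ_grp := hμd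
           χ_scal := hμc
           v := vv 1
           w := vv c
           r₁ := r₁
           r₂ := r₂
           hr₁ := hr₁
           hr₂ := hr₂
           hvw := by rwa [hvv, hvv, one_mul]
           G := ⟨g, hgs⟩
           χG := (hμ ⟨g, hgs⟩).1 (mulPlane_mu hab hQm c.ne_zero huw ⟨g, hgs⟩ hgc)
           c := c
           hG := fun x => by
             show Qm ((g : Matrix (MIdx n) (MIdx n) F) *ᵥ x) = _
             rw [hgc]
             exact mulPlane_q hQm huw x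
           hc := hc }, hμ, rfl, u, w, huw, hgc⟩

theorem cb_iff_minus (hab : ∀ z₁ z₂ : F, z₁ ^ 2 + a * z₁ * z₂ + b * z₂ ^ 2 = 0 → z₁ = 0 ∧ z₂ = 0)
    (hQm : ⇑Qm = Cfsg.quadFormMinus n F a b) (D : CData Qm) :
    D.cb = 1 ↔ ¬ (Even n ∧ Fintype.card F % 4 = 3) := by
  have hiff := neg_iff_minus hab hQm D.fine D.h2
  constructor
  · intro e hc
    exact cls_pair_ne D.fine D.h2 D.hr₁ D.hr₂ D.hvw (hiff.2 hc) e
  · intro hne
    exact cls_pair_trivial D.fine D.h2 D.ev D.hr₁ D.hr₂ D.hvw (mt hiff.1 hne)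

theorem ca_sq_minus (hab : ∀ z₁ z₂ : F, z₁ ^ 2 + a * z₁ * z₂ + b * z₂ ^ 2 = 0 → z₁ = 0 ∧ z₂ = 0)
    (hQm : ⇑Qm = Cfsg.quadFormMinus n F a b) (D : CData Qm) (hb : D.cb ≠ 1) (hc : (D.c : F) = -1) {u w : F}
    (hN : u ^ 2 + a * u * w + b * w ^ 2 = (D.c : F))
    (hG : ((D.G : GL (MIdx n) F) : Matrix (MIdx n) (MIdx n) F) = mulPlane n a b D.c u w) :
    D.ca * D.ca = D.cb := by
  rw [hc] at hN hG
  have h2 := D.h2
  have hns : ¬ IsSquare (-1 : F) := hc ▸ D.hc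
  have hd : ¬ IsSquare (a ^ 2 - 4 * b) := by
    rintro ⟨r, hr⟩
    exact h2 (hab (-a + r) 2 (by linear_combination -hr)).2
  have hd0 : a ^ 2 - 4 * b ≠ 0 := fun e' => hd (e' ▸ IsSquare.zero)
  have hw : w ≠ 0 := fun e => hns ⟨u, by rw [← hN, e]; ring⟩
  let vP : F → F → MIdx n → F := fun p q => Sum.elim (fun _ => 0) ![p, q]
  have hvP : ∀ p q, Qm (vP p q) = p ^ 2 + a * p * q + b * q ^ 2 := fun p q => by
    rw [hQm]
    simp [Cfsg.quadFormMinus, vP]
  set p := 1 + u ^ 2 - b * w ^ 2 with hp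
  set q := 2 * u * w + a * w ^ 2 with hq
  have hval : Qm (vP p q) = w ^ 2 * (a ^ 2 - 4 * b) := by
    rw [hvP, hp, hq]
    grind
  have hv0 : Qm (vP p q) ≠ 0 := by rw [hval]; exact mul_ne_zero (pow_ne_zero _ hw) hd0
  obtain ⟨s₁, hs₁⟩ := exists_refl D.fine.nondeg (v := vP p q) hv0
  obtain ⟨s₂, hs₂⟩ := exists_refl D.fine.nondeg (v := vP 1 0) (by rw [hvP]; simp)
  have e : D.G * D.G = ⟨(s₁ * s₂ : Grp Qm), isometry_le_sim (s₁ * s₂).2⟩ := by
    refine Subtype.ext (Units.ext (Matrix.ext_iff_mulVec.2 fun z => ?_))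
    rw [Subgroup.coe_mul, Units.val_mul, ← mulVec_mulVec, hG]
    show _ = ap (s₁ * s₂) z
    rw [ap_mul, hs₁.2, hs₂.2]
    have hpol : ∀ p q x, QuadraticMap.polar Qm (vP p q) x =
        2 * p * x (.inr 0) + a * (p * x (.inr 1) + q * x (.inr 0)) + 2 * b * q * x (.inr 1) := fun p q x => by
      rw [hQm]
      simp only [QuadraticMap.polar, Cfsg.quadFormMinus, vP, Pi.add_apply, Sum.elim_inl, Sum.elim_inr,
        Matrix.cons_val_zero, Matrix.cons_val_one]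
      simp
      ring
    rw [hval, show Qm (vP 1 0) = 1 by rw [hvP]; simp, hpol, hpol, mulPlane_mulVec, mulPlane_mulVec]
    funext i
    rcases i with (i | i) | i
    · simp [vP]
    · simp [vP]
    · have hd1 : a ^ 2 - b * 4 ≠ 0 := by rwa [mul_comm b 4]
      have hx : w ^ 2 * (a ^ 2 - 4 * b) ≠ 0 := mul_ne_zero (pow_ne_zero _ hw) hd0
      fin_cases i <;> simp [vP, hp, hq] <;> field_simp <;> grind
  have e2 : D.ca * D.ca = cls Qm (s₁ * s₂) := by
    show simOut Qm D.G * simOut Qm D.G = _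
    rw [← map_mul, e]
    rfl
  have hneg := (neg_iff_minus hab hQm D.fine h2).2 (not_not.1 (mt (cb_iff_minus hab hQm D).2 hb))
  rcases D.ca_sq with e3 | e3
  · exfalso
    refine cls_pair_ne D.fine h2 hs₁ hs₂ ?_ hneg ?_
    · rw [hval, hvP]
      simp only [one_pow, mul_zero, add_zero, mul_one, zero_pow (two_ne_zero : (2 : ℕ) ≠ 0)]
      rw [CfsgLib.Orth.isSquare_mul_iff (pow_ne_zero _ hw)]
      rintro (h0 | h0)
      · exact hd0 h0
      · exact hd (h0.1 ⟨w, pow_two w⟩)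
    · rw [← map_mul, ← e2, e3]
  · exact e3

theorem inndiag_minus_eq (hQm : ⇑Qm = Cfsg.quadFormMinus n F a b)
    {μ : Cfsg.Geo.quadSimilarityGroup ⇑Qm →* ℤˣ}
    (hμ : ∀ g : Cfsg.Geo.quadSimilarityGroup ⇑Qm, Cfsg.PreservesSingularClassesMinus n a b ((g : GL (MIdx n) F) : Matrix (MIdx n) (MIdx n) F) ↔
      μ g = 1) :
    (Cfsg.autSubgroupOf fun β : MulAut (Cfsg.POmega F ⇑Qm) => ∃ g : GL (MIdx n) F,
        g ∈ Cfsg.Geo.quadSimilarityGroup ⇑Qm ∧
        Cfsg.PreservesSingularClassesMinus n a b (g : Matrix (MIdx n) (MIdx n) F) ∧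
        Cfsg.IsInducedBySemilinearPOmega ⇑Qm g (RingEquiv.refl F) β) = μ.ker.map (simAut Qm) := by
  refine le_antisymm ((Subgroup.closure_le _).2 ?_) ?_
  · rintro β ⟨g, hg, hp, hβ⟩
    exact ⟨⟨g, hg⟩, MonoidHom.mem_ker.2 ((hμ ⟨g, hg⟩).1 hp), psi_eq_lin hg hβ⟩
  · rintro _ ⟨g, hg, rfl⟩
    exact Subgroup.subset_closure ⟨g, g.2, (hμ g).2 hg, psi_spec (simInc Qm g)⟩

set_option maxHeartbeats 2000000 in
theorem minus_quotients (hab : ∀ z₁ z₂ : F, z₁ ^ 2 + a * z₁ * z₂ + b * z₂ ^ 2 = 0 → z₁ = 0 ∧ z₂ = 0)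
    (hQm : ⇑Qm = Cfsg.quadFormMinus n F a b) (hB : Nondeg Qm) (h2 : (2 : F) ≠ 0) (hn : 2 ≤ n) :
    (∃ φ : ↥(Cfsg.pgoAut F ⇑Qm) →* Multiplicative (ZMod 2 × ZMod 2), Function.Surjective φ ∧
      φ.ker = (Cfsg.psoAut F ⇑Qm).subgroupOf (Cfsg.pgoAut F ⇑Qm)) ∧
    (((Even n ∧ Fintype.card F % 4 = 3) → (Cfsg.Inn (Cfsg.POmega F ⇑Qm)).relIndex (Cfsg.psoAut F ⇑Qm) = 2) ∧
      (¬ (Even n ∧ Fintype.card F % 4 = 3) → (Cfsg.Inn (Cfsg.POmega F ⇑Qm)).relIndex (Cfsg.psoAut F ⇑Qm) = 1)) ∧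
    (((Even n ∧ Fintype.card F % 4 = 3) → ∃ φ : ↥(Cfsg.pgoAut F ⇑Qm) →* DihedralGroup 4,
        Function.Surjective φ ∧ φ.ker = (Cfsg.Inn (Cfsg.POmega F ⇑Qm)).subgroupOf (Cfsg.pgoAut F ⇑Qm)) ∧
      (¬ (Even n ∧ Fintype.card F % 4 = 3) → ∃ φ : ↥(Cfsg.pgoAut F ⇑Qm) →* Multiplicative (ZMod 2 × ZMod 2),
        Function.Surjective φ ∧ φ.ker = (Cfsg.Inn (Cfsg.POmega F ⇑Qm)).subgroupOf (Cfsg.pgoAut F ⇑Qm))) ∧
    (let R := Cfsg.autSubgroupOf fun β : MulAut (Cfsg.POmega F ⇑Qm) => ∃ g : GL (MIdx n) F,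
        g ∈ Cfsg.Geo.quadSimilarityGroup ⇑Qm ∧
        Cfsg.PreservesSingularClassesMinus n a b (g : Matrix (MIdx n) (MIdx n) F) ∧
        Cfsg.IsInducedBySemilinearPOmega ⇑Qm g (RingEquiv.refl F) β;
      ((Even n ∧ Fintype.card F % 4 = 3) → ∃ φ : ↥R →* Multiplicative (ZMod 4),
        Function.Surjective φ ∧ φ.ker = (Cfsg.Inn (Cfsg.POmega F ⇑Qm)).subgroupOf R) ∧
      (¬ (Even n ∧ Fintype.card F % 4 = 3) → ∃ φ : ↥R →* Multiplicative (ZMod 2),
        Function.Surjective φ ∧ φ.ker = (Cfsg.Inn (Cfsg.POmega F ⇑Qm)).subgroupOf R)) := by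
  obtain ⟨c, hc, hc1⟩ : ∃ c : Fˣ, ¬ IsSquare (c : F) ∧ (Fintype.card F % 4 = 3 → (c : F) = -1) := by
    by_cases h43 : Fintype.card F % 4 = 3
    · exact ⟨-1, by rw [Units.val_neg, Units.val_one, FiniteField.isSquare_neg_one_iff]; simp [h43],
        fun _ => by rw [Units.val_neg, Units.val_one]⟩
    · obtain ⟨c, hc⟩ := FiniteField.exists_nonsquare (F := F) fun hc => h2 (by
        haveI : CharP F 2 := hc ▸ ringChar.charP F
        exact_mod_cast CharP.cast_eq_zero F 2)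
      exact ⟨Units.mk0 c fun e => hc (e ▸ IsSquare.zero), hc, fun e => absurd e h43⟩
  obtain ⟨D, hμ, hDc, u, w, huw, hG⟩ := exists_cdata_minus hab hQm hB h2 hn c hc
  have hcb := cb_iff_minus hab hQm D
  refine ⟨D.pgo_mod_pso,
    ⟨fun hc => D.relIndex_pso.2 fun e => hcb.1 e hc, fun hc => D.relIndex_pso.1 (hcb.2 hc)⟩,
    ⟨fun hc => D.pgo_mod_inn_dihedral fun e => hcb.1 e hc, fun hc => D.pgo_mod_inn_klein (hcb.2 hc)⟩, ?_⟩
  intro R
  rw [show R = D.χ.ker.map (simAut Qm) from inndiag_minus_eq hQm hμ]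
  refine ⟨fun hcase => ?_, fun hcase => D.inndiag_two (hcb.2 hcase)⟩
  have hb : D.cb ≠ 1 := fun e => hcb.1 e hcase
  rw [← hDc] at huw hG
  exact D.inndiag_four hb (ca_sq_minus hab hQm D hb (by rw [hDc]; exact hc1 hcase.2) huw hG)

end CfsgLib.OrthAut
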