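import Cfsg.Agent.Lib.OrthAut.InndiagQuot

/-!
The conformal, special and inner-diagonal images for plus-type groups.
-/

set_option autoImplicit false
set_option linter.unusedSectionVars false

namespace CfsgLib.OrthAut

open Matrix CfsgLib.Orth CfsgLib.AutPSL
open CfsgLib.ClassicalAut (scal scal_coe)

universe u

variable {F : Type u} [Field F] [Fintype F] {m : ℕ}
variable {Q : QuadraticForm F (PIdx m → F)}

/-- The diagonal similitude of multiplier `c`. -/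
def halfDiag (m : ℕ) (c : Fˣ) : PIdx m → Fˣ := Sum.elim (fun _ => c) fun _ => 1

/-- The data of plus type. -/
theorem exists_cdata_plus (hQ : ⇑Q = Cfsg.quadFormPlus m F) (hB : Nondeg Q) (h2 : (2 : F) ≠ 0) (hm : 3 ≤ m) :
    ∃ D : CData Q, D.χ = chiP hQ hB ∧ (D.G : GL (PIdx m) F) = diagHom F m (halfDiag m D.c) := by
  obtain ⟨ν, hν⟩ := FiniteField.exists_nonsquare (F := F) fun hc => h2 (by
    haveI : CharP F 2 := hc ▸ ringChar.charP F
    exact_mod_cast CharP.cast_eq_zero F 2)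
  have hν0 : ν ≠ 0 := fun e => hν (e ▸ IsSquare.zero)
  let i₀ : Fin m := ⟨0, by omega⟩
  obtain ⟨r₁, hr₁⟩ := exists_refl hB (v := hypVec m i₀ 1) (by rw [q_hypVec hQ]; simp)
  obtain ⟨r₂, hr₂⟩ := exists_refl hB (v := hypVec m i₀ ν) (by rw [q_hypVec hQ]; simp [hν0])
  have hd : ∀ i, halfDiag m (Units.mk0 ν hν0) (.inl i) * halfDiag m (Units.mk0 ν hν0) (.inr i) = Units.mk0 ν hν0 :=
    fun i => by simp [halfDiag]
  exact ⟨{ fine := ⟨hB, by simp; omega⟩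
           h2 := h2
           ev := ⟨m, by simp⟩
           χ := chiP hQ hB
           χ_grp := chiP_grp hQ hB
           χ_scal := chiP_scal hQ hB
           v := hypVec m i₀ 1
           w := hypVec m i₀ ν
           r₁ := r₁
           r₂ := r₂
           hr₁ := hr₁
           hr₂ := hr₂
           hvw := by rw [q_hypVec hQ, q_hypVec hQ]; simpa using hν
           G := ⟨_, diag_mem hQ hd⟩
           χG := chiP_diag hQ hB _ _
           c := Units.mk0 ν hν0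
           hG := diag_q hQ hd
           hc := hν }, rfl, rfl⟩

theorem inndiag_plus_eq (hQ : ⇑Q = Cfsg.quadFormPlus m F) (hB : Nondeg Q) :
    (Cfsg.autSubgroupOf fun β : MulAut (Cfsg.POmega F ⇑Q) => ∃ g : GL (PIdx m) F,
        g ∈ Cfsg.Geo.quadSimilarityGroup ⇑Q ∧
        Cfsg.PreservesSingularClasses ⇑Q (g : Matrix (PIdx m) (PIdx m) F) ∧
        Cfsg.IsInducedBySemilinearPOmega ⇑Q g (RingEquiv.refl F) β) = (chiP hQ hB).ker.map (simAut Q) := by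
  refine le_antisymm ((Subgroup.closure_le _).2 ?_) ?_
  · rintro β ⟨g, hg, hp, hβ⟩
    exact ⟨⟨g, hg⟩, MonoidHom.mem_ker.2 ((chiP_iff hQ hB ⟨g, hg⟩).1 (hQ ▸ hp)), psi_eq_lin hg hβ⟩
  · rintro _ ⟨g, hg, rfl⟩
    refine Subgroup.subset_closure ⟨g, g.2, ?_, psi_spec (simInc Q g)⟩
    have e := (chiP_iff hQ hB g).2 hg
    revert e
    generalize ((g : GL (PIdx m) F) : Matrix (PIdx m) (PIdx m) F) = A
    rw [hQ]
    exact id

theorem neg_iff_plus (hQ : ⇑Q = Cfsg.quadFormPlus m F) (h : Fine Q) (h2 : (2 : F) ≠ 0) (hm : 1 ≤ m) :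
    (∃ g : Grp Q, g ∈ Cfsg.Omega F ⇑Q ∧ ((g : GL (PIdx m) F) : Matrix (PIdx m) (PIdx m) F) = -1) ↔
      ¬ (Odd m ∧ Fintype.card F % 4 = 3) := by
  have hiff : IsSquare ((-1 : F) ^ m) ↔ ¬ (Odd m ∧ Fintype.card F % 4 = 3) := by
    rcases Nat.even_or_odd m with he | he
    · rw [he.neg_one_pow]
      simp [Nat.not_odd_iff_even.2 he]
    · rw [he.neg_one_pow, FiniteField.isSquare_neg_one_iff]
      simp [he]
  rw [← hiff]
  refine ⟨fun ⟨g, hg, hgm⟩ => ?_, neg_mem_omega hQ h h2 hm⟩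
  have e : g = tor hQ fun _ => -1 := Subtype.ext (Units.ext (by
    rw [hgm]
    refine Matrix.ext_iff_mulVec.2 fun v => funext fun i => ?_
    rw [neg_mulVec, one_mulVec]
    show _ = ap (tor hQ fun _ => -1) v i
    rw [tor_ap]
    rcases i with i | i <;> simp))
  rw [e, mem_omega_iff h.nondeg h2 (by have := h.five; omega), spinor_tor hQ h h2 hm] at hg
  simpa using hg.2

theorem cb_iff_plus (hQ : ⇑Q = Cfsg.quadFormPlus m F) (hm : 1 ≤ m) (D : CData Q) :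
    D.cb = 1 ↔ (Odd m ∧ Fintype.card F % 4 = 3) := by
  have hiff := neg_iff_plus hQ D.fine D.h2 hm
  constructor
  · intro e
    by_contra hne
    exact cls_pair_ne D.fine D.h2 D.hr₁ D.hr₂ D.hvw (hiff.2 hne) e
  · intro hc
    exact cls_pair_trivial D.fine D.h2 D.ev D.hr₁ D.hr₂ D.hvw fun e => hiff.1 e hc

theorem ca_sq_plus (hQ : ⇑Q = Cfsg.quadFormPlus m F) (hm : 1 ≤ m) (D : CData Q) (hb : D.cb ≠ 1)
    (hG : (D.G : GL (PIdx m) F) = diagHom F m (halfDiag m D.c)) : D.ca * D.ca = 1 ↔ Even m := by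
  have hneg := (neg_iff_plus hQ D.fine D.h2 hm).2 fun hc => hb ((cb_iff_plus hQ hm D).2 hc)
  have e : D.G * D.G = ⟨scal D.c, scal_mem_sim D.c⟩ * ⟨tor hQ fun _ => D.c, isometry_le_sim (tor hQ fun _ => D.c).2⟩ := by
    refine Subtype.ext (Units.ext (Matrix.ext_iff_mulVec.2 fun v => funext fun i => ?_))
    rw [Subgroup.coe_mul, hG, Units.val_mul, ← mulVec_mulVec, diagHom_mulVec, diagHom_mulVec, Subgroup.coe_mul,
      CfsgLib.ClassicalAut.scal_mul_coe, smul_mulVec, Pi.smul_apply, smul_eq_mul]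
    show _ = _ * ap (tor hQ fun _ => D.c) v i
    rw [tor_ap]
    rcases i with i | i <;> simp [halfDiag, mul_assoc]
  have e2 : D.ca * D.ca = cls Q (tor hQ fun _ => D.c) := by
    show simOut Q D.G * simOut Q D.G = _
    rw [← map_mul, e, map_mul, simOut, MonoidHom.comp_apply, out_scal D.fine, one_mul]
    rfl
  rw [e2, cls_eq_one_iff D.fine hneg, mem_omega_iff D.fine.nondeg D.h2 (by have := D.fine.five; omega),
    and_iff_right (dickson_tor hQ D.fine.nondeg _), spinor_tor hQ D.fine D.h2 hm, Finset.prod_const,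
    Finset.card_univ, Fintype.card_fin, Units.val_pow_eq_pow_val]
  refine ⟨fun hs => ?_, fun he => ?_⟩
  · by_contra hne
    obtain ⟨j, rfl⟩ := Nat.not_even_iff_odd.1 hne
    rw [pow_succ, CfsgLib.Orth.isSquare_mul_iff (pow_ne_zero _ D.c.ne_zero)] at hs
    rcases hs with h0 | h0
    · exact D.c.ne_zero h0
    · exact D.hc (h0.1 ⟨(D.c : F) ^ j, by rw [← pow_add]; congr 1; omega⟩)
  · obtain ⟨j, rfl⟩ := he
    exact ⟨(D.c : F) ^ j, pow_add _ _ _⟩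

theorem plus_quotients (hQ : ⇑Q = Cfsg.quadFormPlus m F) (hB : Nondeg Q) (h2 : (2 : F) ≠ 0) (hm : 3 ≤ m) :
    (∃ φ : ↥(Cfsg.pgoAut F ⇑Q) →* Multiplicative (ZMod 2 × ZMod 2), Function.Surjective φ ∧
      φ.ker = (Cfsg.psoAut F ⇑Q).subgroupOf (Cfsg.pgoAut F ⇑Q)) ∧
    (((Odd m ∧ Fintype.card F % 4 = 3) → (Cfsg.Inn (Cfsg.POmega F ⇑Q)).relIndex (Cfsg.psoAut F ⇑Q) = 1) ∧
      (¬ (Odd m ∧ Fintype.card F % 4 = 3) → (Cfsg.Inn (Cfsg.POmega F ⇑Q)).relIndex (Cfsg.psoAut F ⇑Q) = 2)) ∧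
    (((Odd m ∧ Fintype.card F % 4 = 3) → ∃ φ : ↥(Cfsg.pgoAut F ⇑Q) →* Multiplicative (ZMod 2 × ZMod 2),
        Function.Surjective φ ∧ φ.ker = (Cfsg.Inn (Cfsg.POmega F ⇑Q)).subgroupOf (Cfsg.pgoAut F ⇑Q)) ∧
      (¬ (Odd m ∧ Fintype.card F % 4 = 3) → ∃ φ : ↥(Cfsg.pgoAut F ⇑Q) →* DihedralGroup 4,
        Function.Surjective φ ∧ φ.ker = (Cfsg.Inn (Cfsg.POmega F ⇑Q)).subgroupOf (Cfsg.pgoAut F ⇑Q))) ∧
    (let R := Cfsg.autSubgroupOf fun β : MulAut (Cfsg.POmega F ⇑Q) => ∃ g : GL (PIdx m) F,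
        g ∈ Cfsg.Geo.quadSimilarityGroup ⇑Q ∧
        Cfsg.PreservesSingularClasses ⇑Q (g : Matrix (PIdx m) (PIdx m) F) ∧
        Cfsg.IsInducedBySemilinearPOmega ⇑Q g (RingEquiv.refl F) β;
      ((Odd m ∧ Fintype.card F % 4 = 3) → ∃ φ : ↥R →* Multiplicative (ZMod 2),
        Function.Surjective φ ∧ φ.ker = (Cfsg.Inn (Cfsg.POmega F ⇑Q)).subgroupOf R) ∧
      ((Odd m ∧ Fintype.card F % 4 = 1) → ∃ φ : ↥R →* Multiplicative (ZMod 4),
        Function.Surjective φ ∧ φ.ker = (Cfsg.Inn (Cfsg.POmega F ⇑Q)).subgroupOf R) ∧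
      (Even m → ∃ φ : ↥R →* Multiplicative (ZMod 2 × ZMod 2),
        Function.Surjective φ ∧ φ.ker = (Cfsg.Inn (Cfsg.POmega F ⇑Q)).subgroupOf R)) := by
  obtain ⟨D, hχ, hG⟩ := exists_cdata_plus hQ hB h2 hm
  have hcb := cb_iff_plus hQ (by omega) D
  refine ⟨D.pgo_mod_pso, ⟨fun hc => D.relIndex_pso.1 (hcb.2 hc), fun hc => D.relIndex_pso.2 (mt hcb.1 hc)⟩,
    ⟨fun hc => D.pgo_mod_inn_klein (hcb.2 hc), fun hc => D.pgo_mod_inn_dihedral (mt hcb.1 hc)⟩, ?_⟩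
  intro R
  rw [show R = D.χ.ker.map (simAut Q) by rw [hχ]; exact inndiag_plus_eq hQ hB]
  refine ⟨fun hc => D.inndiag_two (hcb.2 hc), fun hc => ?_, fun hc => ?_⟩
  · have hb : D.cb ≠ 1 := fun e => by have := (hcb.1 e).2; omega
    refine D.inndiag_four hb (D.ca_sq.resolve_left fun e => ?_)
    exact Nat.not_odd_iff_even.2 ((ca_sq_plus hQ (by omega) D hb hG).1 e) hc.1
  · have hb : D.cb ≠ 1 := fun e => Nat.not_odd_iff_even.2 hc (hcb.1 e).1
    exact D.inndiag_klein hb ((ca_sq_plus hQ (by omega) D hb hG).2 hc)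

end CfsgLib.OrthAut
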