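import Cfsg.Agent.Lib.OrthAut.GraphSplit
import Cfsg.Agent.Lib.OrthAut.InndiagMinus
import Cfsg.Agent.Lib.OrthAut.InndiagPlus

/-!
An improper similitude class is not centralised by similitudes with nonsquare multiplier.
-/

set_option autoImplicit false
set_option linter.unusedSectionVars false

namespace CfsgLib.OrthAut

open Matrix CfsgLib.Orth CfsgLib.AutPSL
open CfsgLib.ClassicalAut (scal scal_coe)

universe u

variable {F : Type u} [Field F] [Fintype F] {ι : Type} [Fintype ι] [DecidableEq ι]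
variable {Q : QuadraticForm F (ι → F)}

/-- The determinant of a similitude of a nondegenerate subspace. -/
theorem det_sq_sub {W : Submodule F (ι → F)}
    (hW : ∀ x ∈ W, (∀ y ∈ W, QuadraticMap.polar Q x y = 0) → x = 0) {L : W →ₗ[F] W} {c : F}
    (hL : ∀ x : W, Q (L x : ι → F) = c * Q (x : ι → F)) : (LinearMap.det L) ^ 2 = c ^ Module.finrank F W := by
  classical
  let b := Module.finBasis F W
  let Bw : W →ₗ[F] W →ₗ[F] F := (QuadraticMap.polarBilin Q).compl₁₂ W.subtype W.subtype
  have hBw : ∀ x y : W, Bw x y = QuadraticMap.polar Q (x : ι → F) (y : ι → F) := fun _ _ => rfl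
  have hG : (LinearMap.toMatrix₂ b b Bw).det ≠ 0 := (LinearMap.separatingLeft_iff_det_ne_zero b).1 fun x hx =>
    Subtype.ext (hW x x.2 fun y hy => (hBw x ⟨y, hy⟩).symm.trans (hx ⟨y, hy⟩))
  have e : Bw.compl₁₂ L L = c • Bw := LinearMap.ext fun x => LinearMap.ext fun y => by
    show Bw (L x) (L y) = c * Bw x y
    rw [hBw, hBw]
    simp only [QuadraticMap.polar, ← Submodule.coe_add, ← map_add, hL]
    ring
  have hdet := congrArg (fun f => (LinearMap.toMatrix₂ b b f).det) e
  simp only [LinearMap.toMatrix₂_compl₁₂ b b, map_smul, det_mul, det_transpose, det_smul, Fintype.card_fin,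
    LinearMap.det_toMatrix] at hdet
  exact mul_right_cancel₀ hG (by linear_combination hdet)

/-- The determinant of an involution. -/
theorem det_involution (h2 : (2 : F) ≠ 0) {V : Type*} [AddCommGroup V] [Module F V] [FiniteDimensional F V]
    (M : V →ₗ[F] V) (hM : ∀ x, M (M x) = x) :
    LinearMap.det M = (-1) ^ Module.finrank F ↥(LinearMap.ker (M + LinearMap.id)) := by
  set Wp := LinearMap.ker (M - LinearMap.id)
  set Wm := LinearMap.ker (M + LinearMap.id)
  have hp : ∀ x, x ∈ Wp ↔ M x = x := fun x => by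
    rw [LinearMap.mem_ker, LinearMap.sub_apply, LinearMap.id_apply, sub_eq_zero]
  have hm : ∀ x, x ∈ Wm ↔ M x = -x := fun x => by
    rw [LinearMap.mem_ker, LinearMap.add_apply, LinearMap.id_apply, add_eq_zero_iff_eq_neg]
  have hsplit : ∀ x, x = (2 : F)⁻¹ • (x + M x) + (2 : F)⁻¹ • (x - M x) := fun x => by
    match_scalars <;> field_simp <;> ring
  have hc : IsCompl Wp Wm := by
    refine IsCompl.of_eq ((Submodule.eq_bot_iff _).2 fun x hx => ?_) (eq_top_iff.2 fun x _ => ?_)
    · have h1 : (2 : F) • x = 0 := by rw [two_smul]; exact eq_neg_iff_add_eq_zero.1 (((hp x).1 hx.1).symm.trans ((hm x).1 hx.2))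
      exact (smul_eq_zero.1 h1).resolve_left h2
    · rw [hsplit x]
      exact Submodule.add_mem_sup ((hp _).2 (by rw [map_smul, map_add, hM, add_comm]))
        ((hm _).2 (by rw [map_smul, map_sub, hM, ← smul_neg, neg_sub]))
  let e := Submodule.prodEquivOfIsCompl Wp Wm hc
  have he : M = (e : (Wp × Wm) →ₗ[F] V) ∘ₗ
      LinearMap.prodMap LinearMap.id (-LinearMap.id) ∘ₗ (e.symm : V →ₗ[F] Wp × Wm) := by
    refine LinearMap.ext fun x => ?_
    obtain ⟨y, rfl⟩ := e.surjective x
    simp only [LinearMap.coe_comp, Function.comp_apply, LinearEquiv.coe_coe, LinearEquiv.symm_apply_apply]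
    show M ((y.1 : V) + y.2) = (y.1 : V) + ((-y.2 : Wm) : V)
    rw [map_add, (hp _).1 y.1.2, (hm _).1 y.2.2, Submodule.coe_neg]
  rw [he, LinearMap.det_conj, LinearMap.det_prodMap, LinearMap.det_id, one_mul,
    ← neg_one_smul F (LinearMap.id (R := F) (M := Wm)), LinearMap.det_smul, LinearMap.det_id, mul_one]

/-- The determinant of a square root of a nonsquare scalar. -/
theorem det_of_sq {M : Matrix ι ι F} {l : F} (hM : M * M = l • 1) (hl : ¬ IsSquare l) {k : ℕ}
    (hk : Fintype.card ι = 2 * k) : M.det = (-l) ^ k := by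
  open Polynomial in
  have hirr : Irreducible ((X : F[X]) ^ 2 - C l) :=
    X_pow_sub_C_irreducible_of_prime Nat.prime_two fun b hb => hl ⟨b, by rw [← hb, pow_two]⟩
  open Polynomial in
  have hp : M.charpoly * (-M).charpoly = ((X : F[X]) ^ 2 - C l) ^ Fintype.card ι := by
    rw [Matrix.charpoly, Matrix.charpoly, ← det_mul]
    have e : M.charmatrix * (-M).charmatrix = ((X : F[X]) ^ 2 - C l) • 1 := by
      simp only [Matrix.charmatrix, map_neg, sub_neg_eq_add, Matrix.scalar_apply, ← Matrix.smul_one_eq_diagonal]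
      simp only [sub_mul, mul_add, smul_mul_assoc, mul_smul_comm, one_mul, mul_one, smul_smul, ← map_mul, hM]
      rw [show (C.mapMatrix (l • (1 : Matrix ι ι F))) = C l • (1 : Matrix ι ι F[X]) by
        rw [RingHom.mapMatrix_apply, Matrix.map_smul' _ _ _ (map_mul C), Matrix.map_one _ (map_zero C) (map_one C)]]
      rw [sub_smul, pow_two]
      module
    rw [e, det_smul, det_one, mul_one]
  obtain ⟨i, -, hi⟩ := (dvd_prime_pow hirr.prime _).1 (Dvd.intro _ hp)
  have hmon : ((Polynomial.X : Polynomial F) ^ 2 - Polynomial.C l).Monic := Polynomial.monic_X_pow_sub_C l two_ne_zero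
  have he := Polynomial.eq_of_monic_of_associated M.charpoly_monic (hmon.pow i) hi
  have hd := congrArg Polynomial.natDegree he
  rw [Matrix.charpoly_natDegree_eq_dim, Polynomial.natDegree_pow, Polynomial.natDegree_X_pow_sub_C, hk] at hd
  rw [Matrix.det_eq_sign_charpoly_coeff, he, Polynomial.coeff_zero_eq_eval_zero, Polynomial.eval_pow, hk,
    show i = k by omega]
  simp [pow_mul]

namespace CData

variable (D : CData Q)

/-- A trivial class `b` and no commuting similitude: two classes. -/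
theorem graph_split_one {g : Cfsg.Geo.quadSimilarityGroup ⇑Q} (hb : D.cb = 1)
    (hno : ∀ h : Cfsg.Geo.quadSimilarityGroup ⇑Q, D.χ h = 1 → D.ν h = -1 →
      ∀ μ : Fˣ, (h : GL ι F) * (g : GL ι F) ≠ scal μ * ((g : GL ι F) * (h : GL ι F))) :
    Cfsg.splitClassCount (D.χ.ker.map (simAut Q)) (Cfsg.Inn (Cfsg.POmega F ⇑Q)) (simAut Q g) = 2 := by
  classical
  set H := D.χ.ker.map (simAut Q)
  set x := simAut Q g
  set N := Cfsg.Inn (Cfsg.POmega F ⇑Q)
  have hN : N ≤ H := by
    rintro _ ⟨y, rfl⟩
    obtain ⟨s, rfl⟩ := prj_surjective (Q := Q) y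
    refine ⟨⟨((s : Grp Q) : GL ι F), isometry_le_sim (s : Grp Q).2⟩, ?_, psi_incl s⟩
    show D.χ _ = 1
    rw [D.χ_grp]
    exact Abelianization.commutator_subset_ker _ s.2
  set C := H ⊓ Subgroup.centralizer {x}
  have hcount := splitClassCount_mul H N hN x
  let π := QuotientGroup.mk' N
  have hidx : ∀ K : Subgroup (MulAut (Cfsg.POmega F ⇑Q)), N.relIndex K = Nat.card (K.map π) := fun K => by
    conv_lhs => rw [← QuotientGroup.ker_mk' N]
    exact Subgroup.relIndex_ker K _
  rw [hidx, hidx, show H.map π = D.χ.ker.map (simOut Q) from Subgroup.map_map _ _ _] at hcount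
  have hK : Nat.card (D.χ.ker.map (simOut Q)) = 2 := by
    rw [(Nat.card_congr (Equiv.subtypeEquivRight (q := fun y => y ∈ ({1, D.ca} : Finset _)) fun y => by
      rw [D.ker_list]; simp [hb])).trans (Nat.card_eq_finsetCard _)]
    exact Finset.card_pair (Ne.symm D.ca_ne)
  have hC : C.map π = ⊥ := by
    rw [Subgroup.eq_bot_iff_forall]
    rintro _ ⟨_, ⟨⟨h, hh, rfl⟩, hc⟩, rfl⟩
    rcases Int.units_eq_one_or (D.ν h) with h1 | h1
    · rcases D.simOut_kernel hh h1 with e | e
      · exact e
      · exact e.trans hb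
    · exfalso
      obtain ⟨μ, hμ⟩ := (psi_simInc_eq_one_iff D.fine ((h * g) * (g * h)⁻¹)).1 (by
        show simAut Q _ = 1
        rw [map_mul (simAut Q) (h * g), map_inv, map_mul, map_mul, Subgroup.mem_centralizer_singleton_iff.1 hc,
          mul_inv_cancel])
      refine hno h hh h1 μ ?_
      rw [← hμ, Subgroup.coe_mul, Subgroup.coe_inv, Subgroup.coe_mul, Subgroup.coe_mul, inv_mul_cancel_right]
  rw [hK, hC, Subgroup.card_bot, mul_one] at hcount
  exact hcount

/-- No similitude with nonsquare multiplier fixes the class of an improper one in dimension divisible by four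
without maximal totally singular subspaces. -/
theorem no_swap (h4 : Fintype.card ι % 4 = 0)
    (hdet : ((D.G : GL ι F) : Matrix ι ι F).det = (D.c : F) ^ (Fintype.card ι / 2))
    (hsing : ∀ W : Submodule F (ι → F), (∀ x ∈ W, Q x = 0) → 2 * Module.finrank F W < Fintype.card ι)
    {g h : Cfsg.Geo.quadSimilarityGroup ⇑Q} (hχ : D.χ g = -1) {l : Fˣ}
    (hl : (g : GL ι F) * (g : GL ι F) = scal l) (hν : D.ν h = -1) (μ : Fˣ) :
    (h : GL ι F) * (g : GL ι F) ≠ scal μ * ((g : GL ι F) * (h : GL ι F)) := by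
  intro hcomm
  have h2 := D.h2
  have hB := D.fine.nondeg
  have hn := D.fine.five
  obtain ⟨c, hc⟩ := g.2
  obtain ⟨ch, hch⟩ := h.2
  have hchns : ¬ IsSquare (ch : F) := fun hs => by
    rw [(D.nu_eq_one_iff hch).2 hs] at hν
    exact absurd hν (by decide)
  have hmv : ∀ x, ((h : GL ι F) : Matrix ι ι F) *ᵥ (((g : GL ι F) : Matrix ι ι F) *ᵥ x) =
      (μ : F) • (((g : GL ι F) : Matrix ι ι F) *ᵥ (((h : GL ι F) : Matrix ι ι F) *ᵥ x)) := fun x => by
    rw [mulVec_mulVec, ← Units.val_mul, hcomm, CfsgLib.ClassicalAut.scal_mul_coe, smul_mulVec, Units.val_mul, mulVec_mulVec]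
  have hggv : ∀ x, ((g : GL ι F) : Matrix ι ι F) *ᵥ (((g : GL ι F) : Matrix ι ι F) *ᵥ x) = (l : F) • x := fun x => by
    rw [mulVec_mulVec, ← Units.val_mul, hl, scal_coe, smul_mulVec, one_mulVec]
  obtain ⟨z, hz⟩ := exists_aniso hB (le_trans (by norm_num) hn)
  have hμ : (μ : F) * μ = 1 := by
    have h1 := congrArg Q (hmv z)
    rw [hch, hc, q_smul, hc, hch] at h1
    exact mul_right_cancel₀ (mul_ne_zero (mul_ne_zero c.ne_zero ch.ne_zero) hz) (by linear_combination -h1)
  obtain ⟨k, hk⟩ : ∃ k, Fintype.card ι = 2 * (2 * k) := ⟨Fintype.card ι / 4, by omega⟩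
  by_cases hsq : IsSquare (c : F)
  · obtain ⟨d, s, hgs, -, hds⟩ := D.exists_isometry ((D.nu_eq_one_iff hc).2 hsq)
    rw [hχ] at hds
    have hgm : ∀ x, ((g : GL ι F) : Matrix ι ι F) *ᵥ x = (d : F) • ap s x := fun x => by
      rw [show (g : GL ι F) = scal d * (s : GL ι F) from congrArg Subtype.val hgs,
        CfsgLib.ClassicalAut.scal_mul_coe, smul_mulVec]
      rfl
    have hd0 : (d : F) ≠ 0 := d.ne_zero
    set e := (l : F) / ((d : F) * d) with he
    have hss : ∀ x, ap s (ap s x) = e • x := fun x => by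
      have h1 := hggv x
      rw [hgm, hgm, ap_smul, smul_smul] at h1
      rw [he, div_eq_mul_inv, mul_comm (l : F), ← smul_smul, ← h1, smul_smul, inv_mul_cancel₀ (by simp), one_smul]
    have he2 : e * e = 1 := by
      have h1 := ap_q s (ap s z)
      rw [hss, q_smul, ap_q] at h1
      exact mul_right_cancel₀ hz (h1.trans (one_mul _).symm)
    have hsdet : ((s : GL ι F) : Matrix ι ι F).det ≠ 1 := fun e0 => by
      rw [(dickson_iff_det hB h2 hn s).2 e0] at hds
      exact absurd hds (by decide)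
    rcases mul_self_eq_one_iff.1 he2 with he1 | he1
    swap
    · refine hsdet ?_
      set M := ((s : GL ι F) : Matrix ι ι F)
      have hM : ∀ x, Q ((1 + M) *ᵥ x) = 2 * Q x := fun x => by
        have h1 := ap_b s x (ap s x)
        rw [hss, he1, b_smul_right, b_comm (ap s x) x] at h1
        have h3 : QuadraticMap.polar Q x (ap s x) = 0 := mul_left_cancel₀ h2 (by linear_combination -h1)
        rw [add_mulVec, one_mulVec, q_add, show M *ᵥ x = ap s x from rfl, ap_q, h3]; ring
      have hMM : (1 + M) * (1 + M) = (2 : F) • M := Matrix.ext_iff_mulVec.2 fun x => by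
        have h1 : M *ᵥ (M *ᵥ x) = e • x := hss x
        rw [← mulVec_mulVec, add_mulVec, add_mulVec, one_mulVec, one_mulVec, mulVec_add, h1, he1, smul_mulVec]
        module
      have h3 := congrArg Matrix.det hMM
      rw [det_mul, det_smul, ← pow_two, det_sq hB hM] at h3
      exact mul_left_cancel₀ (pow_ne_zero _ h2) (by rw [← h3, mul_one])
    · set M := ((s : GL ι F) : Matrix ι ι F).mulVecLin
      have hM : ∀ x, M (M x) = x := fun x => (hss x).trans (by rw [he1, one_smul])
      set Wp := LinearMap.ker (M - LinearMap.id)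
      set Wm := LinearMap.ker (M + LinearMap.id)
      have hp : ∀ x, x ∈ Wp ↔ M x = x := fun x => by
        rw [LinearMap.mem_ker, LinearMap.sub_apply, LinearMap.id_apply, sub_eq_zero]
      have hm : ∀ x, x ∈ Wm ↔ M x = -x := fun x => by
        rw [LinearMap.mem_ker, LinearMap.add_apply, LinearMap.id_apply, add_eq_zero_iff_eq_neg]
      have hsplit : ∀ x, x = (2 : F)⁻¹ • (x + M x) + (2 : F)⁻¹ • (x - M x) := fun x => by
        match_scalars <;> field_simp <;> ring
      have hodd : Odd (Module.finrank F Wm) := by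
        rcases Nat.even_or_odd (Module.finrank F Wm) with h0 | h0
        · refine absurd ?_ hsdet
          rw [← LinearMap.det_toLin', Matrix.toLin'_apply']
          exact (det_involution h2 M hM).trans h0.neg_one_pow
        · exact h0
      set H := ((h : GL ι F) : Matrix ι ι F).mulVecLin
      have hH : ∀ x, H (M x) = (μ : F) • M (H x) := fun x => by
        have h1 := hmv x
        rw [hgm, hgm, mulVec_smul, smul_comm] at h1
        exact (smul_right_injective (ι → F) hd0) h1
      have hHinj : Function.Injective H := fun x y e0 => by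
        have := congrArg ((((h : GL ι F)⁻¹ : GL ι F) : Matrix ι ι F) *ᵥ ·) e0
        simpa [H, mulVec_mulVec] using this
      rcases mul_self_eq_one_iff.1 hμ with hμ1 | hμ1
      · have hndm : ∀ x ∈ Wm, (∀ y ∈ Wm, QuadraticMap.polar Q x y = 0) → x = 0 := fun x hx hxy => hB x fun y => by
          have hpy : QuadraticMap.polar Q x ((2 : F)⁻¹ • (y + M y)) = 0 := by
            have h1 : QuadraticMap.polar Q (M x) (M ((2 : F)⁻¹ • (y + M y))) =
                QuadraticMap.polar Q x ((2 : F)⁻¹ • (y + M y)) := ap_b s _ _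
            rw [(hm x).1 hx, map_smul, map_add, hM, add_comm (M y), ← neg_one_smul F x, b_smul_left] at h1
            exact mul_left_cancel₀ h2 (by linear_combination -h1)
          show QuadraticMap.polar Q x y = 0
          rw [hsplit y, b_add_right, hpy, zero_add]
          exact hxy _ ((hm _).2 (by rw [map_smul, map_sub, hM, ← smul_neg, neg_sub]))
        have hst : ∀ x ∈ Wm, H x ∈ Wm := fun x hx => (hm _).2 (by
          have h1 := hH x
          rw [(hm x).1 hx, map_neg, hμ1, one_smul] at h1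
          exact h1.symm)
        obtain ⟨j, hj⟩ := hodd
        have hdL := det_sq_sub hndm (L := H.restrict hst) (c := (ch : F)) fun x => hch _
        rw [hj, pow_succ (ch : F)] at hdL
        refine hchns ⟨LinearMap.det (H.restrict hst) / (ch : F) ^ j, ?_⟩
        field_simp
        linear_combination -hdL
      · have hmp : Module.finrank F Wm ≤ Module.finrank F Wp := by
          refine LinearMap.finrank_le_finrank_of_injective (f := (H.comp Wm.subtype).codRestrict Wp fun x => (hp _).2 ?_)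
            fun x y e0 => Subtype.ext (hHinj (congrArg Subtype.val e0))
          have h1 := hH x
          rw [(hm _).1 x.2, map_neg, hμ1, neg_one_smul, neg_inj] at h1
          exact h1.symm
        have hpm : Module.finrank F Wp ≤ Module.finrank F Wm := by
          refine LinearMap.finrank_le_finrank_of_injective (f := (H.comp Wp.subtype).codRestrict Wm fun x => (hm _).2 ?_)
            fun x y e0 => Subtype.ext (hHinj (congrArg Subtype.val e0))
          have h1 := hH x
          rw [(hp _).1 x.2, hμ1, neg_one_smul] at h1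
          show M (H (x : ι → F)) = -H (x : ι → F)
          exact eq_neg_iff_add_eq_zero.2 (by rw [add_comm]; exact eq_neg_iff_add_eq_zero.1 h1)
        have htop : Wp ⊔ Wm = ⊤ := eq_top_iff.2 fun x _ => hsplit x ▸ Submodule.add_mem_sup
          ((hp _).2 (by rw [map_smul, map_add, hM, add_comm]))
          ((hm _).2 (by rw [map_smul, map_sub, hM, ← smul_neg, neg_sub]))
        have hbot : Wp ⊓ Wm = ⊥ := (Submodule.eq_bot_iff _).2 fun x hx => by
          have h1 : (2 : F) • x = 0 := by
            rw [two_smul]; exact eq_neg_iff_add_eq_zero.1 (((hp x).1 hx.1).symm.trans ((hm x).1 hx.2))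
          exact (smul_eq_zero.1 h1).resolve_left h2
        have hdim := Submodule.finrank_sup_add_finrank_inf_eq Wp Wm
        rw [htop, hbot, finrank_top, finrank_bot, Module.finrank_pi] at hdim
        obtain ⟨j, hj⟩ := hodd
        omega
  · have hcl : (c : F) * c = (l : F) * l := by
      have h1 := hc (((g : GL ι F) : Matrix ι ι F) *ᵥ z)
      rw [hggv, q_smul, hc] at h1
      exact mul_right_cancel₀ hz (by linear_combination -h1)
    have hνg : D.ν g = -1 := (Int.units_eq_one_or _).resolve_left fun e => hsq ((D.nu_eq_one_iff hc).1 e)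
    obtain ⟨d, s, hgs, -, hds⟩ := D.exists_isometry (g := D.G⁻¹ * g) (by rw [map_mul, map_inv, D.nu_G, hνg]; rfl)
    rw [map_mul, map_inv, D.χG, hχ, inv_one, one_mul] at hds
    have hgm : ((g : GL ι F) : Matrix ι ι F) = ((D.G : GL ι F) : Matrix ι ι F) * ((d : F) • ((s : GL ι F) : Matrix ι ι F)) := by
      have e := congrArg Subtype.val (eq_mul_of_inv_mul_eq hgs)
      rw [Subgroup.coe_mul, Subgroup.coe_mul] at e
      rw [e, Units.val_mul, CfsgLib.ClassicalAut.scal_mul_coe]
    have hcd : (c : F) = (D.c : F) * ((d : F) * d) := by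
      have h1 := hc z
      rw [hgm, ← mulVec_mulVec, D.hG, smul_mulVec, q_smul, show ((s : GL ι F) : Matrix ι ι F) *ᵥ z = ap s z from rfl, ap_q] at h1
      exact mul_right_cancel₀ hz (by linear_combination -h1)
    have hs2 : ((s : GL ι F) : Matrix ι ι F).det ^ 2 = 1 := by
      rw [det_sq hB (c := (1 : F)) fun v => by rw [one_mul]; exact ap_q s v, one_pow]
    have hsdet : ((s : GL ι F) : Matrix ι ι F).det = -1 :=
      (sq_eq_one_iff.1 hs2).resolve_left fun e0 => by
        rw [(dickson_iff_det hB h2 hn s).2 e0] at hds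
        exact absurd hds (by decide)
    have hdg : ((g : GL ι F) : Matrix ι ι F).det = -((c : F) ^ (2 * k)) := by
      rw [hgm, det_mul, det_smul, hdet, hsdet, hk, show 2 * (2 * k) / 2 = 2 * k by omega, hcd, mul_pow,
        ← pow_two (d : F), ← pow_mul]
      ring
    have hM : ((g : GL ι F) : Matrix ι ι F) * ((g : GL ι F) : Matrix ι ι F) = (l : F) • 1 := by
      rw [← Units.val_mul, hl, scal_coe]
    by_cases hls : IsSquare (l : F)
    · obtain ⟨r, hr⟩ := hls
      have hlc : (l : F) = -c := (mul_self_eq_mul_self_iff.1 hcl.symm).resolve_left fun e => hsq (e ▸ ⟨r, hr⟩)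
      have hr0 : r ≠ 0 := fun e0 => l.ne_zero (by rw [hr, e0, mul_zero])
      set M := r⁻¹ • ((g : GL ι F) : Matrix ι ι F).mulVecLin
      have hM' : ∀ x, M (M x) = x := fun x => by
        show r⁻¹ • (((g : GL ι F) : Matrix ι ι F) *ᵥ (r⁻¹ • (((g : GL ι F) : Matrix ι ι F) *ᵥ x))) = x
        rw [mulVec_smul, hggv, smul_smul, smul_smul, show r⁻¹ * r⁻¹ * (l : F) = 1 by rw [hr]; field_simp, one_smul]
      have hq : ∀ (ε : F) x, ε * ε = 1 → M x = ε • x → Q x = 0 := fun ε x hε hx => by
        have h1 : ((g : GL ι F) : Matrix ι ι F) *ᵥ x = (r * ε) • x := by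
          rw [← smul_smul, ← hx]
          show _ = r • (r⁻¹ • (((g : GL ι F) : Matrix ι ι F) *ᵥ x))
          rw [smul_smul, mul_inv_cancel₀ hr0, one_smul]
        have h3 := hc x
        rw [h1, q_smul] at h3
        have h4 : (2 * (c : F)) * Q x = 0 := by
          linear_combination (r * r * Q x) * hε - h3 - Q x * hr + Q x * hlc
        exact (mul_eq_zero.1 h4).resolve_left (mul_ne_zero h2 c.ne_zero)
      have hp := hsing (LinearMap.ker (M - LinearMap.id)) fun x hx => hq 1 x (one_mul _) (by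
        rw [one_smul]; rwa [LinearMap.mem_ker, LinearMap.sub_apply, LinearMap.id_apply, sub_eq_zero] at hx)
      have hm := hsing (LinearMap.ker (M + LinearMap.id)) fun x hx => hq (-1) x (by norm_num) (by
        rw [neg_one_smul]; rwa [LinearMap.mem_ker, LinearMap.add_apply, LinearMap.id_apply, add_eq_zero_iff_eq_neg] at hx)
      have htop : LinearMap.ker (M - LinearMap.id) ⊔ LinearMap.ker (M + LinearMap.id) = ⊤ :=
        eq_top_iff.2 fun x _ => by
          rw [show x = (2 : F)⁻¹ • (x + M x) + (2 : F)⁻¹ • (x - M x) by match_scalars <;> field_simp <;> ring]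
          refine Submodule.add_mem_sup ?_ ?_
          · rw [LinearMap.mem_ker, LinearMap.sub_apply, LinearMap.id_apply, sub_eq_zero, map_smul, map_add, hM', add_comm]
          · rw [LinearMap.mem_ker, LinearMap.add_apply, LinearMap.id_apply, add_eq_zero_iff_eq_neg, map_smul, map_sub,
              hM', ← smul_neg, neg_sub]
      have hdim := Submodule.finrank_add_le_finrank_add_finrank (LinearMap.ker (M - LinearMap.id)) (LinearMap.ker (M + LinearMap.id))
      rw [htop, finrank_top, Module.finrank_pi] at hdim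
      omega
    · rw [det_of_sq hM hls hk, pow_mul, neg_sq, pow_two, ← hcl, ← pow_two, ← pow_mul] at hdg
      exact mul_ne_zero h2 (pow_ne_zero (2 * k) c.ne_zero) (by linear_combination hdg)

end CData

variable {a b : F}

/-- The minus-shaped form with any coefficients. -/
theorem exists_minus_shape (m : ℕ) (a b : F) :
    ∃ Q : QuadraticForm F (MIdx m → F), ⇑Q = Cfsg.quadFormMinus m F a b := by
  refine ⟨QuadraticMap.ofPolar (Cfsg.quadFormMinus m F a b) (fun c x => ?_) (fun x y z => ?_)
    (fun c x y => ?_), rfl⟩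
  · simp only [Cfsg.quadFormMinus, Pi.smul_apply, smul_eq_mul, mul_add, Finset.mul_sum]
    exact congrArg₂ (· + ·) (Finset.sum_congr rfl fun i _ => by ring) (by ring)
  · simp only [CfsgLib.Orth.polar_minus, Pi.add_apply]
    rw [add_add_add_comm, ← Finset.sum_add_distrib]
    exact congrArg₂ (· + ·) (Finset.sum_congr rfl fun i _ => by ring) (by ring)
  · simp only [CfsgLib.Orth.polar_minus, Pi.smul_apply, smul_eq_mul, mul_add, Finset.mul_sum]
    exact congrArg₂ (· + ·) (Finset.sum_congr rfl fun i _ => by ring) (by ring)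

/-- An automorphism of order two of a minus-type group involves no field automorphism. -/
theorem right_eq_one_of_sq {n : ℕ} {Qm : QuadraticForm F (MIdx n → F)}
    (hab : ∀ z₁ z₂ : F, z₁ ^ 2 + a * z₁ * z₂ + b * z₂ ^ 2 = 0 → z₁ = 0 ∧ z₂ = 0)
    (hQm : ⇑Qm = Cfsg.quadFormMinus n F a b) (h : Fine Qm) (hodd : Odd (Fintype.card F))
    {x : semi Qm} (hx : psi Qm (x * x) = 1) : (x : Semilin F (MIdx n)).right = 1 := by
  classical
  by_contra hne
  set σ := (x : Semilin F (MIdx n)).right with hσdef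
  set g := (x : Semilin F (MIdx n)).left with hgdef
  obtain ⟨hr, c, hc0, hcm⟩ := psi_eq_one h hx
  have hσ2 : σ * σ = 1 := hr
  have hord : orderOf σ = 2 := orderOf_eq_prime (by rw [pow_two]; exact hσ2) hne
  have hgs : g * entryAct F (MIdx n) σ g = scal (Units.mk0 c hc0) := Units.ext (hcm.trans (by rw [scal_coe]; rfl))
  have hfix : σ c = c := by
    have h1 : entryAct F (MIdx n) σ g * g = scal (Units.mk0 c hc0) := by
      calc entryAct F (MIdx n) σ g * g = g⁻¹ * (g * entryAct F (MIdx n) σ g) * g := by group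
        _ = scal (Units.mk0 c hc0) := by rw [hgs, mul_assoc, ← CfsgLib.ClassicalAut.scal_comm, inv_mul_cancel_left]
    have h2 := congrArg (entryAct F (MIdx n) σ) hgs
    rw [map_mul, show entryAct F (MIdx n) σ (entryAct F (MIdx n) σ g) = g by
      rw [← MulAut.mul_apply, ← map_mul, hσ2, map_one, MulAut.one_apply], h1,
      show entryAct F (MIdx n) σ (scal (Units.mk0 c hc0)) =
        CfsgLib.ClassicalAut.Carrier.mapUnit σ (scal (Units.mk0 c hc0)) from rfl, CfsgLib.ClassicalAut.mapUnit_scal] at h2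
    haveI : Nonempty (MIdx n) := ⟨.inr 0⟩
    exact (congrArg Units.val (CfsgLib.ClassicalAut.scal_injective h2)).symm
  obtain ⟨e, he⟩ := exists_unorm_eq (r := 2) two_pos hord (Units.mk0 c hc0) hfix
  obtain ⟨k, hk⟩ := CfsgLib.ClassicalAut.exists_coboundary_gl two_pos hord (scal e⁻¹ * g) (by
    rw [CfsgLib.ClassicalAut.gnorm_scal_mul, show CfsgLib.ClassicalAut.gnorm σ g 2 = scal (Units.mk0 c hc0) by
      rw [← hgs]
      simp only [CfsgLib.ClassicalAut.gnorm, mul_one, map_one]
      rfl, map_inv, he, ← map_mul, inv_mul_cancel, map_one])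
  obtain ⟨mu, hmu⟩ := mem_semi.1 x.2
  have hge : g = scal e * (k * (CfsgLib.ClassicalAut.Carrier.mapUnit σ k)⁻¹) := by
    rw [← hk, ← mul_assoc, ← map_mul, mul_inv_cancel, map_one, one_mul]
  obtain ⟨ν, R₁, hν, hnd, hR⟩ := exists_rational_form (σ := σ) (R := pull Qm (k : Matrix (MIdx n) (MIdx n) F))
    (nondeg_pull h.nondeg k) (by simp) (μ := ((e : F) * e) / mu) fun z => by
      rw [pull_apply, pull_apply]
      have h1 := hmu ((k : Matrix (MIdx n) (MIdx n) F) *ᵥ z)
      rw [sv, ← hgdef, ← hσdef,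
        show (fun i => σ (((k : Matrix (MIdx n) (MIdx n) F) *ᵥ z) i)) = (k : Matrix (MIdx n) (MIdx n) F).map σ *ᵥ fun i => σ (z i) from
          funext fun i => RingHom.map_mulVec σ.toRingHom _ z i,
        show (k : Matrix (MIdx n) (MIdx n) F).map σ = ((CfsgLib.ClassicalAut.Carrier.mapUnit σ k : GL (MIdx n) F) : Matrix (MIdx n) (MIdx n) F) from rfl,
        mulVec_mulVec, ← Units.val_mul, hge, mul_assoc, inv_mul_cancel_right, CfsgLib.ClassicalAut.scal_mul_coe,
        smul_mulVec, q_smul] at h1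
      field_simp
      linear_combination -h1
  let K := fixedField σ
  haveI : Fintype K := Fintype.ofFinite K
  have hcardK : Fintype.card K ^ 2 = Fintype.card F := by
    simpa [Nat.card_eq_fintype_card] using card_fixedField_pow hord
  have hKodd : Odd (Fintype.card K) := by
    rcases Nat.even_or_odd (Fintype.card K) with h0 | h0
    · exact absurd (hcardK ▸ h0.pow_of_ne_zero two_ne_zero) (Nat.not_even_iff_odd.2 hodd)
    · exact h0
  have hK2 : (2 : K) ≠ 0 := two_ne_of_odd hKodd
  obtain ⟨δ, hδ⟩ := FiniteField.exists_nonsquare (F := K) fun hc => hK2 (by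
    haveI : CharP K 2 := hc ▸ ringChar.charP K
    exact_mod_cast CharP.cast_eq_zero K 2)
  have hδ0 : δ ≠ 0 := fun e0 => hδ (e0 ▸ IsSquare.zero)
  have hab₀ : ∀ z₁ z₂ : K, z₁ ^ 2 + 0 * z₁ * z₂ + (-δ) * z₂ ^ 2 = 0 → z₁ = 0 ∧ z₂ = 0 := fun z₁ z₂ hz => by
    by_cases h0 : z₂ = 0
    · exact ⟨by simpa [h0] using hz, h0⟩
    · exact absurd ⟨z₁ / z₂, by field_simp; linear_combination -hz⟩ hδ
  obtain ⟨s, hs⟩ : IsSquare ((δ : K) : F) := by
    have hδF : ((δ : K) : F) ≠ 0 := by simpa using hδ0
    rw [FiniteField.isSquare_iff (fun hc => two_ne_of_odd hodd (by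
      haveI : CharP F 2 := hc ▸ ringChar.charP F
      exact_mod_cast CharP.cast_eq_zero F 2)) hδF]
    obtain ⟨j, hj⟩ := hKodd
    rw [← hcardK, hj, show (2 * j + 1) ^ 2 / 2 = (Fintype.card K - 1) * (j + 1) by
      rw [hj, Nat.add_sub_cancel,
        show (2 * j + 1) ^ 2 = 2 * (2 * j * (j + 1)) + 1 by ring]
      omega,
      pow_mul, ← SubmonoidClass.coe_pow, FiniteField.pow_card_sub_one_eq_one δ hδ0]
    simp
  have hd : Module.finrank K (MIdx n → K) = 2 * (n + 1) := by simp; omega
  rcases CfsgLib.Classical.OrthModels.classify_even R₁ hnd hd 0 (-δ) hab₀ with hplus | ⟨j, hj, hminus⟩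
  · exact not_plus_structure hab hQm (h := k) (fun z => hR z) hplus
  obtain rfl : j = n := by omega
  obtain ⟨G, hG⟩ := hminus
  let Gm : Matrix (MIdx j) (MIdx j) K := LinearMap.toMatrix' G.symm.toLinearMap
  let P : Matrix (MIdx j) (MIdx j) F := (k : Matrix (MIdx j) (MIdx j) F) * Gm.map (fun z : K => (z : F))
  have hab' : (⇑(pull Qm P)) = fun y => ν * Cfsg.quadFormMinus j F 0 (-((δ : K) : F)) y := by
    obtain ⟨Q₀, hQ₀⟩ := exists_minus_shape (F := F) j 0 (-((δ : K) : F))
    have e1 : pull Qm P = ν • Q₀ := ext_emb K fun z => by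
      rw [pull_apply, _root_.QuadraticMap.smul_apply, hQ₀, smul_eq_mul]
      simp only [P]
      rw [← mulVec_mulVec, ← emb_mulVec, show Gm *ᵥ z = G.symm z from LinearMap.toMatrix'_mulVec _ z]
      refine (hR _).trans ?_
      rw [← hG (G.symm z), LinearEquiv.apply_symm_apply]
      congr 1
      exact (minus_emb (a₀ := (0 : K)) (b₀ := -δ) K.subtype (map_zero _) (map_neg _ _) z).symm
    funext y
    rw [e1, _root_.QuadraticMap.smul_apply, hQ₀, smul_eq_mul]
  let J : (Fin (j + 1) → F) →ₗ[F] (MIdx j → F) :=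
    { toFun := fun y => Sum.elim (Sum.elim (fun i => y i.succ) fun _ => 0) ![s * y 0, y 0]
      map_add' := fun y z => funext fun i => by
        rcases i with (i | i) | i
        · simp
        · simp
        · fin_cases i <;> simp [mul_add]
      map_smul' := fun t y => funext fun i => by
        rcases i with (i | i) | i
        · simp
        · simp
        · fin_cases i <;> simp [mul_left_comm] }
  have hPinj : Function.Injective (P *ᵥ ·) := fun y z e0 => by
    have h1 : Gm.map (fun w : K => (w : F)) *ᵥ y = Gm.map (fun w : K => (w : F)) *ᵥ z := by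
      have := congrArg ((((k⁻¹ : GL (MIdx j) F)) : Matrix (MIdx j) (MIdx j) F) *ᵥ ·) e0
      simpa [P, mulVec_mulVec, ← Matrix.mul_assoc] using this
    have h2 := congrArg ((LinearMap.toMatrix' G.toLinearMap).map (fun w : K => (w : F)) *ᵥ ·) h1
    simp only [mulVec_mulVec] at h2
    rw [show (LinearMap.toMatrix' G.toLinearMap).map (fun w : K => (w : F)) * Gm.map (fun w : K => (w : F)) = 1 by
      rw [show (fun w : K => (w : F)) = ⇑K.subtype from rfl, ← Matrix.map_mul, ← LinearMap.toMatrix'_comp]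
      simp] at h2
    simpa using h2
  have hJinj : Function.Injective J := fun y z e0 => funext fun i => by
    induction i using Fin.cases with
    | zero => simpa [J] using congrFun e0 (.inr 1)
    | succ i => simpa [J] using congrFun e0 (.inl (.inl i))
  have hle := minus_singular_le j hab (LinearMap.range (P.mulVecLin.comp J)) fun w hw => by
    obtain ⟨y, rfl⟩ := hw
    rw [← hQm]
    refine (congrFun hab' (J y)).trans ?_
    simp [J, Cfsg.quadFormMinus]
    right
    linear_combination (-y 0 ^ 2) * hs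
  rw [LinearMap.finrank_range_of_inj (hPinj.comp hJinj), Module.finrank_fin_fun] at hle
  omega

/-- The determinant of the multiplication in the plane. -/
theorem mulPlane_det (n : ℕ) (c u w : F) :
    (mulPlane n a b c u w).det = c ^ n * (u ^ 2 + a * u * w + b * w ^ 2) := by
  rw [mulPlane, Matrix.det_fromBlocks_zero₁₂, Matrix.det_diagonal, Matrix.det_fin_two_of, Fintype.prod_sum_type]
  simp only [Sum.elim_inl, Sum.elim_inr, Finset.prod_const, Finset.card_univ, Fintype.card_fin, one_pow, mul_one]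
  ring

/-- Splitting of involutory graph automorphisms of minus-type groups. -/
theorem graph_split_minus {m : ℕ} (hm : 3 ≤ m) {Qm : QuadraticForm F (MIdx m → F)}
    (hab : ∀ z₁ z₂ : F, z₁ ^ 2 + a * z₁ * z₂ + b * z₂ ^ 2 = 0 → z₁ = 0 ∧ z₂ = 0)
    (hQm : ⇑Qm = Cfsg.quadFormMinus m F a b) (hB : Nondeg Qm) (hodd : Odd (Fintype.card F))
    (γ : MulAut (Cfsg.POmega F ⇑Qm))
    (hout : γ ∉ Cfsg.autSubgroupOf fun β : MulAut (Cfsg.POmega F ⇑Qm) => ∃ g : GL (MIdx m) F,
        g ∈ Cfsg.Geo.quadSimilarityGroup ⇑Qm ∧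
        Cfsg.PreservesSingularClassesMinus m a b (g : Matrix (MIdx m) (MIdx m) F) ∧
        Cfsg.IsInducedBySemilinearPOmega ⇑Qm g (RingEquiv.refl F) β)
    (hγ2 : orderOf γ = 2) :
    let H := Cfsg.autSubgroupOf fun β : MulAut (Cfsg.POmega F ⇑Qm) => ∃ g : GL (MIdx m) F,
        g ∈ Cfsg.Geo.quadSimilarityGroup ⇑Qm ∧
        Cfsg.PreservesSingularClassesMinus m a b (g : Matrix (MIdx m) (MIdx m) F) ∧
        Cfsg.IsInducedBySemilinearPOmega ⇑Qm g (RingEquiv.refl F) β;
    (Cfsg.splitClassCount H (Cfsg.Inn (Cfsg.POmega F ⇑Qm)) γ = 1 ∨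
      Cfsg.splitClassCount H (Cfsg.Inn (Cfsg.POmega F ⇑Qm)) γ = 2) ∧
    (¬ (Even m ∧ Fintype.card F % 4 = 1) → Cfsg.splitClassCount H (Cfsg.Inn (Cfsg.POmega F ⇑Qm)) γ = 2) := by
  intro H
  have h2 := two_ne_of_odd hodd
  obtain ⟨c, hc⟩ := FiniteField.exists_nonsquare (F := F) fun hc => h2 (by
    haveI : CharP F 2 := hc ▸ ringChar.charP F
    exact_mod_cast CharP.cast_eq_zero F 2)
  obtain ⟨D, hμ, hDc, u, w, huw, hG⟩ :=
    exists_cdata_minus hab hQm hB h2 (by omega) (Units.mk0 c fun e => hc (e ▸ IsSquare.zero)) hc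
  have hH : H = D.χ.ker.map (simAut Qm) := inndiag_minus_eq hQm hμ
  obtain ⟨x, hx⟩ := psi_surjective (good_minus hm hab hQm hB) γ
  have hsq : psi Qm (x * x) = 1 := by
    have h1 := pow_orderOf_eq_one γ
    rwa [hγ2, pow_two, ← hx, ← map_mul] at h1
  have hr := right_eq_one_of_sq hab hQm D.fine hodd hsq
  obtain ⟨cx, hcx⟩ := mem_semi.1 x.2
  let g : Cfsg.Geo.quadSimilarityGroup ⇑Qm := ⟨(x : Semilin F (MIdx m)).left, cx, fun v => by
    have h1 := hcx v
    simp only [sv, hr, RingAut.one_apply] at h1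
    exact h1⟩
  have hxg : x = simInc Qm g := Subtype.ext (SemidirectProduct.ext rfl hr)
  have hγ : γ = simAut Qm g := by rw [← hx, hxg]; rfl
  have hout' : γ ∉ H := hout
  rw [hH] at hout' ⊢
  subst hγ
  have hχ : D.χ g = -1 := (Int.units_eq_one_or _).resolve_left fun e => hout' ⟨g, e, rfl⟩
  obtain ⟨h1, h3⟩ := D.graph_split hχ hγ2
  refine ⟨h1, fun hne => ?_⟩
  by_cases hb : D.cb = 1
  swap
  · exact h3 hb
  have hme : ¬ Even m := fun he => by
    have h4 := (cb_iff_minus hab hQm D).1 hb
    have := Nat.odd_iff.1 hodd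
    have : Fintype.card F % 4 = 1 ∨ Fintype.card F % 4 = 3 := by omega
    rcases this with e | e
    exacts [hne ⟨he, e⟩, h4 ⟨he, e⟩]
  obtain ⟨l, hl⟩ := (psi_simInc_eq_one_iff D.fine (g * g)).1 (by
    show simAut Qm (g * g) = 1
    have h1 := pow_orderOf_eq_one (simAut Qm g)
    rwa [hγ2, pow_two, ← map_mul] at h1)
  refine D.graph_split_one hb fun h _ hν μ => D.no_swap ?_ ?_ (fun W hW => ?_) hχ hl hν μ
  · simp only [Fintype.card_sum, Fintype.card_fin]
    rw [Nat.not_even_iff] at hme
    omega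
  · rw [hG, hDc, mulPlane_det, huw, ← pow_succ]
    congr 1
    simp only [Fintype.card_sum, Fintype.card_fin]
    omega
  · have hle := minus_singular_le m hab W fun z hz => by rw [← hQm]; exact hW z hz
    refine lt_of_le_of_lt (Nat.mul_le_mul_left 2 hle) ?_
    simp only [Fintype.card_sum, Fintype.card_fin]
    omega

/-- Splitting of involutory similitude graph automorphisms of plus-type groups. -/
theorem graph_split_plus {m : ℕ} (hm : 3 ≤ m) {Qp : QuadraticForm F (PIdx m → F)}
    (hQ : ⇑Qp = Cfsg.quadFormPlus m F) (hB : Nondeg Qp) (hodd : Odd (Fintype.card F))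
    (γ : MulAut (Cfsg.POmega F ⇑Qp))
    (hγ : ∃ g : GL (PIdx m) F, g ∈ Cfsg.Geo.quadSimilarityGroup ⇑Qp ∧
      ¬ Cfsg.PreservesSingularClasses ⇑Qp (g : Matrix (PIdx m) (PIdx m) F) ∧
      Cfsg.IsInducedBySemilinearPOmega ⇑Qp g (RingEquiv.refl F) γ)
    (hγ2 : orderOf γ = 2) :
    let H := Cfsg.autSubgroupOf fun β : MulAut (Cfsg.POmega F ⇑Qp) => ∃ g : GL (PIdx m) F,
        g ∈ Cfsg.Geo.quadSimilarityGroup ⇑Qp ∧
        Cfsg.PreservesSingularClasses ⇑Qp (g : Matrix (PIdx m) (PIdx m) F) ∧
        Cfsg.IsInducedBySemilinearPOmega ⇑Qp g (RingEquiv.refl F) β;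
    (Cfsg.splitClassCount H (Cfsg.Inn (Cfsg.POmega F ⇑Qp)) γ = 1 ∨
      Cfsg.splitClassCount H (Cfsg.Inn (Cfsg.POmega F ⇑Qp)) γ = 2) ∧
    (¬ (Odd m ∧ Fintype.card F % 4 = 3) → Cfsg.splitClassCount H (Cfsg.Inn (Cfsg.POmega F ⇑Qp)) γ = 2) := by
  intro H
  obtain ⟨g, hg, hp, hind⟩ := hγ
  obtain ⟨D, hχD, -⟩ := exists_cdata_plus hQ hB (two_ne_of_odd hodd) hm
  have hH : H = D.χ.ker.map (simAut Qp) := by rw [hχD]; exact inndiag_plus_eq hQ hB
  have hγ : γ = simAut Qp ⟨g, hg⟩ := (psi_eq_lin hg hind).symm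
  subst hγ
  have hχ : D.χ ⟨g, hg⟩ = -1 := (Int.units_eq_one_or _).resolve_left fun e => hp (by
    have h1 := (chiP_iff hQ hB ⟨g, hg⟩).2 (hχD ▸ e)
    revert h1
    show Cfsg.PreservesSingularClasses (Cfsg.quadFormPlus m F) (g : Matrix (PIdx m) (PIdx m) F) → _
    generalize (g : Matrix (PIdx m) (PIdx m) F) = A
    rw [hQ]
    exact id)
  rw [hH]
  obtain ⟨h1, h2⟩ := D.graph_split hχ hγ2
  exact ⟨h1, fun hne => h2 fun e => hne ((cb_iff_plus hQ (by omega) D).1 e)⟩

end CfsgLib.OrthAut
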