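import Cfsg.Agent.Lib.OrthAut.MinusField

/-!
Centralisers and splitting for field automorphisms of minus-type groups.
-/

set_option autoImplicit false
set_option linter.unusedSectionVars false

namespace CfsgLib.OrthAut

open Matrix CfsgLib.Orth CfsgLib.AutPSL
open CfsgLib.ClassicalAut (scal scal_coe)

universe u v

variable {F : Type u} [Field F] [Fintype F] {n : ℕ}
variable {a b : F} {Qm : QuadraticForm F (MIdx n → F)}

/-- An anisotropic binary form with fixed coefficients forces odd order. -/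
theorem ne_two_of_aniso (hab : ∀ z₁ z₂ : F, z₁ ^ 2 + a * z₁ * z₂ + b * z₂ ^ 2 = 0 → z₁ = 0 ∧ z₂ = 0)
    {σ : F ≃+* F} (ha : σ a = a) (hb : σ b = b) : orderOf σ ≠ 2 := by
  intro hσ
  haveI : Fintype (fixedField σ) := Fintype.ofFinite _
  have hab' : ∀ z₁ z₂ : fixedField σ, z₁ ^ 2 + (⟨a, ha⟩ : fixedField σ) * z₁ * z₂ +
      (⟨b, hb⟩ : fixedField σ) * z₂ ^ 2 = 0 → z₁ = 0 ∧ z₂ = 0 := fun z₁ z₂ hz => by
    have h1 := congrArg Subtype.val hz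
    push_cast at h1
    obtain ⟨e1, e2⟩ := hab _ _ h1
    exact ⟨Subtype.ext e1, Subtype.ext e2⟩
  obtain ⟨L, _, _, Q, hQ, τ, M, -, hMa, hMb⟩ := exists_frame 0 _ _ hab'
  letI := M.e.toAlgebra
  have h2 : Module.finrank (fixedField σ) L = 2 := by
    refine Nat.pow_right_injective (Finite.one_lt_card : 2 ≤ Nat.card (fixedField σ)) ?_
    show Nat.card (fixedField σ) ^ _ = Nat.card (fixedField σ) ^ 2
    rw [← Module.natCard_eq_pow_finrank, M.card]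
  obtain ⟨ε, hε⟩ := exists_equiv_ext (F := F) (fixedField σ).subtype (card_fixedField_pow hσ).symm h2
  have e1 : ε M.ω + ε (τ M.ω) = a := by
    rw [← map_add, ← M.ha, hMa]
    exact hε _
  have e2 : ε M.ω * ε (τ M.ω) = b := by
    rw [← map_mul, ← M.hb, hMb]
    exact hε _
  exact one_ne_zero (hab (-ε M.ω) 1 (by rw [← e1, ← e2]; ring)).2

/-- A matrix multiplying a nondegenerate form by a unit is invertible. -/
theorem exists_gl_of_scaled {ι : Type} [Fintype ι] [DecidableEq ι] {Q : QuadraticForm F (ι → F)} (hB : Nondeg Q)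
    {M : Matrix ι ι F} {c : Fˣ} (hM : ∀ v, Q (M *ᵥ v) = (c : F) * Q v) :
    ∃ g : GL ι F, g ∈ Cfsg.Geo.quadSimilarityGroup ⇑Q ∧ ∀ v, Q ((g : Matrix ι ι F) *ᵥ v) = (c : F) * Q v := by
  have hinj : Function.Injective (M *ᵥ ·) := fun x y e => by
    rw [← sub_eq_zero]
    refine hB _ fun w => ?_
    have h0 : M *ᵥ (x - y) = 0 := by rw [mulVec_sub]; exact sub_eq_zero.2 e
    have h1 : (c : F) * QuadraticMap.polar Q (x - y) w = QuadraticMap.polar Q (M *ᵥ (x - y)) (M *ᵥ w) := by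
      simp only [QuadraticMap.polar, ← mulVec_add, hM]
      ring
    rw [h0, b_zero_left] at h1
    exact (mul_eq_zero.1 h1).resolve_left c.ne_zero
  obtain ⟨g, hg⟩ := Matrix.mulVec_injective_iff_isUnit.1 hinj
  exact ⟨g, ⟨c, fun v => by rw [hg]; exact hM v⟩, fun v => by rw [hg]; exact hM v⟩

set_option maxHeartbeats 1000000 in
/-- Field automorphisms of prime order fixing the coefficients. -/
theorem field_minus {p f : ℕ} [Fact p.Prime] [CharP F p] (hF : Fintype.card F = p ^ f)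
    (hab : ∀ z₁ z₂ : F, z₁ ^ 2 + a * z₁ * z₂ + b * z₂ ^ 2 = 0 → z₁ = 0 ∧ z₂ = 0)
    (hQm : ⇑Qm = Cfsg.quadFormMinus n F a b) (hBm : Nondeg Qm) (hn : 3 ≤ n)
    (h : Good Qm) {σ : F ≃+* F} (ha : σ a = a) (hb : σ b = b)
    {x : MulAut (Cfsg.POmega F ⇑Qm)} (hx : Cfsg.IsFieldAutPOmegaOf (⇑Qm) σ x) {r : ℕ} (hr : r.Prime)
    (hxr : orderOf x = r) (F₀ : Type v) [Field F₀] [Fintype F₀] (hF₀ : Fintype.card F₀ = p ^ (f / r)) :
    Odd r ∧ r ∣ f ∧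
    (∃ a₀ b₀ : F₀, (∀ z₁ z₂ : F₀, z₁ ^ 2 + a₀ * z₁ * z₂ + b₀ * z₂ ^ 2 = 0 → z₁ = 0 ∧ z₂ = 0) ∧
      ∃ Qm₀ : QuadraticForm F₀ (MIdx n → F₀), ⇑Qm₀ = Cfsg.quadFormMinus n F₀ a₀ b₀ ∧
      Nonempty (↥(((minusTD hab hQm hBm (by omega) _ (zpowers_fix ha hb)).twist h).δ.range ⊓
          Subgroup.centralizer {x}) ≃*
        ↥(Cfsg.autSubgroupOf fun β : MulAut (Cfsg.POmega F₀ ⇑Qm₀) => ∃ g : GL (MIdx n) F₀,
          g ∈ Cfsg.Geo.quadSimilarityGroup ⇑Qm₀ ∧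
          Cfsg.PreservesSingularClassesMinus n a₀ b₀ (g : Matrix (MIdx n) (MIdx n) F₀) ∧
          Cfsg.IsInducedBySemilinearPOmega ⇑Qm₀ g (RingEquiv.refl F₀) β))) ∧
    Cfsg.splitClassCount ((minusTD hab hQm hBm (by omega) _ (zpowers_fix ha hb)).twist h).δ.range
      (Cfsg.Inn (Cfsg.POmega F ⇑Qm)) x = 1 := by
  classical
  set T := minusTD hab hQm hBm (by omega) _ (zpowers_fix ha hb)
  let σ' : T.S := ⟨σ, Subgroup.mem_zpowers σ⟩
  let D := T.twist h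
  have hxe : x = D.φ σ' := phi_eq_field hab hQm hBm (by omega) h ha hb hx
  have hσ' : orderOf σ' = r := by rw [← hxr, hxe]; exact (D.orderOf_φ σ').symm
  have hσ : orderOf σ = r := by rw [← hσ', ← Subgroup.orderOf_coe]
  have hro : Odd r := hr.odd_of_ne_two fun e => ne_two_of_aniso hab ha hb (hσ.trans e)
  obtain ⟨hrf, hK⟩ := card_fixedField_eq hF hr.pos hσ
  obtain ⟨e, hefix, hesurj⟩ := exists_emb_fixed (σ := σ) F₀ (by rw [Nat.card_eq_fintype_card, hF₀, hK])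
  obtain ⟨a₀, ha₀⟩ := hesurj a ha
  obtain ⟨b₀, hb₀⟩ := hesurj b hb
  have hab₀ : ∀ z₁ z₂ : F₀, z₁ ^ 2 + a₀ * z₁ * z₂ + b₀ * z₂ ^ 2 = 0 → z₁ = 0 ∧ z₂ = 0 := fun z₁ z₂ hz => by
    have h1 := congrArg e hz
    simp only [map_add, map_mul, map_pow, map_zero, ha₀, hb₀] at h1
    obtain ⟨e1, e2⟩ := hab _ _ h1
    exact ⟨e.injective (e1.trans e.map_zero.symm), e.injective (e2.trans e.map_zero.symm)⟩
  obtain ⟨Qm₀, hQm₀, hBm₀⟩ := exists_quadForm_minus (F := F₀) n hab₀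
  have h₀ : Good Qm₀ := good_minus hn hab₀ hQm₀ hBm₀
  have hS₀ : ∀ τ ∈ (⊥ : Subgroup (F₀ ≃+* F₀)), τ a₀ = a₀ ∧ τ b₀ = b₀ := fun τ hτ => by
    rw [Subgroup.mem_bot.1 hτ]; exact ⟨rfl, rfl⟩
  let T₀ := minusTD hab₀ hQm₀ hBm₀ (by omega) ⊥ hS₀
  let D₀ := T₀.twist h₀
  have hform : ∀ y : MIdx n → F₀, Qm (((1 : GL (MIdx n) F) : Matrix (MIdx n) (MIdx n) F) *ᵥ fun i => e (y i)) =
      1 * e (Qm₀ y) := fun y => by
    rw [Units.val_one, one_mulVec, one_mul, hQm, hQm₀]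
    exact minus_emb e ha₀ hb₀ y
  let R : Rat T σ' F₀ := ⟨e, hefix, hesurj, Qm₀, fun y => (hform y).trans (one_mul _)⟩
  obtain ⟨μ, hμ, hμd, hμc⟩ := exists_mu hab hQm hBm (by omega)
  obtain ⟨μ₀, hμ₀, hμd₀, -⟩ := exists_mu hab₀ hQm₀ hBm₀ (by omega)
  have hμT : ∀ (g : T.H), μ ⟨g, T.le g.2⟩ = 1 := fun g =>
    (hμ _).1 ((mem_minusH hab hQm hBm (by omega)).1 g.2).2
  have hpres : ∀ u : Cfsg.Geo.quadSimilarityGroup ⇑Qm₀,
      Cfsg.PreservesSingularClassesMinus n a₀ b₀ ((u : GL (MIdx n) F₀) : Matrix (MIdx n) (MIdx n) F₀) ↔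
        μ (R.thetaSim u) = 1 := fun u => by
    refine (preservesMinus_map (e := e) hab₀ hab hQm₀ hQm (P := 1) one_ne_zero hform u (R.thetaSim u) ?_).trans (hμ _)
    show R.theta (u : GL (MIdx n) F₀) * 1 = 1 * _
    rw [mul_one, one_mul, R.theta_eq]
    show (1 : GL (MIdx n) F) * _ * 1⁻¹ = _
    rw [one_mul, inv_one, mul_one]
  let θ : T₀.H →* T.H := MonoidHom.codRestrict
    ((Cfsg.Geo.quadSimilarityGroup ⇑Qm).subtype.comp (R.thetaSim.comp (Subgroup.inclusion T₀.le))) T.H fun u =>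
      Subgroup.subset_closure ⟨(R.thetaSim _).2,
        (hμ _).2 ((hpres _).1 ((mem_minusH hab₀ hQm₀ hBm₀ (by omega)).1 u.2).2)⟩
  have hfix : ∀ u, D.act σ' (θ u) = θ u := fun u => Subtype.ext (R.theta_fix _)
  have hsurj : ∀ g : T.H, D.δ (D.act σ' g) = D.δ g → ∃ u, D.δ g = D.δ (θ u) := fun g hg => by
    obtain ⟨c, u, hu⟩ := R.exists_rational h hr.pos hσ' hg
    have h1 := hμT g
    rw [show (⟨(g : GL (MIdx n) F), T.le g.2⟩ : Cfsg.Geo.quadSimilarityGroup ⇑Qm) =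
      ⟨scal c, scal_mem_sim c⟩ * R.thetaSim u from Subtype.ext hu, map_mul, hμc, one_mul] at h1
    exact ⟨⟨(u : GL (MIdx n) F₀), Subgroup.subset_closure ⟨u.2, (hpres u).2 h1⟩⟩,
      (T.delta_eq_iff h _ _).2 ⟨c, hu⟩⟩
  refine ⟨hro, hrf, ⟨a₀, b₀, hab₀, Qm₀, hQm₀, ?_⟩, ?_⟩
  · rw [← minusTD_range hab₀ hQm₀ hBm₀ (by omega) h₀ ⊥ hS₀]
    refine ⟨(D.exists_centralizer_equiv (a := 1) (σ := σ')
      (by rw [map_one, inv_one, mul_one, one_mul]; exact hxe) θ (fun u => by rw [hfix]) hsurj D₀.δ.ker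
      fun u => ?_).some.trans (QuotientGroup.quotientKerEquivRange D₀.δ)⟩
    haveI : Nonempty (MIdx n) := ⟨.inr 0⟩
    rw [MonoidHom.mem_ker, T₀.delta_eq_one_iff h₀, T.delta_eq_one_iff h]
    exact (R.theta_scalar_iff (u : GL (MIdx n) F₀)).symm
  -- every class modulo inner automorphisms is rational
  let π := QuotientGroup.mk' (Cfsg.Inn (Cfsg.POmega F ⇑Qm))
  let Ω' : T.H →* Cfsg.Out (Cfsg.POmega F ⇑Qm) := π.comp D.δ
  have hΩ' : ∀ g : T.H, Ω' g = outHom Qm (simInc Qm ⟨g, T.le g.2⟩) := fun _ => rfl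
  let i₀ : Fin n := ⟨0, by omega⟩
  let vv : F₀ → MIdx n → F₀ := fun c =>
    Sum.elim (Sum.elim (fun i => if i = i₀ then 1 else 0) fun i => if i = i₀ then c else 0) fun _ => 0
  have hvv : ∀ c, Qm₀ (vv c) = c := fun c => by
    rw [hQm₀, Cfsg.quadFormMinus, Finset.sum_eq_single i₀ (fun b _ hb => by simp [vv, hb]) (by simp)]
    simp [vv]
  have hsquare : ∀ (g : T.H) (d : Fˣ),
      (∀ v, Qm (((g : GL (MIdx n) F) : Matrix (MIdx n) (MIdx n) F) *ᵥ v) = (d : F) * d * Qm v) →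
      ∃ w : T₀.H, Ω' g = Ω' (θ w) := by
    intro g d hd
    obtain ⟨s, hs⟩ := scaled_isometry hd
    have e1 : (⟨(g : GL (MIdx n) F), T.le g.2⟩ : Cfsg.Geo.quadSimilarityGroup ⇑Qm) =
        ⟨scal d, scal_mem_sim d⟩ * ⟨s, isometry_le_sim s.2⟩ := Subtype.ext hs
    have hds : dickson hBm s = 1 := by
      have h1 := hμT g
      rwa [e1, map_mul, hμc, one_mul, hμd] at h1
    have hcls : Ω' g = cls Qm s := by
      rw [hΩ', e1, map_mul, map_mul, out_scal h, one_mul, out_grp]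
    by_cases h2 : (2 : F) = 0
    · refine ⟨1, ?_⟩
      rw [map_one, map_one, hcls]
      refine outHom_omega s ?_
      rw [omega_eq_ker_dickson hBm h2 (by simp) fun e4 => by simp at e4; omega]
      exact hds
    have h2₀ : (2 : F₀) ≠ 0 := ringHom_two_ne e h2
    obtain ⟨c, hc⟩ := FiniteField.exists_nonsquare (F := F₀) fun hc => h2₀ (by
      haveI : CharP F₀ 2 := hc ▸ ringChar.charP F₀
      exact_mod_cast CharP.cast_eq_zero F₀ 2)
    have hc0 : c ≠ 0 := fun e0 => hc (e0 ▸ IsSquare.zero)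
    obtain ⟨r₁, hr₁⟩ := exists_refl hBm₀ (v := vv 1) (by rw [hvv]; exact one_ne_zero)
    obtain ⟨r₂, hr₂⟩ := exists_refl hBm₀ (v := vv c) (by rw [hvv]; exact hc0)
    have hns : ¬ IsSquare (e c) := not_isSquare_odd_ext hσ hro (hefix c) fun z hz hcz => by
      obtain ⟨y, rfl⟩ := hesurj z hz
      exact hc ⟨y, e.injective (by rw [map_mul]; exact hcz)⟩
    have hprod : ¬ IsSquare (Qm ((T.P : Matrix _ _ F) *ᵥ fun i => e (vv 1 i)) *
        Qm ((T.P : Matrix _ _ F) *ᵥ fun i => e (vv c i))) := by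
      rw [show Qm ((T.P : Matrix _ _ F) *ᵥ fun i => e (vv 1 i)) = e (Qm₀ (vv 1)) from R.form _,
        show Qm ((T.P : Matrix _ _ F) *ᵥ fun i => e (vv c i)) = e (Qm₀ (vv c)) from R.form _, hvv, hvv, map_one, one_mul]
      exact hns
    rcases cls_proper h h2 (R.thetaGrp_refl hr₁) (R.thetaGrp_refl hr₂) hprod hds with h1 | h1
    · exact ⟨1, by rw [map_one, map_one, hcls, h1]⟩
    let t : Cfsg.Geo.quadSimilarityGroup ⇑Qm₀ :=
      ⟨((r₁ * r₂ : Grp Qm₀) : GL (MIdx n) F₀), isometry_le_sim (r₁ * r₂).2⟩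
    have ht : μ₀ t = 1 := by
      rw [hμd₀, map_mul, dickson_refl hBm₀ hr₁, dickson_refl hBm₀ hr₂]
      rfl
    refine ⟨⟨(t : GL (MIdx n) F₀), Subgroup.subset_closure ⟨t.2, (hμ₀ t).2 ht⟩⟩, ?_⟩
    rw [hcls, h1, ← map_mul (cls Qm), ← map_mul R.thetaGrp, hΩ', ← out_grp]
    rfl
  have hall : ∀ g : T.H, ∃ w : T₀.H, Ω' g = Ω' (θ w) := by
    intro g
    obtain ⟨m, hm⟩ := T.le g.2
    by_cases hsq : IsSquare (m : F)
    · obtain ⟨d, hd⟩ := hsq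
      have hd0 : d ≠ 0 := fun e0 => m.ne_zero (by rw [hd, e0, zero_mul])
      exact hsquare g (Units.mk0 d hd0) fun v => by rw [hm, hd, Units.val_mk0]
    have h2 : (2 : F) ≠ 0 := fun h2 => hsq (by
      haveI : CharP F 2 := CharTwo.of_one_ne_zero_of_two_eq_zero one_ne_zero h2
      exact FiniteField.isSquare_of_char_two (ringChar.eq F 2) _)
    have h2₀ : (2 : F₀) ≠ 0 := ringHom_two_ne e h2
    obtain ⟨c, hc⟩ := FiniteField.exists_nonsquare (F := F₀) fun hc => h2₀ (by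
      haveI : CharP F₀ 2 := hc ▸ ringChar.charP F₀
      exact_mod_cast CharP.cast_eq_zero F₀ 2)
    have hc0 : c ≠ 0 := fun e0 => hc (e0 ▸ IsSquare.zero)
    obtain ⟨M, hM⟩ := minus_rep (m := n) hab₀ (Units.mk0 c hc0)
    rw [← hQm₀] at hM
    obtain ⟨u, hu, huc⟩ := exists_gl_of_scaled hBm₀ hM
    obtain ⟨v, r₀, hr₀, -⟩ := exists_refl_minus hab₀ hQm₀ hBm₀ (by omega)
    obtain ⟨w, hw⟩ : ∃ w : T₀.H,
        ∀ y, Qm₀ (((w : GL (MIdx n) F₀) : Matrix (MIdx n) (MIdx n) F₀) *ᵥ y) = c * Qm₀ y := by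
      rcases Int.units_eq_one_or (μ₀ ⟨u, hu⟩) with h1 | h1
      · exact ⟨⟨u, Subgroup.subset_closure ⟨hu, (hμ₀ ⟨u, hu⟩).2 h1⟩⟩, huc⟩
      · let s : Cfsg.Geo.quadSimilarityGroup ⇑Qm₀ := ⟨(r₀ : GL (MIdx n) F₀), isometry_le_sim r₀.2⟩
        let u₁ : Cfsg.Geo.quadSimilarityGroup ⇑Qm₀ := ⟨u, hu⟩
        have h3 : μ₀ (u₁ * s) = 1 := by
          rw [map_mul, h1, hμd₀, dickson_refl hBm₀ hr₀]
          rfl
        have h4 : u * (r₀ : GL (MIdx n) F₀) ∈ minusH Qm₀ a₀ b₀ :=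
          Subgroup.subset_closure ⟨(u₁ * s).2, (hμ₀ (u₁ * s)).2 h3⟩
        refine ⟨⟨u * (r₀ : GL (MIdx n) F₀), h4⟩, fun y => ?_⟩
        show Qm₀ (((u * (r₀ : GL (MIdx n) F₀) : GL (MIdx n) F₀) : Matrix (MIdx n) (MIdx n) F₀) *ᵥ y) = _
        rw [Units.val_mul, ← mulVec_mulVec, huc,
          show Qm₀ (((r₀ : GL (MIdx n) F₀) : Matrix (MIdx n) (MIdx n) F₀) *ᵥ y) = Qm₀ y from ap_q r₀ y]
        rfl
    have hθw : ∀ y, Qm ((((θ w : T.H) : GL (MIdx n) F) : Matrix (MIdx n) (MIdx n) F) *ᵥ y) = e c * Qm y := by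
      obtain ⟨c', hc'⟩ := T.le (θ w).2
      have h5 := hc' ((T.P : Matrix (MIdx n) (MIdx n) F) *ᵥ fun i => e (vv 1 i))
      rw [show ((θ w : T.H) : GL (MIdx n) F) = R.theta (w : GL (MIdx n) F₀) from rfl, R.theta_apply, R.form, R.form,
        hw, hvv, mul_one, map_one, mul_one] at h5
      intro y
      rw [hc', h5]
    have hns : ¬ IsSquare (e c) := not_isSquare_odd_ext hσ hro (hefix c) fun z hz hcz => by
      obtain ⟨y, rfl⟩ := hesurj z hz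
      exact hc ⟨y, e.injective (by rw [map_mul]; exact hcz)⟩
    obtain ⟨d, hd⟩ : IsSquare ((e c)⁻¹ * (m : F)) :=
      (CfsgLib.Orth.isSquare_mul_iff (inv_ne_zero (by simpa using hc0))).2
        (Or.inr (iff_of_false (fun e0 => hns (by simpa using e0.inv)) hsq))
    have hd0 : d ≠ 0 := fun e0 => mul_ne_zero (inv_ne_zero (show e c ≠ 0 by simpa using hc0)) m.ne_zero
      (by rw [hd, e0, zero_mul])
    obtain ⟨w', hw'⟩ := hsquare ((θ w)⁻¹ * g) (Units.mk0 d hd0) fun y => by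
      have e1 := hθw (((((θ w)⁻¹ * g : T.H) : GL (MIdx n) F) : Matrix (MIdx n) (MIdx n) F) *ᵥ y)
      rw [mulVec_mulVec, ← Units.val_mul, Subgroup.coe_mul, Subgroup.coe_inv, mul_inv_cancel_left, hm] at e1
      rw [Units.val_mk0, ← hd, mul_assoc, e1, inv_mul_cancel_left₀ (by simpa using hc0 : e c ≠ 0),
        Subgroup.coe_mul, Subgroup.coe_inv]
    refine ⟨w * w', ?_⟩
    rw [map_mul θ, map_mul Ω', ← hw', map_mul Ω', map_inv, mul_inv_cancel_left]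
  haveI : (Cfsg.Inn (Cfsg.POmega F ⇑Qm)).Normal := inferInstance
  have hcount := splitClassCount_mul D.δ.range (Cfsg.Inn (Cfsg.POmega F ⇑Qm)) D.inn_le x
  have hsup : D.δ.range ⊓ Subgroup.centralizer {x} ⊔ Cfsg.Inn (Cfsg.POmega F ⇑Qm) = D.δ.range := by
    refine le_antisymm (sup_le inf_le_left D.inn_le) ?_
    rintro _ ⟨g, rfl⟩
    obtain ⟨w, hw⟩ := hall g
    have h1 : (D.δ (θ w))⁻¹ * D.δ g ∈ Cfsg.Inn (Cfsg.POmega F ⇑Qm) := QuotientGroup.eq.1 hw.symm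
    rw [← mul_inv_cancel_left (D.δ (θ w)) (D.δ g)]
    refine Subgroup.mul_mem_sup ⟨⟨θ w, rfl⟩, ?_⟩ h1
    show D.δ (θ w) ∈ Subgroup.centralizer _
    rw [Subgroup.mem_centralizer_singleton_iff, hxe]
    exact (D.commute_iff _ σ').2 (by rw [hfix])
  rw [← Subgroup.relIndex_sup_right (H := D.δ.range ⊓ Subgroup.centralizer {x})
    (K := Cfsg.Inn (Cfsg.POmega F ⇑Qm)), hsup] at hcount
  haveI : Finite (MulAut (Cfsg.POmega F ⇑Qm)) :=
    Finite.of_injective (fun β : MulAut (Cfsg.POmega F ⇑Qm) => (⇑β : _ → _)) DFunLike.coe_injective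
  exact Nat.eq_of_mul_eq_mul_right (Nat.pos_of_ne_zero Subgroup.index_ne_zero_of_finite) (hcount.trans (one_mul _).symm)

end CfsgLib.OrthAut
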