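import Cfsg.Agent.Lib.OrthAut.PlusCentral
import Cfsg.Agent.Lib.OrthAut.PlusClasses
import Cfsg.Agent.Lib.OrthAut.SplitCount
import Cfsg.Agent.Lib.OrthAut.FieldOddCent

/-!
Involutory graph-field automorphisms of plus-type groups.
-/

set_option autoImplicit false
set_option linter.unusedSectionVars false

namespace CfsgLib.OrthAut

open Matrix CfsgLib.Orth CfsgLib.AutPSL
open CfsgLib.ClassicalAut (scal scal_coe)

universe u v

variable {F : Type u} [Field F] [Fintype F] {F₀ : Type v} [Field F₀] [Fintype F₀] {n : ℕ}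
variable {Q : QuadraticForm F (PIdx (n + 1) → F)}

theorem galois_involution_unique [Fintype F] {σ τ : F ≃+* F} (hσ : orderOf σ = 2) (hτ : orderOf τ = 2) : σ = τ := by
  classical
  haveI : Finite (F ≃+* F) := Finite.of_injective (fun σ => (⇑σ : F → F)) DFunLike.coe_injective
  haveI : Fintype (F ≃+* F) := Fintype.ofFinite _
  obtain ⟨p, _⟩ := CharP.exists F
  obtain ⟨f, hp, hF⟩ := FiniteField.card F p
  haveI := Fact.mk hp
  haveI := (card_ringAut_isCyclic hF f.pos).1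
  by_contra hne
  have h1 : ({1, σ, τ} : Finset (F ≃+* F)) ⊆ Finset.univ.filter (fun a => a ^ 2 = 1) := fun a ha => by
    simp only [Finset.mem_insert, Finset.mem_singleton] at ha
    refine Finset.mem_filter.2 ⟨Finset.mem_univ _, ?_⟩
    rcases ha with e | e | e <;> rw [e]
    exacts [one_pow 2, hσ ▸ pow_orderOf_eq_one σ, hτ ▸ pow_orderOf_eq_one τ]
  have h2 := (Finset.card_le_card h1).trans (IsCyclic.card_pow_eq_one_le (α := F ≃+* F) two_pos)
  have hs1 : (1 : F ≃+* F) ≠ σ := fun e => by rw [← e, orderOf_one] at hσ; omega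
  have ht1 : (1 : F ≃+* F) ≠ τ := fun e => by rw [← e, orderOf_one] at hτ; omega
  simp [hs1, ht1, hne] at h2

/-- A graph-field involution is conjugate to the standard one. -/
theorem std_form (hQ : ⇑Q = Cfsg.quadFormPlus (n + 1) F) (h : Good Q) {x : MulAut (Cfsg.POmega F ⇑Q)}
    (hx : ∃ (α γ φ : MulAut (Cfsg.POmega F ⇑Q)) (σ : F ≃+* F) (v : PIdx (n + 1) → F) (r : GL (PIdx (n + 1)) F),
      σ ≠ RingEquiv.refl F ∧ Q v ≠ 0 ∧ (∀ i, σ (v i) = v i) ∧
      (r : Matrix (PIdx (n + 1)) (PIdx (n + 1)) F) = Cfsg.reflectionMatrix (⇑Q) v ∧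
      Cfsg.IsInducedBySemilinearPOmega (⇑Q) r (RingEquiv.refl F) γ ∧
      Cfsg.IsFieldAutPOmegaOf (⇑Q) σ φ ∧ α * x * α⁻¹ = γ * φ) (hx2 : orderOf x = 2)
    {g₁ : Grp Q} (hg₁ : IsRefl (hypVec (n + 1) 0 1) g₁) :
    ∃ (σ : F ≃+* F) (a : Cfsg.Geo.quadSimilarityGroup ⇑Q), orderOf σ = 2 ∧ chiP hQ h.nondeg a = 1 ∧
      x = psi Q (simInc Q a) * psi Q (entryElt hQ g₁ σ) * (psi Q (simInc Q a))⁻¹ := by
  obtain ⟨α, γ, φ, σ, v, r, hσ, hv0, hv, hr', hγ, hφ, he⟩ := hx
  obtain ⟨g, hg⟩ := exists_refl h.nondeg hv0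
  have hgr : (g : GL (PIdx (n + 1)) F) = r := by
    refine Units.ext ?_
    rw [hr']
    refine Matrix.ext_iff_mulVec.2 fun z => ?_
    show ap g z = _
    rw [hg.2, CfsgLib.Reflect.reflection_mulVec]
  have he' : α * x * α⁻¹ = psi Q (entryElt hQ g σ) := by
    rw [he, (isField_iff (x := entryElt hQ 1 σ) rfl rfl φ).1 hφ,
      ← psi_eq_lin (g := r) (hgr ▸ isometry_le_sim g.2) hγ, ← map_mul]
    refine congrArg _ (Subtype.ext (SemidirectProduct.ext ?_ ?_))
    · simp [simInc, entryElt, hgr]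
    · simp [simInc, entryElt]
  obtain ⟨a, ha, g', hg', hxa⟩ := exists_rep_plus hQ h (by omega) (Or.inr ⟨v, hg, hv⟩) α he'
  obtain ⟨v', hv', hfix'⟩ : ∃ w, IsRefl w g' ∧ ∀ i, σ (w i) = w i := by
    rcases hg' with ⟨-, e⟩ | h'
    · have := dickson_refl h.nondeg hg
      rw [e, map_one] at this
      exact absurd this (by decide)
    · exact h'
  have ho : orderOf (psi Q (entryElt hQ g' σ)) = 2 := by
    rw [← hx2, hxa]
    exact (MulEquiv.orderOf_eq (MulAut.conj _) _).symm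
  obtain ⟨-, hσ2⟩ := graph_field_order hQ h hv' hfix' hσ Nat.prime_two ho
  have hfix₁ : ∀ i, σ (hypVec (n + 1) 0 1 i) = hypVec (n + 1) 0 1 i := fun i => by
    rcases i with i | i <;> by_cases h : i = 0 <;> simp [hypVec, h]
  obtain ⟨b, hb, hb'⟩ := exists_conj_refl hQ h hσ2 hg₁ hfix₁ hv' hfix'
  obtain ⟨ha', hachi⟩ := mem_plusH.1 ha
  refine ⟨σ, ⟨a, ha'⟩ * b, hσ2, by rw [map_mul, hachi, hb, one_mul], ?_⟩
  rw [hxa, hb', map_mul (simInc Q), map_mul (psi Q)]
  group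

/-- Rational reflections have a constant class over the quadratic extension. -/
theorem cls_rational (hQ : ⇑Q = Cfsg.quadFormPlus (n + 1) F) (h : Good Q) (h2 : (2 : F) ≠ 0) {T : TData Q} {σ : T.S}
    (R : Rat T σ F₀) (hn : 5 ≤ n + 1) (hnd : Nondeg R.Q₀) (hsq : ∀ y : F₀, IsSquare (R.e y)) (s : Grp R.Q₀)
    (hs : dickson h.nondeg (R.thetaGrp s) = 1) : cls Q (R.thetaGrp s) = 1 := by
  obtain ⟨v₀, hv₀⟩ := exists_aniso (Q := R.Q₀) hnd (by simp; omega)
  obtain ⟨r₀, hr₀⟩ := exists_refl hnd hv₀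
  set κ := cls Q (R.thetaGrp r₀)
  let Z : Subgroup (ℤˣ × Cfsg.Out (Cfsg.POmega F ⇑Q)) := Subgroup.zpowers (-1, κ)
  let Φ : Grp R.Q₀ →* ℤˣ × Cfsg.Out (Cfsg.POmega F ⇑Q) :=
    ((dickson h.nondeg).comp R.thetaGrp).prod ((cls Q).comp R.thetaGrp)
  have hle : Refl R.Q₀ ≤ Z.comap Φ := by
    refine (Subgroup.closure_le _).2 ?_
    rintro g ⟨v, hg⟩
    refine ⟨1, ?_⟩
    simp only [zpow_one]
    refine Prod.ext (dickson_refl h.nondeg (R.thetaGrp_refl hg)).symm ?_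
    refine cls_refl_eq h h2 (R.thetaGrp_refl hr₀) (R.thetaGrp_refl hg) ?_
    rw [R.form, R.form, ← map_mul]
    exact hsq _
  have hmem : s ∈ Refl R.Q₀ := by
    rw [refl_eq_top hnd fun e => by simp at e; omega]
    trivial
  obtain ⟨k, hk⟩ := hle hmem
  have h1 : ((-1 : ℤˣ) ^ k) = 1 := (congrArg Prod.fst hk).trans hs
  have hκ : κ * κ = 1 := cls_refl_sq (R.thetaGrp_refl hr₀)
  have hk' : κ ^ k = cls Q (R.thetaGrp s) := congrArg Prod.snd hk
  rw [← hk']
  obtain ⟨j, rfl⟩ : Even k := by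
    by_contra ho
    rw [(Int.not_even_iff_odd.1 ho).neg_one_zpow] at h1
    exact absurd h1 (by decide)
  rw [_root_.zpow_add, ← Commute.mul_zpow (Commute.refl κ), hκ, _root_.one_zpow]

/-- A unit of the fixed field is a norm of an element of the extension, squarewise. -/
theorem norm_sq_iff {σ : F ≃+* F} (e : F₀ →+* F) (hfix : ∀ y, σ (e y) = e y)
    (hsurj : ∀ z, σ z = z → ∃ y, e y = z) (hinv : ∀ z, σ (σ z) = z) {c : F₀} {z : F} (hc : ¬ IsSquare c)
    (hz : z * σ z = e c) : ¬ IsSquare z := by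
  rintro ⟨w, hw⟩
  obtain ⟨y, hy⟩ := hsurj (w * σ w) (by rw [map_mul, hinv, mul_comm])
  refine hc ⟨y, e.injective ?_⟩
  rw [map_mul, hy, ← hz, hw, map_mul]
  ring

theorem sqrt_square_iff (e : F₀ →+* F) (hodd : Odd (Fintype.card F)) (hcard : Nat.card F = Nat.card F₀ ^ 2)
    {c : F₀} {s : F} (hc : ¬ IsSquare c) (hs : s * s = e c) : IsSquare s ↔ Nat.card F₀ % 4 = 3 := by
  have h2₀ : (2 : F₀) ≠ 0 := ringHom_two_ne e (two_ne_of_odd hodd)
  have hc0 : c ≠ 0 := fun e0 => hc (e0 ▸ IsSquare.zero)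
  have hs0 : s ≠ 0 := fun e0 => hc0 (e.injective (by rw [map_zero, ← hs, e0, zero_mul]))
  have hrc : ringChar F₀ ≠ 2 := fun hr => h2₀ (by
    haveI : CharP F₀ 2 := hr ▸ ringChar.charP F₀
    exact_mod_cast CharP.cast_eq_zero F₀ 2)
  have hm1 : (-1 : F) ≠ 1 := fun e0 => two_ne_of_odd hodd (by linear_combination -e0)
  rw [Nat.card_eq_fintype_card, Nat.card_eq_fintype_card] at hcard
  rw [Nat.card_eq_fintype_card]
  have hpm : c ^ (Fintype.card F₀ / 2) = -1 := (FiniteField.pow_dichotomy hrc hc0).resolve_left fun e1 =>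
    hc ((FiniteField.isSquare_iff hrc hc0).2 e1)
  rw [FiniteField.isSquare_iff (fun e0 => Nat.not_even_iff_odd.2 hodd
    (Nat.even_iff.2 (FiniteField.even_card_of_char_two e0))) hs0]
  obtain ⟨j, hj⟩ : Odd (Fintype.card F₀) := Nat.odd_iff.2 (FiniteField.odd_card_of_char_ne_two hrc)
  have hdiv : Fintype.card F / 2 = 2 * (Fintype.card F₀ / 2) * (j + 1) := by
    rw [hcard, hj, show (2 * j + 1) / 2 = j by omega, show (2 * j + 1) ^ 2 = 1 + 2 * (2 * j * (j + 1)) by ring,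
      Nat.add_mul_div_left _ _ two_pos]
    omega
  rw [hdiv, pow_mul, pow_mul, pow_two, hs, ← map_pow, hpm, map_neg, map_one]
  constructor
  · intro h1
    by_contra h4
    rw [(Nat.odd_iff.2 (by omega) : Odd (j + 1)).neg_one_pow] at h1
    exact hm1 h1
  · intro h4
    exact (Nat.even_iff.2 (by omega) : Even (j + 1)).neg_one_pow

/-- The linear automorphisms fixing both families. -/
def plusAut (Q : QuadraticForm F (PIdx (n + 1) → F)) : Subgroup (MulAut (Cfsg.POmega F ⇑Q)) :=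
  Cfsg.autSubgroupOf fun β : MulAut (Cfsg.POmega F ⇑Q) => ∃ g : GL (PIdx (n + 1)) F,
    g ∈ Cfsg.Geo.quadSimilarityGroup ⇑Q ∧
    Cfsg.PreservesSingularClasses ⇑Q (g : Matrix (PIdx (n + 1)) (PIdx (n + 1)) F) ∧
    Cfsg.IsInducedBySemilinearPOmega ⇑Q g (RingEquiv.refl F) β

namespace MinusStr

variable {hQ : ⇑Q = Cfsg.quadFormPlus (n + 1) F} {σ : F ≃+* F} (M : MinusStr hQ σ F₀)

/-- The twisted structure on the similitudes fixing both families. -/
noncomputable def tData (h : Good Q) : TData Q :=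
  plusData hQ h.nondeg M.P (Subgroup.zpowers σ) (hP_zpowers M.P_comm)

/-- The rational structure. -/
noncomputable def rat (h : Good Q) {Qm : QuadraticForm F₀ (MIdx n → F₀)}
    (hQm : ⇑Qm = Cfsg.quadFormMinus n F₀ M.a₀ M.b₀) :
    Rat (M.tData h) ⟨σ, Subgroup.mem_zpowers σ⟩ F₀ :=
  ⟨M.e, M.fix, M.surj, minusOnPlus Qm, fun y => M.form_emb hQm y⟩

/-- Similitudes of the minus form inside those of the plus form. -/
noncomputable def thetaM (h : Good Q) {Qm : QuadraticForm F₀ (MIdx n → F₀)}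
    (hQm : ⇑Qm = Cfsg.quadFormMinus n F₀ M.a₀ M.b₀) :
    Cfsg.Geo.quadSimilarityGroup ⇑Qm →* Cfsg.Geo.quadSimilarityGroup ⇑Q :=
  (M.rat h hQm).thetaSim.comp (MonoidHom.codRestrict ((reind F₀ n).comp (Cfsg.Geo.quadSimilarityGroup ⇑Qm).subtype)
    (Cfsg.Geo.quadSimilarityGroup ⇑(minusOnPlus Qm)) fun u => reind_mem u.2)

/-- The similitudes of the minus form fixing both classes. -/
noncomputable def minusData (h : Good Q) {Qm : QuadraticForm F₀ (MIdx n → F₀)}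
    (hQm : ⇑Qm = Cfsg.quadFormMinus n F₀ M.a₀ M.b₀) : TData Qm where
  P := 1
  S := ⊥
  H := ((chiP hQ h.nondeg).comp (M.thetaM h hQm)).ker.map (Cfsg.Geo.quadSimilarityGroup ⇑Qm).subtype
  hP τ hτ v := by
    rw [Subgroup.mem_bot.1 hτ]
    rfl
  le := by
    rintro g ⟨g, -, rfl⟩
    exact g.2
  stable τ hτ g hg := by
    rw [Subgroup.mem_bot.1 hτ]
    simpa using hg
  omega g hg := by
    refine ⟨⟨g, isometry_le_sim g.2⟩, ?_, rfl⟩
    let η : Grp Qm →* ℤˣ := ((chiP hQ h.nondeg).comp (M.thetaM h hQm)).comp (Subgroup.inclusion isometry_le_sim)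
    exact MonoidHom.mem_ker.2 (Abelianization.commutator_subset_ker η hg)

/-- The centraliser is the inner-diagonal group of minus type. -/
theorem centralizer_equiv (h : Good Q) {Qm : QuadraticForm F₀ (MIdx n → F₀)}
    (hQm : ⇑Qm = Cfsg.quadFormMinus n F₀ M.a₀ M.b₀) (hg : Good Qm) (hσ : orderOf σ = 2) {g₁ : Grp Q}
    (hsw : ∀ z : PIdx (n + 1) → F, ap g₁ z =
      Sum.elim (Fin.cases (z (.inr 0)) fun j => z (.inl j.succ)) (Fin.cases (z (.inl 0)) fun j => z (.inr j.succ)))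
    {a : Cfsg.Geo.quadSimilarityGroup ⇑Q} (ha : chiP hQ h.nondeg a = 1) :
    Nonempty (↥(plusAut Q ⊓ Subgroup.centralizer
        {psi Q (simInc Q a) * psi Q (entryElt hQ g₁ σ) * (psi Q (simInc Q a))⁻¹}) ≃*
      ↥(Cfsg.autSubgroupOf fun β : MulAut (Cfsg.POmega F₀ ⇑Qm) => ∃ g : GL (MIdx n) F₀,
        g ∈ Cfsg.Geo.quadSimilarityGroup ⇑Qm ∧
        Cfsg.PreservesSingularClassesMinus n M.a₀ M.b₀ (g : Matrix (MIdx n) (MIdx n) F₀) ∧
        Cfsg.IsInducedBySemilinearPOmega ⇑Qm g (RingEquiv.refl F₀) β)) := by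
  classical
  let T := M.tData h
  let σ' : T.S := ⟨σ, Subgroup.mem_zpowers σ⟩
  let D := T.twist h
  let T₀ := M.minusData h hQm
  let D₀ := T₀.twist hg
  have hpres : ∀ u : Cfsg.Geo.quadSimilarityGroup ⇑Qm,
      Cfsg.PreservesSingularClassesMinus n M.a₀ M.b₀ ((u : GL (MIdx n) F₀) : Matrix (MIdx n) (MIdx n) F₀) ↔
        chiP hQ h.nondeg (M.thetaM h hQm u) = 1 := fun u =>
    (M.preserves_iff (u : GL (MIdx n) F₀) (g := (M.thetaM h hQm u : GL (PIdx (n + 1)) F)) rfl).trans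
      (chiP_iff hQ h.nondeg _)
  have hrange : Cfsg.autSubgroupOf (fun β : MulAut (Cfsg.POmega F₀ ⇑Qm) => ∃ g : GL (MIdx n) F₀,
      g ∈ Cfsg.Geo.quadSimilarityGroup ⇑Qm ∧
      Cfsg.PreservesSingularClassesMinus n M.a₀ M.b₀ (g : Matrix (MIdx n) (MIdx n) F₀) ∧
      Cfsg.IsInducedBySemilinearPOmega ⇑Qm g (RingEquiv.refl F₀) β) = D₀.δ.range := by
    refine le_antisymm ((Subgroup.closure_le _).2 ?_) ?_
    · rintro β ⟨g, hgm, hp, hβ⟩
      exact ⟨⟨g, ⟨g, hgm⟩, MonoidHom.mem_ker.2 ((hpres ⟨g, hgm⟩).1 hp), rfl⟩, psi_eq_lin hgm hβ⟩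
    · rintro _ ⟨⟨_, u, hu, rfl⟩, rfl⟩
      exact Subgroup.subset_closure ⟨u, u.2, (hpres u).2 hu, psi_spec (simInc Qm u)⟩
  let θ : T₀.H →* T.H := MonoidHom.codRestrict
    ((Cfsg.Geo.quadSimilarityGroup ⇑Q).subtype.comp ((M.thetaM h hQm).comp (Subgroup.inclusion T₀.le))) T.H fun u => by
      obtain ⟨u', hu', he⟩ := u.2
      refine mem_plusH.2 ⟨(M.thetaM h hQm _).2, ?_⟩
      have e : Subgroup.inclusion T₀.le u = u' := Subtype.ext he.symm
      show chiP hQ h.nondeg (M.thetaM h hQm (Subgroup.inclusion T₀.le u)) = 1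
      rw [e]
      exact hu'
  have hfix : ∀ u, D.act σ' (θ u) = θ u := fun u => Subtype.ext ((M.rat h hQm).theta_fix _)
  have hphi : D.φ σ' = psi Q (entryElt hQ g₁ σ) :=
    congrArg (psi Q) (Subtype.ext (SemidirectProduct.ext (planeP_swap hQ hsw M.ne M.inv) rfl))
  have haH : (a : GL (PIdx (n + 1)) F) ∈ T.H := mem_plusH.2 ⟨a.2, ha⟩
  have hσ' : orderOf σ' = 2 := by rw [← Subgroup.orderOf_coe]; exact hσ
  rw [hrange, show plusAut Q = D.δ.range from (plusData_range hQ h M.P _ _).symm]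
  refine ⟨(D.exists_centralizer_equiv (a := ⟨a, haH⟩) (σ := σ') (by rw [hphi]; rfl) θ (fun u => by rw [hfix])
    (fun g hgf => ?_) D₀.δ.ker fun u => ?_).some.trans (QuotientGroup.quotientKerEquivRange D₀.δ)⟩
  · obtain ⟨c, u, hu⟩ := (M.rat h hQm).exists_rational h two_pos hσ' hgf
    obtain ⟨u', hu', he⟩ := reind_surj u.2
    obtain ⟨hgm, hg1⟩ := mem_plusH.1 g.2
    let U : Cfsg.Geo.quadSimilarityGroup ⇑Qm := ⟨u', hu'⟩
    have hU : (g : GL (PIdx (n + 1)) F) = scal c * (M.thetaM h hQm U : GL (PIdx (n + 1)) F) := by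
      rw [hu]
      show _ = scal c * (M.rat h hQm).theta (reind F₀ n u')
      rw [he]
    have hchi : chiP hQ h.nondeg (M.thetaM h hQm U) = 1 := by
      rw [show (⟨(g : GL (PIdx (n + 1)) F), hgm⟩ : Cfsg.Geo.quadSimilarityGroup ⇑Q) =
        ⟨scal c, scal_mem_sim c⟩ * M.thetaM h hQm U from Subtype.ext hU, map_mul, chiP_scal, one_mul] at hg1
      exact hg1
    exact ⟨⟨u', U, MonoidHom.mem_ker.2 hchi, rfl⟩, (T.delta_eq_iff h _ _).2 ⟨c, hU⟩⟩
  · haveI : Nonempty (PIdx (n + 1)) := ⟨.inl 0⟩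
    rw [MonoidHom.mem_ker, T₀.delta_eq_one_iff hg, T.delta_eq_one_iff h]
    refine Iff.trans ?_ ((M.rat h hQm).theta_scalar_iff (reind F₀ n (u : GL (MIdx n) F₀))).symm
    constructor
    · rintro ⟨c, hc⟩
      refine ⟨c, ?_⟩
      rw [hc]
      refine Units.ext ?_
      show Matrix.reindexAlgEquiv F₀ F₀ (rho n) ((scal c : GL (MIdx n) F₀) : Matrix (MIdx n) (MIdx n) F₀) = _
      rw [scal_coe, scal_coe, map_smul, map_one]
    · rintro ⟨c, hc⟩
      refine ⟨c, Units.ext ((Matrix.reindexAlgEquiv F₀ F₀ (rho n)).injective ?_)⟩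
      rw [scal_coe, map_smul, map_one, ← scal_coe]
      exact congrArg (fun z : GL (PIdx (n + 1)) F₀ => (z : Matrix (PIdx (n + 1)) (PIdx (n + 1)) F₀)) hc

/-- The image of the centraliser in the outer automorphism group. -/
theorem relIndex_cent (h : Good Q) {Qm : QuadraticForm F₀ (MIdx n → F₀)}
    (hQm : ⇑Qm = Cfsg.quadFormMinus n F₀ M.a₀ M.b₀) (hg : Good Qm) (hn : 4 ≤ n) (hσ : orderOf σ = 2)
    (hodd : Odd (Fintype.card F)) {g₁ : Grp Q}
    (hsw : ∀ z : PIdx (n + 1) → F, ap g₁ z =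
      Sum.elim (Fin.cases (z (.inr 0)) fun j => z (.inl j.succ)) (Fin.cases (z (.inl 0)) fun j => z (.inr j.succ))) :
    ((Odd (n + 1) ∧ Nat.card F₀ % 4 = 1) →
      (Cfsg.Inn (Cfsg.POmega F ⇑Q)).relIndex (plusAut Q ⊓ Subgroup.centralizer {psi Q (entryElt hQ g₁ σ)}) = 1) ∧
    (¬ (Odd (n + 1) ∧ Nat.card F₀ % 4 = 1) →
      (Cfsg.Inn (Cfsg.POmega F ⇑Q)).relIndex (plusAut Q ⊓ Subgroup.centralizer {psi Q (entryElt hQ g₁ σ)}) = 2) := by
  classical
  set C := plusAut Q ⊓ Subgroup.centralizer {psi Q (entryElt hQ g₁ σ)} with hC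
  let T := M.tData h
  let σ' : T.S := ⟨σ, Subgroup.mem_zpowers σ⟩
  let D := T.twist h
  let R := M.rat h hQm
  have hphi : D.φ σ' = psi Q (entryElt hQ g₁ σ) :=
    congrArg (psi Q) (Subtype.ext (SemidirectProduct.ext (planeP_swap hQ hsw M.ne M.inv) rfl))
  have hrange : plusAut Q = D.δ.range := (plusData_range hQ h M.P _ _).symm
  have hσ' : orderOf σ' = 2 := by rw [← Subgroup.orderOf_coe]; exact hσ
  have h2 := two_ne_of_odd hodd
  have h2₀ : (2 : F₀) ≠ 0 := ringHom_two_ne M.e h2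
  have hinv : ∀ z, σ (σ z) = z := fun z => by
    show (σ * σ) z = z
    rw [← pow_two, ← hσ, pow_orderOf_eq_one]; rfl
  have hcardF : Fintype.card F = Nat.card F₀ ^ 2 := by rw [← Nat.card_eq_fintype_card]; exact M.card
  have hsqK : ∀ y : F₀, IsSquare (M.e y) := fun y => by
    rcases eq_or_ne y 0 with rfl | hy
    · rw [map_zero]; exact IsSquare.zero
    · exact isSquare_quadratic_ext hodd hcardF (by simpa using hy) (by
        rw [← map_pow, Nat.card_eq_fintype_card, FiniteField.pow_card_sub_one_eq_one y hy, map_one])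
  have hneg1 : IsSquare (-1 : F) := by simpa using hsqK (-1)
  have hneg := neg_mem_omega hQ h h2 (Nat.le_add_left 1 n) (hneg1.pow _)
  obtain ⟨c, hc⟩ := FiniteField.exists_nonsquare (F := F₀) fun hr => h2₀ (by
    haveI : CharP F₀ 2 := hr ▸ ringChar.charP F₀
    exact_mod_cast CharP.cast_eq_zero F₀ 2)
  have hc0 : c ≠ 0 := fun e0 => hc (e0 ▸ IsSquare.zero)
  obtain ⟨z, hz⟩ := exists_unorm_eq (σ := σ) two_pos hσ (Units.mk0 (M.e c) (by simpa using hc0)) (M.fix c)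
  have hz' : (z : F) * σ z = M.e c := by
    have := congrArg Units.val hz
    simpa [unorm] using this
  obtain ⟨s, hs⟩ := hsqK c
  have hs0 : s ≠ 0 := fun e0 => hc0 (M.e.injective (by rw [hs, e0, zero_mul, map_zero]))
  let cU : Fˣ := Units.mk0 (M.e c) (by simpa using hc0)
  let zσ : Fˣ := Units.map σ.toRingHom.toMonoidHom z
  let dG : PIdx (n + 1) → Fˣ := Sum.elim (Fin.cases z fun _ => cU) (Fin.cases zσ fun _ => 1)
  have hdG : ∀ i, dG (.inl i) * dG (.inr i) = cU := fun i => by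
    induction i using Fin.cases
    · exact Units.ext hz'
    · simp [dG]
  have hGH : diagHom F (n + 1) dG ∈ T.H := mem_plusH.2 ⟨diag_mem hQ hdG, chiP_diag hQ h.nondeg dG _⟩
  let G : T.H := ⟨_, hGH⟩
  have hGfix : D.act σ' G = G := Subtype.ext (by
    show M.P * (entryAct F _ σ M.P)⁻¹ * entryAct F _ σ (diagHom F (n + 1) dG) *
      (M.P * (entryAct F _ σ M.P)⁻¹)⁻¹ = diagHom F (n + 1) dG
    rw [show M.P * (entryAct F _ σ M.P)⁻¹ = (g₁ : GL (PIdx (n + 1)) F) from planeP_swap hQ hsw M.ne M.inv,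
      mul_inv_eq_iff_eq_mul]
    refine Units.ext (Matrix.ext_iff_mulVec.2 fun w => ?_)
    rw [Units.val_mul, Units.val_mul, ← mulVec_mulVec, ← mulVec_mulVec, entryAct_coe]
    show ap g₁ _ = _
    funext i
    rw [diagHom_mulVec, show (g₁ : GL (PIdx (n + 1)) F).val *ᵥ w = ap g₁ w from rfl, hsw, hsw]
    have e : (diagHom F (n + 1) dG : Matrix (PIdx (n + 1)) (PIdx (n + 1)) F).map σ *ᵥ w =
        fun i => σ (dG i) * w i := by
      funext j
      show (((Matrix.diagonal fun k => (dG k : F)).map σ) *ᵥ w) j = _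
      rw [Matrix.diagonal_map (map_zero σ), Matrix.mulVec_diagonal]
    rw [e]
    rcases i with i | i <;> induction i using Fin.cases <;> simp [dG, zσ, cU, M.fix, hinv])
  have hmem : ∀ g : T.H, D.δ g ∈ C ↔ D.δ (D.act σ' g) = D.δ g := fun g => by
    rw [hC, hrange, Subgroup.mem_inf, Subgroup.mem_centralizer_singleton_iff, ← hphi, ← D.commute_iff]
    exact ⟨fun e => e.2, fun e => ⟨⟨g, rfl⟩, e⟩⟩
  let π := QuotientGroup.mk' (Cfsg.Inn (Cfsg.POmega F ⇑Q))
  let Ω' : T.H →* Cfsg.Out (Cfsg.POmega F ⇑Q) := π.comp D.δ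
  have hΩ' : ∀ g : T.H, Ω' g = outHom Q (simInc Q ⟨g, T.le g.2⟩) := fun _ => rfl
  set a := Ω' G
  -- fixed similitudes of square multiplier are inner
  have key : ∀ g : T.H, D.δ (D.act σ' g) = D.δ g → ∀ (b : Fˣ) (u : GL (PIdx (n + 1)) F₀) (d : F₀ˣ),
      (g : GL (PIdx (n + 1)) F) = scal b * R.theta u →
      (∀ y, R.Q₀ ((u : Matrix (PIdx (n + 1)) (PIdx (n + 1)) F₀) *ᵥ y) = (d : F₀) * d * R.Q₀ y) → Ω' g = 1 := by
    intro g _ b u d hgu hd
    obtain ⟨w, hw⟩ := scaled_isometry hd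
    have hg' : (g : GL (PIdx (n + 1)) F) =
        scal (b * Units.map M.e.toMonoidHom d) * (R.thetaGrp w : GL (PIdx (n + 1)) F) := by
      rw [hgu, hw, map_mul R.theta, R.theta_scal, map_mul (scal : Fˣ →* GL (PIdx (n + 1)) F), mul_assoc]
      rfl
    have hchi : dickson h.nondeg (R.thetaGrp w) = 1 := by
      obtain ⟨hgm, hg1⟩ := mem_plusH.1 g.2
      rw [show (⟨(g : GL (PIdx (n + 1)) F), hgm⟩ : Cfsg.Geo.quadSimilarityGroup ⇑Q) =
        ⟨_, scal_mem_sim (b * Units.map M.e.toMonoidHom d)⟩ * ⟨_, isometry_le_sim (R.thetaGrp w).2⟩ from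
          Subtype.ext hg', map_mul, chiP_scal, one_mul, chiP_grp] at hg1
      exact hg1
    rw [hΩ', show (⟨(g : GL (PIdx (n + 1)) F), T.le g.2⟩ : Cfsg.Geo.quadSimilarityGroup ⇑Q) =
        ⟨_, scal_mem_sim (b * Units.map M.e.toMonoidHom d)⟩ * ⟨_, isometry_le_sim (R.thetaGrp w).2⟩ from
          Subtype.ext hg', map_mul, map_mul, out_scal h, one_mul]
    refine cls_rational hQ h h2 R (by omega) (fun x hx => funext fun i => ?_) (fun y => hsqK y) w hchi
    have h0 := hg.nondeg (x ∘ rho n) fun y => by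
      have := hx (y ∘ (rho n).symm)
      change QuadraticMap.polar (⇑(minusOnPlus Qm)) x (y ∘ (rho n).symm) = 0 at this
      show QuadraticMap.polar (⇑Qm) (x ∘ rho n) y = 0
      simpa [QuadraticMap.polar, minusOnPlus_apply, Pi.add_comp, Function.comp_assoc] using this
    simpa using congrFun h0 ((rho n).symm i)
  -- the multiplier of a rational element generating the image
  obtain ⟨bG, uG, hG⟩ := R.exists_rational h two_pos hσ' (g := G) (by rw [show (T.twist h).act σ' G = G from hGfix])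
  obtain ⟨cG, hcG⟩ := uG.2
  have hn1 : 1 ≤ Module.finrank F₀ (PIdx (n + 1) → F₀) := by simp; omega
  have hnd₀ : Nondeg R.Q₀ := fun x hx => funext fun i => by
    have h0 := hg.nondeg (x ∘ rho n) fun y => by
      have := hx (y ∘ (rho n).symm)
      change QuadraticMap.polar (⇑(minusOnPlus Qm)) x (y ∘ (rho n).symm) = 0 at this
      show QuadraticMap.polar (⇑Qm) (x ∘ rho n) y = 0
      simpa [QuadraticMap.polar, minusOnPlus_apply, Pi.add_comp, Function.comp_assoc] using this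
    simpa using congrFun h0 ((rho n).symm i)
  obtain ⟨y₀, hy₀⟩ := exists_aniso hnd₀ hn1
  have hscalfix : ∀ (g : T.H) (b : Fˣ) (u : Cfsg.Geo.quadSimilarityGroup ⇑R.Q₀) (cu : F₀ˣ) (m : Fˣ),
      (g : GL (PIdx (n + 1)) F) = scal b * R.theta u →
      (∀ y, R.Q₀ (((u : GL (PIdx (n + 1)) F₀) : Matrix (PIdx (n + 1)) (PIdx (n + 1)) F₀) *ᵥ y) = (cu : F₀) * R.Q₀ y) →
      (∀ v, Q (((g : GL (PIdx (n + 1)) F) : Matrix (PIdx (n + 1)) (PIdx (n + 1)) F) *ᵥ v) = (m : F) * Q v) →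
      (m : F) = b * b * M.e cu := by
    intro g b u cu m hgu hu hm
    have h1 := hm ((T.P : Matrix (PIdx (n + 1)) (PIdx (n + 1)) F) *ᵥ fun i => R.e (y₀ i))
    rw [hgu, CfsgLib.ClassicalAut.scal_mul_coe, smul_mulVec, q_smul, R.theta_apply, R.form, R.form, hu, map_mul] at h1
    refine (mul_right_cancel₀ (by simpa using hy₀ : M.e (R.Q₀ y₀) ≠ 0) ?_).symm
    simp only [show R.e = M.e from rfl] at h1
    linear_combination h1
  have hGns : ¬ IsSquare (cG : F₀) := by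
    -- otherwise the element of nonsquare rational multiplier would be rationally square
    rintro ⟨d, hd⟩
    have h1 := hscalfix G bG uG cG cU hG hcG (diag_q hQ hdG)
    have hsfix : ∀ w : F, w * w = M.e c → σ w ≠ w := fun w hw e => by
      obtain ⟨y, rfl⟩ := M.surj w e
      exact hc ⟨y, M.e.injective (by rw [map_mul]; exact hw.symm)⟩
    have hbfix : σ (bG : F) = bG ∨ σ (bG : F) = -(bG : F) := by
      have h3 := congrArg σ h1
      rw [show (cU : F) = M.e c from rfl, M.fix, map_mul, M.fix, map_mul] at h3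
      rw [show (cU : F) = M.e c from rfl] at h1
      have h4 : (σ (bG : F) - bG) * (σ (bG : F) + bG) = 0 := by
        refine (mul_eq_zero.1 (show ((σ (bG : F) - bG) * (σ (bG : F) + bG)) * M.e cG = 0 by
          linear_combination h1 - h3)).resolve_right (by simp)
      rcases mul_eq_zero.1 h4 with e | e
      · exact Or.inl (sub_eq_zero.1 e)
      · exact Or.inr (eq_neg_of_add_eq_zero_left e)
    rcases hbfix with e | e
    · refine hsfix ((bG : F) * M.e d) ?_ (by rw [map_mul, e, M.fix])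
      rw [show M.e c = (cU : F) from rfl, h1, hd, map_mul]; ring
    · -- compare with the scalar part: `G` is rational, so `bG` is fixed
      have h5 : entryAct F (PIdx (n + 1)) σ (scal bG : GL (PIdx (n + 1)) F) = scal bG := by
        have hc5 : T.R σ * scal (Units.map σ.toRingHom.toMonoidHom bG) =
            scal (Units.map σ.toRingHom.toMonoidHom bG) * T.R σ := CfsgLib.ClassicalAut.scal_comm _ _
        have h6 := congrArg Subtype.val hGfix
        change T.R σ * entryAct F _ σ (G : GL (PIdx (n + 1)) F) * (T.R σ)⁻¹ = (G : GL (PIdx (n + 1)) F) at h6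
        rw [hG, map_mul, show entryAct F (PIdx (n + 1)) σ (scal bG) = scal (Units.map σ.toRingHom.toMonoidHom bG) from
          CfsgLib.ClassicalAut.mapUnit_scal σ bG, ← mul_assoc, hc5, mul_assoc, mul_assoc, ← mul_assoc (T.R σ),
          show T.R σ * entryAct F _ σ (R.theta uG) * (T.R σ)⁻¹ = R.theta uG from R.theta_fix _] at h6
        rw [show entryAct F (PIdx (n + 1)) σ (scal bG) = scal (Units.map σ.toRingHom.toMonoidHom bG) from
          CfsgLib.ClassicalAut.mapUnit_scal σ bG]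
        exact mul_right_cancel h6
      haveI : Nonempty (PIdx (n + 1)) := ⟨.inl 0⟩
      have h7 : Units.map σ.toRingHom.toMonoidHom bG = bG := CfsgLib.ClassicalAut.scal_injective
        ((CfsgLib.ClassicalAut.mapUnit_scal (ι := PIdx (n + 1)) σ bG).symm.trans h5)
      have h8 : σ (bG : F) = bG := congrArg Units.val h7
      refine hsfix ((bG : F) * M.e d) ?_ (by rw [map_mul, h8, M.fix])
      rw [show M.e c = (cU : F) from rfl, h1, hd, map_mul]; ring
  have himg : ∀ g : T.H, D.δ (D.act σ' g) = D.δ g → Ω' g = 1 ∨ Ω' g = a := by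
    intro g hgf
    obtain ⟨b, u, hu⟩ := R.exists_rational h two_pos hσ' hgf
    obtain ⟨cu, hcu⟩ := u.2
    by_cases hsq : IsSquare (cu : F₀)
    · obtain ⟨d, hd⟩ := hsq
      have hd0 : d ≠ 0 := fun e => cu.ne_zero (by rw [hd, e, zero_mul])
      exact Or.inl (key g hgf b u (Units.mk0 d hd0) hu fun y => by rw [hcu, hd, Units.val_mk0])
    · right
      obtain ⟨d, hd⟩ : IsSquare ((cG : F₀)⁻¹ * cu) := (CfsgLib.Orth.isSquare_mul_iff (inv_ne_zero cG.ne_zero)).2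
        (Or.inr (iff_of_false (fun e => hGns (by simpa using e.inv)) hsq))
      have hd0 : d ≠ 0 := fun e => mul_ne_zero (inv_ne_zero cG.ne_zero) cu.ne_zero (by rw [hd, e, zero_mul])
      have h1 : Ω' (G⁻¹ * g) = 1 := key (G⁻¹ * g) (by
          rw [map_mul, map_inv, map_mul, map_inv, hGfix, hgf, map_mul, map_inv])
        (bG⁻¹ * b) ((uG : GL (PIdx (n + 1)) F₀)⁻¹ * u) (Units.mk0 d hd0) (by
          rw [Subgroup.coe_mul, Subgroup.coe_inv, hG, hu, _root_.mul_inv_rev, map_mul, map_mul, map_inv, map_inv,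
            ← mul_assoc _ (scal b : GL (PIdx (n + 1)) F), mul_assoc (R.theta uG)⁻¹ (scal bG)⁻¹,
            ← map_inv (scal : Fˣ →* GL (PIdx (n + 1)) F),
            ← map_mul (scal : Fˣ →* GL (PIdx (n + 1)) F), CfsgLib.ClassicalAut.scal_comm, mul_assoc]) fun y => by
        have e1 := hcG ((((uG : GL (PIdx (n + 1)) F₀)⁻¹ * u : GL (PIdx (n + 1)) F₀) :
          Matrix (PIdx (n + 1)) (PIdx (n + 1)) F₀) *ᵥ y)
        rw [mulVec_mulVec, ← Units.val_mul, mul_inv_cancel_left, hcu] at e1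
        rw [Units.val_mk0, ← hd, mul_assoc, e1, inv_mul_cancel_left₀ cG.ne_zero]
      rw [map_mul, map_inv, inv_mul_eq_one] at h1
      exact h1.symm
  have hrel : (Cfsg.Inn (Cfsg.POmega F ⇑Q)).relIndex C = Nat.card (C.map π) := by
    conv_lhs => rw [← QuotientGroup.ker_mk' (Cfsg.Inn (Cfsg.POmega F ⇑Q))]
    exact Subgroup.relIndex_ker C π
  have hCmap : ∀ y, y ∈ C.map π ↔ y = 1 ∨ y = a := by
    intro y
    constructor
    · rintro ⟨β, hβ, rfl⟩
      obtain ⟨g, rfl⟩ : ∃ g, D.δ g = β := by rw [hC, hrange] at hβ; exact hβ.1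
      exact himg g ((hmem g).1 hβ)
    · rintro (rfl | rfl)
      · exact one_mem _
      · exact ⟨D.δ G, (hmem G).2 (by rw [hGfix]), rfl⟩
  -- the class of the generator
  let l : Fin (n + 1) → Fˣ := Fin.cases (z * (Units.mk0 s hs0)⁻¹) fun _ => Units.mk0 s hs0
  have hcU : cU = Units.mk0 s hs0 * Units.mk0 s hs0 := Units.ext hs
  have hGtor : diagHom F (n + 1) dG = scal (Units.mk0 s hs0) * (tor hQ l : GL (PIdx (n + 1)) F) := by
    refine Units.ext (Matrix.ext_iff_mulVec.2 fun w => funext fun i => ?_)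
    rw [diagHom_mulVec, CfsgLib.ClassicalAut.scal_mul_coe, smul_mulVec, Pi.smul_apply, smul_eq_mul,
      show (((tor hQ l : GL (PIdx (n + 1)) F)) : Matrix (PIdx (n + 1)) (PIdx (n + 1)) F) *ᵥ w = ap (tor hQ l) w from rfl,
      tor_ap, Units.val_mk0, ← mul_assoc]
    have hzz : (z : F) * (zσ : F) = s * s := hz'.trans hs
    have hz0 := z.ne_zero
    congr 1
    rcases i with i | i <;> induction i using Fin.cases <;> simp [dG, l, hcU] <;> field_simp
    linear_combination hzz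
  have ha : a = cls Q (tor hQ l) := by
    show Ω' G = _
    rw [hΩ', show (⟨(G : GL (PIdx (n + 1)) F), T.le G.2⟩ : Cfsg.Geo.quadSimilarityGroup ⇑Q) =
      ⟨_, scal_mem_sim (Units.mk0 s hs0)⟩ * ⟨_, isometry_le_sim (tor hQ l).2⟩ from Subtype.ext hGtor,
      map_mul, map_mul, out_scal h, one_mul]
    rfl
  have hzns : ¬ IsSquare (z : F) := norm_sq_iff M.e M.fix M.surj hinv hc hz'
  have hmain : a = 1 ↔ Odd (n + 1) ∧ Nat.card F₀ % 4 = 1 := by
    rw [ha, cls_eq_one_iff h hneg, mem_omega_iff h.nondeg h2 (by simp; omega),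
      and_iff_right (dickson_tor hQ h.nondeg l), spinor_tor hQ h h2 (Nat.le_add_left 1 n),
      Fin.prod_univ_succ]
    simp only [l, Fin.cases_zero, Fin.cases_succ, Finset.prod_const, Finset.card_fin, Units.val_mul,
      Units.val_inv_eq_inv_val, Units.val_mk0, Units.val_pow_eq_pow_val]
    obtain ⟨j, rfl⟩ : ∃ j, n = j + 1 := ⟨n - 1, by omega⟩
    rw [show (z : F) * s⁻¹ * s ^ (j + 1) = z * s ^ j by field_simp; ring,
      CfsgLib.Orth.isSquare_mul_iff z.ne_zero, or_iff_right (pow_ne_zero _ hs0), iff_false_left hzns]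
    have hs4 := sqrt_square_iff M.e hodd M.card hc hs.symm
    have hoddK : Nat.card F₀ % 2 = 1 := by
      rw [Nat.card_eq_fintype_card]
      exact FiniteField.odd_card_of_char_ne_two fun hr => h2₀ (by
        haveI : CharP F₀ 2 := hr ▸ ringChar.charP F₀
        exact_mod_cast CharP.cast_eq_zero F₀ 2)
    rcases Nat.even_or_odd j with ⟨i, hi⟩ | ⟨i, hi⟩
    · have : IsSquare (s ^ j) := ⟨s ^ i, by rw [hi, pow_add]⟩
      simp only [this, not_true_eq_false, false_iff, not_and]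
      intro ho
      rw [Nat.odd_iff] at ho
      omega
    · have hsj : IsSquare (s ^ j) ↔ IsSquare s := by
        rw [hi, pow_succ, CfsgLib.Orth.isSquare_mul_iff (pow_ne_zero _ hs0)]
        have : IsSquare (s ^ (2 * i)) := ⟨s ^ i, by rw [two_mul, pow_add]⟩
        simp [this, hs0]
      rw [hsj, hs4, Nat.odd_iff]
      omega
  rw [hrel, (Nat.card_congr (Equiv.subtypeEquivRight (q := fun y => y ∈ ({1, a} : Finset _)) fun y => by
    simpa using hCmap y)).trans (Nat.card_eq_finsetCard _)]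
  refine ⟨fun hcond => ?_, fun hcond => ?_⟩
  · rw [hmain.2 hcond]; simp
  · exact Finset.card_pair (fun e => hcond (hmain.1 e.symm))

end MinusStr

/-- In characteristic two the linear automorphisms fixing both families are inner. -/
theorem plusAut_le_inn (hQ : ⇑Q = Cfsg.quadFormPlus (n + 1) F) (h : Good Q) (h2 : (2 : F) = 0) :
    plusAut Q ≤ Cfsg.Inn (Cfsg.POmega F ⇑Q) := by
  refine (Subgroup.closure_le _).2 ?_
  rintro β ⟨g, hg, hp, hβ⟩
  obtain ⟨c, hc⟩ := id hg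
  haveI : CharP F 2 := CharTwo.of_one_ne_zero_of_two_eq_zero one_ne_zero h2
  obtain ⟨d, hd⟩ := FiniteField.isSquare_of_char_two (ringChar.eq F 2) (c : F)
  have hd0 : d ≠ 0 := fun e => c.ne_zero (by rw [hd, e, zero_mul])
  obtain ⟨s, hs⟩ := scaled_isometry (g := g) (d := Units.mk0 d hd0) (fun v => by rw [hc, hd, Units.val_mk0])
  have h1 := (chiP_iff hQ h.nondeg ⟨g, hg⟩).1 (hQ ▸ hp)
  rw [show (⟨g, hg⟩ : Cfsg.Geo.quadSimilarityGroup ⇑Q) = ⟨_, scal_mem_sim (Units.mk0 d hd0)⟩ *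
    ⟨_, isometry_le_sim s.2⟩ from Subtype.ext hs, map_mul, chiP_scal, one_mul, chiP_grp] at h1
  have hsΩ : s ∈ Cfsg.Omega F ⇑Q := by
    rw [omega_eq_ker_dickson h.nondeg h2 (by simp; omega) fun e => absurd e (by have := h.five; omega)]
    exact h1
  show β ∈ Cfsg.Inn _
  rw [← psi_eq_lin hg hβ, ← QuotientGroup.eq_one_iff]
  show outHom Q (simInc Q ⟨g, hg⟩) = 1
  rw [show (⟨g, hg⟩ : Cfsg.Geo.quadSimilarityGroup ⇑Q) = ⟨_, scal_mem_sim (Units.mk0 d hd0)⟩ *
    ⟨_, isometry_le_sim s.2⟩ from Subtype.ext hs, map_mul, map_mul, out_scal h, one_mul, out_grp]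
  exact outHom_omega s hsΩ

theorem transport_inndiag {a₀ b₀ : F₀} {qm : (MIdx n → F₀) → F₀} {Qm : QuadraticForm F₀ (MIdx n → F₀)}
    (hqm : ⇑Qm = qm) {G : Type*} [Group G]
    (e : Nonempty (G ≃* ↥(Cfsg.autSubgroupOf fun β : MulAut (Cfsg.POmega F₀ ⇑Qm) => ∃ g : GL (MIdx n) F₀,
        g ∈ Cfsg.Geo.quadSimilarityGroup ⇑Qm ∧
        Cfsg.PreservesSingularClassesMinus n a₀ b₀ (g : Matrix (MIdx n) (MIdx n) F₀) ∧
        Cfsg.IsInducedBySemilinearPOmega ⇑Qm g (RingEquiv.refl F₀) β))) :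
    Nonempty (G ≃* ↥(Cfsg.autSubgroupOf fun β : MulAut (Cfsg.POmega F₀ qm) => ∃ g : GL (MIdx n) F₀,
        g ∈ Cfsg.Geo.quadSimilarityGroup qm ∧
        Cfsg.PreservesSingularClassesMinus n a₀ b₀ (g : Matrix (MIdx n) (MIdx n) F₀) ∧
        Cfsg.IsInducedBySemilinearPOmega qm g (RingEquiv.refl F₀) β)) := by
  subst hqm
  exact e

set_option maxHeartbeats 1000000 in
/-- Involutory graph-field automorphisms. -/
theorem graph_field_plus {p f : ℕ} [Fact p.Prime] (hF : Fintype.card F = p ^ f) (hn : 4 ≤ n)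
    {q : (PIdx (n + 1) → F) → F} (hq : Cfsg.quadFormPlus (n + 1) F = q) (hB : Nondeg Q) (hQ : ⇑Q = q)
    (x : MulAut (Cfsg.POmega F q))
    (hx : ∃ (α γ φ : MulAut (Cfsg.POmega F q)) (σ : F ≃+* F) (v : PIdx (n + 1) → F) (r : GL (PIdx (n + 1)) F),
      σ ≠ RingEquiv.refl F ∧ q v ≠ 0 ∧ (∀ i, σ (v i) = v i) ∧
      (r : Matrix (PIdx (n + 1)) (PIdx (n + 1)) F) = Cfsg.reflectionMatrix q v ∧
      Cfsg.IsInducedBySemilinearPOmega q r (RingEquiv.refl F) γ ∧
      Cfsg.IsFieldAutPOmegaOf q σ φ ∧ α * x * α⁻¹ = γ * φ) (hx2 : orderOf x = 2)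
    (hF₀ : Fintype.card F₀ = p ^ (f / 2)) :
    let H := Cfsg.autSubgroupOf fun β : MulAut (Cfsg.POmega F q) => ∃ g : GL (PIdx (n + 1)) F,
      g ∈ Cfsg.Geo.quadSimilarityGroup q ∧
      Cfsg.PreservesSingularClasses q (g : Matrix (PIdx (n + 1)) (PIdx (n + 1)) F) ∧
      Cfsg.IsInducedBySemilinearPOmega q g (RingEquiv.refl F) β
    Even f ∧ (∀ y : MulAut (Cfsg.POmega F q),
      (∃ (α γ φ : MulAut (Cfsg.POmega F q)) (σ : F ≃+* F) (v : PIdx (n + 1) → F) (r : GL (PIdx (n + 1)) F),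
      σ ≠ RingEquiv.refl F ∧ q v ≠ 0 ∧ (∀ i, σ (v i) = v i) ∧
      (r : Matrix (PIdx (n + 1)) (PIdx (n + 1)) F) = Cfsg.reflectionMatrix q v ∧
      Cfsg.IsInducedBySemilinearPOmega q r (RingEquiv.refl F) γ ∧
      Cfsg.IsFieldAutPOmegaOf q σ φ ∧ α * y * α⁻¹ = γ * φ) → orderOf y = 2 → Cfsg.IsConjUnder H x y) ∧
    (∃ a₀ b₀ : F₀, (∀ z₁ z₂ : F₀, z₁ ^ 2 + a₀ * z₁ * z₂ + b₀ * z₂ ^ 2 = 0 → z₁ = 0 ∧ z₂ = 0) ∧
      Nonempty (↥(H ⊓ Subgroup.centralizer {x}) ≃* ↥(Cfsg.inndiagPOmegaMinus n F₀ a₀ b₀))) ∧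
    (p = 2 → Cfsg.splitClassCount H (Cfsg.Inn (Cfsg.POmega F q)) x = 1) ∧
    ((p ≠ 2 ∧ Odd (n + 1) ∧ p ^ (f / 2) % 4 = 1) → Cfsg.splitClassCount H (Cfsg.Inn (Cfsg.POmega F q)) x = 4) ∧
    ((p ≠ 2 ∧ ¬ (Odd (n + 1) ∧ p ^ (f / 2) % 4 = 1)) →
      Cfsg.splitClassCount H (Cfsg.Inn (Cfsg.POmega F q)) x = 2) := by
  subst hQ
  have hQ : ⇑Q = Cfsg.quadFormPlus (n + 1) F := hq.symm
  intro H
  have hH : H = plusAut Q := rfl
  rw [hH]
  clear_value H
  clear hH H
  have h : Good Q := good_plus (by omega) hB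
  haveI := charP_of_card (F := F) hF
  obtain ⟨g₁, hg₁, hfix₁, hsw⟩ := exists_swap hQ hB
  obtain ⟨σ, a, hσ, ha, hxa⟩ := std_form hQ h hx hx2 hg₁
  obtain ⟨hdvd, hK⟩ := card_fixedField_eq hF two_pos hσ
  obtain ⟨M⟩ := exists_minusStr (F₀ := F₀) hQ hσ (by rw [Nat.card_eq_fintype_card, hF₀, hK])
  obtain ⟨Qm, hQm, hBm⟩ := exists_quadForm_minus (F := F₀) n M.aniso
  have hgm : Good Qm := good_minus (by omega) M.aniso hQm hBm
  haveI : (Cfsg.Inn (Cfsg.POmega F ⇑Q)).Normal := inferInstance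
  have hmemA : ∀ b : Cfsg.Geo.quadSimilarityGroup ⇑Q, chiP hQ h.nondeg b = 1 → psi Q (simInc Q b) ∈ plusAut Q :=
    fun b hb => Subgroup.subset_closure ⟨b, b.2, by
      have e := (chiP_iff hQ h.nondeg b).2 hb
      revert e
      generalize ((b : GL (PIdx (n + 1)) F) : Matrix (PIdx (n + 1)) (PIdx (n + 1)) F) = A
      rw [hQ]
      exact id, psi_spec (simInc Q b)⟩
  have hle : Cfsg.Inn (Cfsg.POmega F ⇑Q) ≤ plusAut Q := by
    rw [show plusAut Q = ((M.tData h).twist h).δ.range from (plusData_range hQ h M.P _ _).symm]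
    exact ((M.tData h).twist h).inn_le
  have hcount := splitClassCount_mul (plusAut Q) (Cfsg.Inn (Cfsg.POmega F ⇑Q)) hle (psi Q (entryElt hQ g₁ σ))
  rw [← splitClassCount_conj (plusAut Q) (Cfsg.Inn (Cfsg.POmega F ⇑Q)) (psi Q (entryElt hQ g₁ σ)) (hmemA a ha),
    ← hxa] at hcount
  refine ⟨even_iff_two_dvd.2 hdvd, fun y hy hy2 => ?_, ⟨M.a₀, M.b₀, M.aniso, ?_⟩, fun hp => ?_, ?_⟩
  · obtain ⟨τ, b, hτ, hb, hyb⟩ := std_form hQ h hy hy2 hg₁
    obtain rfl := galois_involution_unique hσ hτ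
    refine ⟨psi Q (simInc Q b) * (psi Q (simInc Q a))⁻¹, mul_mem (hmemA b hb) (inv_mem (hmemA a ha)), ?_⟩
    rw [hyb, hxa]
    group
  · rw [hxa]
    exact transport_inndiag hQm (M.centralizer_equiv h hQm hgm hσ hsw ha)
  · subst hp
    have h0 : (2 : F) = 0 := by exact_mod_cast CharP.cast_eq_zero F 2
    rw [Subgroup.relIndex_eq_one.2 (plusAut_le_inn hQ h h0)] at hcount
    exact Nat.eq_one_of_mul_eq_one_right hcount
  · have hodd : p ≠ 2 → Odd (Fintype.card F) := fun hp => hF ▸ ((Fact.out : p.Prime).odd_of_ne_two hp).pow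
    have hcard₀ : Nat.card F₀ = p ^ (f / 2) := by rw [Nat.card_eq_fintype_card, hF₀]
    have h4 : ∀ hp : p ≠ 2, (Cfsg.Inn (Cfsg.POmega F ⇑Q)).relIndex (plusAut Q) = 4 := fun hp => by
      have h2 := two_ne_of_odd (hodd hp)
      have hsq : IsSquare ((-1 : F) ^ (n + 1)) := by
        refine IsSquare.pow _ (FiniteField.isSquare_neg_one_iff.2 fun e3 => ?_)
        have hsq' : Fintype.card F = Nat.card F₀ ^ 2 := by rw [← Nat.card_eq_fintype_card]; exact M.card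
        have : Nat.card F₀ ^ 2 % 4 = (Nat.card F₀ % 4) ^ 2 % 4 := Nat.pow_mod _ _ _
        have h5 := Nat.mod_lt (Nat.card F₀) (show 0 < 4 by norm_num)
        rw [hsq', this] at e3
        interval_cases Nat.card F₀ % 4 <;> simp at e3
      rw [← plus_class_set hQ h h2 (Nat.le_add_left 1 n) hsq]
      conv_lhs => rw [← QuotientGroup.ker_mk' (Cfsg.Inn (Cfsg.POmega F ⇑Q))]
      rw [Subgroup.relIndex_ker]
      refine Nat.card_congr (Equiv.subtypeEquivRight fun y => ?_)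
      constructor
      · rintro ⟨β, hβ, rfl⟩
        rw [show plusAut Q = ((M.tData h).twist h).δ.range from (plusData_range hQ h M.P _ _).symm] at hβ
        obtain ⟨g, rfl⟩ := hβ
        obtain ⟨hg, hg1⟩ := mem_plusH.1 g.2
        exact ⟨⟨⟨g, hg⟩, MonoidHom.mem_ker.2 hg1⟩, rfl⟩
      · rintro ⟨⟨g, hg⟩, rfl⟩
        exact ⟨_, hmemA g hg, rfl⟩
    refine ⟨fun ⟨hp, hcond⟩ => ?_, fun ⟨hp, hcond⟩ => ?_⟩
    · rw [h4 hp, (M.relIndex_cent h hQm hgm hn hσ (hodd hp) hsw).1 (hcard₀ ▸ hcond)] at hcount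
      omega
    · rw [h4 hp, (M.relIndex_cent h hQm hgm hn hσ (hodd hp) hsw).2 (hcard₀ ▸ hcond)] at hcount
      omega

end CfsgLib.OrthAut
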