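import Cfsg.Agent.Lib.OrthAut.MinusFieldCent
import Cfsg.Agent.Lib.OrthAut.PlusGraphField

/-!
Transport of the inner-diagonal group between minus-type models.
-/

set_option autoImplicit false
set_option linter.unusedSectionVars false

namespace CfsgLib.OrthAut

open Matrix CfsgLib.Orth CfsgLib.AutPSL
open CfsgLib.ClassicalAut (scal scal_coe)

universe u

variable {F : Type u} [Field F] [Fintype F] {n : ℕ}

section Congr

variable {ι : Type} [Fintype ι] [DecidableEq ι] {Q Q' : QuadraticForm F (ι → F)}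

theorem isometry_conj {P : GL ι F} {c : F} (hc : c ≠ 0) (hP : ∀ v, Q' ((P : Matrix ι ι F) *ᵥ v) = c * Q v)
    (g : GL ι F) : P * g * P⁻¹ ∈ Cfsg.isometryGroup F ⇑Q' ↔ g ∈ Cfsg.isometryGroup F ⇑Q := by
  have key : ∀ v, Q' (((P * g * P⁻¹ : GL ι F) : Matrix ι ι F) *ᵥ ((P : Matrix ι ι F) *ᵥ v)) =
      c * Q ((g : Matrix ι ι F) *ᵥ v) := fun v => by
    rw [mulVec_mulVec, ← Units.val_mul, inv_mul_cancel_right, Units.val_mul, ← mulVec_mulVec, hP]
  constructor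
  · intro h v _
    show Q ((g : Matrix ι ι F) *ᵥ v) = Q v
    have h1 : Q' (((P * g * P⁻¹ : GL ι F) : Matrix ι ι F) *ᵥ ((P : Matrix ι ι F) *ᵥ v)) =
        Q' ((P : Matrix ι ι F) *ᵥ v) := h _ ((P : Matrix ι ι F) *ᵥ v)
    rw [key, hP] at h1
    exact mul_left_cancel₀ hc h1
  · intro h w _
    show Q' (((P * g * P⁻¹ : GL ι F) : Matrix ι ι F) *ᵥ w) = Q' w
    obtain ⟨v, rfl⟩ : ∃ v, (P : Matrix ι ι F) *ᵥ v = w :=
      ⟨((P⁻¹ : GL ι F) : Matrix ι ι F) *ᵥ w, by rw [mulVec_mulVec, Units.mul_inv, one_mulVec]⟩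
    rw [key, hP, show Q ((g : Matrix ι ι F) *ᵥ v) = Q v from h v v]

/-- The isomorphism of the simple groups given by a similitude between two forms. -/
theorem exists_linCongr {P : GL ι F} {c : F} (hc : c ≠ 0) (hP : ∀ v, Q' ((P : Matrix ι ι F) *ᵥ v) = c * Q v) :
    ∃ ψ₀ : Cfsg.POmega F ⇑Q ≃* Cfsg.POmega F ⇑Q', ∀ (s : Cfsg.Omega F ⇑Q) (s' : Cfsg.Omega F ⇑Q'),
      ((s' : Grp Q') : GL ι F) = P * ((s : Grp Q) : GL ι F) * P⁻¹ →
        ψ₀ (QuotientGroup.mk s) = QuotientGroup.mk s' := by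
  let E : Grp Q ≃* Grp Q' :=
    { toFun := fun g => ⟨P * (g : GL ι F) * P⁻¹, (isometry_conj hc hP g).2 g.2⟩
      invFun := fun g => ⟨P⁻¹ * (g : GL ι F) * P, (isometry_conj hc hP _).1 (by simpa [mul_assoc] using g.2)⟩
      left_inv := fun g => Subtype.ext (by simp [mul_assoc])
      right_inv := fun g => Subtype.ext (by simp [mul_assoc])
      map_mul' := fun x y => Subtype.ext (by simp [mul_assoc]) }
  have hE : (Cfsg.Omega F ⇑Q).map E.toMonoidHom = Cfsg.Omega F ⇑Q' := by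
    show (commutator (Grp Q)).map E.toMonoidHom = commutator (Grp Q')
    rw [commutator_def, Subgroup.map_commutator, Subgroup.map_top_of_surjective _ E.surjective, ← commutator_def]
  let E' : Cfsg.Omega F ⇑Q ≃* Cfsg.Omega F ⇑Q' := (E.subgroupMap _).trans (MulEquiv.subgroupCongr hE)
  refine ⟨QuotientGroup.congr _ _ E' ?_, fun s s' he => ?_⟩
  · refine le_antisymm ?_ fun z hz => ⟨E'.symm z, ?_, E'.apply_symm_apply z⟩
    · rintro _ ⟨z, hz, rfl⟩
      exact Subgroup.mem_center_iff.2 fun y => by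
        obtain ⟨y, rfl⟩ := E'.surjective y
        exact (map_mul E' y z).symm.trans ((congrArg E' (Subgroup.mem_center_iff.1 hz y)).trans (map_mul E' z y))
    · exact Subgroup.mem_center_iff.2 fun y => E'.injective (by
        rw [map_mul, map_mul, E'.apply_symm_apply]
        exact Subgroup.mem_center_iff.1 hz _)
  · show QuotientGroup.mk (E' s) = _
    congr 1
    exact Subtype.ext (Subtype.ext he.symm)

end Congr

variable {a b a' b' : F} {Qm Qm' : QuadraticForm F (MIdx n → F)}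

/-- Any isomorphism between minus models carries one inner-diagonal group into the other. -/
theorem inndiag_map_le (hab : ∀ z₁ z₂ : F, z₁ ^ 2 + a * z₁ * z₂ + b * z₂ ^ 2 = 0 → z₁ = 0 ∧ z₂ = 0)
    (hQm : ⇑Qm = Cfsg.quadFormMinus n F a b) (hBm : Nondeg Qm)
    (hab' : ∀ z₁ z₂ : F, z₁ ^ 2 + a' * z₁ * z₂ + b' * z₂ ^ 2 = 0 → z₁ = 0 ∧ z₂ = 0)
    (hQm' : ⇑Qm' = Cfsg.quadFormMinus n F a' b') (h' : Good Qm')
    (ψ : Cfsg.POmega F ⇑Qm ≃* Cfsg.POmega F ⇑Qm') :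
    (Cfsg.autSubgroupOf fun β : MulAut (Cfsg.POmega F ⇑Qm) => ∃ g : GL (MIdx n) F,
        g ∈ Cfsg.Geo.quadSimilarityGroup ⇑Qm ∧
        Cfsg.PreservesSingularClassesMinus n a b (g : Matrix (MIdx n) (MIdx n) F) ∧
        Cfsg.IsInducedBySemilinearPOmega ⇑Qm g (RingEquiv.refl F) β).map (MulAut.congr ψ).toMonoidHom ≤
      Cfsg.autSubgroupOf fun β : MulAut (Cfsg.POmega F ⇑Qm') => ∃ g : GL (MIdx n) F,
        g ∈ Cfsg.Geo.quadSimilarityGroup ⇑Qm' ∧
        Cfsg.PreservesSingularClassesMinus n a' b' (g : Matrix (MIdx n) (MIdx n) F) ∧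
        Cfsg.IsInducedBySemilinearPOmega ⇑Qm' g (RingEquiv.refl F) β := by
  obtain ⟨M, hM⟩ := exists_bin hab' hab
  have hM' : ∀ v, Qm' (Matrix.fromBlocks 1 0 0 M *ᵥ v) = Qm v := fun v => by
    rw [hQm, hQm']
    have e := hM fun i => v (.inr i)
    simp only [CfsgLib.Classical.OrthModels.bin] at e
    simp only [Cfsg.quadFormMinus, fromBlocks_mulVec, Sum.elim_inl, Sum.elim_inr, zero_mulVec, add_zero, zero_add,
      one_mulVec, Function.comp_apply]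
    congr 1
  have hinj : Function.Injective ((Matrix.fromBlocks 1 0 0 M : Matrix (MIdx n) (MIdx n) F) *ᵥ ·) := fun x y e => by
    rw [← sub_eq_zero]
    refine hBm _ fun w => ?_
    have h0 : (Matrix.fromBlocks 1 0 0 M : Matrix (MIdx n) (MIdx n) F) *ᵥ (x - y) = 0 := by
      rw [mulVec_sub]; exact sub_eq_zero.2 e
    show QuadraticMap.polar Qm (x - y) w = 0
    simp only [QuadraticMap.polar, ← hM', mulVec_add, h0, zero_add, QuadraticMap.map_zero]
    ring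
  obtain ⟨P, hP⟩ := Matrix.mulVec_injective_iff_isUnit.1 hinj
  have hP1 : ∀ v, Qm' ((P : Matrix (MIdx n) (MIdx n) F) *ᵥ v) = (1 : F) * Qm v := fun v => by
    rw [hP, one_mul]; exact hM' v
  obtain ⟨ψ₀, hψ₀⟩ := exists_linCongr one_ne_zero hP1
  obtain ⟨y, hy⟩ := psi_surjective h' (ψ₀.symm.trans ψ)
  rw [Cfsg.autSubgroupOf, MonoidHom.map_closure, Subgroup.closure_le]
  rintro _ ⟨β, ⟨g, hg, hp, hβ⟩, rfl⟩
  have hg' : P * g * P⁻¹ ∈ Cfsg.Geo.quadSimilarityGroup ⇑Qm' := by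
    obtain ⟨c, hc⟩ := hg
    refine ⟨c, fun w => ?_⟩
    obtain ⟨v, rfl⟩ : ∃ v, (P : Matrix (MIdx n) (MIdx n) F) *ᵥ v = w :=
      ⟨((P⁻¹ : GL (MIdx n) F) : Matrix (MIdx n) (MIdx n) F) *ᵥ w, by rw [mulVec_mulVec, Units.mul_inv, one_mulVec]⟩
    rw [mulVec_mulVec, ← Units.val_mul, inv_mul_cancel_right, Units.val_mul, ← mulVec_mulVec, hP1, hP1, hc]
    ring
  let g₁ : Cfsg.Geo.quadSimilarityGroup ⇑Qm' := ⟨P * g * P⁻¹, hg'⟩
  have hp₁ : Cfsg.PreservesSingularClassesMinus n a' b' ((g₁ : GL (MIdx n) F) : Matrix (MIdx n) (MIdx n) F) :=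
    (preservesMinus_map (e := RingHom.id F) hab hab' hQm hQm' (P := P) one_ne_zero hP1 ⟨g, hg⟩ g₁ (by
      show P * g * P⁻¹ * P = P * _
      rw [inv_mul_cancel_right]
      exact congrArg _ (Units.ext (Matrix.ext fun _ _ => rfl)))).1 hp
  -- conjugation by the semilinear part
  obtain ⟨c, hc⟩ := mem_semi.1 y.2
  set τ := (y : Semilin F (MIdx n)).right with hτ
  set yl := (y : Semilin F (MIdx n)).left with hyl
  let z : semi Qm' := y * simInc Qm' g₁ * y⁻¹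
  have hz1 : (z : Semilin F (MIdx n)).right = 1 := by
    show τ * 1 * τ⁻¹ = 1
    rw [mul_one, mul_inv_cancel]
  have hz2 : (z : Semilin F (MIdx n)).left ∈ Cfsg.Geo.quadSimilarityGroup ⇑Qm' := by
    obtain ⟨d, hd⟩ := mem_semi.1 z.2
    refine ⟨d, fun v => ?_⟩
    have := hd v
    simpa [sv, hz1] using this
  have hz3 : (z : Semilin F (MIdx n)).left * yl = yl * entryAct F (MIdx n) τ (g₁ : GL (MIdx n) F) := by
    have e1 : (z * y : semi Qm') = y * simInc Qm' g₁ := inv_mul_cancel_right _ _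
    have e2 := congrArg (fun w : semi Qm' => (w : Semilin F (MIdx n)).left) e1
    simpa [hz1, simInc, hyl, hτ] using e2
  have hp₂ : Cfsg.PreservesSingularClassesMinus n a' b'
      ((z : Semilin F (MIdx n)).left : Matrix (MIdx n) (MIdx n) F) :=
    (preservesMinus_map (e := τ.toRingHom) hab' hab' hQm' hQm' (P := yl) c.ne_zero (fun v => hc v) g₁
      ⟨_, hz2⟩ hz3).1 hp₁
  refine Subgroup.subset_closure ⟨_, hz2, hp₂, ?_⟩
  have key : ∀ Z, psi Qm' (simInc Qm' g₁) (ψ₀ Z) = ψ₀ (β Z) := by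
    intro Z
    obtain ⟨s, rfl⟩ := prj_surjective (Q := Qm) Z
    let sP : Grp Qm' := ⟨P * ((s : Grp Qm) : GL (MIdx n) F) * P⁻¹, (isometry_conj one_ne_zero hP1 _).2 (s : Grp Qm).2⟩
    have hsP : sP ∈ Cfsg.Omega F ⇑Qm' := by
      let E : Grp Qm →* Grp Qm' := MonoidHom.codRestrict
        ((MulAut.conj P).toMonoidHom.comp (Cfsg.isometryGroup F ⇑Qm).subtype) _
        fun w => (isometry_conj one_ne_zero hP1 (w : GL (MIdx n) F)).2 w.2
      have : (Cfsg.Omega F ⇑Qm).map E ≤ Cfsg.Omega F ⇑Qm' := by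
        show (commutator (Grp Qm)).map E ≤ commutator (Grp Qm')
        rw [commutator_def, Subgroup.map_commutator]
        exact Subgroup.commutator_mono le_top le_top
      exact this ⟨_, s.2, Subtype.ext rfl⟩
    have e1 : ψ₀ (prj Qm s) = prj Qm' ⟨sP, hsP⟩ := hψ₀ s ⟨sP, hsP⟩ rfl
    rw [e1, ← psi_eq_lin hg hβ, psi_mk, psi_mk]
    refine (hψ₀ _ _ ?_).symm
    rw [onOmega_coe, onOmega_coe, onGrp_coe, onGrp_coe]
    show P * g * P⁻¹ * entryAct F (MIdx n) 1 (P * ((s : Grp Qm) : GL (MIdx n) F) * P⁻¹) * (P * g * P⁻¹)⁻¹ =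
      P * (g * entryAct F (MIdx n) 1 ((s : Grp Qm) : GL (MIdx n) F) * g⁻¹) * P⁻¹
    simp [mul_assoc]
  have hA : ∀ W, psi Qm' y (ψ₀ W) = ψ W := fun W => by
    rw [hy, MulEquiv.trans_apply, MulEquiv.symm_apply_apply]
  have hzpsi : psi Qm' z = (MulAut.congr ψ) β := by
    refine MulEquiv.ext fun X => ?_
    obtain ⟨Z, rfl⟩ := ψ.surjective X
    have e2 : (MulAut.congr ψ) β (ψ Z) = ψ (β Z) := by simp
    rw [e2]
    have hA' : (psi Qm' y).symm (ψ Z) = ψ₀ Z :=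
      (psi Qm' y).injective (((psi Qm' y).apply_symm_apply _).trans (hA Z).symm)
    have h3 : psi Qm' z (ψ Z) = psi Qm' y (psi Qm' (simInc Qm' g₁) ((psi Qm' y).symm (ψ Z))) := by
      simp only [z, map_mul, map_inv]
      rfl
    rw [h3, hA', key, hA]
  show Cfsg.IsInducedBySemilinearPOmega ⇑Qm' _ (RingEquiv.refl F) ((MulAut.congr ψ) β)
  rw [← hzpsi]
  have := psi_spec z
  rwa [hz1] at this

/-- Any isomorphism between minus models carries one inner-diagonal group onto the other. -/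
theorem inndiag_map (hn : 3 ≤ n) (hab : ∀ z₁ z₂ : F, z₁ ^ 2 + a * z₁ * z₂ + b * z₂ ^ 2 = 0 → z₁ = 0 ∧ z₂ = 0)
    (hQm : ⇑Qm = Cfsg.quadFormMinus n F a b) (hBm : Nondeg Qm)
    (hab' : ∀ z₁ z₂ : F, z₁ ^ 2 + a' * z₁ * z₂ + b' * z₂ ^ 2 = 0 → z₁ = 0 ∧ z₂ = 0)
    (hQm' : ⇑Qm' = Cfsg.quadFormMinus n F a' b') (hBm' : Nondeg Qm')
    (ψ : Cfsg.POmega F ⇑Qm ≃* Cfsg.POmega F ⇑Qm') :
    (Cfsg.autSubgroupOf fun β : MulAut (Cfsg.POmega F ⇑Qm) => ∃ g : GL (MIdx n) F,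
        g ∈ Cfsg.Geo.quadSimilarityGroup ⇑Qm ∧
        Cfsg.PreservesSingularClassesMinus n a b (g : Matrix (MIdx n) (MIdx n) F) ∧
        Cfsg.IsInducedBySemilinearPOmega ⇑Qm g (RingEquiv.refl F) β).map (MulAut.congr ψ).toMonoidHom =
      Cfsg.autSubgroupOf fun β : MulAut (Cfsg.POmega F ⇑Qm') => ∃ g : GL (MIdx n) F,
        g ∈ Cfsg.Geo.quadSimilarityGroup ⇑Qm' ∧
        Cfsg.PreservesSingularClassesMinus n a' b' (g : Matrix (MIdx n) (MIdx n) F) ∧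
        Cfsg.IsInducedBySemilinearPOmega ⇑Qm' g (RingEquiv.refl F) β := by
  refine le_antisymm (inndiag_map_le hab hQm hBm hab' hQm' (good_minus hn hab' hQm' hBm') ψ) fun β hβ => ?_
  refine ⟨(MulAut.congr ψ.symm) β,
    inndiag_map_le hab' hQm' hBm' hab hQm (good_minus hn hab hQm hBm) ψ.symm ⟨β, hβ, rfl⟩, ?_⟩
  exact MulEquiv.ext fun X => by simp

section Named

theorem isConjUnder_map {X Y : Type*} [Group X] [Group Y] (e : X ≃* Y) (H : Subgroup X) (x y : X) :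
    Cfsg.IsConjUnder (H.map e.toMonoidHom) (e x) (e y) ↔ Cfsg.IsConjUnder H x y := by
  constructor
  · rintro ⟨_, ⟨h, hh, rfl⟩, he⟩
    refine ⟨h, hh, e.injective (he.trans ?_)⟩
    simp
  · rintro ⟨h, hh, rfl⟩
    exact ⟨e h, ⟨h, hh, rfl⟩, by simp⟩

theorem splitClassCount_map {X Y : Type*} [Group X] [Group Y] (e : X ≃* Y) (H K : Subgroup X) (x : X) :
    Cfsg.splitClassCount (H.map e.toMonoidHom) (K.map e.toMonoidHom) (e x) = Cfsg.splitClassCount H K x := by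
  refine (Nat.card_congr (Quot.congr
    ((e.toEquiv.subtypeEquiv fun y => (isConjUnder_map e H x y).symm)) fun y z => ?_)).symm
  exact (isConjUnder_map e K y.1 z.1).symm

theorem inn_map {X Y : Type*} [Group X] [Group Y] (ψ : X ≃* Y) :
    (Cfsg.Inn X).map (MulAut.congr ψ).toMonoidHom = Cfsg.Inn Y := by
  ext β
  constructor
  · rintro ⟨_, ⟨g, rfl⟩, rfl⟩
    exact ⟨ψ g, MulEquiv.ext fun z => by simp⟩
  · rintro ⟨g, rfl⟩
    exact ⟨MulAut.conj (ψ.symm g), ⟨_, rfl⟩, MulEquiv.ext fun z => by simp⟩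

universe v

/-- The field automorphism class of minus type, in the standard models. -/
theorem field_minus_named {p f : ℕ} [Fact p.Prime] (hF : Fintype.card F = p ^ f) (hn : 3 ≤ n) {a b : F}
    (hab : ∀ z₁ z₂ : F, z₁ ^ 2 + a * z₁ * z₂ + b * z₂ ^ 2 = 0 → z₁ = 0 ∧ z₂ = 0)
    {q : (MIdx n → F) → F} (hq : Cfsg.quadFormMinus n F a b = q) (x : MulAut (Cfsg.POmega F q))
    {a' b' : F} {q' : (MIdx n → F) → F} (hq' : Cfsg.quadFormMinus n F a' b' = q')
    (hab' : ∀ z₁ z₂ : F, z₁ ^ 2 + a' * z₁ * z₂ + b' * z₂ ^ 2 = 0 → z₁ = 0 ∧ z₂ = 0)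
    (ψ : Cfsg.POmega F q ≃* Cfsg.POmega F q') {σ : F ≃+* F} (ha : σ a' = a') (hb : σ b' = b')
    (hx : Cfsg.IsFieldAutPOmegaOf q' σ ((ψ.symm.trans x).trans ψ)) {r : ℕ} (hr : r.Prime) (hxr : orderOf x = r) :
    let H := Cfsg.autSubgroupOf fun β : MulAut (Cfsg.POmega F q) => ∃ g : GL (MIdx n) F,
      g ∈ Cfsg.Geo.quadSimilarityGroup q ∧
      Cfsg.PreservesSingularClassesMinus n a b (g : Matrix (MIdx n) (MIdx n) F) ∧
      Cfsg.IsInducedBySemilinearPOmega q g (RingEquiv.refl F) β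
    (∀ (F₀ : Type v) [Field F₀] [Fintype F₀], Fintype.card F₀ = p ^ (f / r) →
      Odd r ∧ r ∣ f ∧ (∃ a₀ b₀ : F₀, (∀ z₁ z₂ : F₀, z₁ ^ 2 + a₀ * z₁ * z₂ + b₀ * z₂ ^ 2 = 0 → z₁ = 0 ∧ z₂ = 0) ∧
        Nonempty (↥(H ⊓ Subgroup.centralizer {x}) ≃* ↥(Cfsg.inndiagPOmegaMinus n F₀ a₀ b₀))) ∧
      Cfsg.splitClassCount H (Cfsg.Inn (Cfsg.POmega F q)) x = 1) ∧
    ∀ δ ∈ H, orderOf (δ * x) = r ↔ Cfsg.IsConjUnder H x (δ * x) := by
  obtain ⟨Qm, hQm, hBm⟩ := exists_quadForm_minus (F := F) n hab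
  obtain ⟨Qm', hQm', hBm'⟩ := exists_quadForm_minus (F := F) n hab'
  obtain rfl : ⇑Qm = q := hQm.trans hq
  obtain rfl : ⇑Qm' = q' := hQm'.trans hq'
  intro H
  have hmap : H.map (MulAut.congr ψ).toMonoidHom =
      ((minusTD hab' hQm' hBm' (by omega) _ (zpowers_fix ha hb)).twist (good_minus hn hab' hQm' hBm')).δ.range := by
    rw [minusTD_range hab' hQm' hBm' (by omega) (good_minus hn hab' hQm' hBm')]
    exact inndiag_map hn hab hQm hBm hab' hQm' hBm' ψ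
  clear_value H
  have hx' : Cfsg.IsFieldAutPOmegaOf (⇑Qm') σ ((MulAut.congr ψ) x) := hx
  have hxr' : orderOf ((MulAut.congr ψ) x) = r := ((MulAut.congr ψ).orderOf_eq x).trans hxr
  refine ⟨fun F₀ _ _ hF₀ => ?_, fun δ hδ => ?_⟩
  · haveI := charP_of_card (F := F) hF
    obtain ⟨h1, h2, ⟨a₀, b₀, hab₀, Qm₀, hQm₀, hiso⟩, h4⟩ :=
      field_minus hF hab' hQm' hBm' hn (good_minus hn hab' hQm' hBm') ha hb hx' hr hxr' F₀ hF₀
    refine ⟨h1, h2, ⟨a₀, b₀, hab₀, ?_⟩, ?_⟩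
    · refine transport_inndiag hQm₀ ⟨((H ⊓ Subgroup.centralizer {x}).equivMapOfInjective
        (MulAut.congr ψ).toMonoidHom (MulAut.congr ψ).injective).trans ((MulEquiv.subgroupCongr ?_).trans hiso.some)⟩
      rw [Subgroup.map_inf _ _ _ (MulAut.congr ψ).injective, hmap]
      congr 1
      ext β
      simp only [Subgroup.mem_centralizer_singleton_iff, Subgroup.mem_map]
      constructor
      · rintro ⟨γ, hγ, rfl⟩
        show (MulAut.congr ψ) γ * (MulAut.congr ψ) x = (MulAut.congr ψ) x * (MulAut.congr ψ) γ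
        rw [← map_mul, ← map_mul, hγ]
      · intro hβ
        refine ⟨(MulAut.congr ψ).symm β, (MulAut.congr ψ).injective ?_, (MulAut.congr ψ).apply_symm_apply β⟩
        rw [map_mul, map_mul, MulEquiv.apply_symm_apply]
        exact hβ
    · rw [← splitClassCount_map (MulAut.congr ψ), hmap, inn_map]
      exact h4
  · have hδ' : (MulAut.congr ψ) δ ∈
        ((minusTD hab' hQm' hBm' (by omega) _ (zpowers_fix ha hb)).twist (good_minus hn hab' hQm' hBm')).δ.range :=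
      hmap ▸ ⟨δ, hδ, rfl⟩
    have e := coset_minus hab' hQm' hBm' (by omega) (good_minus hn hab' hQm' hBm') ha hb hx' hr hxr' hδ'
    rw [← hmap, ← map_mul, (MulAut.congr ψ).orderOf_eq, isConjUnder_map] at e
    exact e

end Named

end CfsgLib.OrthAut
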