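import Cfsg.Agent.Lib.OrthAut.GraphBalanceField
import Cfsg.Agent.Lib.OrthAut.GraphSplitMinus
import Cfsg.Agent.Lib.OrthAut.MinusTransport
import Cfsg.Agent.Lib.OrthAut.MinusFieldCent

/-!
Local balance for automorphisms of minus-type groups outside the inner-diagonal group.
-/

set_option autoImplicit false
set_option linter.unusedSectionVars false

namespace CfsgLib.OrthAut

open Matrix CfsgLib.Orth CfsgLib.AutPSL
open CfsgLib.ClassicalAut (scal scal_coe gnorm)
open CfsgLib.ClassicalAut.Balance (Fix)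

universe u

variable {F : Type u} [Field F] [Fintype F]

theorem core_ne_bot_congr {G H : Type*} [Group G] [Group H] [Finite G] (e : G ≃* H) {p : ℕ}
    (h : Cfsg.pPrimeCore p G ≠ ⊥) : Cfsg.pPrimeCore p H ≠ ⊥ := by
  intro hb
  refine h ((Subgroup.map_eq_bot_iff_of_injective _ (f := e.toMonoidHom) e.injective).1 (le_bot_iff.1 ?_))
  rw [← hb]
  refine CfsgLib.Transfer.le_pPrimeCore ((CfsgLib.Transfer.pPrimeCore_normal p G).map _ e.surjective) ?_
  rw [← Nat.card_congr (Subgroup.equivMapOfInjective _ e.toMonoidHom e.injective).toEquiv]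
  exact CfsgLib.Transfer.pPrimeCore_coprime p

/-- Transport of the two sides of the criterion. -/
theorem balance_congr {X Y : Type*} [Group X] [Group Y] [Finite X] [Finite Y] (ψ : X ≃* Y) (A : Subgroup (MulAut X))
    (x : MulAut X) (p : ℕ)
    (h : Cfsg.pPrimeCore p ↥(A.map (MulAut.congr ψ).toMonoidHom ⊓ Subgroup.centralizer {MulAut.congr ψ x}) ≠ ⊥ ↔
      Nat.Coprime p (Nat.card (Fix (MulAut.congr ψ x)))) :
    Cfsg.pPrimeCore p ↥(A ⊓ Subgroup.centralizer {x}) ≠ ⊥ ↔ Nat.Coprime p (Nat.card (Fix x)) := by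
  have hfix : Nat.card (Fix x) = Nat.card (Fix (MulAut.congr ψ x)) :=
    Nat.card_congr (ψ.toEquiv.subtypeEquiv fun k => by
      show x k = k ↔ ψ (x (ψ.symm (ψ k))) = ψ k
      rw [ψ.symm_apply_apply, ψ.injective.eq_iff])
  have hC : (A ⊓ Subgroup.centralizer {x}).map (MulAut.congr ψ).toMonoidHom =
      A.map (MulAut.congr ψ).toMonoidHom ⊓ Subgroup.centralizer {MulAut.congr ψ x} := by
    rw [Subgroup.map_inf _ _ _ (MulAut.congr ψ).injective]
    congr 1
    ext β
    simp only [Subgroup.mem_centralizer_singleton_iff, Subgroup.mem_map]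
    constructor
    · rintro ⟨γ, hγ, rfl⟩
      show (MulAut.congr ψ) γ * (MulAut.congr ψ) x = (MulAut.congr ψ) x * (MulAut.congr ψ) γ
      rw [← map_mul, ← map_mul, hγ]
    · intro hβ
      refine ⟨(MulAut.congr ψ).symm β, (MulAut.congr ψ).injective ?_, (MulAut.congr ψ).apply_symm_apply β⟩
      rw [map_mul, map_mul, MulEquiv.apply_symm_apply]
      exact hβ
  let e := ((A ⊓ Subgroup.centralizer {x}).equivMapOfInjective _ (MulAut.congr ψ).injective).trans
    (MulEquiv.subgroupCongr hC)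
  rw [hfix, ← h]
  exact ⟨core_ne_bot_congr e, core_ne_bot_congr e.symm⟩

variable {n : ℕ} {a b : F} {Qm : QuadraticForm F (MIdx n → F)}

/-- The left part of a power. -/
theorem left_pow {ι : Type} [Fintype ι] [DecidableEq ι] (y : Semilin F ι) : ∀ k : ℕ,
    (y ^ k).left = gnorm y.right y.left k ∧ (y ^ k).right = y.right ^ k
  | 0 => ⟨rfl, rfl⟩
  | k + 1 => by
    obtain ⟨h1, h2⟩ := left_pow y k
    rw [pow_succ', SemidirectProduct.mul_left, SemidirectProduct.mul_right, h1, h2, ← pow_succ']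
    exact ⟨rfl, rfl⟩

/-- The statement that an automorphism is a field automorphism, on a bundled form. -/
def FieldClass (n : ℕ) (Qm : QuadraticForm F (MIdx n → F)) (x : MulAut (Cfsg.POmega F ⇑Qm)) : Prop :=
  ∃ (a' b' : F) (ψ : Cfsg.POmega F ⇑Qm ≃* Cfsg.POmega F (Cfsg.quadFormMinus n F a' b')) (σ : F ≃+* F),
    (∀ z₁ z₂ : F, z₁ ^ 2 + a' * z₁ * z₂ + b' * z₂ ^ 2 = 0 → z₁ = 0 ∧ z₂ = 0) ∧
    σ ≠ RingEquiv.refl F ∧ σ a' = a' ∧ σ b' = b' ∧
    Cfsg.IsFieldAutPOmegaOf (Cfsg.quadFormMinus n F a' b') σ ((ψ.symm.trans x).trans ψ)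

/-- No field class in order two. -/
theorem not_fieldClass_two (hn : 3 ≤ n) {x : MulAut (Cfsg.POmega F ⇑Qm)} (hx : orderOf x = 2) :
    ¬ FieldClass n Qm x := by
  rintro ⟨a', b', ψ, σ, hab', hσ, ha, hb, hf⟩
  obtain ⟨Q', hQ', hB'⟩ := exists_quadForm_minus (F := F) n hab'
  have hg := good_minus hn hab' hQ' hB'
  have hmap : ∀ v, Q' (fun i => σ (v i)) = σ (Q' v) := minus_map hQ' ha hb
  have ho : orderOf ((ψ.symm.trans x).trans ψ) = 2 := ((MulAut.congr ψ).orderOf_eq x).trans hx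
  suffices ∀ q, ⇑Q' = q → ∀ β : MulAut (Cfsg.POmega F q),
      Cfsg.IsFieldAutPOmegaOf q σ β → orderOf β = 2 → False from this _ hQ' _ hf ho
  rintro _ rfl β hf ho
  have hβ := (isField_iff (x := fldS Q' σ hmap) rfl rfl β).1 hf
  have h1 : psi Q' (fldS Q' σ hmap * fldS Q' σ hmap) = 1 := by
    rw [map_mul, ← hβ]
    have h3 := pow_orderOf_eq_one β
    rwa [ho, pow_two] at h3
  obtain ⟨h3, -⟩ := psi_eq_one hg.fine h1
  exact ne_two_of_aniso hab' ha hb (orderOf_eq_prime (show σ ^ 2 = 1 by rw [pow_two]; exact h3) hσ)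

/-- The dispatch over the shapes of a similitude graph automorphism. -/
theorem graph_core_bot (hn : 3 ≤ n) (hab : ∀ z₁ z₂ : F, z₁ ^ 2 + a * z₁ * z₂ + b * z₂ ^ 2 = 0 → z₁ = 0 ∧ z₂ = 0)
    (hQm : ⇑Qm = Cfsg.quadFormMinus n F a b) (hB : Nondeg Qm) (hodd : Odd (Fintype.card F))
    {g : Cfsg.Geo.quadSimilarityGroup ⇑Qm}
    (hnot : ¬ Cfsg.PreservesSingularClassesMinus n a b ((g : GL (MIdx n) F) : Matrix (MIdx n) (MIdx n) F))
    (A : Subgroup (MulAut (Cfsg.POmega F ⇑Qm))) (hinn : ∀ k, MulAut.conj k ∈ A)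
    (hA : psi Qm (simInc Qm g) ∈ A) (hord : orderOf (psi Qm (simInc Qm g)) = 2) :
    Cfsg.pPrimeCore 2 ↥(A ⊓ Subgroup.centralizer {psi Qm (simInc Qm g)}) = ⊥ := by
  classical
  have h := good_minus hn hab hQm hB
  have h2 := two_ne_of_odd hodd
  obtain ⟨c₀, hc₀⟩ := FiniteField.exists_nonsquare (F := F) fun hc => h2 (by
    haveI : CharP F 2 := hc ▸ ringChar.charP F
    exact_mod_cast CharP.cast_eq_zero F 2)
  obtain ⟨D, hμ, hDc, u₀, w₀, huw, hG⟩ :=
    exists_cdata_minus hab hQm hB h2 (by omega) (Units.mk0 c₀ fun e => hc₀ (e ▸ IsSquare.zero)) hc₀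
  have hχ : D.χ g = -1 := (Int.units_eq_one_or _).resolve_left fun e => hnot ((hμ g).2 e)
  obtain ⟨l, hl⟩ := (psi_simInc_eq_one_iff h.fine (g * g)).1 (by
    rw [map_mul, map_mul]
    have h3 := pow_orderOf_eq_one (psi Qm (simInc Qm g))
    rwa [hord, pow_two] at h3)
  obtain ⟨c, hc⟩ := g.2
  have hggv : ∀ x, ((g : GL (MIdx n) F) : Matrix (MIdx n) (MIdx n) F) *ᵥ
      (((g : GL (MIdx n) F) : Matrix (MIdx n) (MIdx n) F) *ᵥ x) = (l : F) • x := fun x => by
    rw [mulVec_mulVec, ← Units.val_mul, ← Subgroup.coe_mul, hl, scal_coe, smul_mulVec, one_mulVec]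
  have hcard : Fintype.card (MIdx n) = 2 * (n + 1) := by simp; omega
  obtain ⟨z, hz⟩ := exists_aniso hB (le_trans (by norm_num) h.five)
  have hcl : (c : F) * c = (l : F) * l := by
    have h1 := congrArg Qm (hggv z)
    rw [hc, hc, q_smul, ← mul_assoc] at h1
    exact mul_right_cancel₀ hz h1
  by_cases hsq : IsSquare (c : F)
  · obtain ⟨d, s, hgs, -, hds⟩ := D.exists_isometry ((D.nu_eq_one_iff hc).2 hsq)
    rw [hχ] at hds
    have hgm : ∀ x, ((g : GL (MIdx n) F) : Matrix (MIdx n) (MIdx n) F) *ᵥ x = (d : F) • ap s x := fun x => by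
      rw [show (g : GL (MIdx n) F) = scal d * (s : GL (MIdx n) F) from congrArg Subtype.val hgs,
        CfsgLib.ClassicalAut.scal_mul_coe, smul_mulVec]
      rfl
    have hd0 : (d : F) ≠ 0 := d.ne_zero
    set e := (l : F) / ((d : F) * d) with he
    have hss : ∀ x, ap s (ap s x) = e • x := fun x => by
      have h1 := hggv x
      rw [hgm, hgm, ap_smul, smul_smul] at h1
      rw [he, div_eq_mul_inv, mul_comm (l : F), ← smul_smul, ← h1, smul_smul, inv_mul_cancel₀ (by simp), one_smul]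
    have he2 : e * e = 1 := by
      have h1 := ap_q s (ap s z)
      rw [hss, q_smul, ap_q] at h1
      exact mul_right_cancel₀ hz (h1.trans (one_mul _).symm)
    have hsdet : ((s : GL (MIdx n) F) : Matrix (MIdx n) (MIdx n) F).det ≠ 1 := fun e0 => by
      rw [(dickson_iff_det hB h2 h.five s).2 e0] at hds
      exact absurd hds (by decide)
    rcases mul_self_eq_one_iff.1 he2 with he1 | he1
    swap
    · refine absurd ?_ hsdet
      set M := ((s : GL (MIdx n) F) : Matrix (MIdx n) (MIdx n) F)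
      have hM : ∀ x, Qm ((1 + M) *ᵥ x) = 2 * Qm x := fun x => by
        have h1 := ap_b s x (ap s x)
        rw [hss, he1, b_smul_right, b_comm (ap s x) x] at h1
        have h3 : QuadraticMap.polar Qm x (ap s x) = 0 := mul_left_cancel₀ h2 (by linear_combination -h1)
        rw [add_mulVec, one_mulVec, q_add, show M *ᵥ x = ap s x from rfl, ap_q, h3]; ring
      have hMM : (1 + M) * (1 + M) = (2 : F) • M := Matrix.ext_iff_mulVec.2 fun x => by
        have h1 : M *ᵥ (M *ᵥ x) = e • x := hss x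
        rw [← mulVec_mulVec, add_mulVec, add_mulVec, one_mulVec, one_mulVec, mulVec_add, h1, he1, smul_mulVec]
        module
      have h3 := congrArg Matrix.det hMM
      rw [det_mul, det_smul, ← pow_two, det_sq hB hM] at h3
      exact mul_left_cancel₀ (pow_ne_zero _ h2) (by rw [← h3, mul_one])
    set M := ((s : GL (MIdx n) F) : Matrix (MIdx n) (MIdx n) F).mulVecLin
    have hM : ∀ x, M (M x) = x := fun x => (hss x).trans (by rw [he1, one_smul])
    set Wp := LinearMap.ker (M - LinearMap.id)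
    set Wm := LinearMap.ker (M + LinearMap.id)
    have hp : ∀ x, x ∈ Wp ↔ ap s x = x := fun x => by
      rw [LinearMap.mem_ker, LinearMap.sub_apply, LinearMap.id_apply, sub_eq_zero]
      rfl
    have hm : ∀ x, x ∈ Wm ↔ ap s x = -x := fun x => by
      rw [LinearMap.mem_ker, LinearMap.add_apply, LinearMap.id_apply, add_eq_zero_iff_eq_neg]
      rfl
    have hoddm : Odd (Module.finrank F Wm) := by
      rcases Nat.even_or_odd (Module.finrank F Wm) with h0 | h0
      · refine absurd ?_ hsdet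
        rw [← LinearMap.det_toLin', Matrix.toLin'_apply']
        exact (det_involution h2 M hM).trans h0.neg_one_pow
      · exact h0
    have hsplit : ∀ x, (2 : F)⁻¹ • (x + ap s x) ∈ Wp ∧ x - (2 : F)⁻¹ • (x + ap s x) ∈ Wm := fun x => by
      have h5 : ap s (ap s x) = x := hM x
      refine ⟨(hp _).2 (by rw [ap_smul, ap_add, h5, add_comm]), (hm _).2 ?_⟩
      rw [sub_eq_add_neg x, ← neg_one_smul F ((2 : F)⁻¹ • (x + ap s x)), ap_add, ap_smul, ap_smul, ap_add, h5]
      match_scalars <;> field_simp <;> ring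
    have hdisj : Disjoint Wp Wm := disjoint_iff.2 ((Submodule.eq_bot_iff _).2 fun x hx => by
      have h1 : (2 : F) • x = 0 := by
        rw [two_smul]; exact eq_neg_iff_add_eq_zero.1 (((hp x).1 hx.1).symm.trans ((hm x).1 hx.2))
      exact (smul_eq_zero.1 h1).resolve_left h2)
    have hsum : Module.finrank F Wp + Module.finrank F Wm = 2 * (n + 1) := by
      have h4 := Submodule.finrank_sup_add_finrank_inf_eq Wp Wm
      have hsup : Wp ⊔ Wm = ⊤ := eq_top_iff.2 fun x _ => by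
        rw [← add_sub_cancel ((2 : F)⁻¹ • (x + ap s x)) x]
        exact Submodule.add_mem_sup (hsplit x).1 (hsplit x).2
      rw [hdisj.eq_bot, finrank_bot, hsup, finrank_top, Module.finrank_pi, hcard] at h4
      omega
    have horth : ∀ u ∈ Wp, ∀ v ∈ Wm, QuadraticMap.polar Qm u v = 0 := fun u hu v hv => by
      have h1 := ap_b s u v
      rw [(hp u).1 hu, (hm v).1 hv, ← neg_one_smul F v, b_smul_right] at h1
      exact mul_left_cancel₀ h2 (by linear_combination -h1)
    have hgp : ∀ v ∈ Wp, ((g : GL (MIdx n) F) : Matrix (MIdx n) (MIdx n) F) *ᵥ v = (d : F) • v := fun v hv => by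
      rw [hgm, (hp v).1 hv]
    have hgn : ∀ v ∈ Wm, ((g : GL (MIdx n) F) : Matrix (MIdx n) (MIdx n) F) *ᵥ v = -((d : F) • v) := fun v hv => by
      rw [hgm, (hm v).1 hv, smul_neg]
    rcases le_or_gt 5 (Module.finrank F Wp) with h5 | h5
    · exact core_bot_square h h2 hd0 hgp hgn (fun x => ⟨_, (hsplit x).1, (hsplit x).2⟩) horth h5 hoddm A hinn hA hord
    · obtain ⟨h6, h7⟩ := (fun a b e ⟨j, hj⟩ hlt => ⟨by omega, n - j, by omega⟩ :
        ∀ a b : ℕ, a + b = 2 * (n + 1) → Odd b → a < 5 → 5 ≤ b ∧ Odd a) _ _ hsum hoddm h5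
      refine core_bot_square h h2 (neg_ne_zero.2 hd0) (W := Wm) (W' := Wp) (fun v hv => by rw [hgn v hv, neg_smul])
        (fun v hv => by rw [hgp v hv, neg_smul, neg_neg])
        (fun x => ⟨_, (hsplit x).2, by rw [sub_sub_cancel]; exact (hsplit x).1⟩)
        (fun u hu v hv => (b_comm u v).trans (horth v hv u hu)) h6 h7 A hinn hA hord
  · rcases mul_self_eq_mul_self_iff.1 hcl with hlc | hlc
    · exact core_bot_nonsquare h h2 (by rw [hcard]; omega) hsq (fun x => by rw [hggv, hlc]) hc A hinn hA hord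
    exfalso
    by_cases hls : IsSquare (l : F)
    · obtain ⟨r, hr⟩ := hls
      have hr0 : r ≠ 0 := fun e0 => l.ne_zero (by rw [hr, e0, mul_zero])
      have hsing : ∀ ε : F, ε * ε = 1 → ∀ x,
          ((g : GL (MIdx n) F) : Matrix (MIdx n) (MIdx n) F) *ᵥ x = (r * ε) • x → Qm x = 0 := fun ε hε x hx => by
        have h3 := hc x
        rw [hx, q_smul] at h3
        have h4 : (2 * (c : F)) * Qm x = 0 := by
          linear_combination (r * r * Qm x) * hε - h3 - Qm x * hr + Qm x * hlc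
        exact (mul_eq_zero.1 h4).resolve_left (mul_ne_zero h2 c.ne_zero)
      set G := ((g : GL (MIdx n) F) : Matrix (MIdx n) (MIdx n) F).mulVecLin
      have hle : ∀ ε : F, ε * ε = 1 → Module.finrank F ↥(LinearMap.ker (G - (r * ε) • LinearMap.id)) ≤ n :=
        fun ε hε => minus_singular_le n hab _ fun x hx => by
          rw [← hQm]
          rw [LinearMap.mem_ker, LinearMap.sub_apply, sub_eq_zero] at hx
          exact hsing ε hε x hx
      have htop : LinearMap.ker (G - (r * 1) • LinearMap.id) ⊔ LinearMap.ker (G - (r * -1) • LinearMap.id) = ⊤ :=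
        eq_top_iff.2 fun x _ => by
          have h6 : G (G x) = (r * r) • x := by rw [← hr]; exact hggv x
          rw [show x = (2 : F)⁻¹ • (x + r⁻¹ • G x) + (2 : F)⁻¹ • (x - r⁻¹ • G x) by
            match_scalars <;> field_simp <;> ring]
          refine Submodule.add_mem_sup ?_ ?_ <;>
          · rw [LinearMap.mem_ker, LinearMap.sub_apply, LinearMap.smul_apply, LinearMap.id_apply, sub_eq_zero]
            simp only [map_smul, map_add, map_sub, h6]
            match_scalars <;> field_simp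
      have hdim := Submodule.finrank_add_le_finrank_add_finrank (LinearMap.ker (G - (r * 1) • LinearMap.id))
        (LinearMap.ker (G - (r * -1) • LinearMap.id))
      rw [htop, finrank_top, Module.finrank_pi, hcard] at hdim
      have := hle 1 (one_mul _)
      have := hle (-1) (by norm_num)
      omega
    · obtain ⟨d, s, hgs, -, hds⟩ := D.exists_isometry (g := D.G⁻¹ * g) (by
        rw [map_mul, map_inv, D.nu_G, (Int.units_eq_one_or (D.ν g)).resolve_left fun e =>
          hsq ((D.nu_eq_one_iff hc).1 e)]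
        rfl)
      rw [map_mul, map_inv, D.χG, inv_one, one_mul, hχ] at hds
      have hgm : ((g : GL (MIdx n) F) : Matrix (MIdx n) (MIdx n) F) =
          ((D.G : GL (MIdx n) F) : Matrix (MIdx n) (MIdx n) F) * ((d : F) • ((s : GL (MIdx n) F) : Matrix (MIdx n) (MIdx n) F)) := by
        have e := congrArg Subtype.val (eq_mul_of_inv_mul_eq hgs)
        rw [Subgroup.coe_mul, Subgroup.coe_mul] at e
        rw [e, Units.val_mul, CfsgLib.ClassicalAut.scal_mul_coe]
      have hcd : (c : F) = (D.c : F) * ((d : F) * d) := by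
        have h1 := hc z
        rw [hgm, ← mulVec_mulVec, D.hG, smul_mulVec, q_smul,
          show ((s : GL (MIdx n) F) : Matrix (MIdx n) (MIdx n) F) *ᵥ z = ap s z from rfl, ap_q] at h1
        exact mul_right_cancel₀ hz (by linear_combination -h1)
      have hs2 : ((s : GL (MIdx n) F) : Matrix (MIdx n) (MIdx n) F).det ^ 2 = 1 := by
        rw [det_sq hB (c := (1 : F)) fun v => by rw [one_mul]; exact ap_q s v, one_pow]
      have hsdet : ((s : GL (MIdx n) F) : Matrix (MIdx n) (MIdx n) F).det = -1 :=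
        (sq_eq_one_iff.1 hs2).resolve_left fun e0 => by
          rw [(dickson_iff_det hB h2 h.five s).2 e0] at hds
          exact absurd hds (by decide)
      have hdg : ((g : GL (MIdx n) F) : Matrix (MIdx n) (MIdx n) F).det = -((c : F) ^ (n + 1)) := by
        rw [hgm, det_mul, det_smul, hsdet, hcard, hG, mulPlane_det, huw, ← hDc, hcd, mul_pow, ← pow_two (d : F),
          ← pow_mul, pow_succ (D.c : F)]
        ring
      have hM : ((g : GL (MIdx n) F) : Matrix (MIdx n) (MIdx n) F) * ((g : GL (MIdx n) F) : Matrix (MIdx n) (MIdx n) F) =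
          (l : F) • 1 := by
        rw [← Units.val_mul, ← Subgroup.coe_mul, hl, scal_coe]
      rw [det_of_sq hM hls hcard, show -(l : F) = c by rw [hlc]] at hdg
      exact mul_ne_zero h2 (pow_ne_zero (n + 1) c.ne_zero) (by linear_combination hdg)

/-- A semisimilarity of odd prime order with field part is a field automorphism. -/
theorem field_case (hn : 3 ≤ n) (hab : ∀ z₁ z₂ : F, z₁ ^ 2 + a * z₁ * z₂ + b * z₂ ^ 2 = 0 → z₁ = 0 ∧ z₂ = 0)
    (hQm : ⇑Qm = Cfsg.quadFormMinus n F a b) (hB : Nondeg Qm) {p : ℕ} (hp : p.Prime) (hp2 : p ≠ 2)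
    {y : semi Qm} (hord : orderOf (psi Qm y) = p) (hτ : (y : Semilin F (MIdx n)).right ≠ 1) :
    ∃ (a' b' : F) (Q₀ : QuadraticForm F (MIdx n → F)) (ψ : Cfsg.POmega F ⇑Qm ≃* Cfsg.POmega F ⇑Q₀),
      ⇑Q₀ = Cfsg.quadFormMinus n F a' b' ∧ Nondeg Q₀ ∧
      (∀ z₁ z₂ : F, z₁ ^ 2 + a' * z₁ * z₂ + b' * z₂ ^ 2 = 0 → z₁ = 0 ∧ z₂ = 0) ∧
      (y : Semilin F (MIdx n)).right a' = a' ∧ (y : Semilin F (MIdx n)).right b' = b' ∧
      orderOf (y : Semilin F (MIdx n)).right = p ∧
      ∀ (hmap : ∀ v, Q₀ (fun i => (y : Semilin F (MIdx n)).right (v i)) = (y : Semilin F (MIdx n)).right (Q₀ v)),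
        MulAut.congr ψ (psi Qm y) = psi Q₀ (fldS Q₀ (y : Semilin F (MIdx n)).right hmap) := by
  classical
  have h := good_minus hn hab hQm hB
  set τ := (y : Semilin F (MIdx n)).right with hτdef
  set g := (y : Semilin F (MIdx n)).left with hgdef
  obtain ⟨hr, c, hc0, hcm⟩ := psi_eq_one h.fine (x := y ^ p) (by rw [map_pow, ← hord, pow_orderOf_eq_one])
  obtain ⟨hl, hr'⟩ := left_pow (y : Semilin F (MIdx n)) p
  rw [SubmonoidClass.coe_pow] at hr hcm
  rw [hl] at hcm
  rw [hr'] at hr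
  haveI := Fact.mk hp
  have hτp : orderOf τ = p := orderOf_eq_prime hr hτ
  have hgn : gnorm τ g p = scal (Units.mk0 c hc0) := Units.ext (hcm.trans (by rw [scal_coe]; rfl))
  haveI : Nonempty (MIdx n) := ⟨.inr 0⟩
  have hfix : τ c = c := by
    have h1 : gnorm τ g (p + 1) = gnorm τ g p * g := by
      rw [CfsgLib.ClassicalAut.gnorm_succ', ← hτp, pow_orderOf_eq_one]
      exact congrArg _ (Units.ext (Matrix.ext fun i j => rfl))
    rw [gnorm, hgn, CfsgLib.ClassicalAut.mapUnit_scal, CfsgLib.ClassicalAut.scal_comm] at h1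
    exact congrArg Units.val (CfsgLib.ClassicalAut.scal_injective (mul_right_cancel h1))
  obtain ⟨e, he⟩ := exists_unorm_eq hp.pos hτp (Units.mk0 c hc0) hfix
  obtain ⟨k, hk⟩ := CfsgLib.ClassicalAut.exists_coboundary_gl hp.pos hτp (scal e⁻¹ * g) (by
    rw [CfsgLib.ClassicalAut.gnorm_scal_mul, hgn, map_inv, he, ← map_mul, inv_mul_cancel, map_one])
  obtain ⟨mu, hmu⟩ := mem_semi.1 y.2
  have hge : g = scal e * (k * (CfsgLib.ClassicalAut.Carrier.mapUnit τ k)⁻¹) := by
    rw [← hk, ← mul_assoc, ← map_mul, mul_inv_cancel, map_one, one_mul]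
  obtain ⟨ν, R₁, hν, hnd, hR⟩ := exists_rational_form (σ := τ) (R := pull Qm (k : Matrix (MIdx n) (MIdx n) F))
    (nondeg_pull hB k) (by simp) (μ := ((e : F) * e) / mu) fun z => by
      rw [pull_apply, pull_apply]
      have h1 := hmu ((k : Matrix (MIdx n) (MIdx n) F) *ᵥ z)
      rw [sv, ← hgdef, ← hτdef,
        show (fun i => τ (((k : Matrix (MIdx n) (MIdx n) F) *ᵥ z) i)) = (k : Matrix (MIdx n) (MIdx n) F).map τ *ᵥ fun i => τ (z i) from
          funext fun i => RingHom.map_mulVec τ.toRingHom _ z i,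
        show (k : Matrix (MIdx n) (MIdx n) F).map τ = ((CfsgLib.ClassicalAut.Carrier.mapUnit τ k : GL (MIdx n) F) : Matrix (MIdx n) (MIdx n) F) from rfl,
        mulVec_mulVec, ← Units.val_mul, hge, mul_assoc, inv_mul_cancel_right, CfsgLib.ClassicalAut.scal_mul_coe,
        smul_mulVec, q_smul] at h1
      field_simp
      linear_combination -h1
  let K := fixedField τ
  haveI : Fintype K := Fintype.ofFinite K
  obtain ⟨δ, hδ⟩ : ∃ δ : K, ∀ t : K, t ^ 2 + t ≠ δ := by
    by_contra hno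
    push Not at hno
    have hinj := (Finite.injective_iff_surjective (f := fun t : K => t ^ 2 + t)).2 hno
    exact one_ne_zero (neg_eq_zero.1 (hinj (a₁ := (-1 : K)) (a₂ := 0) (by show _ = _; ring)))
  have hab₀ : ∀ z₁ z₂ : K, z₁ ^ 2 + 1 * z₁ * z₂ + (-δ) * z₂ ^ 2 = 0 → z₁ = 0 ∧ z₂ = 0 := fun z₁ z₂ hz => by
    by_cases h0 : z₂ = 0
    · exact ⟨by simpa [h0] using hz, h0⟩
    · refine absurd ?_ (hδ (z₁ / z₂))
      field_simp
      linear_combination hz
  have hd : Module.finrank K (MIdx n → K) = 2 * (n + 1) := by simp; omega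
  rcases CfsgLib.Classical.OrthModels.classify_even R₁ hnd hd 1 (-δ) hab₀ with hplus | ⟨j, hj, hminus⟩
  · exact absurd hplus (not_plus_structure hab hQm (h := k) fun z => hR z)
  obtain rfl : j = n := by omega
  obtain ⟨G, hG⟩ := hminus
  let Gu : GL (MIdx j) K := Matrix.GeneralLinearGroup.toLin.symm (LinearMap.GeneralLinearGroup.ofLinearEquiv G.symm)
  let Gm : GL (MIdx j) F := Units.map K.subtype.mapMatrix.toMonoidHom Gu
  have hGm : entryAct F (MIdx j) τ Gm = Gm := Units.ext (Matrix.ext fun i i' => ((Gu : Matrix (MIdx j) (MIdx j) K) i i').2)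
  obtain ⟨Q₀, hQ₀⟩ := exists_minus_shape (F := F) j (1 : F) (-((δ : K) : F))
  let P : GL (MIdx j) F := k * Gm
  have hP : ∀ v, Qm ((P : Matrix (MIdx j) (MIdx j) F) *ᵥ v) = ν * Q₀ v := by
    have e1 : pull Qm (P : Matrix (MIdx j) (MIdx j) F) = ν • Q₀ := ext_emb K fun z => by
      rw [pull_apply, _root_.QuadraticMap.smul_apply, hQ₀, smul_eq_mul, Units.val_mul, ← mulVec_mulVec,
        show (Gm : Matrix (MIdx j) (MIdx j) F) *ᵥ emb K z = emb K (G.symm z) by
          rw [show G.symm z = (Gu : Matrix (MIdx j) (MIdx j) K) *ᵥ z from (LinearMap.toMatrix'_mulVec _ z).symm, emb_mulVec]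
          rfl]
      refine (hR _).trans ?_
      rw [← hG (G.symm z), LinearEquiv.apply_symm_apply]
      congr 1
      exact (minus_emb (a₀ := (1 : K)) (b₀ := -δ) K.subtype (map_one _) (map_neg _ _) z).symm
    exact fun v => DFunLike.congr_fun e1 v
  have hab' : ∀ z₁ z₂ : F, z₁ ^ 2 + 1 * z₁ * z₂ + (-((δ : K) : F)) * z₂ ^ 2 = 0 → z₁ = 0 ∧ z₂ = 0 := by
    intro z₁ z₂ hz
    by_contra hne
    have hz₂ : z₂ ≠ 0 := fun e0 => hne ⟨by simpa [e0] using hz, e0⟩
    set s := z₁ / z₂ with hs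
    have hss : s ^ 2 + 1 * s * 1 + (-((δ : K) : F)) * 1 ^ 2 = 0 := by
      rw [hs]; field_simp; linear_combination hz
    let J : (Fin (j + 1) → F) →ₗ[F] (MIdx j → F) :=
      { toFun := fun w => Sum.elim (Sum.elim (fun i => w i.succ) fun _ => 0) ![s * w 0, w 0]
        map_add' := fun w w' => funext fun i => by
          rcases i with (i | i) | i
          · simp
          · simp
          · fin_cases i <;> simp [mul_add]
        map_smul' := fun t w => funext fun i => by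
          rcases i with (i | i) | i
          · simp
          · simp
          · fin_cases i <;> simp [mul_left_comm] }
    have hPinj : Function.Injective ((P : Matrix (MIdx j) (MIdx j) F) *ᵥ ·) := fun v w e0 => by
      simpa [mulVec_mulVec] using congrArg ((((P⁻¹ : GL (MIdx j) F)) : Matrix (MIdx j) (MIdx j) F) *ᵥ ·) e0
    have hJinj : Function.Injective J := fun v w e0 => funext fun i => by
      induction i using Fin.cases with
      | zero => simpa [J] using congrFun e0 (.inr 1)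
      | succ i => simpa [J] using congrFun e0 (.inl (.inl i))
    have hle := minus_singular_le j hab (LinearMap.range ((P : Matrix (MIdx j) (MIdx j) F).mulVecLin.comp J)) fun w hw => by
      obtain ⟨v, rfl⟩ := hw
      rw [← hQm]
      refine (hP (J v)).trans ?_
      rw [hQ₀]
      simp [J, Cfsg.quadFormMinus]
      right
      linear_combination (v 0 ^ 2) * hss
    rw [LinearMap.finrank_range_of_inj (hPinj.comp hJinj), Module.finrank_fin_fun] at hle
    omega
  have hB₀ : Nondeg Q₀ := fun v hv => by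
    have h1 : (P : Matrix (MIdx j) (MIdx j) F) *ᵥ v = 0 := hB _ fun w => by
      obtain ⟨w', rfl⟩ : ∃ w', (P : Matrix (MIdx j) (MIdx j) F) *ᵥ w' = w :=
        ⟨((P⁻¹ : GL (MIdx j) F) : Matrix (MIdx j) (MIdx j) F) *ᵥ w, by rw [mulVec_mulVec, Units.mul_inv, one_mulVec]⟩
      show QuadraticMap.polar Qm _ _ = 0
      have h3 : QuadraticMap.polar Q₀ v w' = 0 := hv w'
      simp only [QuadraticMap.polar, ← mulVec_add, hP, ← mul_sub]
      simp only [QuadraticMap.polar] at h3
      rw [h3, mul_zero]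
    simpa [mulVec_mulVec] using congrArg ((((P⁻¹ : GL (MIdx j) F)) : Matrix (MIdx j) (MIdx j) F) *ᵥ ·) h1
  obtain ⟨ψ₀, hψ₀⟩ := exists_linCongr (Q := Q₀) (Q' := Qm) hν hP
  refine ⟨1, _, Q₀, ψ₀.symm, hQ₀, hB₀, hab', map_one _, by rw [map_neg, show τ ((δ : K) : F) = δ from δ.2], hτp,
    fun hmap => MulEquiv.ext fun k₀ => ?_⟩
  obtain ⟨s, rfl⟩ := prj_surjective (Q := Q₀) k₀
  show ψ₀.symm (psi Qm y (ψ₀ (prj Q₀ s))) = psi Q₀ (fldS Q₀ τ hmap) (prj Q₀ s)
  rw [MulEquiv.symm_apply_eq, psi_mk (fldS Q₀ τ hmap)]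
  obtain ⟨s', hs'⟩ := prj_surjective (Q := Qm) (ψ₀ (prj Q₀ s))
  obtain ⟨t, ht⟩ : ∃ t : Cfsg.Omega F ⇑Qm, ((t : Grp Qm) : GL (MIdx j) F) = P * ((s : Grp Q₀) : GL (MIdx j) F) * P⁻¹ := by
    refine ⟨⟨⟨_, (isometry_conj hν hP _).2 (s : Grp Q₀).2⟩, ?_⟩, rfl⟩
    let E : Grp Q₀ →* Grp Qm :=
      { toFun := fun u => ⟨P * (u : GL (MIdx j) F) * P⁻¹, (isometry_conj hν hP _).2 u.2⟩
        map_one' := Subtype.ext (by simp)
        map_mul' := fun u v => Subtype.ext (by simp [mul_assoc]) }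
    have hE : (commutator (Grp Q₀)).map E ≤ commutator (Grp Qm) := by
      rw [commutator_def, Subgroup.map_commutator]
      exact Subgroup.commutator_mono le_top le_top
    exact hE ⟨(s : Grp Q₀), s.2, rfl⟩
  rw [show ψ₀ (prj Q₀ s) = prj Qm t from hψ₀ s t ht, psi_mk]
  refine (hψ₀ (onOmega Q₀ (fldS Q₀ τ hmap) s) (onOmega Qm y t) ?_).symm
  rw [onOmega_coe, onOmega_coe, onGrp_fldS, onGrp_coe, ht, map_mul, map_mul, map_inv, ← hgdef, ← hτdef,
    show entryAct F (MIdx j) τ P = (CfsgLib.ClassicalAut.Carrier.mapUnit τ k) * Gm by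
      rw [show entryAct F (MIdx j) τ P = entryAct F (MIdx j) τ k * entryAct F (MIdx j) τ Gm from map_mul _ _ _, hGm]
      rfl, hge]
  calc scal e * (k * (CfsgLib.ClassicalAut.Carrier.mapUnit τ k)⁻¹) *
        (CfsgLib.ClassicalAut.Carrier.mapUnit τ k * Gm * entryAct F (MIdx j) τ ((s : Grp Q₀) : GL (MIdx j) F) *
          (CfsgLib.ClassicalAut.Carrier.mapUnit τ k * Gm)⁻¹) * (scal e * (k * (CfsgLib.ClassicalAut.Carrier.mapUnit τ k)⁻¹))⁻¹
      = scal e * (k * Gm * entryAct F (MIdx j) τ ((s : Grp Q₀) : GL (MIdx j) F) * (k * Gm)⁻¹) * (scal e)⁻¹ := by group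
    _ = _ := by rw [← CfsgLib.ClassicalAut.scal_comm, mul_inv_cancel_right]

/-- The criterion. -/
theorem balance_minus {r : ℕ} [Fact r.Prime] [CharP F r] (hn : 3 ≤ n)
    (hab : ∀ z₁ z₂ : F, z₁ ^ 2 + a * z₁ * z₂ + b * z₂ ^ 2 = 0 → z₁ = 0 ∧ z₂ = 0)
    (hQm : ⇑Qm = Cfsg.quadFormMinus n F a b) (hB : Nondeg Qm)
    (A : Subgroup (MulAut (Cfsg.POmega F ⇑Qm))) (hinn : ∀ k, MulAut.conj k ∈ A) {p : ℕ} [Fact p.Prime] (hpr : p ≠ r)
    {x : MulAut (Cfsg.POmega F ⇑Qm)} (hxA : x ∈ A) (hord : orderOf x = p)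
    (hnot : ¬ ∃ g : GL (MIdx n) F, g ∈ Cfsg.Geo.quadSimilarityGroup ⇑Qm ∧
        Cfsg.PreservesSingularClassesMinus n a b (g : Matrix (MIdx n) (MIdx n) F) ∧
        Cfsg.IsInducedBySemilinearPOmega ⇑Qm g (RingEquiv.refl F) x) :
    Cfsg.pPrimeCore p ↥(A ⊓ Subgroup.centralizer {x}) ≠ ⊥ ↔
      FieldClass n Qm x ∧ Nat.Coprime p (Nat.card (Fix x)) := by
  classical
  have h := good_minus hn hab hQm hB
  have hpp : p.Prime := Fact.out
  obtain ⟨y, rfl⟩ := psi_surjective h x
  by_cases hτ : (y : Semilin F (MIdx n)).right = 1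
  · obtain ⟨cy, hcy⟩ := mem_semi.1 y.2
    obtain ⟨g, rfl⟩ : ∃ g : Cfsg.Geo.quadSimilarityGroup ⇑Qm, y = simInc Qm g :=
      ⟨⟨(y : Semilin F (MIdx n)).left, cy, fun v => by
        have h1 := hcy v
        simp only [sv, hτ, RingAut.one_apply] at h1
        exact h1⟩, Subtype.ext (SemidirectProduct.ext rfl hτ)⟩
    obtain ⟨μ, hμ, -, hμc⟩ := exists_mu hab hQm hB (by omega)
    have hnp : ¬ Cfsg.PreservesSingularClassesMinus n a b ((g : GL (MIdx n) F) : Matrix (MIdx n) (MIdx n) F) :=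
      fun hp => hnot ⟨g, g.2, hp, psi_spec (simInc Qm g)⟩
    have hμg : μ g = -1 := (Int.units_eq_one_or _).resolve_left fun e => hnp ((hμ g).2 e)
    have hp2 : p = 2 := by
      by_contra hne
      obtain ⟨c, hc⟩ := (psi_simInc_eq_one_iff h.fine (g ^ p)).1 (by
        rw [map_pow, map_pow, ← hord, pow_orderOf_eq_one])
      have h1 : μ (g ^ p) = -1 := by rw [map_pow, hμg, (hpp.odd_of_ne_two hne).neg_one_pow]
      rw [show g ^ p = ⟨scal c, scal_mem_sim c⟩ from Subtype.ext hc, hμc] at h1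
      exact absurd h1 (by decide)
    subst hp2
    have hodd : Odd (Fintype.card F) := Nat.odd_iff.2 (FiniteField.odd_card_of_char_ne_two fun hc => hpr (by
      rw [ringChar.eq F r] at hc
      exact hc.symm))
    refine iff_of_false (fun hne => hne ?_) fun hh => not_fieldClass_two hn hord hh.1
    exact graph_core_bot hn hab hQm hB hodd hnp A hinn hxA hord
  have hp2 : p ≠ 2 := by
    rintro rfl
    refine hτ (right_eq_one_of_sq hab hQm h.fine (Nat.odd_iff.2 (FiniteField.odd_card_of_char_ne_two fun hc => hpr (by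
      rw [ringChar.eq F r] at hc
      exact hc.symm))) (x := y) ?_)
    rw [map_mul]
    have h3 := pow_orderOf_eq_one (psi Qm y)
    rwa [hord, pow_two] at h3
  obtain ⟨a', b', Q₀, ψ, hQ₀, hB₀, hab', ha', hb', hσp, hψ⟩ := field_case hn hab hQm hB hpp hp2 hord hτ
  set τ := (y : Semilin F (MIdx n)).right with hτdef
  have hmap : ∀ v, Q₀ (fun i => τ (v i)) = τ (Q₀ v) := minus_map hQ₀ ha' hb'
  have hcls : FieldClass n Qm (psi Qm y) := by
    have key : ∀ q, Cfsg.quadFormMinus n F a' b' = q →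
        (∃ ψ : Cfsg.POmega F ⇑Qm ≃* Cfsg.POmega F q,
          Cfsg.IsFieldAutPOmegaOf q τ ((ψ.symm.trans (psi Qm y)).trans ψ)) → FieldClass n Qm (psi Qm y) := by
      rintro _ rfl ⟨ψ', hψ'⟩
      exact ⟨a', b', ψ', τ, hab', hτ, ha', hb', hψ'⟩
    exact key _ hQ₀.symm ⟨ψ, (isField_iff (x := fldS Q₀ τ hmap) rfl rfl _).2 (hψ hmap)⟩
  rw [iff_true_intro hcls, true_and]
  haveI : Finite (Cfsg.POmega F ⇑Qm) := inferInstance
  haveI : Finite (Cfsg.POmega F ⇑Q₀) := inferInstance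
  refine balance_congr ψ A (psi Qm y) p ?_
  let K := fixedField τ
  haveI : Fintype K := Fintype.ofFinite K
  have hab₀ : ∀ z₁ z₂ : K, z₁ ^ 2 + (⟨a', ha'⟩ : K) * z₁ * z₂ + (⟨b', hb'⟩ : K) * z₂ ^ 2 = 0 → z₁ = 0 ∧ z₂ = 0 :=
    fun z₁ z₂ hz => by
      have h1 := congrArg Subtype.val hz
      push_cast at h1
      obtain ⟨e1, e2⟩ := hab' _ _ h1
      exact ⟨Subtype.ext e1, Subtype.ext e2⟩
  obtain ⟨Qr, hQr, hBr⟩ := exists_quadForm_minus (F := K) n hab₀
  have hform : ∀ z, Q₀ (emb _ z) = ((Qr z : K) : F) := fun z => by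
    rw [hQ₀, hQr]
    exact minus_emb (a₀ := (⟨a', ha'⟩ : K)) (b₀ := (⟨b', hb'⟩ : K)) K.subtype rfl rfl z
  refine balance_field hform (good_minus hn hab' hQ₀ hB₀) ⟨hBr, by simp; omega⟩ hmap hσp (fun e => absurd e hp2)
    (A.map (MulAut.congr ψ).toMonoidHom) (fun k => ⟨MulAut.conj (ψ.symm k), hinn _, ?_⟩) ⟨_, hxA, rfl⟩ (α := 1)
    (by rw [hψ hmap, one_mul, inv_one, mul_one]) (((MulAut.congr ψ).orderOf_eq _).trans hord)
  refine MulEquiv.ext fun z => ?_
  show ψ (ψ.symm k * ψ.symm z * (ψ.symm k)⁻¹) = k * z * k⁻¹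
  simp

end CfsgLib.OrthAut
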