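import Cfsg.Agent.Lib.OrthAut.Balance

/-!
Local balance for orthogonal groups of odd dimension.
-/

set_option autoImplicit false
set_option linter.unusedSectionVars false

namespace CfsgLib.OrthAut

open Matrix CfsgLib.Orth CfsgLib.AutPSL
open CfsgLib.ClassicalAut (scal scal_coe)

universe u

variable {F : Type u} [Field F] [Fintype F] {m : ℕ} {Q : QuadraticForm F (OIdx m → F)}

theorem balance_odd (hQ : ⇑Q = Cfsg.quadFormOdd m F) (hB : Nondeg Q) (hodd : Odd (Fintype.card F)) (hm : 3 ≤ m)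
    (A : Subgroup (MulAut (Cfsg.POmega F ⇑Q))) (hinn : ∀ k, MulAut.conj k ∈ A) {p : ℕ} [Fact p.Prime]
    {x : MulAut (Cfsg.POmega F ⇑Q)} (hxA : x ∈ A) (hord : orderOf x = p)
    (hnot : ¬ Cfsg.IsSimilarityInducedAutPOmega (⇑Q) x) :
    Cfsg.pPrimeCore p ↥(A ⊓ Subgroup.centralizer {x}) ≠ ⊥ ↔
      Cfsg.IsFieldAutClassPOmega (⇑Q) x ∧ Nat.Coprime p (Nat.card (CfsgLib.ClassicalAut.Balance.Fix x)) := by
  have h2 := two_ne_of_odd hodd
  have hg : Good Q := good_odd hm (by rwa [Nat.card_eq_fintype_card]) hB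
  set T := oddData hQ
  set D := T.twist hg
  obtain ⟨g, σ', hx⟩ := T.full hg rfl rfl x
  set σ : F ≃+* F := (σ' : F ≃+* F) with hσdef
  have hne : σ ≠ 1 := fun e => by
    refine hnot ⟨(g : GL (OIdx m) F), T.le g.2, ?_⟩
    rw [hx, show σ' = 1 from Subtype.ext e, map_one, mul_one]
    exact psi_spec (simInc Q ⟨g, T.le g.2⟩)
  have hσp : orderOf σ' = p := orderOf_eq_prime ((D.mem_range_iff (D.tnorm σ' g p) (σ' ^ p)).1 (by
    rw [← D.pow_eq, ← hx, ← hord, pow_orderOf_eq_one]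
    exact one_mem _)) fun e => hne (congrArg Subtype.val e)
  have hmap : ∀ v, Q (fun i => σ (v i)) = σ (Q v) := fun v => by rw [hQ]; exact odd_map σ v
  have hphi : D.φ σ' = psi Q (fldS Q σ hmap) := congrArg (psi Q) (Subtype.ext (SemidirectProduct.ext
    ((T.fld_R σ').trans (oddData_R hQ σ)) rfl))
  have hfield : Cfsg.IsFieldAutClassPOmega (⇑Q) (D.φ σ') :=
    ⟨1, D.φ σ', σ, hne, (isField_iff (x := T.fld σ') ((T.fld_R σ').trans (oddData_R hQ σ)) rfl _).2 rfl,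
      by rw [one_mul, inv_one, mul_one]⟩
  have hr : p.Prime := Fact.out
  have hδ : D.δ g ∈ Cfsg.pgoAut F ⇑Q := by
    rw [← simData_range hg 1 ⊤ T.hP]; exact ⟨g, rfl⟩
  obtain ⟨α, -, hα⟩ := (coset_odd hQ hodd hg hfield hr ((D.orderOf_φ σ').trans hσp) hδ).1 (by rw [← hx, hord])
  rw [← hx] at hα
  have hcls : Cfsg.IsFieldAutClassPOmega (⇑Q) x :=
    ⟨α⁻¹, D.φ σ', σ, hne, (isField_iff (x := T.fld σ') ((T.fld_R σ').trans (oddData_R hQ σ)) rfl _).2 rfl,
      by rw [hα]; group⟩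
  rw [iff_true_intro hcls, true_and]
  let K := fixedField σ
  have hK2 : (2 : K) ≠ 0 := fun e0 => h2 (by
    have := congrArg K.subtype e0
    rwa [map_ofNat, map_zero] at this)
  obtain ⟨Q₀, hQ₀, hB₀⟩ := exists_quadForm_odd (F := K) hK2 m
  have hform : ∀ y, Q (emb _ y) = ((Q₀ y : K) : F) := fun y => by
    rw [hQ, hQ₀]; exact odd_emb K.subtype y
  exact balance_field hform hg ⟨hB₀, by simp; omega⟩ hmap
    (by rw [hσdef, Subgroup.orderOf_coe]; exact hσp) (fun _ => h2) A hinn hxA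
    (by rw [← hphi]; exact hα) hord

end CfsgLib.OrthAut
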