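import Cfsg.Agent.Lib.Classical.OrthSimple

/-!
Singular points of an orthogonal space: their stabilisers and Siegel groups in `Ω`, and the centre.
-/

set_option autoImplicit false
set_option linter.unusedSectionVars false

namespace CfsgLib.OrthAut

open Matrix CfsgLib.Orth

variable {F : Type*} [Field F] [Finite F] {ι : Type} [Fintype ι] [DecidableEq ι]
variable {Q : QuadraticForm F (ι → F)} (hB : Nondeg Q)

local notation "B" => QuadraticMap.polar (DFunLike.coe Q)
local notation "Ω" => Cfsg.Omega F (DFunLike.coe Q)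

/-- A subspace containing a hyperbolic pair is spanned by its singular vectors. -/
theorem mem_span_singular_of_pair {U : Submodule F (ι → F)} {a b x : ι → F} (ha : a ∈ U) (hb : b ∈ U)
    (hqa : Q a = 0) (hqb : Q b = 0) (hab : B a b = 1) (hx : x ∈ U) :
    x ∈ Submodule.span F {y | y ∈ U ∧ Q y = 0} := by
  obtain ⟨z, hz⟩ : ∃ z, z = x - B x b • a - B x a • b := ⟨_, rfl⟩
  have h₁ : B z a = 0 := by
    rw [hz, b_sub_left, b_sub_left, b_smul_left, b_smul_left, b_self_zero hqa, b_comm b a, hab]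
    ring
  have h₂ : B z b = 0 := by
    rw [hz, b_sub_left, b_sub_left, b_smul_left, b_smul_left, b_self_zero hqb, hab]
    ring
  have hs : ∀ y, y ∈ U → Q y = 0 → y ∈ Submodule.span F {y | y ∈ U ∧ Q y = 0} := fun y h h' =>
    Submodule.subset_span ⟨h, h'⟩
  have hzU : z ∈ U := hz ▸ sub_mem (sub_mem hx (U.smul_mem _ ha)) (U.smul_mem _ hb)
  have e : x = (z + (-Q z) • a + b) + (B x b + Q z) • a + (B x a - 1) • b := by
    rw [hz]; module
  rw [e]
  refine add_mem (add_mem (hs _ (add_mem (add_mem hzU (U.smul_mem _ ha)) hb) ?_)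
    (Submodule.smul_mem _ _ (hs a ha hqa))) (Submodule.smul_mem _ _ (hs b hb hqb))
  rw [q_add, q_add, q_smul, hqa, hqb, b_smul_right, h₁, b_add_left, h₂, b_smul_left, hab]
  ring

include hB in
/-- Two vectors have a hyperbolic pair in their orthogonal in large dimension, and so has one. -/
theorem exists_pair_orth {u f : ι → F} (hu : Q u = 0) (hf : Q f = 0) (huf : B u f = 1)
    (hn : 5 ≤ Module.finrank F (ι → F)) :
    ∃ a b, Q a = 0 ∧ Q b = 0 ∧ B a b = 1 ∧ B u a = 0 ∧ B u b = 0 ∧ B f a = 0 ∧ B f b = 0 := by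
  obtain ⟨a, ha, ha0, hua, hfa⟩ := exists_singular_perp hB hn u f
  obtain ⟨y, hay⟩ : ∃ y, B a y ≠ 0 := by
    by_contra hc
    push Not at hc
    exact ha0 (hB a hc)
  obtain ⟨z, hz⟩ : ∃ z, z = (B a y)⁻¹ • (y - B f y • u - B u y • f) := ⟨_, rfl⟩
  have haz : B a z = 1 := by
    rw [hz, b_smul_right, b_sub_right, b_sub_right, b_smul_right, b_smul_right, b_comm a u, hua,
      b_comm a f, hfa, mul_zero, mul_zero, sub_zero, sub_zero, inv_mul_cancel₀ hay]
  have huz : B u z = 0 := by
    rw [hz, b_smul_right, b_sub_right, b_sub_right, b_smul_right, b_smul_right, b_self_zero hu, huf]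
    ring
  have hfz : B f z = 0 := by
    rw [hz, b_smul_right, b_sub_right, b_sub_right, b_smul_right, b_smul_right, b_self_zero hf,
      b_comm f u, huf]
    ring
  refine ⟨a, z - Q z • a, ha, ?_, ?_, hua, ?_, hfa, ?_⟩
  · rw [q_sub, q_smul, ha, mul_zero, add_zero, b_smul_right, b_comm z a, haz, mul_one, sub_self]
  · rw [b_sub_right, b_smul_right, haz, b_self_zero ha, mul_zero, sub_zero]
  · rw [b_sub_right, b_smul_right, huz, hua, mul_zero, sub_zero]
  · rw [b_sub_right, b_smul_right, hfz, hfa, mul_zero, sub_zero]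

/-! ### Point stabilisers and Siegel groups -/

/-- The stabiliser in `Ω` of the point spanned by `u`. -/
def pstab (Q : QuadraticForm F (ι → F)) (u : ι → F) : Subgroup (Cfsg.Omega F ⇑Q) :=
  (stab Q (Submodule.span F {u})).subgroupOf (Cfsg.Omega F ⇑Q)

theorem mem_pstab {u : ι → F} {g : Ω} :
    g ∈ pstab Q u ↔ ap (g : Grp Q) u ∈ Submodule.span F {u} := by
  refine ⟨fun h => (mem_stab.1 h u).1 (Submodule.mem_span_singleton_self u), fun h => ?_⟩
  refine mem_stab_of_le fun v hv => ?_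
  obtain ⟨c, rfl⟩ := Submodule.mem_span_singleton.1 hv
  rw [ap_smul]
  exact Submodule.smul_mem _ _ h

theorem exists_scalar_of_mem_pstab {u : ι → F} {g : Ω} (h : g ∈ pstab Q u) (hu0 : u ≠ 0) :
    ∃ a : F, a ≠ 0 ∧ ap (g : Grp Q) u = a • u := by
  obtain ⟨a, ha⟩ := Submodule.mem_span_singleton.1 (mem_pstab.1 h)
  refine ⟨a, fun e => hu0 (ap_inj (g : Grp Q) ?_), ha.symm⟩
  rw [← ha, e, zero_smul, ap_zero]

include hB in
theorem exists_siegel_omega (hn : 5 ≤ Module.finrank F (ι → F)) {u v : ι → F} (hu : Q u = 0)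
    (huv : B u v = 0) : ∃ g : Ω, IsSiegel u v (g : Grp Q) := by
  obtain ⟨g, hg⟩ := exists_siegel hB hu huv
  exact ⟨⟨g, by rw [omega_eq_El hB hn]; exact siegel_mem_El hg⟩, hg⟩

theorem siegel_inv {u v : ι → F} {g : Grp Q} (hg : IsSiegel u v g) : IsSiegel u (-v) g⁻¹ := by
  refine ⟨hg.1, by rw [← neg_one_smul F v, b_smul_right, hg.2.1, mul_zero], fun x => ?_⟩
  have h : ap g (x + B x u • (-v) - B x (-v) • u - (Q (-v) * B x u) • u) = x := by
    rw [hg.2.2, ← neg_one_smul F v]
    simp only [b_sub_left, b_add_left, b_smul_left, b_smul_right, b_self_zero hg.1, b_comm v u,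
      hg.2.1, q_smul, b_self]
    module
  conv_lhs => rw [← h, ap_inv_ap]

/-- The Siegel group at `u`. -/
def sieg (Q : QuadraticForm F (ι → F)) {u : ι → F} (hu : Q u = 0) :
    Subgroup (Cfsg.Omega F ⇑Q) where
  carrier := {g | ∃ v, IsSiegel u v (g : Grp Q)}
  mul_mem' := fun {a b} ⟨v, hv⟩ ⟨w, hw⟩ => ⟨v + w, siegel_mul hv hw⟩
  one_mem' := ⟨0, siegel_one hu⟩
  inv_mem' := fun {a} ⟨v, hv⟩ => ⟨-v, siegel_inv hv⟩

variable {u f : ι → F}

theorem mem_sieg (hu : Q u = 0) {g : Ω} : g ∈ sieg Q hu ↔ ∃ v, IsSiegel u v (g : Grp Q) := Iff.rfl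

theorem sieg_le_pstab (hu : Q u = 0) : sieg Q hu ≤ pstab Q u := by
  rintro g ⟨v, hv⟩
  refine mem_pstab.2 ?_
  rw [siegel_fix hv (b_self_zero hu) hv.2.1]
  exact Submodule.mem_span_singleton_self u

/-- The parameters of the Siegel group at `u`, relative to a partner `f`. -/
abbrev par (Q : QuadraticForm F (ι → F)) (u f : ι → F) : Submodule F (ι → F) :=
  orth Q (Submodule.span F ({u, f} : Set (ι → F)))

theorem mem_par {x : ι → F} : x ∈ par Q u f ↔ B u x = 0 ∧ B f x = 0 := by
  rw [par, mem_orth_span]; simp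

include hB in
theorem finrank_par (huf : B u f = 1) (hu : Q u = 0) :
    Module.finrank F (par Q u f) + 2 = Module.finrank F (ι → F) := by
  have hli : LinearIndependent F ![u, f] := by
    rw [LinearIndependent.pair_iff]
    intro s t h
    have h' := congrArg (B u) h
    rw [b_add_right, b_smul_right, b_smul_right, b_self_zero hu, huf, mul_zero, mul_one, zero_add,
      b_zero_right] at h'
    rw [h', zero_smul, add_zero] at h
    exact ⟨(smul_eq_zero.1 h).resolve_right (ne_zero_of_b (by rw [huf]; exact one_ne_zero)), h'⟩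
  have h := finrank_orth hB (Submodule.span F (Set.range ![u, f]))
  rw [finrank_span_eq_card hli, Fintype.card_fin, Matrix.range_cons, Matrix.range_cons,
    Matrix.range_empty, Set.union_empty, Set.singleton_union] at h
  show Module.finrank F (orth Q _) + 2 = _
  omega

/-- Every Siegel element at `u` has a parameter orthogonal to `f`. -/
theorem exists_par (hu : Q u = 0) (huf : B u f = 1) {g : Grp Q} {v : ι → F}
    (hg : IsSiegel u v g) : ∃ w : par Q u f, IsSiegel u (w : ι → F) g := by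
  have h := siegel_add_self hg (-B f v)
  refine ⟨⟨_, mem_par.2 ⟨h.2.1, ?_⟩⟩, h⟩
  rw [b_add_right, b_smul_right, b_comm f u, huf, mul_one, add_neg_cancel]

theorem siegel_apply_partner (huf : B u f = 1) {g : Grp Q} {v : par Q u f}
    (hg : IsSiegel u (v : ι → F) g) : ap g f = f + (v : ι → F) - Q (v : ι → F) • u := by
  rw [hg.2.2, b_comm f u, huf, (mem_par.1 v.2).2, one_smul, zero_smul, sub_zero, mul_one]

theorem par_unique (hu : Q u = 0) (huf : B u f = 1) {g : Grp Q} {v w : par Q u f}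
    (hv : IsSiegel u (v : ι → F) g) (hw : IsSiegel u (w : ι → F) g) : v = w := by
  have h := (siegel_apply_partner huf hv).symm.trans (siegel_apply_partner huf hw)
  have h1 := congrArg (B f) h
  simp only [b_add_right, b_sub_right, b_smul_right, (mem_par.1 v.2).2, (mem_par.1 w.2).2,
    b_comm f u, huf, mul_one, add_zero, sub_right_inj] at h1
  rw [h1] at h
  exact Subtype.ext (add_left_cancel (sub_left_inj.1 h))

include hB in
/-- The Siegel group is parametrised by the orthogonal of a pair. -/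
theorem exists_sieg_equiv (hn : 5 ≤ Module.finrank F (ι → F)) (hu : Q u = 0) (huf : B u f = 1) :
    ∃ e : par Q u f ≃ sieg Q hu, ∀ v : par Q u f, IsSiegel u (v : ι → F) ((e v : Ω) : Grp Q) := by
  choose g hg using fun v : par Q u f => exists_siegel_omega hB hn hu (mem_par.1 v.2).1
  refine ⟨Equiv.ofBijective (fun v => ⟨g v, v, hg v⟩) ⟨fun v w h => ?_, fun s => ?_⟩, hg⟩
  · have h' : g v = g w := congrArg Subtype.val h
    exact par_unique hu huf (hg v) (h' ▸ hg w)
  · obtain ⟨x, hx⟩ := s.2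
    obtain ⟨w, hw⟩ := exists_par hu huf hx
    exact ⟨w, Subtype.ext (Subtype.ext (siegel_unique (hg w) hw))⟩

include hB in
theorem card_sieg (hn : 5 ≤ Module.finrank F (ι → F)) (hu : Q u = 0) (hu0 : u ≠ 0) :
    Nat.card (sieg Q hu) = Nat.card F ^ (Module.finrank F (ι → F) - 2) := by
  obtain ⟨f, -, huf⟩ := exists_partner hB hu hu0
  obtain ⟨e, -⟩ := exists_sieg_equiv hB hn hu huf
  rw [← Nat.card_congr e, Module.natCard_eq_pow_finrank (K := F)]
  congr 1
  have := finrank_par hB huf hu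
  omega

theorem sieg_pow_char (hu : Q u = 0) (p : ℕ) [CharP F p] {g : Ω} (hg : g ∈ sieg Q hu) :
    g ^ p = 1 := by
  obtain ⟨v, hv⟩ := hg
  have hpow : ∀ k : ℕ, IsSiegel u ((k : F) • v) (((g ^ k : Ω)) : Grp Q) := by
    intro k
    induction k with
    | zero => simpa using siegel_one (Q := Q) hu
    | succ k ih =>
      rw [pow_succ, Nat.cast_succ, add_smul, one_smul]
      exact siegel_mul ih hv
  have h := hpow p
  rw [CharP.cast_eq_zero, zero_smul] at h
  exact Subtype.ext (siegel_unique h (siegel_one hu))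

include hB in
/-- An element of the Siegel group fixing a point not orthogonal to `u` is trivial. -/
theorem sieg_eq_one_of_fix (hu : Q u = 0) {x : ι → F} (hxu : B x u ≠ 0) {g : Ω}
    (hg : g ∈ sieg Q hu) (h : g ∈ pstab Q x) : g = 1 := by
  obtain ⟨v, hv⟩ := hg
  have hux : B u x ≠ 0 := by rwa [b_comm]
  obtain ⟨a, -, ha⟩ := exists_scalar_of_mem_pstab h (ne_zero_of_b hxu)
  rw [hv.2.2] at ha
  have h1 := congrArg (B u) ha
  simp only [b_add_right, b_sub_right, b_smul_right, hv.2.1, b_self_zero hu, mul_zero, add_zero,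
    sub_zero] at h1
  have ha1 : a = 1 := mul_right_cancel₀ hux (by rw [one_mul, ← h1])
  rw [ha1, one_smul] at ha
  have h2 : B x u • v = (B x v + Q v * B x u) • u := by linear_combination (norm := module) ha
  have h3 : v = ((B x u)⁻¹ * (B x v + Q v * B x u)) • u := by
    rw [mul_smul, ← h2, inv_smul_smul₀ hxu]
  have h4 := siegel_add_self hv (-((B x u)⁻¹ * (B x v + Q v * B x u)))
  rw [neg_smul, ← h3, add_neg_cancel] at h4
  exact Subtype.ext (siegel_unique h4 (siegel_one hu))

include hB in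
/-- A point orthogonal to `u` is fixed by a nontrivial element of the Siegel group. -/
theorem exists_sieg_fix (hn : 5 ≤ Module.finrank F (ι → F)) (hu : Q u = 0) (hu0 : u ≠ 0)
    {x : ι → F} (hxu : B x u = 0) : ∃ g ∈ sieg Q hu, g ≠ 1 ∧ g ∈ pstab Q x := by
  obtain ⟨f, -, huf⟩ := exists_partner hB hu hu0
  have h := finrank_par hB huf hu
  have hk : 0 < Module.finrank F ↥(par Q u f ⊓ LinearMap.ker (QuadraticMap.polarBilin Q x)) := by
    have h1 := LinearMap.finrank_range_add_finrank_ker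
      ((QuadraticMap.polarBilin Q x).comp (par Q u f).subtype)
    have h2 := Submodule.finrank_le
      (LinearMap.range ((QuadraticMap.polarBilin Q x).comp (par Q u f).subtype))
    rw [Module.finrank_self] at h2
    rw [LinearMap.ker_comp, ← Submodule.finrank_map_subtype_eq, Submodule.map_comap_subtype] at h1
    omega
  obtain ⟨v, ⟨hv, hxv⟩, hv0⟩ := Submodule.exists_mem_ne_zero_of_ne_bot
    (fun e : par Q u f ⊓ LinearMap.ker (QuadraticMap.polarBilin Q x) = ⊥ => by
      rw [e, finrank_bot] at hk; exact lt_irrefl 0 hk)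
  obtain ⟨g, hg⟩ := exists_siegel_omega hB hn hu (mem_par.1 hv).1
  refine ⟨g, ⟨v, hg⟩, fun e => hv0 ?_, mem_pstab.2 ?_⟩
  · have h1 := par_unique (v := ⟨v, hv⟩) (w := 0) hu huf hg (by rw [e]; exact siegel_one hu)
    exact congrArg Subtype.val h1
  · rw [siegel_fix hg hxu hxv]
    exact Submodule.mem_span_singleton_self x

include hB in
/-- The only point fixed by the Siegel group at `u` is `u`. -/
theorem mem_span_of_fixed (hn : 5 ≤ Module.finrank F (ι → F)) (hu : Q u = 0) (hu0 : u ≠ 0)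
    {x : ι → F} (h : sieg Q hu ≤ pstab Q x) : x ∈ Submodule.span F {u} := by
  by_cases hxu : B x u = 0
  · by_contra hx
    obtain ⟨v, hv, hxv⟩ := exists_orth_one hB hx
    have huv : B u v = 0 := mem_orth_span.1 hv u rfl
    obtain ⟨g, hg⟩ := exists_siegel_omega hB hn hu huv
    obtain ⟨a, ha⟩ := Submodule.mem_span_singleton.1 (mem_pstab.1 (h ⟨v, hg⟩))
    rw [hg.2.2, hxu, hxv, mul_zero, zero_smul, zero_smul, one_smul, add_zero, sub_zero] at ha
    refine hx ?_
    have h1 : (1 - a) • x = u := by linear_combination (norm := module) -ha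
    have h2 : 1 - a ≠ 0 := fun e => hu0 (by rw [← h1, e, zero_smul])
    exact Submodule.mem_span_singleton.2 ⟨(1 - a)⁻¹, by rw [← h1, inv_smul_smul₀ h2]⟩
  · exfalso
    obtain ⟨g, hg, hg1, -⟩ := exists_sieg_fix hB hn hu hu0 (b_self_zero hu)
    exact hg1 (sieg_eq_one_of_fix hB hu hxu hg (h hg))

include hB in
theorem pstab_inj (hn : 5 ≤ Module.finrank F (ι → F)) {w : ι → F} (hu : Q u = 0) (hu0 : u ≠ 0)
    (hw0 : w ≠ 0) (h : pstab Q u ≤ pstab Q w) : ∃ a : F, a ≠ 0 ∧ w = a • u := by
  obtain ⟨a, ha⟩ := Submodule.mem_span_singleton.1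
    (mem_span_of_fixed hB hn hu hu0 ((sieg_le_pstab hu).trans h))
  exact ⟨a, fun e => hw0 (by rw [← ha, e, zero_smul]), ha.symm⟩

theorem pstab_smul {a : F} (ha : a ≠ 0) (w : ι → F) : pstab Q (a • w) = pstab Q w := by
  unfold pstab
  rw [Submodule.span_singleton_smul_eq (isUnit_iff_ne_zero.2 ha)]

/-- Siegel groups are permuted by conjugation. -/
theorem sieg_conj (hu : Q u = 0) {g s : Ω} (hs : s ∈ sieg Q hu) :
    g * s * g⁻¹ ∈ sieg Q (u := ap (g : Grp Q) u) (by rw [ap_q]; exact hu) := by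
  obtain ⟨v, hv⟩ := hs
  exact ⟨_, siegel_conj hv (g : Grp Q)⟩

theorem sieg_normal (hu : Q u = 0) (hu0 : u ≠ 0) {g s : Ω} (hg : g ∈ pstab Q u)
    (hs : s ∈ sieg Q hu) : g * s * g⁻¹ ∈ sieg Q hu := by
  obtain ⟨a, ha0, ha⟩ := exists_scalar_of_mem_pstab hg hu0
  obtain ⟨v, hv⟩ := sieg_conj (g := g) hu hs
  rw [ha] at hv
  refine ⟨a • v, ?_⟩
  have h1 : IsSiegel u (a • v) ((g * s * g⁻¹ : Ω) : Grp Q) := by
    refine ⟨hu, ?_, fun x => ?_⟩
    · have := hv.2.1
      rw [b_smul_left] at this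
      rw [b_smul_right, this]
    · rw [hv.2.2]
      simp only [b_smul_right, q_smul]
      module
  exact h1

include hB in
/-- Elements fixing `u` and trivial on `u⊥/u` are Siegel elements. -/
theorem mem_sieg_of_trivial (hn : 5 ≤ Module.finrank F (ι → F)) (hu : Q u = 0) (hu0 : u ≠ 0)
    {g : Ω} (hgu : ap (g : Grp Q) u = u)
    (hw : ∀ x, B u x = 0 → ap (g : Grp Q) x - x ∈ Submodule.span F {u}) : g ∈ sieg Q hu := by
  obtain ⟨f, hf, huf⟩ := exists_partner hB hu hu0
  set f' := ap (g : Grp Q) f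
  have huf' : B u f' = 1 := by rw [← hgu, ap_b, huf]
  have hv : B u (f' - f) = 0 := by rw [b_sub_right, huf', huf, sub_self]
  obtain ⟨s, hs, hsf⟩ := exists_move_partner (f' := f') hB hu hf (by rw [ap_q, hf]) (by rw [huf, huf']) huf
  refine ⟨f' - f, ?_⟩
  convert hs using 1
  refine ext_ap fun x => ?_
  have hsu : ap s u = u := siegel_fix hs (b_self_zero hu) hv
  -- split off `u` and `f`
  obtain ⟨y, hy⟩ : ∃ y, y = x - B f x • u - B u x • f := ⟨_, rfl⟩
  have hyu : B u y = 0 := by
    rw [hy, b_sub_right, b_sub_right, b_smul_right, b_smul_right, b_self_zero hu, huf]; ring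
  have hyf : B f y = 0 := by
    rw [hy, b_sub_right, b_sub_right, b_smul_right, b_smul_right, b_self_zero hf, b_comm f u, huf]
    ring
  obtain ⟨c, hc⟩ := Submodule.mem_span_singleton.1 (hw y hyu)
  have hgy : ap (g : Grp Q) y = y + c • u := by rw [hc]; abel
  have hc' : B f' y + c = 0 := by
    have h1 := ap_b (g : Grp Q) f y
    rw [hgy, hyf, b_add_right, b_smul_right, b_comm _ u, huf', mul_one] at h1
    exact h1
  have hsy : ap s y = y + c • u := by
    rw [hs.2.2, b_comm y u, hyu, b_sub_right, b_comm y f, hyf, b_comm y f', mul_zero, zero_smul,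
      zero_smul, sub_zero]
    linear_combination (norm := module) -(congrArg (· • u) (show c = -(B f' y - 0) by linear_combination hc'))
  have hx : x = y + B f x • u + B u x • f := by rw [hy]; abel
  rw [hx]
  simp only [ap_add, ap_smul, hgu, hsu, hgy, hsy, hsf]
  rfl

include hB in
/-- Central elements of `Ω` are scalars. -/
theorem center_scalar (hn : 5 ≤ Module.finrank F (ι → F)) {z : Ω} (hz : z ∈ Subgroup.center Ω) :
    ∃ a : F, ∀ x, ap (z : Grp Q) x = a • x := by
  refine exists_scalar_of_fixes hB hn fun v hv => ?_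
  by_cases hv0 : v = 0
  · exact ⟨1, by rw [hv0, ap_zero, smul_zero]⟩
  suffices h : ap (z : Grp Q) v ∈ Submodule.span F {v} by
    obtain ⟨a, ha⟩ := Submodule.mem_span_singleton.1 h
    exact ⟨a, ha.symm⟩
  refine mem_span_of_fixed hB hn hv hv0 fun s hs => mem_pstab.2 ?_
  have h1 : s * z = z * s := Subgroup.mem_center_iff.1 hz s
  rw [← ap_mul, show (s : Grp Q) * z = z * s from congrArg Subtype.val h1, ap_mul]
  obtain ⟨w, hw⟩ := hs
  rw [siegel_fix hw (b_self_zero hv) hw.2.1]
  exact Submodule.mem_span_singleton_self _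

theorem mem_center_of_scalar {z : Ω} {a : F} (h : ∀ x, ap (z : Grp Q) x = a • x) :
    z ∈ Subgroup.center Ω :=
  Subgroup.mem_center_iff.2 fun g => Subtype.ext (ext_ap fun x => by
    show ap ((g : Grp Q) * (z : Grp Q)) x = ap ((z : Grp Q) * (g : Grp Q)) x
    rw [ap_mul, ap_mul, h, h, ap_smul])

include hB in
theorem center_le_pstab (hn : 5 ≤ Module.finrank F (ι → F)) (x : ι → F) :
    Subgroup.center Ω ≤ pstab Q x := fun z hz => by
  obtain ⟨a, ha⟩ := center_scalar hB hn hz
  exact mem_pstab.2 (by rw [ha]; exact Submodule.smul_mem _ _ (Submodule.mem_span_singleton_self x))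

include hB in
theorem sieg_inf_center (hn : 5 ≤ Module.finrank F (ι → F)) (hu : Q u = 0) (hu0 : u ≠ 0) {g : Ω}
    (hg : g ∈ sieg Q hu) (hz : g ∈ Subgroup.center Ω) : g = 1 := by
  obtain ⟨f, -, huf⟩ := exists_partner hB hu hu0
  exact sieg_eq_one_of_fix hB hu (x := f) (by rw [b_comm, huf]; exact one_ne_zero) hg
    (center_le_pstab hB hn f hz)

include hB in
/-- `Ω` is transitive on singular vectors. -/
theorem exists_move (hn : 5 ≤ Module.finrank F (ι → F)) {w : ι → F} (hu : Q u = 0) (hw : Q w = 0)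
    (hu0 : u ≠ 0) (hw0 : w ≠ 0) : ∃ g : Ω, ap (g : Grp Q) u = w := by
  obtain ⟨e, he, hew⟩ := exists_move_singular hB hn hu hw hu0 hw0
  exact ⟨⟨e, by rw [omega_eq_El hB hn]; exact he⟩, hew⟩

end CfsgLib.OrthAut
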