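import Cfsg.Agent.Lib.OrthAut.Semi
import Cfsg.Agent.Lib.Classical.OrthFamily
import Cfsg.Prelude.Def_LieTypeDatum

/-!
Subspaces transported along a field homomorphism and an invertible matrix, and the two classes of maximal
totally singular subspaces.
-/

set_option autoImplicit false
set_option linter.unusedSectionVars false

namespace CfsgLib.OrthAut

open Matrix CfsgLib.Orth

universe u v w

variable {K : Type u} [Field K] {K' : Type v} [Field K'] {ι : Type} [Fintype ι] [DecidableEq ι]

/-- The subspace spanned by the transported vectors. -/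
def ext (ε : K →+* K') (P : GL ι K') (U : Submodule K (ι → K)) : Submodule K' (ι → K') :=
  Submodule.span K' ((fun v : ι → K => (P : Matrix ι ι K') *ᵥ fun i => ε (v i)) '' U)

theorem mem_ext (ε : K →+* K') (P : GL ι K') {U : Submodule K (ι → K)} {v : ι → K} (hv : v ∈ U) :
    (P : Matrix ι ι K') *ᵥ (fun i => ε (v i)) ∈ ext ε P U :=
  Submodule.subset_span ⟨v, hv, rfl⟩

theorem tr_smul (ε : K →+* K') (P : GL ι K') (a : K) (v : ι → K) :
    (P : Matrix ι ι K') *ᵥ (fun i => ε ((a • v) i)) = ε a • ((P : Matrix ι ι K') *ᵥ fun i => ε (v i)) := by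
  rw [← mulVec_smul]
  exact congrArg _ (funext fun i => map_mul ε _ _)

theorem tr_add (ε : K →+* K') (P : GL ι K') (v w : ι → K) :
    (P : Matrix ι ι K') *ᵥ (fun i => ε ((v + w) i)) =
      ((P : Matrix ι ι K') *ᵥ fun i => ε (v i)) + (P : Matrix ι ι K') *ᵥ fun i => ε (w i) := by
  rw [← mulVec_add]
  exact congrArg _ (funext fun i => map_add ε _ _)

theorem ext_mono (ε : K →+* K') (P : GL ι K') {U W : Submodule K (ι → K)} (h : U ≤ W) : ext ε P U ≤ ext ε P W :=
  Submodule.span_mono (Set.image_mono h)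

theorem ext_sup (ε : K →+* K') (P : GL ι K') (U W : Submodule K (ι → K)) :
    ext ε P (U ⊔ W) = ext ε P U ⊔ ext ε P W := by
  refine le_antisymm (Submodule.span_le.2 ?_) (sup_le (ext_mono ε P le_sup_left) (ext_mono ε P le_sup_right))
  rintro _ ⟨v, hv, rfl⟩
  obtain ⟨a, ha, b, hb, rfl⟩ := Submodule.mem_sup.1 hv
  show _ ∈ ext ε P U ⊔ ext ε P W
  simp only [tr_add]
  exact Submodule.add_mem_sup (mem_ext ε P ha) (mem_ext ε P hb)

theorem finrank_ext (ε : K →+* K') (P : GL ι K') (U : Submodule K (ι → K)) :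
    Module.finrank K' (ext ε P U) = Module.finrank K U := by
  let b := Module.finBasis K U
  let B : Matrix ι (Fin (Module.finrank K U)) K := Matrix.of fun i j => (b j : ι → K) i
  have hB : ∀ c, B *ᵥ c = ((∑ j, c j • b j : U) : ι → K) := fun c => by
    ext i
    simp [B, Matrix.mulVec, dotProduct, Submodule.coe_sum, mul_comm]
  have hinj : Function.Injective (B *ᵥ ·) := fun c d h => by
    have h1 : (∑ j, c j • b j : U) = ∑ j, d j • b j := Subtype.ext (by rw [← hB, ← hB]; exact h)
    funext j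
    have := congrArg (fun x : U => b.repr x j) h1
    simpa [Finsupp.single_apply, map_sum] using this
  obtain ⟨g, hg⟩ := LinearMap.exists_leftInverse_of_injective B.mulVecLin (LinearMap.ker_eq_bot.2 hinj)
  let L := LinearMap.toMatrix' g
  have hL : L * B = 1 := by
    have := congrArg LinearMap.toMatrix' hg
    rwa [LinearMap.toMatrix'_comp, LinearMap.toMatrix'_id, ← Matrix.toLin'_apply', LinearMap.toMatrix'_toLin'] at this
  have hspan : ext ε P U = Submodule.span K'
      (Set.range fun j => (P : Matrix ι ι K') *ᵥ fun i => ε ((b j : ι → K) i)) := by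
    refine le_antisymm (Submodule.span_le.2 ?_) (Submodule.span_le.2 ?_)
    · rintro _ ⟨v, hv, rfl⟩
      have hs := b.sum_repr ⟨v, hv⟩
      have hv' : v = B *ᵥ fun j => b.repr ⟨v, hv⟩ j := by rw [hB, hs]
      show _ ∈ Submodule.span K' _
      have e : (fun i => ε (v i)) = ∑ j, ε (b.repr ⟨v, hv⟩ j) • fun i => ε ((b j : ι → K) i) := by
        funext i
        conv_lhs => rw [hv']
        simp [B, Matrix.mulVec, dotProduct, map_sum, mul_comm, Finset.sum_apply]
      simp only [e, mulVec_sum, mulVec_smul]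
      exact Submodule.sum_mem _ fun j _ => Submodule.smul_mem _ _ (Submodule.subset_span ⟨j, rfl⟩)
    · rintro _ ⟨j, rfl⟩
      exact mem_ext ε P (b j).2
  rw [hspan, finrank_span_eq_card]
  · simp
  rw [Fintype.linearIndependent_iff]
  intro c hc
  have h1 : (P : Matrix ι ι K') *ᵥ (B.map ε *ᵥ c) = 0 := by
    rw [← hc, show B.map ε *ᵥ c = ∑ j, c j • fun i => ε ((b j : ι → K) i) from funext fun i => by
      simp [B, Matrix.mulVec, dotProduct, mul_comm, Finset.sum_apply]]
    simp [mulVec_sum, mulVec_smul]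
  have h2 : B.map ε *ᵥ c = 0 := by
    have := congrArg (fun z => ((P⁻¹ : GL ι K') : Matrix ι ι K') *ᵥ z) h1
    simpa [mulVec_mulVec] using this
  have h3 := congrArg (fun z => L.map ε *ᵥ z) h2
  simp only [mulVec_mulVec, mulVec_zero, ← Matrix.map_mul, hL] at h3
  intro j
  simpa using congrFun h3 j

theorem finrank_ext_inf (ε : K →+* K') (P : GL ι K') (U W : Submodule K (ι → K)) :
    Module.finrank K' ↥(ext ε P U ⊓ ext ε P W) = Module.finrank K ↥(U ⊓ W) := by
  have h1 := Submodule.finrank_sup_add_finrank_inf_eq U W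
  have h2 := Submodule.finrank_sup_add_finrank_inf_eq (ext ε P U) (ext ε P W)
  rw [← ext_sup, finrank_ext, finrank_ext, finrank_ext] at h2
  omega

theorem ext_ext {K'' : Type w} [Field K''] (ε : K →+* K') (P : GL ι K') (ε' : K' →+* K'') (P' : GL ι K'')
    (U : Submodule K (ι → K)) :
    ext ε' P' (ext ε P U) = ext (ε'.comp ε) (P' * Units.map ε'.mapMatrix.toMonoidHom P) U := by
  have key : ∀ v : ι → K, (P' : Matrix ι ι K'') *ᵥ (fun i => ε' (((P : Matrix ι ι K') *ᵥ fun i => ε (v i)) i)) =
      ((P' * Units.map ε'.mapMatrix.toMonoidHom P : GL ι K'') : Matrix ι ι K'') *ᵥ fun i => ε'.comp ε (v i) :=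
    fun v => by
      rw [Units.val_mul, ← mulVec_mulVec]
      exact congrArg _ (funext fun i => RingHom.map_mulVec ε' _ _ i)
  refine le_antisymm (Submodule.span_le.2 ?_) (Submodule.span_le.2 ?_)
  · rintro _ ⟨z, hz, rfl⟩
    induction hz using Submodule.span_induction with
    | mem z hz =>
        obtain ⟨v, hv, rfl⟩ := hz
        show _ ∈ ext _ _ U
        simp only [key]
        exact mem_ext _ _ hv
    | zero =>
        show (P' : Matrix ι ι K'') *ᵥ (fun i => ε' ((0 : ι → K') i)) ∈ ext _ _ U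
        simp [show (fun _ : ι => (0 : K'')) = 0 from rfl]
    | add a b _ _ ha hb =>
        show _ ∈ ext _ _ U
        simp only [tr_add]
        exact Submodule.add_mem _ ha hb
    | smul c a _ ha =>
        show _ ∈ ext _ _ U
        simp only [tr_smul]
        exact Submodule.smul_mem _ _ ha
  · rintro _ ⟨v, hv, rfl⟩
    show _ ∈ ext ε' P' _
    simp only [← key]
    exact mem_ext ε' P' (mem_ext ε P hv)

theorem ext_id (U : Submodule K (ι → K)) : ext (RingHom.id K) 1 U = U := by
  show Submodule.span K _ = U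
  conv_rhs => rw [← Submodule.span_eq U]
  congr 1
  ext v
  simp

theorem ext_mat (g : GL ι K) (U : Submodule K (ι → K)) :
    ext (RingHom.id K) g U = Cfsg.imageSubmodule (g : Matrix ι ι K) U := by
  refine le_antisymm (Submodule.span_le.2 ?_) ?_
  · rintro _ ⟨v, hv, rfl⟩
    exact ⟨v, hv, by simp⟩
  · rintro _ ⟨v, hv, rfl⟩
    rw [Matrix.toLin'_apply]
    exact mem_ext (RingHom.id K) g hv

variable {Q : QuadraticForm K (ι → K)} {Q' : QuadraticForm K' (ι → K')}

theorem ext_singular {ε : K →+* K'} {P : GL ι K'} {c : K'}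
    (hP : ∀ v, Q' ((P : Matrix ι ι K') *ᵥ fun i => ε (v i)) = c * ε (Q v)) {U : Submodule K (ι → K)}
    (hU : ∀ x ∈ U, Q x = 0) : ∀ x ∈ ext ε P U, Q' x = 0 := by
  have hgen : ∀ v ∈ U, Q' ((P : Matrix ι ι K') *ᵥ fun i => ε (v i)) = 0 := fun v hv => by
    rw [hP, hU v hv, map_zero, mul_zero]
  have hpol : ∀ v ∈ U, ∀ w ∈ U, QuadraticMap.polar Q' ((P : Matrix ι ι K') *ᵥ fun i => ε (v i))
      ((P : Matrix ι ι K') *ᵥ fun i => ε (w i)) = 0 := fun v hv w hw => by
    rw [QuadraticMap.polar, ← tr_add, hgen _ (U.add_mem hv hw), hgen v hv, hgen w hw]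
    ring
  have hpol' : ∀ x ∈ ext ε P U, ∀ w ∈ U, QuadraticMap.polar Q' x ((P : Matrix ι ι K') *ᵥ fun i => ε (w i)) = 0 := by
    intro x hx w hw
    induction hx using Submodule.span_induction with
    | mem z hz => obtain ⟨v, hv, rfl⟩ := hz; exact hpol v hv w hw
    | zero => exact b_zero_left _
    | add a b _ _ ha hb => rw [b_add_left, ha, hb, add_zero]
    | smul r a _ ha => rw [b_smul_left, ha, mul_zero]
  have hall : ∀ a ∈ ext ε P U, ∀ y ∈ ext ε P U, QuadraticMap.polar Q' a y = 0 := by
    intro a ha y hy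
    induction hy using Submodule.span_induction with
    | mem z hz => obtain ⟨v, hv, rfl⟩ := hz; exact hpol' a ha v hv
    | zero => exact b_zero_right _
    | add c d _ _ hc hd => rw [b_add_right, hc, hd, add_zero]
    | smul r c _ hc => rw [b_smul_right, hc, mul_zero]
  intro x hx
  induction hx using Submodule.span_induction with
  | mem z hz => obtain ⟨v, hv, rfl⟩ := hz; exact hgen v hv
  | zero => exact QuadraticMap.map_zero Q'
  | add a b ha hb h1 h2 => rw [q_add, h1, h2, hall a ha b hb, zero_add, zero_add]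
  | smul r a _ h1 => rw [q_smul, h1, mul_zero]

end CfsgLib.OrthAut
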