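import Cfsg.Agent.Lib.OrthAut.ClassExt
import Cfsg.Agent.Lib.Classical.InvolutionDickson

/-!
The parity character measuring the action on the two classes of maximal totally singular subspaces.
-/

set_option autoImplicit false
set_option linter.unusedSectionVars false

namespace CfsgLib.OrthAut

open Matrix CfsgLib.Orth

universe u v

variable {F : Type u} [Field F] [Finite F] {ι : Type} [Fintype ι] [DecidableEq ι]
variable {Q : QuadraticForm F (ι → F)}

/-- The sign of the parity of two halves. -/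
noncomputable def hpar (U W : Submodule F (ι → F)) : ℤˣ :=
  (-1) ^ (Module.finrank F U + Module.finrank F ↥(U ⊓ W))

theorem half_finrank {U W : Submodule F (ι → F)} (hU : IsHalf Q U) (hW : IsHalf Q W) :
    Module.finrank F U = Module.finrank F W := by
  have := hU.2
  have := hW.2
  omega

theorem hpar_trans (hB : Nondeg Q) {U W X : Submodule F (ι → F)} (hU : IsHalf Q U) (hW : IsHalf Q W)
    (hX : IsHalf Q X) : hpar U W * hpar W X = hpar U X := by
  rw [hpar, hpar, hpar, ← pow_add]
  refine neg_one_pow_congr ?_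
  have h := even_half_triangle hB hU hW hX
  have := half_finrank hU hW
  simp only [Nat.even_iff] at h ⊢
  omega

theorem hpar_self (U : Submodule F (ι → F)) : hpar U U = 1 := by
  rw [hpar, inf_idem]
  exact Even.neg_one_pow ⟨_, rfl⟩

theorem hpar_comm {U W : Submodule F (ι → F)} (hU : IsHalf Q U) (hW : IsHalf Q W) : hpar U W = hpar W U := by
  rw [hpar, hpar, half_finrank hU hW, inf_comm]

theorem hpar_ext {F' : Type v} [Field F'] (ε : F →+* F') (P : GL ι F') (U W : Submodule F (ι → F)) :
    hpar (ext ε P U) (ext ε P W) = hpar U W := by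
  rw [hpar, hpar, finrank_ext, finrank_ext_inf]

theorem hpar_eq_one_iff (U W : Submodule F (ι → F)) : hpar U W = 1 ↔ Cfsg.SameParityClass U W := by
  rw [hpar, neg_one_pow_eq_one_iff_even (by decide : (-1 : ℤˣ) ≠ 1), Cfsg.SameParityClass,
    Nat.even_sub (Submodule.finrank_mono inf_le_left), Nat.even_add]

theorem half_ext {F' : Type v} [Field F'] {Q' : QuadraticForm F' (ι → F')} {ε : F →+* F'} {P : GL ι F'} {c : F'}
    (hP : ∀ v, Q' ((P : Matrix ι ι F') *ᵥ fun i => ε (v i)) = c * ε (Q v)) {U : Submodule F (ι → F)}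
    (hU : IsHalf Q U) : IsHalf Q' (ext ε P U) := by
  refine ⟨ext_singular hP hU.1, ?_⟩
  rw [finrank_ext, Module.finrank_fintype_fun_eq_card]
  have h := hU.2
  rwa [Module.finrank_fintype_fun_eq_card] at h

/-- The image under a semilinear map. -/
def extS (x : Semilin F ι) (U : Submodule F (ι → F)) : Submodule F (ι → F) := ext x.right.toRingHom x.left U

theorem extS_mul (x y : Semilin F ι) (U : Submodule F (ι → F)) : extS (x * y) U = extS x (extS y U) := by
  rw [extS, extS, extS, ext_ext]
  rfl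

theorem extS_one (U : Submodule F (ι → F)) : extS (1 : Semilin F ι) U = U := ext_id U

theorem half_extS (x : semi Q) {U : Submodule F (ι → F)} (hU : IsHalf Q U) :
    IsHalf Q (extS (x : Semilin F ι) U) := by
  obtain ⟨c, hc⟩ := mem_semi.1 x.2
  exact half_ext (c := (c : F)) hc hU

/-- The action on the two classes. -/
noncomputable def chi (hB : Nondeg Q) {U₀ : Submodule F (ι → F)} (hU₀ : IsHalf Q U₀) : semi Q →* ℤˣ :=
  MonoidHom.mk' (fun x => hpar U₀ (extS (x : Semilin F ι) U₀)) fun x y => by
    show hpar U₀ (extS ((x : Semilin F ι) * (y : Semilin F ι)) U₀) = _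
    rw [extS_mul, ← hpar_trans hB hU₀ (half_extS x hU₀) (half_extS x (half_extS y hU₀))]
    congr 1
    exact hpar_ext _ _ _ _

theorem chi_eq (hB : Nondeg Q) {U₀ U : Submodule F (ι → F)} (hU₀ : IsHalf Q U₀) (hU : IsHalf Q U) (x : semi Q) :
    hpar U (extS (x : Semilin F ι) U) = chi hB hU₀ x := by
  show _ = hpar U₀ (extS (x : Semilin F ι) U₀)
  rw [← hpar_trans hB hU hU₀ (half_extS x hU), ← hpar_trans hB hU₀ (half_extS x hU₀) (half_extS x hU),
    show hpar (extS (x : Semilin F ι) U₀) (extS (x : Semilin F ι) U) = hpar U₀ U from hpar_ext _ _ _ _,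
    hpar_comm hU hU₀, mul_left_comm, Int.units_mul_self, mul_one]

theorem isMax_iff (hB : Nondeg Q) {U₀ : Submodule F (ι → F)} (hU₀ : IsHalf Q U₀) (U : Submodule F (ι → F)) :
    Cfsg.IsMaxTotallySingular (⇑Q) U ↔ IsHalf Q U := by
  constructor
  · rintro ⟨h1, h2⟩
    obtain ⟨W, hW, hle⟩ := exists_half_ge hB hU₀ (W := U) h1
    exact h2 W hW.1 hle ▸ hW
  · intro hU
    refine ⟨hU.1, fun W hW hle => (Submodule.eq_of_le_of_finrank_eq hle ?_).symm⟩
    have := Submodule.finrank_mono hle
    have := two_mul_finrank_le hB (le_orth_of_singular hW)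
    have := hU.2
    omega

theorem preserves_iff (hB : Nondeg Q) {U₀ : Submodule F (ι → F)} (hU₀ : IsHalf Q U₀) (x : semi Q)
    (hx : (x : Semilin F ι).right = 1) :
    Cfsg.PreservesSingularClasses (⇑Q) ((x : Semilin F ι).left : Matrix ι ι F) ↔ chi hB hU₀ x = 1 := by
  have e : ∀ U, Cfsg.imageSubmodule ((x : Semilin F ι).left : Matrix ι ι F) U = extS (x : Semilin F ι) U := fun U => by
    rw [← ext_mat, extS, hx]
    rfl
  unfold Cfsg.PreservesSingularClasses
  simp only [e, ← hpar_eq_one_iff, isMax_iff hB hU₀]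
  exact ⟨fun h => h U₀ hU₀, fun h U hU => (chi_eq hB hU₀ hU x).trans h⟩

end CfsgLib.OrthAut
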