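import Mathlib
import Cfsg.Prelude.Def_LieTypeDatum

/-!
Transport of the two classes of maximal totally singular subspaces along semilinear bijections.
-/

set_option autoImplicit false
set_option linter.unusedSectionVars false

namespace CfsgLib.OrthAut

open Matrix

universe u v

variable {K : Type u} [Field K] [Finite K] {K' : Type v} [Field K'] [Finite K']
variable {ι ι' : Type} [Fintype ι] [DecidableEq ι] [Fintype ι'] [DecidableEq ι']

/-- The image of a subspace under a semilinear bijection. -/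
def semMap (ε : K ≃+* K') (Φ : (ι → K) ≃+ (ι' → K')) (hΦ : ∀ (a : K) v, Φ (a • v) = ε a • Φ v)
    (U : Submodule K (ι → K)) : Submodule K' (ι' → K') where
  carrier := {w | Φ.symm w ∈ U}
  add_mem' {a b} ha hb := by
    show Φ.symm (a + b) ∈ U
    rw [map_add]
    exact U.add_mem ha hb
  zero_mem' := by
    show Φ.symm 0 ∈ U
    rw [map_zero]
    exact U.zero_mem
  smul_mem' c w hw := by
    show Φ.symm (c • w) ∈ U
    have e : Φ.symm (c • w) = ε.symm c • Φ.symm w :=
      Φ.injective (by rw [Φ.apply_symm_apply, hΦ, ε.apply_symm_apply, Φ.apply_symm_apply])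
    rw [e]
    exact U.smul_mem _ hw

variable {ε : K ≃+* K'} {Φ : (ι → K) ≃+ (ι' → K')} {hΦ : ∀ (a : K) v, Φ (a • v) = ε a • Φ v}

theorem mem_semMap {U : Submodule K (ι → K)} {w : ι' → K'} : w ∈ semMap ε Φ hΦ U ↔ Φ.symm w ∈ U := Iff.rfl

theorem semMap_inf (U W : Submodule K (ι → K)) :
    semMap ε Φ hΦ (U ⊓ W) = semMap ε Φ hΦ U ⊓ semMap ε Φ hΦ W := rfl

theorem finrank_semMap (U : Submodule K (ι → K)) :
    Module.finrank K' (semMap ε Φ hΦ U) = Module.finrank K U := by
  have e : semMap ε Φ hΦ U ≃ U :=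
    { toFun := fun w => ⟨Φ.symm w, w.2⟩
      invFun := fun v => ⟨Φ v, by rw [mem_semMap, Φ.symm_apply_apply]; exact v.2⟩
      left_inv := fun w => Subtype.ext (Φ.apply_symm_apply _)
      right_inv := fun v => Subtype.ext (Φ.symm_apply_apply _) }
  have h := Nat.card_congr e
  rw [Module.natCard_eq_pow_finrank (K := K') (V := semMap ε Φ hΦ U), Module.natCard_eq_pow_finrank (K := K) (V := U),
    Nat.card_congr ε.symm.toEquiv] at h
  exact Nat.pow_right_injective Finite.one_lt_card h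

theorem preserves_of_transport {Q : (ι → K) → K} {Q' : (ι' → K') → K'} {c : K'} (hc : c ≠ 0)
    (hΦ : ∀ (a : K) v, Φ (a • v) = ε a • Φ v) (hQ : ∀ v, Q' (Φ v) = c * ε (Q v))
    {g : Matrix ι ι K} {g' : Matrix ι' ι' K'} (hg : ∀ v, Φ (g *ᵥ v) = g' *ᵥ Φ v)
    (h : Cfsg.PreservesSingularClasses Q g) : Cfsg.PreservesSingularClasses Q' g' := by
  have hΦ' : ∀ (a : K') w, Φ.symm (a • w) = ε.symm a • Φ.symm w := fun a w =>
    Φ.injective (by rw [Φ.apply_symm_apply, hΦ, ε.apply_symm_apply, Φ.apply_symm_apply])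
  intro U' hU'
  set U := semMap ε.symm Φ.symm hΦ' U'
  have hmem : ∀ v, v ∈ U ↔ Φ v ∈ U' := fun v => Iff.rfl
  have hts : ∀ W : Submodule K (ι → K), (∀ w ∈ W, Q w = 0) ↔ ∀ w ∈ semMap ε Φ hΦ W, Q' w = 0 := fun W => by
    constructor
    · intro hW w hw
      rw [← Φ.apply_symm_apply w, hQ, hW _ hw, map_zero, mul_zero]
    · intro hW w hw
      have := hW (Φ w) (by rw [mem_semMap, Φ.symm_apply_apply]; exact hw)
      rw [hQ] at this
      simpa [hc] using this
  have hback : ∀ W' : Submodule K' (ι' → K'), semMap ε Φ hΦ (semMap ε.symm Φ.symm hΦ' W') = W' := fun W' => by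
    ext w
    rw [mem_semMap, mem_semMap, AddEquiv.symm_symm, Φ.apply_symm_apply]
  have hmax : Cfsg.IsMaxTotallySingular Q U := by
    refine ⟨(hts U).2 (by rw [hback]; exact hU'.1), fun W hW hle => ?_⟩
    have h1 := hU'.2 (semMap ε Φ hΦ W) ((hts W).1 hW) fun w hw => by
      refine hle ((hmem _).2 ?_)
      rwa [Φ.apply_symm_apply]
    ext v
    rw [hmem, ← h1, mem_semMap, Φ.symm_apply_apply]
  have himg : semMap ε Φ hΦ (Cfsg.imageSubmodule g U) = Cfsg.imageSubmodule g' U' := by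
    ext w
    constructor
    · rintro ⟨v, hv, he⟩
      refine ⟨Φ v, (hmem v).1 hv, ?_⟩
      rw [Matrix.toLin'_apply] at he ⊢
      rw [← hg, he, Φ.apply_symm_apply]
    · rintro ⟨w', hw', he⟩
      refine ⟨Φ.symm w', (hmem _).2 (by rwa [Φ.apply_symm_apply]), ?_⟩
      rw [Matrix.toLin'_apply] at he ⊢
      exact Φ.injective (by rw [hg, Φ.apply_symm_apply, Φ.apply_symm_apply, he])
  have hp := h U hmax
  unfold Cfsg.SameParityClass at hp ⊢
  rw [← finrank_semMap (ε := ε) (Φ := Φ) (hΦ := hΦ) U, ← finrank_semMap (ε := ε) (Φ := Φ) (hΦ := hΦ),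
    semMap_inf, himg, hback] at hp
  exact hp

/-- The two classes correspond. -/
theorem preserves_iff_transport {Q : (ι → K) → K} {Q' : (ι' → K') → K'} {c : K'} (hc : c ≠ 0)
    (hΦ : ∀ (a : K) v, Φ (a • v) = ε a • Φ v) (hQ : ∀ v, Q' (Φ v) = c * ε (Q v))
    {g : Matrix ι ι K} {g' : Matrix ι' ι' K'} (hg : ∀ v, Φ (g *ᵥ v) = g' *ᵥ Φ v) :
    Cfsg.PreservesSingularClasses Q g ↔ Cfsg.PreservesSingularClasses Q' g' := by
  refine ⟨preserves_of_transport hc hΦ hQ hg, preserves_of_transport (ε := ε.symm) (Φ := Φ.symm)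
    (c := (ε.symm c)⁻¹) (inv_ne_zero (by simpa using hc)) (fun a w => ?_) (fun w => ?_) fun w => ?_⟩
  · exact Φ.injective (by rw [Φ.apply_symm_apply, hΦ, ε.apply_symm_apply, Φ.apply_symm_apply])
  · have := congrArg ε.symm (hQ (Φ.symm w))
    rw [Φ.apply_symm_apply, map_mul, ε.symm_apply_apply] at this
    rw [this, inv_mul_cancel_left₀ (by simpa using hc)]
  · exact Φ.injective (by rw [Φ.apply_symm_apply, hg, Φ.apply_symm_apply])

end CfsgLib.OrthAut
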