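import Cfsg.Agent.Lib.OrthAut.Semi
import Cfsg.Agent.Lib.ClassicalAut.TwistDescent
import Cfsg.Agent.Lib.Classical.OrthPOrder

/-!
Galois descent for quadratic forms and their similitudes.
-/

set_option autoImplicit false
set_option linter.unusedSectionVars false

namespace CfsgLib.OrthAut

open Matrix CfsgLib.Orth CfsgLib.AutPSL
open CfsgLib.ClassicalAut (scal scal_coe gnorm gnorm_scal_mul exists_coboundary_gl)

variable {F : Type*} [Field F] [Finite F] {ι : Type} [Fintype ι] [DecidableEq ι]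
variable {Q : QuadraticForm F (ι → F)}

/-- The rational vectors. -/
def emb (K : Subfield F) (x : ι → K) : ι → F := fun i => (x i : F)

theorem emb_add (K : Subfield F) (x y : ι → K) : emb K (x + y) = emb K x + emb K y := rfl

theorem emb_smul (K : Subfield F) (c : K) (x : ι → K) : emb K (c • x) = (c : F) • emb K x := rfl

theorem emb_single (K : Subfield F) (i : ι) : emb K (Pi.single i 1) = Pi.single i 1 :=
  funext fun j => by by_cases h : j = i <;> simp [emb, h]

theorem emb_mulVec (K : Subfield F) (M : Matrix ι ι K) (x : ι → K) :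
    emb K (M *ᵥ x) = M.map (fun z : K => (z : F)) *ᵥ emb K x :=
  funext fun i => RingHom.map_mulVec K.subtype M x i

theorem map_emb (σ : F ≃+* F) (x : ι → fixedField σ) :
    (fun i => σ (emb (fixedField σ) x i)) = emb (fixedField σ) x := funext fun i => (x i).2

/-- Quadratic forms agreeing on rational vectors agree. -/
theorem ext_emb (K : Subfield F) {Q₁ Q₂ : QuadraticForm F (ι → F)}
    (h : ∀ x : ι → K, Q₁ (emb K x) = Q₂ (emb K x)) : Q₁ = Q₂ := by
  let : LinearOrder ι := LinearOrder.lift' (Fintype.equivFin ι) (Fintype.equivFin ι).injective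
  have h1 : ∀ i, Q₁ (Pi.single i 1) = Q₂ (Pi.single i 1) := fun i => by
    simpa [emb_single] using h (Pi.single i 1)
  have e : Q₁.toBilin (Pi.basisFun F ι) = Q₂.toBilin (Pi.basisFun F ι) :=
    LinearMap.ext_basis (Pi.basisFun F ι) (Pi.basisFun F ι) fun i j => by
      rw [QuadraticMap.toBilin_apply, QuadraticMap.toBilin_apply]
      simp only [Pi.basisFun_apply]
      split_ifs
      · exact h1 i
      · have h2 := h (Pi.single i 1 + Pi.single j 1)
        rw [emb_add, emb_single, emb_single] at h2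
        simp only [QuadraticMap.polar, h1, h2]
      · rfl
  rw [← QuadraticMap.toQuadraticMap_toBilin Q₁ (Pi.basisFun F ι),
    ← QuadraticMap.toQuadraticMap_toBilin Q₂ (Pi.basisFun F ι), e]

/-- `Q ∘ h` as a quadratic form. -/
def pull (Q : QuadraticForm F (ι → F)) (h : Matrix ι ι F) : QuadraticForm F (ι → F) := Q.comp h.mulVecLin

theorem pull_apply (h : Matrix ι ι F) (x : ι → F) : pull Q h x = Q (h *ᵥ x) := rfl

theorem nondeg_pull (hB : Nondeg Q) (h : GL ι F) : Nondeg (pull Q (h : Matrix ι ι F)) := by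
  intro x hx
  have h0 : (h : Matrix ι ι F) *ᵥ x = 0 := hB _ fun w => by
    have := hx (((h⁻¹ : GL ι F) : Matrix ι ι F) *ᵥ w)
    simp only [QuadraticMap.polarBilin_apply_apply, QuadraticMap.polar, pull_apply, mulVec_add, mulVec_mulVec,
      Units.mul_inv, one_mulVec] at this
    exact this
  simpa [mulVec_mulVec] using congrArg (fun w => ((h⁻¹ : GL ι F) : Matrix ι ι F) *ᵥ w) h0

/-- A form whose values at rational vectors are, up to a scalar, rational. -/
theorem exists_rational_form {σ : F ≃+* F} {R : QuadraticForm F (ι → F)} (hR : Nondeg R)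
    (hn : 1 ≤ Fintype.card ι) {μ : F} (hμ : ∀ x, σ (R x) = μ * R (fun i => σ (x i))) :
    ∃ (ν : F) (R₁ : QuadraticForm (fixedField σ) (ι → fixedField σ)), ν ≠ 0 ∧
      (QuadraticMap.polarBilin R₁).Nondegenerate ∧
        ∀ x, R (emb _ x) = ν * ((R₁ x : fixedField σ) : F) := by
  obtain ⟨x₀, hx₀⟩ : ∃ x : ι → fixedField σ, R (emb _ x) ≠ 0 := by
    by_contra hc
    push Not at hc
    have e : R = 0 := ext_emb (fixedField σ) fun x => by rw [hc, QuadraticMap.zero_apply]
    obtain ⟨v, hv⟩ := exists_aniso hR (by rw [Module.finrank_fintype_fun_eq_card]; exact hn)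
    exact hv (by rw [e]; rfl)
  set ν := R (emb _ x₀)
  have hμν : σ ν = μ * ν := by rw [hμ, map_emb]
  have hval : ∀ x : ι → fixedField σ, R (emb _ x) / ν ∈ fixedField σ := fun x => by
    rw [mem_fixedField, map_div₀, hμν, hμ, map_emb]
    refine mul_div_mul_left _ _ fun h0 => ?_
    rw [h0, zero_mul, map_eq_zero] at hμν
    exact hx₀ hμν
  let R₁ : QuadraticForm (fixedField σ) (ι → fixedField σ) := QuadraticMap.ofPolar (fun x => ⟨_, hval x⟩)
    (fun c x => Subtype.ext (by
      show R (emb _ (c • x)) / ν = (c : F) * c * (R (emb _ x) / ν)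
      rw [emb_smul, q_smul, mul_div_assoc]))
    (fun x x' y => Subtype.ext (by
      show R (emb _ (x + x' + y)) / ν - R (emb _ (x + x')) / ν - R (emb _ y) / ν =
        (R (emb _ (x + y)) / ν - R (emb _ x) / ν - R (emb _ y) / ν) +
          (R (emb _ (x' + y)) / ν - R (emb _ x') / ν - R (emb _ y) / ν)
      have h := b_add_left (Q := R) (emb _ x) (emb _ x') (emb _ y)
      simp only [QuadraticMap.polar] at h
      simp only [emb_add, ← sub_div, ← add_div]
      rw [h]))
    (fun c x y => Subtype.ext (by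
      show R (emb _ (c • x + y)) / ν - R (emb _ (c • x)) / ν - R (emb _ y) / ν =
        (c : F) * (R (emb _ (x + y)) / ν - R (emb _ x) / ν - R (emb _ y) / ν)
      have h := b_smul_left (Q := R) (c : F) (emb _ x) (emb _ y)
      simp only [QuadraticMap.polar] at h
      simp only [emb_add, emb_smul, ← sub_div, ← mul_div_assoc]
      rw [h]))
  have hR₁ : ∀ x, R (emb _ x) = ν * ((R₁ x : fixedField σ) : F) := fun x => (mul_div_cancel₀ _ hx₀).symm
  refine ⟨ν, R₁, hx₀, ?_, hR₁⟩
  have hl : LinearMap.SeparatingLeft (QuadraticMap.polarBilin R₁) := fun x hx => by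
    have h0 : emb (fixedField σ) x = 0 := by
      refine hR _ fun w => ?_
      show QuadraticMap.polar R (emb _ x) w = 0
      have hj : ∀ j, QuadraticMap.polar R (emb _ x) (Pi.single j 1) = 0 := fun j => by
        have := congrArg (fun z : fixedField σ => ν * (z : F)) (hx (Pi.single j 1))
        simp only [QuadraticMap.polarBilin_apply_apply, QuadraticMap.polar, AddSubgroupClass.coe_sub,
          mul_sub, ← hR₁, emb_add, emb_single, ZeroMemClass.coe_zero, mul_zero] at this
        exact this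
      show QuadraticMap.polarBilin R (emb _ x) w = 0
      rw [pi_eq_sum_univ' w, map_sum]
      exact Finset.sum_eq_zero fun j _ => by rw [map_smul]; simp [hj]
    exact funext fun i => Subtype.ext (congrFun h0 i)
  exact ⟨hl, fun y hy => hl y fun x => by
    rw [QuadraticMap.polarBilin_apply_apply, QuadraticMap.polar_comm]; exact hy x⟩

/-- A similitude of trivial twisted norm modulo scalars gives a rational form. -/
theorem exists_descent (hB : Nondeg Q) (hn : 1 ≤ Fintype.card ι) {σ : F ≃+* F} {r : ℕ} (hr : 0 < r)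
    (hσ : orderOf σ = r) (hQ : ∀ v, Q (fun i => σ (v i)) = σ (Q v)) {d : GL ι F}
    (hd : d ∈ Cfsg.Geo.quadSimilarityGroup ⇑Q) {c : Fˣ} (hc : gnorm σ d r = scal c) :
    ∃ (e : Fˣ) (h : GL ι F) (ν : F) (R₁ : QuadraticForm (fixedField σ) (ι → fixedField σ)),
      scal e * d = h * (entryAct F ι σ h)⁻¹ ∧ ν ≠ 0 ∧ (QuadraticMap.polarBilin R₁).Nondegenerate ∧
        ∀ x, Q ((h : Matrix ι ι F) *ᵥ emb _ x) = ν * ((R₁ x : fixedField σ) : F) := by
  have : Nonempty ι := Fintype.card_pos_iff.1 hn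
  have hfix : σ (c : F) = c := by
    have h1 : gnorm σ d (r + 1) = gnorm σ d r * d := by
      rw [CfsgLib.ClassicalAut.gnorm_succ', ← hσ, pow_orderOf_eq_one]
      exact congrArg _ (Units.ext (Matrix.ext fun i j => rfl))
    rw [gnorm, hc, CfsgLib.ClassicalAut.mapUnit_scal, CfsgLib.ClassicalAut.scal_comm] at h1
    exact congrArg Units.val (CfsgLib.ClassicalAut.scal_injective (mul_right_cancel h1))
  obtain ⟨e, he⟩ := exists_unorm_eq hr hσ c hfix
  obtain ⟨h, hh⟩ := exists_coboundary_gl hr hσ (scal e⁻¹ * d) (by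
    rw [gnorm_scal_mul, hc, map_inv, he, ← map_mul, inv_mul_cancel, map_one])
  obtain ⟨c₁, hc₁⟩ := hd
  set cd : F := ((e⁻¹ : Fˣ) : F) * ((e⁻¹ : Fˣ) : F) * c₁ with hcd
  have hq : ∀ v, Q ((((scal e⁻¹ * d : GL ι F)) : Matrix ι ι F) *ᵥ v) = cd * Q v := fun v => by
    rw [CfsgLib.ClassicalAut.scal_mul_coe, smul_mulVec, q_smul, hc₁, hcd]; ring
  have hcd0 : cd ≠ 0 := mul_ne_zero (mul_ne_zero (Units.ne_zero _) (Units.ne_zero _)) (Units.ne_zero _)
  obtain ⟨ν, R₁, hν, hnd, hR⟩ := exists_rational_form (σ := σ) (R := pull Q (h : Matrix ι ι F))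
    (nondeg_pull hB h) hn (μ := cd⁻¹) fun x => by
      rw [pull_apply, pull_apply, ← hQ,
        show (fun i => σ (((h : Matrix ι ι F) *ᵥ x) i)) = (h : Matrix ι ι F).map σ *ᵥ fun i => σ (x i) from
          funext fun i => RingHom.map_mulVec σ.toRingHom _ x i,
        eq_inv_mul_iff_mul_eq₀ hcd0, ← hq, mulVec_mulVec, hh]
      rw [Units.val_mul, Matrix.mul_assoc,
        show (h : Matrix ι ι F).map σ = ((CfsgLib.ClassicalAut.Carrier.mapUnit σ h : GL ι F) : Matrix ι ι F) from rfl,
        Units.inv_mul, Matrix.mul_one]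
  exact ⟨e⁻¹, h, ν, R₁, hh, hν, hnd, hR⟩

/-- If the rational form is similar to that of `Q ∘ P`, the element is a twisted coboundary. -/
theorem exists_similitude {σ : F ≃+* F} {P h : GL ι F} {ν : F} (hν : ν ≠ 0)
    {R₁ R₀ : QuadraticForm (fixedField σ) (ι → fixedField σ)}
    (hh : ∀ x, Q ((h : Matrix ι ι F) *ᵥ emb _ x) = ν * ((R₁ x : fixedField σ) : F))
    (hP : ∀ x, Q ((P : Matrix ι ι F) *ᵥ emb _ x) = ((R₀ x : fixedField σ) : F))
    (g : (ι → fixedField σ) ≃ₗ[fixedField σ] (ι → fixedField σ)) {l : fixedField σ} (hl : l ≠ 0)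
    (hg : ∀ x, R₁ (g x) = l * R₀ x) :
    ∃ k : GL ι F, k ∈ Cfsg.Geo.quadSimilarityGroup ⇑Q ∧
      h * (entryAct F ι σ h)⁻¹ = k * (P * (entryAct F ι σ P)⁻¹) * (entryAct F ι σ k)⁻¹ := by
  let G : GL ι (fixedField σ) := Matrix.GeneralLinearGroup.toLin.symm (LinearMap.GeneralLinearGroup.ofLinearEquiv g)
  let G' : GL ι F := Units.map (fixedField σ).subtype.mapMatrix.toMonoidHom G
  have hG : ∀ x, (G' : Matrix ι ι F) *ᵥ emb _ x = emb _ (g x) := fun x => by
    have e : g x = (G : Matrix ι ι (fixedField σ)) *ᵥ x := (LinearMap.toMatrix'_mulVec g.toLinearMap x).symm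
    rw [e, emb_mulVec]
    rfl
  have hfix : entryAct F ι σ G' = G' := Units.ext (Matrix.ext fun i j => ((G : Matrix ι ι (fixedField σ)) i j).2)
  have key : pull Q ((h * G' : GL ι F) : Matrix ι ι F) = (ν * (l : F)) • pull Q (P : Matrix ι ι F) :=
    ext_emb (fixedField σ) fun x => by
      rw [pull_apply, _root_.QuadraticMap.smul_apply, pull_apply, Units.val_mul, ← mulVec_mulVec, hG, hh, hg, hP,
        smul_eq_mul, Subfield.coe_mul, mul_assoc]
  refine ⟨h * G' * P⁻¹, ⟨Units.mk0 (ν * l) (mul_ne_zero hν (by simpa using hl)), fun v => ?_⟩, ?_⟩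
  · have := DFunLike.congr_fun key (((P⁻¹ : GL ι F) : Matrix ι ι F) *ᵥ v)
    rw [pull_apply, _root_.QuadraticMap.smul_apply, pull_apply, mulVec_mulVec, mulVec_mulVec, Units.mul_inv,
      one_mulVec, smul_eq_mul, ← Units.val_mul] at this
    exact this
  · rw [map_mul, map_mul, map_inv, hfix]
    group

/-- An element fixed modulo scalars is a scalar times a fixed element. -/
theorem exists_fixed [Nonempty ι] {σ : F ≃+* F} {r : ℕ} (hr : 0 < r) (hσ : orderOf σ = r) {g : GL ι F} {lam : Fˣ}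
    (hg : entryAct F ι σ g = scal lam * g) :
    ∃ (c : Fˣ) (g₁ : GL ι F), g = scal c * g₁ ∧ entryAct F ι σ g₁ = g₁ := by
  have hpow : ∀ k, entryAct F ι (σ ^ k) g = scal (unorm σ k lam) * g := by
    intro k
    induction k with
    | zero => rw [pow_zero, map_one, MulAut.one_apply]; simp [unorm]
    | succ k ih =>
      rw [pow_succ', map_mul, MulAut.mul_apply, ih, map_mul, hg,
        show entryAct F ι σ (scal (unorm σ k lam)) = CfsgLib.ClassicalAut.Carrier.mapUnit σ (scal (unorm σ k lam))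
          from rfl, CfsgLib.ClassicalAut.mapUnit_scal, ← mul_assoc, ← map_mul, mul_comm (Units.map _ _) lam]
      rfl
  have hN := hpow r
  rw [← hσ, pow_orderOf_eq_one, map_one, MulAut.one_apply, hσ] at hN
  have hN1 : unorm σ r lam = 1 := by
    apply CfsgLib.ClassicalAut.scal_injective (ι := ι)
    rw [map_one]
    exact mul_eq_right.1 hN.symm
  obtain ⟨d, hd⟩ := exists_eq_div_map_of_unorm hr hσ lam hN1
  refine ⟨d⁻¹, scal d * g, by rw [← mul_assoc, ← map_mul, inv_mul_cancel, map_one, one_mul], ?_⟩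
  rw [map_mul, hg, show entryAct F ι σ (scal d) = CfsgLib.ClassicalAut.Carrier.mapUnit σ (scal d) from rfl,
    CfsgLib.ClassicalAut.mapUnit_scal, ← mul_assoc, ← map_mul, hd, mul_left_comm, mul_inv_cancel, mul_one]

end CfsgLib.OrthAut
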