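import Cfsg.Agent.Lib.OrthAut.Split
import Cfsg.Agent.Lib.Classical.OrthModels

/-!
Field automorphisms of `Ω` in odd dimension.
-/

set_option autoImplicit false
set_option linter.unusedSectionVars false

namespace CfsgLib.OrthAut

open Matrix CfsgLib.Orth CfsgLib.AutPSL
open CfsgLib.ClassicalAut (scal scal_coe)

universe u v

variable {F : Type u} [Field F] [Fintype F] {m : ℕ}

/-- The index set in odd dimension. -/
abbrev OIdx (m : ℕ) : Type := Unit ⊕ (Fin m ⊕ Fin m)

variable {Q : QuadraticForm F (OIdx m → F)}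

theorem odd_emb {F₀ : Type v} [Field F₀] (e : F₀ →+* F) (v : OIdx m → F₀) :
    Cfsg.quadFormOdd m F (fun i => e (v i)) = e (Cfsg.quadFormOdd m F₀ v) := by
  simp [Cfsg.quadFormOdd, map_add, map_sum, map_mul, map_pow]

theorem two_ne_of_odd (hodd : Odd (Fintype.card F)) : (2 : F) ≠ 0 := Ring.two_ne_zero fun e =>
  Nat.not_even_iff_odd.2 hodd (Nat.even_iff.2 (FiniteField.even_card_of_char_two e))

/-- Everything is twisted by entrywise field automorphisms. -/
def oddData (hQ : ⇑Q = Cfsg.quadFormOdd m F) : TData Q :=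
  simData Q 1 ⊤ fun σ _ v => by
    simp only [Units.val_one, one_mulVec]
    rw [hQ]
    exact odd_map σ v

theorem oddData_R (hQ : ⇑Q = Cfsg.quadFormOdd m F) (σ : F ≃+* F) : (oddData hQ).R σ = 1 := by
  show (1 : GL (OIdx m) F) * (entryAct F (OIdx m) σ 1)⁻¹ = 1
  simp

variable {x : MulAut (Cfsg.POmega F ⇑Q)}

/-- A field automorphism is a linear conjugate of an entrywise one. -/
theorem exists_rep_odd (hQ : ⇑Q = Cfsg.quadFormOdd m F) (h : Good Q) (hx : Cfsg.IsFieldAutClassPOmega (⇑Q) x) :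
    ∃ (a : (oddData hQ).H) (σ : (oddData hQ).S), σ ≠ 1 ∧
      x = ((oddData hQ).twist h).δ a * ((oddData hQ).twist h).φ σ * (((oddData hQ).twist h).δ a)⁻¹ ∧
        orderOf x = orderOf σ := by
  obtain ⟨α, φ, σ, hσ, hφ, he⟩ := hx
  set D := (oddData hQ).twist h
  let σ' : (oddData hQ).S := ⟨σ, Subgroup.mem_top σ⟩
  have hphi : φ = D.φ σ' := (isField_iff (Q := Q) (x := (oddData hQ).fld σ') (oddData_R hQ σ) rfl φ).1 hφ
  obtain ⟨a, τ, hτ⟩ := (oddData hQ).full h rfl rfl α⁻¹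
  have hc : Commute τ σ' := Subtype.ext (ringAut_commute (τ : F ≃+* F) σ).eq
  have hx' := D.exists_rep (ω := 1) hc (by rw [mul_one]; exact hτ) (Commute.one_left _) (he.trans hphi)
  refine ⟨a, σ', fun e => hσ (congrArg Subtype.val e), hx', ?_⟩
  rw [hx', ← D.orderOf_φ σ']
  exact MulEquiv.orderOf_eq (MulAut.conj (D.δ a)) _

/-- First cohomology in odd dimension. -/
theorem coboundary_odd (hQ : ⇑Q = Cfsg.quadFormOdd m F) (hodd : Odd (Fintype.card F)) (h : Good Q)
    {σ : (oddData hQ).S} {r : ℕ} (hr : 0 < r) (hσ : orderOf σ = r) (d : (oddData hQ).H)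
    (hd : ((oddData hQ).twist h).δ (((oddData hQ).twist h).tnorm σ d r) = 1) :
    ∃ k : (oddData hQ).H, ((oddData hQ).twist h).δ d =
      ((oddData hQ).twist h).δ (k * (((oddData hQ).twist h).act σ k)⁻¹) := by
  obtain ⟨e, k₀, ν, R₁, he, hν, hnd, hR⟩ := (oddData hQ).exists_descent h hr hσ hd
  let K := fixedField (σ : F ≃+* F)
  have hK2 : (2 : K) ≠ 0 := fun e0 => two_ne_of_odd hodd (by
    have := congrArg K.subtype e0
    rwa [map_ofNat, map_zero] at this)
  obtain ⟨Q₀, hQ₀, hB₀⟩ := exists_quadForm_odd (F := K) hK2 m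
  have hd' : Module.finrank K (OIdx m → K) = 2 * m + 1 := by simp; omega
  haveI : Fintype K := Fintype.ofFinite K
  obtain ⟨l, hl, g, hg⟩ := CfsgLib.Classical.OrthModels.classify_odd R₁ hnd hd'
  obtain ⟨k, hk, hk'⟩ := exists_similitude (P := 1) hν hR (R₀ := Q₀) (fun x => by
    rw [Units.val_one, one_mulVec, hQ, hQ₀]; exact odd_emb K.subtype x) g.symm hl fun x => by
    have := hg (g.symm x)
    simp only [LinearEquiv.apply_symm_apply] at this
    rw [hQ₀, this]
  refine ⟨⟨k, hk⟩, ((oddData hQ).delta_eq_iff h _ _).2 ⟨e⁻¹, ?_⟩⟩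
  rw [oddData_R, inv_one, mul_one] at he
  rw [map_one, inv_one, mul_one, mul_one] at hk'
  rw [Subgroup.coe_mul, Subgroup.coe_inv, show ((oddData hQ).twist h).act = (oddData hQ).act from rfl, TData.act_coe,
    oddData_R, one_mul, inv_one, mul_one, ← hk', ← he, ← mul_assoc, ← map_mul, inv_mul_cancel, map_one, one_mul]

/-- Elements of prime order in the coset of a field automorphism. -/
theorem coset_odd (hQ : ⇑Q = Cfsg.quadFormOdd m F) (hodd : Odd (Fintype.card F)) (h : Good Q)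
    (hx : Cfsg.IsFieldAutClassPOmega (⇑Q) x) {r : ℕ} (hr : r.Prime) (hxr : orderOf x = r)
    {δ : MulAut (Cfsg.POmega F ⇑Q)} (hδ : δ ∈ Cfsg.pgoAut F ⇑Q) :
    orderOf (δ * x) = r ↔ Cfsg.IsConjUnder (Cfsg.pgoAut F ⇑Q) x (δ * x) := by
  obtain ⟨a, σ, -, hxa, hord⟩ := exists_rep_odd hQ h hx
  rw [← simData_range h 1 ⊤ (oddData hQ).hP] at hδ ⊢
  exact ((oddData hQ).twist h).coset_conjugacy hxa hxr
    (coboundary_odd hQ hodd h hr.pos (hord ▸ hxr)) hδ

end CfsgLib.OrthAut
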