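import Cfsg.Agent.Lib.OrthAut.Split
import Cfsg.Agent.Lib.OrthAut.Rational
import Cfsg.Agent.Lib.OrthAut.ClassPar
import Cfsg.Agent.Lib.Classical.OrthModels
import Cfsg.Agent.Lib.Classical.RestrictScalars

/-!
Rational structures on a plus-type space and the two classes of maximal singular subspaces.
-/

set_option autoImplicit false
set_option linter.unusedSectionVars false

namespace CfsgLib.OrthAut

open Matrix CfsgLib.Orth CfsgLib.AutPSL
open CfsgLib.ClassicalAut (scal scal_coe)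

universe u v

variable {F : Type u} [Field F] [Fintype F] {m : ℕ}

/-- The index set in plus type. -/
abbrev PIdx (m : ℕ) : Type := Fin m ⊕ Fin m

/-- The standard half. -/
def stdHalf (m : ℕ) (F : Type u) [Field F] : Submodule F (PIdx m → F) :=
  LinearMap.ker (LinearMap.funLeft F F (Sum.inr : Fin m → PIdx m))

theorem mem_stdHalf {v : PIdx m → F} : v ∈ stdHalf m F ↔ ∀ i, v (.inr i) = 0 :=
  ⟨fun h i => congrFun h i, fun h => funext h⟩

variable {Q : QuadraticForm F (PIdx m → F)}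

theorem isHalf_std (hQ : ⇑Q = Cfsg.quadFormPlus m F) : IsHalf Q (stdHalf m F) := by
  refine ⟨fun x hx => by rw [hQ]; simp [Cfsg.quadFormPlus, mem_stdHalf.1 hx], ?_⟩
  have h := LinearMap.finrank_range_add_finrank_ker (LinearMap.funLeft F F (Sum.inr : Fin m → PIdx m))
  rw [LinearMap.range_eq_top.2 (LinearMap.funLeft_surjective_of_injective F F _ Sum.inr_injective), finrank_top] at h
  simp only [Module.finrank_fintype_fun_eq_card, Fintype.card_sum, Fintype.card_fin] at h ⊢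
  rw [stdHalf]
  linarith

theorem plus_emb {F₀ : Type v} [Field F₀] (e : F₀ →+* F) (v : PIdx m → F₀) :
    Cfsg.quadFormPlus m F (fun i => e (v i)) = e (Cfsg.quadFormPlus m F₀ v) := by
  simp [Cfsg.quadFormPlus, map_sum, map_mul]

theorem plus_map (hQ : ⇑Q = Cfsg.quadFormPlus m F) (σ : F ≃+* F) (v : PIdx m → F) :
    Q (fun i => σ (v i)) = σ (Q v) := by
  rw [hQ]
  exact plus_emb σ.toRingHom v

/-- The character on similitudes. -/
noncomputable def chiP (hQ : ⇑Q = Cfsg.quadFormPlus m F) (hB : Nondeg Q) :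
    Cfsg.Geo.quadSimilarityGroup ⇑Q →* ℤˣ :=
  (chi hB (isHalf_std hQ)).comp (simInc Q)

theorem chiP_iff (hQ : ⇑Q = Cfsg.quadFormPlus m F) (hB : Nondeg Q) (g : Cfsg.Geo.quadSimilarityGroup ⇑Q) :
    Cfsg.PreservesSingularClasses (Cfsg.quadFormPlus m F) ((g : GL (PIdx m) F) : Matrix (PIdx m) (PIdx m) F) ↔
      chiP hQ hB g = 1 := by
  rw [← hQ]
  exact preserves_iff hB (isHalf_std hQ) (simInc Q g) rfl

theorem chiP_grp (hQ : ⇑Q = Cfsg.quadFormPlus m F) (hB : Nondeg Q) (g : Grp Q) :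
    chiP hQ hB ⟨g, isometry_le_sim g.2⟩ = dickson hB g := by
  rw [CfsgLib.Classical.InvolutionDickson.dickson_half hB (isHalf_std hQ) g]
  show hpar (stdHalf m F) (extS _ (stdHalf m F)) = _
  rw [extS, hpar]
  rw [show ((simInc Q ⟨g, isometry_le_sim g.2⟩ : semi Q) : Semilin F (PIdx m)).right.toRingHom = RingHom.id F from rfl,
    ext_mat]
  rfl

theorem chiP_refl (hQ : ⇑Q = Cfsg.quadFormPlus m F) (hB : Nondeg Q) {v : PIdx m → F} {g : Grp Q} (hg : IsRefl v g) :
    chiP hQ hB ⟨g, isometry_le_sim g.2⟩ = -1 := by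
  rw [chiP_grp hQ hB, dickson_refl hB hg]

theorem chiP_scal (hQ : ⇑Q = Cfsg.quadFormPlus m F) (hB : Nondeg Q) (c : Fˣ) :
    chiP hQ hB ⟨scal c, scal_mem_sim c⟩ = 1 := by
  show hpar (stdHalf m F) (extS _ (stdHalf m F)) = 1
  have e : extS ((simInc Q ⟨scal c, scal_mem_sim c⟩ : semi Q) : Semilin F (PIdx m)) (stdHalf m F) = stdHalf m F := by
    rw [extS, show ((simInc Q ⟨scal c, scal_mem_sim c⟩ : semi Q) : Semilin F (PIdx m)).right.toRingHom = RingHom.id F
      from rfl, ext_mat]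
    refine Submodule.eq_of_le_of_finrank_eq ?_ ?_
    · rintro _ ⟨v, hv, rfl⟩
      show (Matrix.toLin' _) v ∈ _
      rw [Matrix.toLin'_apply, show ((simInc Q ⟨scal c, scal_mem_sim c⟩ : semi Q) : Semilin F (PIdx m)).left = scal c
        from rfl, scal_coe, smul_mulVec, one_mulVec]
      exact (stdHalf m F).smul_mem _ hv
    · rw [← ext_mat, finrank_ext]
  rw [e, hpar_self]

theorem chiP_entry (hQ : ⇑Q = Cfsg.quadFormPlus m F) (hB : Nondeg Q) (σ : F ≃+* F)
    (k : Cfsg.Geo.quadSimilarityGroup ⇑Q) (hk : entryAct F (PIdx m) σ k ∈ Cfsg.Geo.quadSimilarityGroup ⇑Q) :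
    chiP hQ hB ⟨_, hk⟩ = chiP hQ hB k := by
  let s : semi Q := ⟨⟨1, σ⟩, 1, fun v => by simpa using plus_map hQ σ v⟩
  have e : simInc Q ⟨entryAct F (PIdx m) σ k, hk⟩ = s * simInc Q k * s⁻¹ := by
    rw [eq_mul_inv_iff_mul_eq]
    exact Subtype.ext (SemidirectProduct.ext (by simp [s, simInc]) (by simp [s, simInc]))
  show chi hB (isHalf_std hQ) (simInc Q _) = chi hB (isHalf_std hQ) (simInc Q k)
  rw [e, map_mul, map_mul, map_inv, mul_comm (chi hB (isHalf_std hQ) s), mul_assoc, mul_inv_cancel, mul_one]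

theorem entry_mem_sim (hQ : ⇑Q = Cfsg.quadFormPlus m F) (σ : F ≃+* F) {k : GL (PIdx m) F}
    (hk : k ∈ Cfsg.Geo.quadSimilarityGroup ⇑Q) : entryAct F (PIdx m) σ k ∈ Cfsg.Geo.quadSimilarityGroup ⇑Q := by
  have h := (simData Q 1 ⊤ fun τ _ v => by simp only [Units.val_one, one_mulVec]; exact plus_map hQ τ v).stable σ
    (Subgroup.mem_top σ) k hk
  simpa [simData] using h

/-- An anisotropic binary form stays anisotropic in an extension of odd degree. -/
theorem aniso_odd_ext {σ : F ≃+* F} {r : ℕ} (hr : Odd r) (hσ : orderOf σ = r) {a b : F} (ha : σ a = a) (hb : σ b = b)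
    (hab : ∀ z₁ z₂ : F, σ z₁ = z₁ → σ z₂ = z₂ → z₁ ^ 2 + a * z₁ * z₂ + b * z₂ ^ 2 = 0 → z₁ = 0 ∧ z₂ = 0) :
    ∀ z₁ z₂ : F, z₁ ^ 2 + a * z₁ * z₂ + b * z₂ ^ 2 = 0 → z₁ = 0 ∧ z₂ = 0 := by
  intro z₁ z₂ h
  by_cases h2 : z₂ = 0
  · subst h2
    exact ⟨by simpa using h, rfl⟩
  exfalso
  set t := z₁ / z₂ with ht
  have hroot : t ^ 2 + a * t + b = 0 := by rw [ht]; field_simp; linear_combination h
  have hroot' : σ t ^ 2 + a * σ t + b = 0 := by
    have := congrArg σ hroot
    simpa [map_add, map_mul, map_pow, ha, hb] using this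
  have hcases : σ t = t ∨ σ t = -a - t := by
    have : (σ t - t) * (σ t - (-a - t)) = 0 := by linear_combination hroot' - hroot
    rcases mul_eq_zero.1 this with e | e
    · exact Or.inl (sub_eq_zero.1 e)
    · exact Or.inr (sub_eq_zero.1 e)
  have h2t : (σ ^ 2) t = t := by
    rw [pow_two]
    show σ (σ t) = t
    rcases hcases with e | e
    · rw [e, e]
    · rw [e, map_sub, map_neg, ha, e]; ring
  have hpow : ∀ k, (σ ^ (2 * k)) t = t := by
    intro k
    induction k with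
    | zero => rfl
    | succ k ih =>
      rw [Nat.mul_succ, pow_add]
      show (σ ^ (2 * k)) ((σ ^ 2) t) = t
      rw [h2t, ih]
  obtain ⟨k, rfl⟩ := hr
  have hfix : σ t = t := by
    have h1 : (σ ^ (2 * k + 1)) t = t := by rw [← hσ, pow_orderOf_eq_one]; rfl
    rw [pow_succ'] at h1
    have h1' : σ ((σ ^ (2 * k)) t) = t := h1
    rwa [hpow] at h1'
  exact one_ne_zero (α := F) (hab t 1 hfix (map_one σ) (by linear_combination hroot)).2

theorem polar_nondeg (hB : Nondeg Q) : (QuadraticMap.polarBilin Q).Nondegenerate :=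
  ⟨hB, fun y hy => hB y fun x => by
    show QuadraticMap.polar Q y x = 0
    rw [QuadraticMap.polar_comm]; exact hy x⟩

end CfsgLib.OrthAut
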