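import Cfsg.Agent.Lib.OrthAut.PlusGens
import Cfsg.Agent.Lib.OrthAut.PlusGraphField

/-!
Centralisers and splitting for standard field automorphisms of plus-type groups.
-/

set_option autoImplicit false
set_option linter.unusedSectionVars false

namespace CfsgLib.OrthAut

open Matrix CfsgLib.Orth CfsgLib.AutPSL
open CfsgLib.ClassicalAut (scal scal_coe)

universe u v

variable {F : Type u} [Field F] [Fintype F] {m : ℕ}
variable {Q : QuadraticForm F (PIdx m → F)}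

/-- The linear automorphisms fixing both families, as an image. -/
noncomputable def plusInn (hQ : ⇑Q = Cfsg.quadFormPlus m F) (hB : Nondeg Q) : Subgroup (MulAut (Cfsg.POmega F ⇑Q)) :=
  (chiP hQ hB).ker.map (simAut Q)

theorem plusData_delta_range (hQ : ⇑Q = Cfsg.quadFormPlus m F) (h : Fine Q) (P : GL (PIdx m) F)
    (S : Subgroup (F ≃+* F)) (hP) : ((plusData hQ h.nondeg P S hP).twist h).δ.range = plusInn hQ h.nondeg := by
  ext β
  constructor
  · rintro ⟨g, rfl⟩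
    obtain ⟨hg, h1⟩ := mem_plusH.1 g.2
    exact ⟨⟨g, hg⟩, h1, rfl⟩
  · rintro ⟨g, hg, rfl⟩
    exact ⟨⟨g, mem_plusH.2 ⟨g.2, hg⟩⟩, rfl⟩

theorem inn_le_plusInn (hQ : ⇑Q = Cfsg.quadFormPlus m F) (h : Fine Q) :
    Cfsg.Inn (Cfsg.POmega F ⇑Q) ≤ plusInn hQ h.nondeg := by
  rw [← plusData_delta_range hQ h 1 ⊥ fun σ hσ v => by rw [Subgroup.mem_bot.1 hσ]; rfl]
  exact TData.twist _ h |>.inn_le

variable {F₀ : Type v} [Field F₀] [Fintype F₀] {Q₀ : QuadraticForm F₀ (PIdx m → F₀)}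

theorem theta_diag (hQ₀ : ⇑Q₀ = Cfsg.quadFormPlus m F₀) {T : TData Q} {σ : T.S} (R : Rat T σ F₀) (hP : T.P = 1)
    (d : PIdx m → F₀ˣ) :
    R.theta (diagHom F₀ m d) = diagHom F m fun i => Units.map R.e.toMonoidHom (d i) := by
  rw [R.theta_eq, hP, one_mul, inv_one, mul_one]
  refine Units.ext ?_
  show ((Matrix.diagonal fun i => (d i : F₀)).map R.e) = Matrix.diagonal _
  rw [Matrix.diagonal_map (map_zero R.e)]
  rfl

set_option maxHeartbeats 1000000 in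
/-- Centraliser and splitting of the standard field automorphism. -/
theorem field_plus_std {p f : ℕ} [Fact p.Prime] (hF : Fintype.card F = p ^ f) (hm : 3 ≤ m)
    (hQ : ⇑Q = Cfsg.quadFormPlus m F) (hB : Nondeg Q) {σ : F ≃+* F} {r : ℕ} (hr : r.Prime) (hσ : orderOf σ = r)
    (hQ₀ : ⇑Q₀ = Cfsg.quadFormPlus m F₀) (hB₀ : Nondeg Q₀) (hF₀ : Fintype.card F₀ = p ^ (f / r)) :
    r ∣ f ∧
    Nonempty (↥(plusInn hQ hB ⊓ Subgroup.centralizer {psi Q (entryElt hQ 1 σ)}) ≃* ↥(plusInn hQ₀ hB₀)) ∧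
    ((Odd r ∨ p = 2) →
      Cfsg.splitClassCount (plusInn hQ hB) (Cfsg.Inn (Cfsg.POmega F ⇑Q)) (psi Q (entryElt hQ 1 σ)) = 1) ∧
    ((r = 2 ∧ p ≠ 2 ∧ Odd m ∧ p ^ (f / 2) % 4 = 1) →
      Cfsg.splitClassCount (plusInn hQ hB) (Cfsg.Inn (Cfsg.POmega F ⇑Q)) (psi Q (entryElt hQ 1 σ)) = 2) ∧
    ((r = 2 ∧ p ≠ 2 ∧ ¬ (Odd m ∧ p ^ (f / 2) % 4 = 1)) →
      Cfsg.splitClassCount (plusInn hQ hB) (Cfsg.Inn (Cfsg.POmega F ⇑Q)) (psi Q (entryElt hQ 1 σ)) = 4) := by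
  classical
  haveI := charP_of_card (F := F) hF
  obtain ⟨hrf, hK⟩ := card_fixedField_eq hF hr.pos hσ
  obtain ⟨e, hefix, hesurj⟩ := exists_emb_fixed (σ := σ) F₀ (by rw [Nat.card_eq_fintype_card, hF₀, hK])
  have h : Fine Q := fine_plus hm hB
  have h₀ : Fine Q₀ := fine_plus hm hB₀
  have hm1 : 1 ≤ m := by omega
  let T : TData Q := plusData hQ hB 1 (Subgroup.zpowers σ) fun τ _ v => by
    simp only [Units.val_one, one_mulVec]; exact plus_map hQ τ v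
  let σ' : T.S := ⟨σ, Subgroup.mem_zpowers σ⟩
  let D := T.twist h
  have hσ' : orderOf σ' = r := by rw [← Subgroup.orderOf_coe]; exact hσ
  let R : Rat T σ' F₀ := ⟨e, hefix, hesurj, Q₀, fun y => by
    show Q (((1 : GL (PIdx m) F) : Matrix (PIdx m) (PIdx m) F) *ᵥ _) = _
    rw [Units.val_one, one_mulVec, hQ, hQ₀]
    exact plus_emb e y⟩
  let T₀ : TData Q₀ := plusData hQ₀ hB₀ 1 ⊥ fun τ hτ v => by rw [Subgroup.mem_bot.1 hτ]; rfl
  let D₀ := T₀.twist h₀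
  let θS : Cfsg.Geo.quadSimilarityGroup ⇑Q₀ →* Cfsg.Geo.quadSimilarityGroup ⇑Q := R.thetaSim
  have hphi : D.φ σ' = psi Q (entryElt hQ 1 σ) :=
    congrArg (psi Q) (Subtype.ext (SemidirectProduct.ext (by
      show T.P * (entryAct F _ σ T.P)⁻¹ = _
      rw [show T.P = 1 from rfl, map_one, inv_one, mul_one]; rfl) rfl))
  have hθscal : ∀ c : F₀ˣ, θS ⟨scal c, scal_mem_sim c⟩ = ⟨scal (Units.map e.toMonoidHom c), scal_mem_sim _⟩ :=
    fun c => Subtype.ext (R.theta_scal c)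
  have hθdiag : ∀ (d : PIdx m → F₀ˣ) (hd : diagHom F₀ m d ∈ Cfsg.Geo.quadSimilarityGroup ⇑Q₀),
      (θS ⟨_, hd⟩ : GL (PIdx m) F) = diagHom F m fun i => Units.map e.toMonoidHom (d i) := fun d _ =>
    theta_diag hQ₀ R rfl d
  -- the classes of the families correspond
  let χθ : Cfsg.Geo.quadSimilarityGroup ⇑Q₀ →* ℤˣ := (chiP hQ hB).comp θS
  have hχd : ∀ (d : PIdx m → F₀ˣ) (hd : diagHom F₀ m d ∈ Cfsg.Geo.quadSimilarityGroup ⇑Q₀), χθ ⟨_, hd⟩ = 1 := by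
    intro d hd
    have hmem : diagHom F m (fun i => Units.map e.toMonoidHom (d i)) ∈ Cfsg.Geo.quadSimilarityGroup ⇑Q :=
      hθdiag d hd ▸ (θS ⟨_, hd⟩).2
    show chiP hQ hB (θS ⟨_, hd⟩) = 1
    rw [show θS ⟨_, hd⟩ = ⟨_, hmem⟩ from Subtype.ext (hθdiag d hd)]
    exact chiP_diag hQ hB _ _
  have hχ1 : ∀ u, chiP hQ₀ hB₀ u = 1 → χθ u = 1 := by
    intro u hu
    have hscal₀ : ∀ c : F₀ˣ, χθ ⟨scal c, scal_mem_sim c⟩ ∈ (⊥ : Subgroup ℤˣ) := fun c => by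
      rw [Subgroup.mem_bot]
      show chiP hQ hB (θS _) = 1
      rw [hθscal, chiP_scal]
    have hΩ₀ : ∀ s : Grp Q₀, s ∈ Cfsg.Omega F₀ ⇑Q₀ → χθ ⟨s, isometry_le_sim s.2⟩ ∈ (⊥ : Subgroup ℤˣ) :=
      fun s hs => Abelianization.commutator_subset_ker (χθ.comp (Subgroup.inclusion isometry_le_sim)) hs
    rw [← Subgroup.mem_bot]
    by_cases h2 : (2 : F₀) = 0
    · exact mem_of_gens_two hQ₀ h₀ h2 χθ ⊥ hscal₀ hΩ₀ u hu
    · obtain ⟨c, hc⟩ := FiniteField.exists_nonsquare (F := F₀) fun hc => h2 (by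
        haveI : CharP F₀ 2 := hc ▸ ringChar.charP F₀
        exact_mod_cast CharP.cast_eq_zero F₀ 2)
      have hc0 : c ≠ 0 := fun e0 => hc (e0 ▸ IsSquare.zero)
      exact mem_of_gens hQ₀ h₀ h2 hm1 (c := Units.mk0 c hc0) hc χθ ⊥ hscal₀ hΩ₀
        (Subgroup.mem_bot.2 (hχd _ _)) (Subgroup.mem_bot.2 (hχd _ _)) u hu
  have hχ : ∀ u, chiP hQ hB (θS u) = 1 ↔ chiP hQ₀ hB₀ u = 1 := fun u => by
    refine ⟨fun hu => ?_, hχ1 u⟩
    by_contra hne
    obtain ⟨v₀, hv₀⟩ := exists_aniso (Q := Q₀) hB₀ (by have := h₀.five; omega)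
    obtain ⟨g₀, hg₀⟩ := exists_refl hB₀ hv₀
    let G₀ : Cfsg.Geo.quadSimilarityGroup ⇑Q₀ := ⟨g₀, isometry_le_sim g₀.2⟩
    have h1 : chiP hQ hB (θS (u * G₀)) = 1 := hχ1 (u * G₀) (by
      rw [map_mul, chiP_refl hQ₀ hB₀ hg₀, (Int.units_eq_one_or _).resolve_left hne]; rfl)
    rw [map_mul, map_mul, hu, one_mul, show θS G₀ = ⟨R.thetaGrp g₀, isometry_le_sim (R.thetaGrp g₀).2⟩ from rfl,
      chiP_refl hQ hB (R.thetaGrp_refl hg₀)] at h1
    exact absurd h1 (by decide)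
  let θ : T₀.H →* T.H := MonoidHom.codRestrict
    ((Cfsg.Geo.quadSimilarityGroup ⇑Q).subtype.comp (θS.comp (Subgroup.inclusion T₀.le))) T.H fun u => by
      obtain ⟨hu, hu1⟩ := mem_plusH.1 u.2
      exact mem_plusH.2 ⟨(θS _).2, (hχ ⟨u, hu⟩).2 hu1⟩
  have hfix : ∀ u, D.act σ' (θ u) = θ u := fun u => Subtype.ext (R.theta_fix _)
  have hsurj : ∀ g : T.H, D.δ (D.act σ' g) = D.δ g → ∃ u, D.δ g = D.δ (θ u) := fun g hg => by
    obtain ⟨c, u, hu⟩ := R.exists_rational h hr.pos hσ' hg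
    obtain ⟨hgm, hg1⟩ := mem_plusH.1 g.2
    have hu1 : chiP hQ₀ hB₀ u = 1 := (hχ u).1 (by
      rw [show (⟨(g : GL (PIdx m) F), hgm⟩ : Cfsg.Geo.quadSimilarityGroup ⇑Q) =
        ⟨scal c, scal_mem_sim c⟩ * θS u from Subtype.ext hu, map_mul, chiP_scal, one_mul] at hg1
      exact hg1)
    exact ⟨⟨u, mem_plusH.2 ⟨u.2, hu1⟩⟩, (T.delta_eq_iff h g _).2 ⟨c, hu⟩⟩
  have hrange : plusInn hQ hB = D.δ.range := (plusData_delta_range hQ h 1 _ _).symm
  refine ⟨hrf, ?_, ?_⟩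
  · rw [show plusInn hQ₀ hB₀ = D₀.δ.range from (plusData_delta_range hQ₀ h₀ 1 _ _).symm, hrange]
    haveI : Nonempty (PIdx m) := ⟨.inl ⟨0, hm1⟩⟩
    refine ⟨(D.exists_centralizer_equiv (x := psi Q (entryElt hQ 1 σ)) (a := 1) (σ := σ')
      (by rw [map_one, inv_one, one_mul, mul_one, hphi]) θ (fun u => by rw [hfix]) hsurj D₀.δ.ker fun u => ?_).some.trans
      (QuotientGroup.quotientKerEquivRange D₀.δ)⟩
    rw [MonoidHom.mem_ker, show D₀.δ u = 1 ↔ _ from T₀.delta_eq_one_iff h₀ u, T.delta_eq_one_iff h]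
    exact (R.theta_scalar_iff (u : GL (PIdx m) F₀)).symm
  set N := Cfsg.Inn (Cfsg.POmega F ⇑Q) with hN
  set C := plusInn hQ hB ⊓ Subgroup.centralizer {psi Q (entryElt hQ 1 σ)} with hC
  have hcount := splitClassCount_mul (plusInn hQ hB) N (inn_le_plusInn hQ h) (psi Q (entryElt hQ 1 σ))
  rw [← hC] at hcount
  let π := QuotientGroup.mk' N
  let μ : Cfsg.Geo.quadSimilarityGroup ⇑Q →* Cfsg.Out (Cfsg.POmega F ⇑Q) := simOut Q
  let μ₀ : Cfsg.Geo.quadSimilarityGroup ⇑Q₀ →* Cfsg.Out (Cfsg.POmega F ⇑Q) := μ.comp θS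
  have hrel : ∀ K : Subgroup (MulAut (Cfsg.POmega F ⇑Q)), N.relIndex K = Nat.card (K.map π) := fun K => by
    conv_lhs => rw [← QuotientGroup.ker_mk' N]
    exact Subgroup.relIndex_ker K π
  have hHmap : (plusInn hQ hB).map π = (chiP hQ hB).ker.map μ := by
    rw [plusInn, Subgroup.map_map]; rfl
  have hCmap : C.map π = (chiP hQ₀ hB₀).ker.map μ₀ := by
    ext y
    constructor
    · rintro ⟨β, hβ, rfl⟩
      obtain ⟨g, rfl⟩ : β ∈ D.δ.range := hrange ▸ hβ.1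
      have hg2 : D.δ (D.act σ' g) = D.δ g := (D.commute_iff g σ').1 (by
        rw [hphi]; exact Subgroup.mem_centralizer_singleton_iff.1 hβ.2)
      obtain ⟨u, hu⟩ := hsurj g hg2
      obtain ⟨hum, hu1⟩ := mem_plusH.1 u.2
      exact ⟨⟨u, hum⟩, hu1, (congrArg π hu).symm⟩
    · rintro ⟨u, hu, rfl⟩
      let u' : T₀.H := ⟨u, mem_plusH.2 ⟨u.2, hu⟩⟩
      refine ⟨D.δ (θ u'), ⟨hrange ▸ ⟨θ u', rfl⟩, Subgroup.mem_centralizer_singleton_iff.2 ?_⟩, rfl⟩
      rw [← hphi]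
      exact (D.commute_iff (θ u') σ').2 (by rw [hfix])
  rw [hrel, hrel, hHmap, hCmap] at hcount
  have hμscal : ∀ c : Fˣ, μ ⟨scal c, scal_mem_sim c⟩ = 1 := fun c => out_scal h c
  have hμΩ : ∀ s : Grp Q, s ∈ Cfsg.Omega F ⇑Q → μ ⟨s, isometry_le_sim s.2⟩ = 1 := fun s hs => outHom_omega s hs
  have hμ₀scal : ∀ c : F₀ˣ, μ₀ ⟨scal c, scal_mem_sim c⟩ = 1 := fun c => by
    show μ (θS _) = 1
    rw [hθscal]; exact hμscal _
  have hμ₀Ω : ∀ s : Grp Q₀, s ∈ Cfsg.Omega F₀ ⇑Q₀ → μ₀ ⟨s, isometry_le_sim s.2⟩ = 1 := fun s hs => by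
    refine hμΩ (R.thetaGrp s) ?_
    have : (Cfsg.Omega F₀ ⇑Q₀).map R.thetaGrp ≤ Cfsg.Omega F ⇑Q := by
      show (commutator (Grp Q₀)).map R.thetaGrp ≤ commutator (Grp Q)
      rw [commutator_def, Subgroup.map_commutator]
      exact Subgroup.commutator_mono le_top le_top
    exact this ⟨s, hs, rfl⟩
  by_cases hp : p = 2
  · subst hp
    have h2 : (2 : F) = 0 := by exact_mod_cast CharP.cast_eq_zero F 2
    have hbot : (chiP hQ hB).ker.map μ = ⊥ := by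
      rw [eq_bot_iff]
      rintro _ ⟨g, hg, rfl⟩
      exact mem_of_gens_two hQ h h2 μ ⊥ (fun c => hμscal c) (fun s hs => hμΩ s hs) g hg
    rw [hbot, Subgroup.card_bot] at hcount
    exact ⟨fun _ => Nat.eq_one_of_mul_eq_one_right hcount, fun hh => absurd rfl hh.2.1, fun hh => absurd rfl hh.2.1⟩
  have hodd : Odd (Fintype.card F) := hF ▸ ((Fact.out : p.Prime).odd_of_ne_two hp).pow
  have h2 := two_ne_of_odd hodd
  have h2₀ : (2 : F₀) ≠ 0 := ringHom_two_ne e h2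
  obtain ⟨c, hc⟩ := FiniteField.exists_nonsquare (F := F₀) fun hc => h2₀ (by
    haveI : CharP F₀ 2 := hc ▸ ringChar.charP F₀
    exact_mod_cast CharP.cast_eq_zero F₀ 2)
  have hc0 : c ≠ 0 := fun e0 => hc (e0 ▸ IsSquare.zero)
  set c₀ : F₀ˣ := Units.mk0 c hc0
  set c₁ : Fˣ := Units.map e.toMonoidHom c₀
  let i₀ : Fin m := ⟨0, hm1⟩
  have eG : θS (halfSim hQ₀ c₀) = halfSim hQ c₁ := Subtype.ext <| (hθdiag _ _).trans
    (congrArg (diagHom F m) (funext fun i => by rcases i with i | i <;> simp [halfDiag, c₁]))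
  have et : θS (torSim hQ₀ (Pi.mulSingle i₀ c₀)) = torSim hQ (Pi.mulSingle i₀ c₁) := Subtype.ext <| (hθdiag _ _).trans
    (congrArg (diagHom F m) (funext fun i => by
      rcases i with i | i <;> by_cases hi : i = i₀ <;> simp [hi, c₁]))
  -- the image of the centraliser is generated by the classes of these two
  set a := μ (halfSim hQ c₁)
  set b := μ (torSim hQ (Pi.mulSingle i₀ c₁))
  have hgens : ∀ S : Subgroup (Cfsg.Out (Cfsg.POmega F ⇑Q)), a ∈ S → b ∈ S →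
      (chiP hQ₀ hB₀).ker.map μ₀ ≤ S := by
    rintro S ha hb _ ⟨u, hu, rfl⟩
    exact mem_of_gens hQ₀ h₀ h2₀ hm1 (c := c₀) hc μ₀ S (fun d => by rw [hμ₀scal]; exact one_mem _)
      (fun s hs => by rw [hμ₀Ω s hs]; exact one_mem _) (by show μ (θS _) ∈ S; rw [eG]; exact ha)
      (by show μ (θS _) ∈ S; rw [et]; exact hb) u hu
  refine ⟨fun hro => ?_, fun hh => ?_, fun hh => ?_⟩
  · have hro : Odd r := hro.resolve_right hp
    have hns : ¬ IsSquare (c₁ : F) := not_isSquare_odd_ext hσ hro (hefix c) fun z hz hcz => by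
      obtain ⟨y, rfl⟩ := hesurj z hz
      exact hc ⟨y, e.injective (by rw [map_mul]; exact hcz)⟩
    have heq : (chiP hQ hB).ker.map μ = (chiP hQ₀ hB₀).ker.map μ₀ := by
      refine le_antisymm ?_ ?_
      · rintro _ ⟨g, hg, rfl⟩
        exact mem_of_gens hQ h h2 hm1 hns μ ((chiP hQ₀ hB₀).ker.map μ₀) (fun d => by rw [hμscal]; exact one_mem _)
          (fun s hs => by rw [hμΩ s hs]; exact one_mem _)
          ⟨halfSim hQ₀ c₀, chiP_halfSim hQ₀ hB₀ c₀, congrArg μ eG⟩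
          ⟨torSim hQ₀ _, chiP_torSim hQ₀ hB₀ _, congrArg μ et⟩ g hg
      · rintro _ ⟨u, hu, rfl⟩
        exact ⟨θS u, (hχ u).2 hu, rfl⟩
    rw [heq] at hcount
    exact (Nat.mul_eq_right Nat.card_pos.ne').1 hcount
  all_goals
    obtain ⟨hr2, -, hcond⟩ := hh
    subst hr2
    have hqq : Fintype.card F = Fintype.card F₀ ^ 2 := by
      rw [hF, hF₀, ← pow_mul, Nat.div_mul_cancel hrf]
    obtain ⟨s, hs⟩ : IsSquare (c₁ : F) := isSquare_quadratic_ext hodd hqq (q := Fintype.card F₀) c₁.ne_zero (by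
      show e c ^ (Fintype.card F₀ - 1) = 1
      rw [← map_pow, FiniteField.pow_card_sub_one_eq_one c hc0, map_one])
    have hs0 : s ≠ 0 := fun e0 => c₁.ne_zero (by rw [hs, e0, zero_mul])
    have hsq : IsSquare ((-1 : F) ^ m) := by
      refine IsSquare.pow _ (FiniteField.isSquare_neg_one_iff.2 fun e3 => ?_)
      have : Fintype.card F₀ ^ 2 % 4 = (Fintype.card F₀ % 4) ^ 2 % 4 := Nat.pow_mod _ _ _
      have h5 := Nat.mod_lt (Fintype.card F₀) (show 0 < 4 by norm_num)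
      rw [hqq, this] at e3
      interval_cases Fintype.card F₀ % 4 <;> simp at e3
    have hneg := neg_mem_omega hQ h h2 hm1 hsq
    have hn : 2 ≤ Module.finrank F (PIdx m → F) := by have := h.five; omega
    have hb : b = 1 := hμΩ (tor hQ (Pi.mulSingle i₀ c₁)) ((mem_omega_iff hB h2 hn _).2
      ⟨dickson_tor hQ hB _, (spinor_tor_single hQ h h2 i₀ c₁).2 ⟨s, hs⟩⟩)
    let sU : Fˣ := Units.mk0 s hs0
    have ha : a = cls Q (tor hQ fun _ => sU) := by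
      have e1 : halfSim hQ c₁ = ⟨scal sU, scal_mem_sim sU⟩ * torSim hQ fun _ => sU := by
        refine Subtype.ext (Units.ext (Matrix.ext_iff_mulVec.2 fun w => funext fun i => ?_))
        show ((diagHom F m (halfDiag m c₁) : Matrix (PIdx m) (PIdx m) F) *ᵥ w) i =
          (((scal sU * (tor hQ (fun _ => sU) : GL (PIdx m) F) : GL (PIdx m) F) : Matrix (PIdx m) (PIdx m) F) *ᵥ w) i
        rw [diagHom_mulVec, CfsgLib.ClassicalAut.scal_mul_coe, smul_mulVec, Pi.smul_apply, smul_eq_mul,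
          show (((tor hQ (fun _ => sU) : GL (PIdx m) F)) : Matrix (PIdx m) (PIdx m) F) *ᵥ w = ap (tor hQ fun _ => sU) w
            from rfl, tor_ap]
        rcases i with i | i <;> simp [halfDiag, sU, hs, mul_assoc, hs0]
      show μ _ = _
      rw [e1, map_mul, hμscal, one_mul]
      rfl
    have hsiff := sqrt_square_iff e hodd (by rw [Nat.card_eq_fintype_card, Nat.card_eq_fintype_card, hqq]) hc hs.symm
    have hq₀ : Nat.card F₀ = p ^ (f / 2) := by rw [Nat.card_eq_fintype_card, hF₀]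
    have hp4 : p ^ (f / 2) % 2 = 1 := Nat.odd_iff.1 ((Fact.out : p.Prime).odd_of_ne_two hp).pow
    have haiff : a = 1 ↔ ¬ (Odd m ∧ p ^ (f / 2) % 4 = 1) := by
      rw [ha, cls_eq_one_iff h hneg, mem_omega_iff hB h2 hn, and_iff_right (dickson_tor hQ hB _),
        spinor_tor hQ h h2 hm1, Finset.prod_const, Finset.card_univ, Fintype.card_fin, Units.val_pow_eq_pow_val,
        Units.val_mk0]
      rcases Nat.even_or_odd m with ⟨j, hj⟩ | ⟨j, hj⟩
      · simp only [Nat.not_odd_iff_even.2 ⟨j, hj⟩, false_and, not_false_iff, iff_true]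
        exact ⟨s ^ j, by rw [hj, pow_add]⟩
      · have hmo : Odd m := ⟨j, hj⟩
        have : IsSquare (s ^ m) ↔ IsSquare s := by
          rw [hj, pow_succ, CfsgLib.Orth.isSquare_mul_iff (pow_ne_zero _ hs0)]
          have : IsSquare (s ^ (2 * j)) := ⟨s ^ j, by rw [two_mul, pow_add]⟩
          simp [this, hs0]
        rw [this, hsiff, hq₀]
        simp only [hmo, true_and]
        omega
    have h4 : Nat.card ((chiP hQ hB).ker.map μ) = 4 := by
      rw [← plus_class_set hQ h h2 hm1 hsq, MonoidHom.range_comp, Subgroup.range_subtype]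
      rfl
    rw [h4] at hcount
    have hamem : a ∈ (chiP hQ₀ hB₀).ker.map μ₀ := ⟨halfSim hQ₀ c₀, chiP_halfSim hQ₀ hB₀ c₀, congrArg μ eG⟩
  · have hane : a ≠ 1 := fun e0 => haiff.1 e0 hcond
    have hcard : Nat.card ((chiP hQ₀ hB₀).ker.map μ₀) = 2 := by
      have ha2 : a * a = 1 := by
        rw [ha, ← map_mul, ← map_mul]
        exact outHom_omega _ ((mem_omega_iff hB h2 hn _).2 ⟨dickson_tor hQ hB _, (spinor_tor hQ h h2 hm1 _).2
          ⟨s ^ m, by simp [Finset.prod_const, sU, mul_pow]⟩⟩)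
      rw [show (chiP hQ₀ hB₀).ker.map μ₀ = Subgroup.zpowers a from le_antisymm
        (hgens _ (Subgroup.mem_zpowers a) (by rw [hb]; exact one_mem _))
        ((Subgroup.zpowers_le).2 hamem), Nat.card_zpowers]
      exact orderOf_eq_prime (by rw [pow_two, ha2]) hane
    rw [hcard] at hcount
    omega
  · have hcard : Nat.card ((chiP hQ₀ hB₀).ker.map μ₀) = 1 := by
      rw [show (chiP hQ₀ hB₀).ker.map μ₀ = ⊥ from eq_bot_iff.2
        (hgens ⊥ (Subgroup.mem_bot.2 (haiff.2 hcond)) (Subgroup.mem_bot.2 hb)), Subgroup.card_bot]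
    rw [hcard] at hcount
    omega

end CfsgLib.OrthAut
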