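import Cfsg.Agent.Lib.OrthAut.D4Normal

/-!
Field automorphisms of plus-type groups up to all automorphisms.
-/

set_option autoImplicit false
set_option linter.unusedSectionVars false

namespace CfsgLib.OrthAut

open Matrix CfsgLib.Orth CfsgLib.AutPSL
open CfsgLib.ClassicalAut (scal scal_coe)

universe u v

variable {F : Type u} [Field F] [Fintype F] {m : ℕ}
variable {Q : QuadraticForm F (PIdx m → F)}

/-- The inner-diagonal group is normal among all automorphisms. -/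
theorem plusInn_normal (hQ : ⇑Q = Cfsg.quadFormPlus m F) (hB : Nondeg Q) (hm : 4 ≤ m) :
    (plusInn hQ hB).Normal := by
  rcases eq_or_lt_of_le hm with h4 | h5
  · subst h4
    obtain rfl : Q = CfsgLib.ChevOrth.qPlus F := DFunLike.coe_injective (hQ.trans (D4Normal.hQ F).symm)
    exact D4Normal.plusInn_normal
  · have h : Good Q := good_plus h5 hB
    refine ⟨fun β hβ θ => ?_⟩
    obtain ⟨g, hg, rfl⟩ := hβ
    obtain ⟨y, rfl⟩ := psi_surjective h θ
    set z := y * simInc Q g * y⁻¹ with hz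
    obtain ⟨c, hc⟩ := mem_semi.1 z.2
    have hr : (z : Semilin F (PIdx m)).right = 1 := by
      show (y : Semilin F (PIdx m)).right * 1 * ((y⁻¹ : semi Q) : Semilin F (PIdx m)).right = 1
      rw [mul_one]
      exact mul_inv_cancel _
    have hmem : (z : Semilin F (PIdx m)).left ∈ Cfsg.Geo.quadSimilarityGroup ⇑Q := ⟨c, fun v => by
      have := hc v
      rwa [sv, hr] at this⟩
    have e : simInc Q ⟨_, hmem⟩ = z := Subtype.ext (SemidirectProduct.ext rfl hr.symm)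
    refine ⟨⟨_, hmem⟩, ?_, ?_⟩
    · show chi hB (isHalf_std hQ) (simInc Q _) = 1
      rw [e, hz, map_mul, map_mul, map_inv, show chi hB (isHalf_std hQ) (simInc Q g) = 1 from hg, mul_one,
        mul_inv_cancel]
    · show psi Q (simInc Q _) = _
      rw [e, hz, map_mul, map_mul, map_inv]
      rfl

set_option maxHeartbeats 1000000 in
theorem field_plus_named {p f : ℕ} [Fact p.Prime] (hF : Fintype.card F = p ^ f) (hm : 4 ≤ m)
    {q : (PIdx m → F) → F} (hq : Cfsg.quadFormPlus m F = q) (hQ : ⇑Q = q) (hB : Nondeg Q)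
    (x : MulAut (Cfsg.POmega F q))
    (hx : ∃ (α φ : MulAut (Cfsg.POmega F q)) (σ : F ≃+* F),
      σ ≠ RingEquiv.refl F ∧ Cfsg.IsFieldAutPOmegaOf q σ φ ∧ α * x * α⁻¹ = φ)
    {r : ℕ} (hr : r.Prime) (hxr : orderOf x = r) (F₀ : Type v) [Field F₀] [Fintype F₀]
    (hF₀ : Fintype.card F₀ = p ^ (f / r)) :
    let H := Cfsg.autSubgroupOf fun β : MulAut (Cfsg.POmega F q) => ∃ g : GL (PIdx m) F,
      g ∈ Cfsg.Geo.quadSimilarityGroup q ∧
      Cfsg.PreservesSingularClasses q (g : Matrix (PIdx m) (PIdx m) F) ∧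
      Cfsg.IsInducedBySemilinearPOmega q g (RingEquiv.refl F) β
    r ∣ f ∧ Nonempty (↥(H ⊓ Subgroup.centralizer {x}) ≃* ↥(Cfsg.inndiagPOmegaPlus m F₀)) ∧
      ((Odd r ∨ p = 2) → Cfsg.splitClassCount H (Cfsg.Inn (Cfsg.POmega F q)) x = 1) ∧
      ((r = 2 ∧ p ≠ 2 ∧ Odd m ∧ p ^ (f / 2) % 4 = 1) →
        Cfsg.splitClassCount H (Cfsg.Inn (Cfsg.POmega F q)) x = 2) ∧
      ((r = 2 ∧ p ≠ 2 ∧ ¬ (Odd m ∧ p ^ (f / 2) % 4 = 1)) →
        Cfsg.splitClassCount H (Cfsg.Inn (Cfsg.POmega F q)) x = 4) := by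
  classical
  subst hQ
  have hQ : ⇑Q = Cfsg.quadFormPlus m F := hq.symm
  intro H
  have hH : H = plusInn hQ hB := inndiag_plus_eq hQ hB
  rw [hH]
  obtain ⟨α, φ, σ, -, hφ, he⟩ := hx
  have h : Fine Q := fine_plus (by omega) hB
  haveI := finite_semilin (F := F) (ι := PIdx m)
  have hφ' : φ = psi Q (entryElt hQ 1 σ) :=
    (isField_iff (x := entryElt hQ 1 σ) rfl rfl φ).1 hφ
  let D := (plusData hQ hB 1 (Subgroup.zpowers σ) fun τ _ v => by
    simp only [Units.val_one, one_mulVec]; exact plus_map hQ τ v).twist h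
  have hσ : orderOf σ = r := by
    rw [← hxr]
    have h1 : orderOf x = orderOf φ := by
      rw [← he]
      exact (orderOf_injective (MulAut.conj α).toMonoidHom (MulAut.conj α).injective x).symm
    rw [h1, hφ']
    refine (Subgroup.orderOf_coe (⟨σ, Subgroup.mem_zpowers σ⟩ : Subgroup.zpowers σ)).trans
      ((D.orderOf_φ ⟨σ, Subgroup.mem_zpowers σ⟩).symm.trans ?_)
    exact congrArg orderOf (congrArg (psi Q) (Subtype.ext (SemidirectProduct.ext (by
      show (1 : GL (PIdx m) F) * (entryAct F _ σ 1)⁻¹ = _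
      rw [map_one, inv_one, mul_one]; rfl) rfl)))
  obtain ⟨Q₀, hQ₀, hB₀⟩ := CfsgLib.Orth.exists_quadForm_plus (F := F₀) m
  obtain ⟨h1, ⟨h2⟩, h3, h4, h5⟩ := field_plus_std hF (by omega) hQ hB hr hσ hQ₀ hB₀ hF₀
  haveI : Finite (MulAut (Cfsg.POmega F ⇑Q)) :=
    Finite.of_injective (fun a => (⇑a : Cfsg.POmega F ⇑Q → Cfsg.POmega F ⇑Q)) DFunLike.coe_injective
  haveI := plusInn_normal hQ hB hm
  have hmap : (plusInn hQ hB).map (MulAut.conj α).toMonoidHom = plusInn hQ hB := by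
    ext z
    constructor
    · rintro ⟨y, hy, rfl⟩
      exact Subgroup.Normal.conj_mem inferInstance y hy α
    · intro hz
      exact ⟨α⁻¹ * z * α, by simpa using Subgroup.Normal.conj_mem (inferInstance : (plusInn hQ hB).Normal) z hz α⁻¹,
        by simp [mul_assoc]⟩
  obtain ⟨ec⟩ := centralizer_normal (plusInn hQ hB) x α hmap
  rw [← hφ', ← he] at h2 h3 h4 h5
  rw [splitClassCount_normal (plusInn hQ hB) _ (inn_le_plusInn hQ h) x α hmap] at h3 h4 h5
  refine ⟨h1, ?_, h3, h4, h5⟩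
  have e0 : Nonempty (↥(plusInn hQ hB ⊓ Subgroup.centralizer {x}) ≃* ↥(plusInn hQ₀ hB₀)) := ⟨ec.trans h2⟩
  have key : ∀ (q₀ : (PIdx m → F₀) → F₀), ⇑Q₀ = q₀ → ∀ {G : Type u} [Group G],
      Nonempty (G ≃* ↥(plusInn hQ₀ hB₀)) →
      Nonempty (G ≃* ↥(Cfsg.autSubgroupOf fun β : MulAut (Cfsg.POmega F₀ q₀) => ∃ g : GL (PIdx m) F₀,
        g ∈ Cfsg.Geo.quadSimilarityGroup q₀ ∧
        Cfsg.PreservesSingularClasses q₀ (g : Matrix (PIdx m) (PIdx m) F₀) ∧
        Cfsg.IsInducedBySemilinearPOmega q₀ g (RingEquiv.refl F₀) β)) := by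
    rintro _ rfl G _ ⟨e⟩
    rw [inndiag_plus_eq hQ₀ hB₀]
    exact ⟨e⟩
  exact key _ hQ₀ e0

end CfsgLib.OrthAut
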