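import Cfsg.Agent.Lib.OrthAut.Semilinear

/-!
`Aut PΩ(Q) = PΓO(Q)`.
-/

set_option autoImplicit false
set_option linter.unusedSectionVars false

namespace CfsgLib.OrthAut

open Matrix CfsgLib.Orth

variable {F : Type*} [Field F] [Finite F] {ι : Type} [Fintype ι] [DecidableEq ι]
variable {Q : QuadraticForm F (ι → F)}

local notation "B" => QuadraticMap.polar (DFunLike.coe Q)
local notation "Ω" => Cfsg.Omega F (DFunLike.coe Q)
local notation "PΩ" => Cfsg.POmega F (DFunLike.coe Q)

variable (h : Good Q) {β : MulAut (Cfsg.POmega F ⇑Q)} {u f : ι → F}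

/-- The component in the complement of a hyperbolic pair. -/
def parPart (Q : QuadraticForm F (ι → F)) (u f : ι → F) (hu : Q u = 0) (hf : Q f = 0)
    (huf : QuadraticMap.polar (⇑Q) u f = 1) (x : ι → F) : par Q u f :=
  ⟨x - QuadraticMap.polar (⇑Q) f x • u - QuadraticMap.polar (⇑Q) u x • f, mem_par.2
    ⟨by rw [b_sub_right, b_sub_right, b_smul_right, b_smul_right, b_self_zero hu, huf]; ring,
      by rw [b_sub_right, b_sub_right, b_smul_right, b_smul_right, b_self_zero hf, b_comm f u,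
        huf]; ring⟩⟩

theorem parPart_add (hu : Q u = 0) (hf : Q f = 0) (huf : B u f = 1) (x y : ι → F) :
    parPart Q u f hu hf huf (x + y) = parPart Q u f hu hf huf x + parPart Q u f hu hf huf y :=
  Subtype.ext (by
    show _ = (x - B f x • u - B u x • f) + (y - B f y • u - B u y • f)
    simp only [parPart, b_add_right, add_smul]
    abel)

theorem parPart_smul (hu : Q u = 0) (hf : Q f = 0) (huf : B u f = 1) (c : F) (x : ι → F) :
    parPart Q u f hu hf huf (c • x) = c • parPart Q u f hu hf huf x :=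
  Subtype.ext (by
    show _ = c • (x - B f x • u - B u x • f)
    simp only [parPart, b_smul_right]
    module)

theorem decomp (hu : Q u = 0) (hf : Q f = 0) (huf : B u f = 1) (x : ι → F) :
    x = B f x • u + B u x • f + (parPart Q u f hu hf huf x : ι → F) := by
  show x = B f x • u + B u x • f + (x - B f x • u - B u x • f)
  abel

theorem q_decomp (hu : Q u = 0) (hf : Q f = 0) (huf : B u f = 1) (α b : F) (z : par Q u f) :
    Q (α • u + b • f + (z : ι → F)) = α * b + Q (z : ι → F) := by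
  obtain ⟨h1, h2⟩ := mem_par.1 z.2
  rw [q_add, q_add, q_smul, q_smul, hu, hf, b_smul_left, b_smul_right, huf, b_add_left, b_smul_left,
    b_smul_left, h1, h2]
  ring

include h in
/-- A normalised automorphism is the conjugation by a semisimilarity on points. -/
theorem exists_semisim (hu : Q u = 0) (hf : Q f = 0) (huf : B u f = 1) (hβu : ImPt β u u)
    (hβf : ImPt β f f) :
    ∃ (g : GL ι F) (σ : F ≃+* F), Cfsg.IsSemisimilarityPair (⇑Q) g σ ∧
      ∀ x, Q x = 0 → x ≠ 0 → ImPt β x ((g : Matrix ι ι F) *ᵥ fun i => σ (x i)) := by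
  classical
  obtain ⟨L, hL⟩ := exists_par_map h hu hf huf hβu hβf
  obtain ⟨σ, lam, hlam, hlin, hLq⟩ := exists_par_semilinear h hu hf huf L hL
  let M : (ι → F) → (ι → F) := fun x =>
    (lam * σ (B f x)) • u + σ (B u x) • f + (L (parPart Q u f hu hf huf x) : ι → F)
  have hMadd : ∀ x y, M (x + y) = M x + M y := fun x y => by
    simp only [M, b_add_right, parPart_add, map_add, Submodule.coe_add, mul_add, add_smul]
    abel
  have hMsmul : ∀ (c : F) x, M (c • x) = σ c • M x := fun c x => by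
    simp only [M, b_smul_right, parPart_smul, hlin, Submodule.coe_smul, map_mul, smul_add, smul_smul]
    ring_nf
  have hMq : ∀ x, Q (M x) = lam * σ (Q x) := fun x => by
    conv_rhs => rw [decomp hu hf huf x]
    rw [q_decomp hu hf huf, q_decomp hu hf huf, hLq, map_add, map_mul]
    ring
  have hMb : ∀ x y, B (M x) (M y) = lam * σ (B x y) := fun x y => by
    unfold QuadraticMap.polar
    rw [← hMadd, hMq, hMq, hMq, map_sub, map_sub]
    ring
  have hM0 : ∀ x, M x = 0 → x = 0 := fun x hx => h.nondeg x fun y => by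
    have := hMb x y
    rw [hx, b_zero_left] at this
    exact σ.map_eq_zero_iff.1 ((mul_eq_zero.1 this.symm).resolve_left hlam)
  let G₀ : (ι → F) →ₗ[F] (ι → F) :=
    { toFun := fun y => M fun i => σ.symm (y i)
      map_add' := fun a b => by
        rw [← hMadd]; exact congrArg M (funext fun i => map_add σ.symm _ _)
      map_smul' := fun c a => by
        have : (fun i => σ.symm ((c • a) i)) = σ.symm c • fun i => σ.symm (a i) :=
          funext fun i => map_mul σ.symm c (a i)
        rw [this, hMsmul, RingEquiv.apply_symm_apply, RingHom.id_apply] }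
  have hu' : IsUnit (LinearMap.toMatrix' G₀) := by
    refine Matrix.mulVec_injective_iff_isUnit.1 fun a b e => ?_
    simp only [LinearMap.toMatrix'_mulVec] at e
    have : G₀ (a - b) = 0 := by rw [map_sub, e, sub_self]
    have h0 := hM0 _ this
    refine sub_eq_zero.1 (funext fun i => ?_)
    exact σ.symm.map_eq_zero_iff.1 (congrFun h0 i)
  have hact : ∀ x : ι → F, ((hu'.unit : GL ι F) : Matrix ι ι F) *ᵥ (fun i => σ (x i)) = M x := fun x => by
    show LinearMap.toMatrix' G₀ *ᵥ _ = _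
    rw [LinearMap.toMatrix'_mulVec]
    exact congrArg M (funext fun i => σ.symm_apply_apply (x i))
  refine ⟨hu'.unit, σ, ⟨Units.mk0 lam hlam, fun v => by rw [hact, hMq, Units.val_mk0]⟩,
    fun x hx hx0 => ?_⟩
  rw [hact]
  -- the images of the points off the tangent space of `u`
  have hpoint : ∀ v : par Q u f, M (f + (v : ι → F) - Q (v : ι → F) • u) =
      f + (L v : ι → F) - Q (L v : ι → F) • u := fun v => by
    obtain ⟨h1, h2⟩ := mem_par.1 v.2
    have e1 : B f (f + (v : ι → F) - Q (v : ι → F) • u) = -Q (v : ι → F) := by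
      rw [b_sub_right, b_add_right, b_smul_right, b_self_zero hf, h2, b_comm f u, huf]; ring
    have e2 : B u (f + (v : ι → F) - Q (v : ι → F) • u) = 1 := by
      rw [b_sub_right, b_add_right, b_smul_right, b_self_zero hu, h1, huf]; ring
    have e3 : parPart Q u f hu hf huf (f + (v : ι → F) - Q (v : ι → F) • u) = v := Subtype.ext (by
      show _ - _ • u - _ • f = _
      rw [e1, e2]; module)
    simp only [M, e1, e2, e3, map_one, map_neg, hLq]
    module
  obtain ⟨z, hz⟩ : ∃ z, z = parPart Q u f hu hf huf x := ⟨_, rfl⟩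
  have hx' : x = B f x • u + B u x • f + (z : ι → F) := hz ▸ decomp hu hf huf x
  have hqx : B f x * B u x + Q (z : ι → F) = 0 := by
    rw [← q_decomp hu hf huf, ← hx', hx]
  by_cases hbux : B u x = 0
  swap
  · obtain ⟨v, hv⟩ : ∃ v : par Q u f, v = (B u x)⁻¹ • z := ⟨_, rfl⟩
    have hxv : x = B u x • (f + (v : ι → F) - Q (v : ι → F) • u) := by
      conv_lhs => rw [hx']
      rw [hv, Submodule.coe_smul, q_smul]
      match_scalars <;> field_simp
      linear_combination hqx
    have h1 := (hL v).smul hbux (fun e => hbux (σ.map_eq_zero_iff.1 e))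
    rwa [← hpoint, ← hMsmul, ← hxv] at h1
  obtain ⟨y, hy⟩ := ImPt.exists (β := β) h hx hx0
  have huy : B u y = 0 := (ImPt.perp h hβu hy).1 hbux
  by_cases hz0 : z = 0
  · have hxu : x = B f x • u := by
      conv_lhs => rw [hx']
      rw [hz0, hbux, zero_smul, add_zero, Submodule.coe_zero, add_zero]
    have hfx : B f x ≠ 0 := fun e => hx0 (by rw [hxu, e, zero_smul])
    have h1 := hβu.smul (b := lam * σ (B f x)) hfx
      (mul_ne_zero hlam (fun e => hfx (σ.map_eq_zero_iff.1 e)))
    rw [← hxu] at h1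
    simpa only [M, hbux, ← hz, hz0, map_zero, zero_smul, add_zero, Submodule.coe_zero] using h1
  -- compare with `M x` on the points off the tangent space of `u`
  obtain ⟨z', hz'⟩ : ∃ z', z' = parPart Q u f hu hf huf y := ⟨_, rfl⟩
  have hy' : y = B f y • u + (z' : ι → F) := by
    rw [hz']
    conv_lhs => rw [decomp hu hf huf y, huy, zero_smul, add_zero]
  obtain ⟨α₂, hα₂⟩ : ∃ α₂, α₂ = lam * σ (B f x) := ⟨_, rfl⟩
  have hMx : M x = α₂ • u + (L z : ι → F) := by
    simp only [M, hbux, map_zero, zero_smul, add_zero, ← hz, hα₂]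
  have hbs : ∀ (a : F) (t w : par Q u f),
      B (a • u + (t : ι → F)) (f + (w : ι → F) - Q (w : ι → F) • u) =
        a + B (t : ι → F) (w : ι → F) := fun a t w => by
    obtain ⟨h1, h2⟩ := mem_par.1 t.2
    obtain ⟨h3, -⟩ := mem_par.1 w.2
    simp only [b_add_left, b_add_right, b_sub_right, b_smul_left, b_smul_right, b_self_zero hu,
      huf, h3, b_comm (t : ι → F) f, h2, b_comm (t : ι → F) u, h1]
    ring
  have hiff : ∀ w : par Q u f,
      (B f y + B (z' : ι → F) (w : ι → F) = 0 ↔ α₂ + B (L z : ι → F) (w : ι → F) = 0) := fun w => by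
    obtain ⟨v, rfl⟩ := L.surjective w
    have h1 := ImPt.perp h hy (hL v)
    have h2 := hMb x (f + (v : ι → F) - Q (v : ι → F) • u)
    rw [hpoint, hMx, hbs] at h2
    rw [hy', hbs] at h1
    rw [← h1, h2, mul_eq_zero, or_iff_right hlam, map_eq_zero_iff σ σ.injective]
  have hnd : ∀ t : par Q u f, (∀ w : par Q u f, B (t : ι → F) (w : ι → F) = 0) → t = 0 := fun t ht =>
    Subtype.ext (h.nondeg _ fun s => by
      rw [decomp hu hf huf s, b_add_right, b_add_right, b_smul_right, b_smul_right,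
        b_comm (t : ι → F) u, (mem_par.1 t.2).1, b_comm (t : ι → F) f, (mem_par.1 t.2).2, ht]
      ring)
  obtain ⟨v₁, hv₁⟩ : ∃ v₁ : par Q u f, B (L z : ι → F) (v₁ : ι → F) = 1 := by
    obtain ⟨w, hw⟩ : ∃ w : par Q u f, B (L z : ι → F) (w : ι → F) ≠ 0 := by
      by_contra hc
      push Not at hc
      exact hz0 (L.injective (by rw [map_zero]; exact hnd _ hc))
    exact ⟨(B (L z : ι → F) (w : ι → F))⁻¹ • w,
      by rw [Submodule.coe_smul, b_smul_right, inv_mul_cancel₀ hw]⟩
  obtain ⟨γ, hγ⟩ : ∃ γ, γ = B (z' : ι → F) (v₁ : ι → F) := ⟨_, rfl⟩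
  have hαy : B f y = α₂ * γ := by
    have := (hiff ((-α₂) • v₁)).2 (by rw [Submodule.coe_smul, b_smul_right, hv₁]; ring)
    rw [Submodule.coe_smul, b_smul_right, ← hγ] at this
    linear_combination this
  have hzγ : z' = γ • L z := sub_eq_zero.1 (hnd _ fun w => by
    have := (hiff (w + (-α₂ - B (L z : ι → F) (w : ι → F)) • v₁)).2 (by
      rw [Submodule.coe_add, Submodule.coe_smul, b_add_right, b_smul_right, hv₁]; ring)
    rw [Submodule.coe_add, Submodule.coe_smul, b_add_right, b_smul_right, ← hγ, hαy] at this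
    rw [Submodule.coe_sub, Submodule.coe_smul, b_sub_left, b_smul_left]
    linear_combination this)
  have hyM : y = γ • M x := by
    rw [hy', hαy, hzγ, hMx, Submodule.coe_smul, smul_add, smul_smul, mul_comm α₂ γ]
  have hγ0 : γ ≠ 0 := fun e => hy.2.2.2.1 (by rw [hyM, e, zero_smul])
  have h1 := hy.smul (one_ne_zero) (inv_ne_zero hγ0)
  rwa [one_smul, hyM, inv_smul_smul₀ hγ0] at h1

theorem inner_mem (g₀ : Ω) : MulAut.conj (prj Q g₀) ∈ Cfsg.gammaPOmega F ⇑Q := by
  refine Subgroup.subset_closure ⟨((g₀ : Grp Q) : GL ι F), RingEquiv.refl F, ⟨1, fun v => ?_⟩,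
    fun s s' hs => ?_⟩
  · rw [Units.val_one, one_mul]
    exact ap_q (g₀ : Grp Q) v
  · have e : s' = g₀ * s * g₀⁻¹ := by
      refine Subtype.ext (Subtype.ext (Units.ext ?_))
      rw [hs]
      simp only [RingEquiv.coe_refl, Matrix.map_id, Subgroup.coe_mul, Subgroup.coe_inv, Units.val_mul]
    rw [e]
    rfl

include h in
/-- All automorphisms of `PΩ(Q)` come from semisimilarities. -/
theorem gamma_eq_top : Cfsg.gammaPOmega F ⇑Q = ⊤ := by
  rw [Subgroup.eq_top_iff']
  intro β₀
  obtain ⟨u, hu, hu0⟩ := exists_nonzero_singular (Q := Q) h.five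
  obtain ⟨f, hf, huf⟩ := exists_partner h.nondeg hu hu0
  have hf0 : f ≠ 0 := ne_zero_of_b (Q := Q) (y := u) (by rw [b_comm, huf]; exact one_ne_zero)
  obtain ⟨w, hw⟩ := ImPt.exists (β := β₀) h hu hu0
  obtain ⟨w', hw'⟩ := ImPt.exists (β := β₀) h hf hf0
  have hww : B w w' ≠ 0 := fun e => one_ne_zero (huf.symm.trans ((ImPt.perp h hw hw').2 e))
  have hw'' : ImPt β₀ f ((B w w')⁻¹ • w') := by
    simpa using hw'.smul one_ne_zero (inv_ne_zero hww)
  obtain ⟨e, he, he1, he2⟩ := exists_move_pair h.nondeg h.five hw.2.2.1 hw''.2.2.1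
    (by rw [b_smul_right, inv_mul_cancel₀ hww]) hu hf huf
  obtain ⟨g₀, hg₀⟩ : ∃ g₀ : Ω, (g₀ : Grp Q) = e :=
    ⟨⟨e, by rw [omega_eq_El h.nondeg h.five]; exact he⟩, rfl⟩
  set β := MulAut.conj (prj Q g₀) * β₀ with hβ
  have hcomp : ∀ x y, ImPt β₀ x y → ImPt β x (ap (g₀ : Grp Q) y) := by
    rintro x y ⟨hx, hx0, hy, hy0, e'⟩
    refine ⟨hx, hx0, by rw [ap_q, hy], fun e'' => hy0 (ap_inj _ (e''.trans (ap_zero _).symm)), ?_⟩
    rw [ppstab_conj, ← e', Subgroup.map_map]
    rfl
  have hβu : ImPt β u u := by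
    have := hcomp _ _ hw
    rwa [hg₀, he1] at this
  have hβf : ImPt β f f := by
    have := hcomp _ _ hw''
    rwa [hg₀, he2] at this
  obtain ⟨g, σ, hsim, hpts⟩ := exists_semisim h hu hf huf hβu hβf
  suffices hβmem : β ∈ Cfsg.gammaPOmega F ⇑Q by
    have h1 := Subgroup.mul_mem _ (Subgroup.inv_mem _ (inner_mem (Q := Q) g₀)) hβmem
    rwa [hβ, inv_mul_cancel_left] at h1
  refine Subgroup.subset_closure ⟨g, σ, hsim, fun s s' hs => ?_⟩
  obtain ⟨k, hk⟩ := prj_surjective (Q := Q) (β (prj Q s))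
  show β (prj Q s) = prj Q s'
  rw [← hk]
  let M : (ι → F) → (ι → F) := fun x => (g : Matrix ι ι F) *ᵥ fun i => σ (x i)
  have hcomm : ∀ x, ap (s' : Grp Q) (M x) = M (ap (s : Grp Q) x) := fun x => by
    have e3 : (fun i => σ (ap (s : Grp Q) x i)) =
        ((((s : Grp Q) : GL ι F) : Matrix ι ι F)).map σ *ᵥ fun i => σ (x i) :=
      funext fun i => RingHom.map_mulVec σ.toRingHom _ x i
    show (((s' : Grp Q) : GL ι F) : Matrix ι ι F) *ᵥ ((g : Matrix ι ι F) *ᵥ _) =
      (g : Matrix ι ι F) *ᵥ (fun i => σ (ap (s : Grp Q) x i))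
    rw [hs, e3, Matrix.mulVec_mulVec, Matrix.mulVec_mulVec, Matrix.mul_assoc, ← Units.val_mul,
      inv_mul_cancel, Units.val_one, Matrix.mul_one]
  obtain ⟨c, hc⟩ := exists_scalar_of_fixes h.nondeg h.five (g := ((s'⁻¹ * k : Ω) : Grp Q)) fun y hy => by
    by_cases hy0 : y = 0
    · exact ⟨1, by rw [hy0, ap_zero, smul_zero]⟩
    -- pull back along the semisimilarity
    obtain ⟨x, hxy⟩ : ∃ x, M x = y := by
      refine ⟨fun i => σ.symm (((g⁻¹ : GL ι F) : Matrix ι ι F).mulVec y i), ?_⟩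
      show (g : Matrix ι ι F) *ᵥ _ = y
      rw [show (fun i => σ (σ.symm (((g⁻¹ : GL ι F) : Matrix ι ι F).mulVec y i))) =
          ((g⁻¹ : GL ι F) : Matrix ι ι F) *ᵥ y from funext fun i => σ.apply_symm_apply _,
        Matrix.mulVec_mulVec, ← Units.val_mul, mul_inv_cancel, Units.val_one, Matrix.one_mulVec]
    have hx : Q x = 0 := by
      obtain ⟨c, hc⟩ := hsim
      have := hc x
      rw [show (g : Matrix ι ι F) *ᵥ (fun i => σ (x i)) = y from hxy, hy] at this
      exact σ.map_eq_zero_iff.1 ((mul_eq_zero.1 this.symm).resolve_left c.ne_zero)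
    have hx0 : x ≠ 0 := fun e => hy0 (by
      rw [← hxy, e]
      show (g : Matrix ι ι F) *ᵥ _ = 0
      rw [show (fun i => σ ((0 : ι → F) i)) = 0 from funext fun i => map_zero σ, Matrix.mulVec_zero])
    have h1 := (hxy ▸ hpts x hx hx0 : ImPt β x y).move (g := s) (k := k) hk
    have h2 : ImPt β (ap (s : Grp Q) x) (ap (s' : Grp Q) y) := by
      have := hpts (ap (s : Grp Q) x) (by rw [ap_q, hx])
        (fun e => hx0 (ap_inj _ (e.trans (ap_zero _).symm)))
      rw [← hxy, hcomm]
      exact this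
    obtain ⟨a, -, ha⟩ := ImPt.unique h h2 h1
    refine ⟨a, ?_⟩
    rw [Subgroup.coe_mul, Subgroup.coe_inv, ap_mul, ha, ap_smul, ap_inv_ap]
  have hz := mem_center_of_scalar hc
  rw [← prj_ker, MonoidHom.mem_ker, map_mul, map_inv, inv_mul_eq_one] at hz
  exact hz.symm

end CfsgLib.OrthAut
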