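import Cfsg.Agent.Lib.OrthAut.AbstractOrth
import Cfsg.Agent.Lib.OrthAut.Balance
import Cfsg.Agent.Lib.OrthAut.InndiagQuot

/-!
Local balance holds for involutory similitudes exchanging the two classes.
-/

set_option autoImplicit false
set_option linter.unusedSectionVars false

namespace CfsgLib.OrthAut

open Matrix CfsgLib.Orth CfsgLib.AutPSL
open CfsgLib.ClassicalAut (scal scal_coe)
open CfsgLib.ClassicalAut.Balance (Fix)

universe u

variable {F : Type u} [Field F] [Fintype F] {ι : Type} [Fintype ι] [DecidableEq ι]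
variable {Q : QuadraticForm F (ι → F)}

/-- An element commuting with a semisimilarity is fixed by its action. -/
theorem psi_fix {y : semi Q} {s : Cfsg.Omega F ⇑Q}
    (hc : ∀ v, sv (y : Semilin F ι) (ap (s : Grp Q) v) = ap (s : Grp Q) (sv (y : Semilin F ι) v)) :
    psi Q y (prj Q s) = prj Q s := by
  refine (psi_mk _ _).trans (congrArg (prj Q) (Subtype.ext (ext_ap fun v => ?_)))
  obtain ⟨w, rfl⟩ : ∃ w, sv (y : Semilin F ι) w = v :=
    ⟨sv ((y : Semilin F ι)⁻¹) v, by rw [← sv_mul, mul_inv_cancel, sv_one]⟩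
  rw [onOmega_coe, ap_onGrp, hc]

/-- The square of a central element is trivial. -/
theorem center_sq (h : Fine Q) {z : Cfsg.Omega F ⇑Q} (hz : z ∈ Subgroup.center (Cfsg.Omega F ⇑Q)) :
    z * z = 1 := by
  obtain ⟨a, ha⟩ := center_scalar h.nondeg h.five hz
  obtain ⟨v, hv⟩ := exists_aniso h.nondeg (le_trans (by norm_num) h.five)
  have h1 := ap_q (z : Grp Q) v
  rw [ha, q_smul] at h1
  have h2 : a * a = 1 := mul_right_cancel₀ hv (h1.trans (one_mul _).symm)
  refine Subtype.ext (ext_ap fun x => ?_)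
  rw [Subgroup.coe_mul, ap_mul, ha, ha, smul_smul, h2, one_smul, Subgroup.coe_one, ap_one]

/-- Elements of the same odd exponent differing by a central element are equal. -/
theorem eq_of_odd_pow (h : Fine Q) {m : ℕ} (hm : Odd m) {a b : Cfsg.Omega F ⇑Q} (ha : a ^ m = 1) (hb : b ^ m = 1)
    (hc : a⁻¹ * b ∈ Subgroup.center (Cfsg.Omega F ⇑Q)) : a = b := by
  obtain ⟨z, rfl⟩ : ∃ z, b = a * z := ⟨a⁻¹ * b, (mul_inv_cancel_left a b).symm⟩
  rw [inv_mul_cancel_left] at hc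
  have hcomm : Commute a z := Subgroup.mem_center_iff.1 hc a
  rw [hcomm.mul_pow, ha, one_mul] at hb
  obtain ⟨j, hj⟩ := hm
  rw [hj, pow_succ, pow_mul, pow_two, center_sq h hc, one_pow, one_mul] at hb
  rw [hb, mul_one]

/-- A normal subgroup of odd order of the fixed points lifts to a subgroup of odd order. -/
theorem exists_odd_lift (h : Fine Q) (y : semi Q) (M : Subgroup (Fix (psi Q y))) (hn : M.Normal)
    (hodd : Odd (Nat.card M)) :
    ∃ T : Subgroup (Grp Q), Odd (Nat.card T) ∧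
      (∀ t ∈ T, ∀ v, sv (y : Semilin F ι) (ap t v) = ap t (sv (y : Semilin F ι) v)) ∧
      (∀ s : Cfsg.Omega F ⇑Q, (∀ v, sv (y : Semilin F ι) (ap (s : Grp Q) v) = ap (s : Grp Q) (sv (y : Semilin F ι) v)) →
        ∀ t ∈ T, (s : Grp Q) * t * (s : Grp Q)⁻¹ ∈ T) ∧ (T = ⊥ → M = ⊥) := by
  set M' := M.map (Fix (psi Q y)).subtype with hM'
  set P := M'.comap (prj Q) with hP
  let φ : P →* M' := ((prj Q).comp P.subtype).codRestrict M' fun t => t.2
  have hφ : Function.Surjective φ := fun k => by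
    obtain ⟨s, hs⟩ := prj_surjective (Q := Q) (k : Cfsg.POmega F ⇑Q)
    exact ⟨⟨s, show prj Q s ∈ M' by rw [hs]; exact k.2⟩, Subtype.ext hs⟩
  have hcardM : Nat.card M' = Nat.card M :=
    (Nat.card_congr (M.equivMapOfInjective _ (Fix (psi Q y)).subtype_injective).toEquiv).symm
  set N := φ.ker with hN
  have hNc : ∀ n : P, n ∈ N → (n : Cfsg.Omega F ⇑Q) ∈ Subgroup.center (Cfsg.Omega F ⇑Q) := fun n hn => by
    rw [← prj_ker]
    exact congrArg Subtype.val (show φ n = 1 from hn)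
  have hNsq : ∀ n : P, n ∈ N → n * n = 1 := fun n hn => Subtype.ext (center_sq h (hNc n hn))
  have hidx : N.index = Nat.card M := by
    rw [hN, Subgroup.index_ker, MonoidHom.range_eq_top.2 hφ, ← hcardM]
    exact Nat.card_congr Subgroup.topEquiv.toEquiv
  have hcop : Nat.Coprime (Nat.card N) N.index := by
    refine Nat.coprime_of_dvd fun q hq h1 h2 => ?_
    haveI := Fact.mk hq
    obtain ⟨n, hn⟩ := exists_prime_orderOf_dvd_card' (G := N) q h1
    have h3 : q ∣ 2 := hn ▸ orderOf_dvd_of_pow_eq_one (Subtype.ext (by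
      rw [pow_two, Subgroup.coe_mul]; exact hNsq _ n.2))
    rw [(Nat.prime_dvd_prime_iff_eq hq Nat.prime_two).1 h3, hidx] at h2
    exact absurd (even_iff_two_dvd.2 h2) (Nat.not_even_iff_odd.2 hodd)
  obtain ⟨H, hH⟩ := Subgroup.exists_right_complement'_of_coprime hcop
  have hcardH : Nat.card H = Nat.card M := by
    rw [← hidx]
    refine mul_left_cancel₀ (Nat.card_pos (α := N)).ne' ?_
    rw [hH.card_mul_card, N.card_mul_index]
  have hmem : ∀ t : P, t ^ Nat.card M = 1 ↔ t ∈ H := by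
    intro t
    constructor
    · intro ht
      obtain ⟨⟨n, k⟩, hnk⟩ := (Subgroup.isComplement'_def.1 hH).2 t
      have hnk' : (n : P) * (k : P) = t := hnk
      have hcomm : Commute (n : P) (k : P) :=
        Subtype.ext (Subgroup.mem_center_iff.1 (hNc n n.2) (k : P)).symm
      have hk : (k : P) ^ Nat.card M = 1 := by
        rw [← hcardH, ← SubmonoidClass.coe_pow, pow_card_eq_one']
        rfl
      rw [← hnk', hcomm.mul_pow, hk, mul_one] at ht
      obtain ⟨j, hj⟩ := hodd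
      rw [hj, pow_succ, pow_mul, pow_two, hNsq n n.2, one_pow, one_mul] at ht
      rw [← hnk', ht, one_mul]
      exact k.2
    · intro ht
      rw [← hcardH, show t = ((⟨t, ht⟩ : H) : P) from rfl, ← SubmonoidClass.coe_pow, pow_card_eq_one']
      rfl
  let T := (H.map P.subtype).map (Cfsg.Omega F ⇑Q).subtype
  have hT : ∀ g : Grp Q, g ∈ T ↔ ∃ t : P, t ^ Nat.card M = 1 ∧ ((t : Cfsg.Omega F ⇑Q) : Grp Q) = g := by
    intro g
    constructor
    · rintro ⟨_, ⟨t, ht, rfl⟩, rfl⟩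
      exact ⟨t, (hmem t).2 ht, rfl⟩
    · rintro ⟨t, ht, rfl⟩
      exact ⟨_, ⟨t, (hmem t).1 ht, rfl⟩, rfl⟩
  refine ⟨T, ?_, fun g hg v => ?_, fun s hs g hg => ?_, fun hbot => ?_⟩
  · rw [show Nat.card T = Nat.card H from
      (Nat.card_congr ((H.equivMapOfInjective _ P.subtype_injective).trans
        ((H.map P.subtype).equivMapOfInjective _ (Cfsg.Omega F ⇑Q).subtype_injective)).toEquiv).symm, hcardH]
    exact hodd
  · obtain ⟨t, ht, rfl⟩ := (hT g).1 hg
    obtain ⟨k, hk, hk'⟩ := (show prj Q (t : Cfsg.Omega F ⇑Q) ∈ M' from t.2)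
    have hfix : psi Q y (prj Q (t : Cfsg.Omega F ⇑Q)) = prj Q (t : Cfsg.Omega F ⇑Q) := by
      rw [← hk']; exact k.2
    rw [psi_mk] at hfix
    have hc : (t : Cfsg.Omega F ⇑Q)⁻¹ * onOmega Q y (t : Cfsg.Omega F ⇑Q) ∈ Subgroup.center _ :=
      QuotientGroup.eq.1 hfix.symm
    have hm : (t : Cfsg.Omega F ⇑Q) ^ Nat.card M = 1 := congrArg Subtype.val ht
    have heq : onOmega Q y (t : Cfsg.Omega F ⇑Q) = (t : Cfsg.Omega F ⇑Q) :=
      (eq_of_odd_pow h hodd hm (((map_pow (onOmega Q y) _ _).symm.trans (congrArg _ hm)).trans (map_one _)) hc).symm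
    rw [← ap_onGrp y, ← onOmega_coe, heq]
  · obtain ⟨t, ht, rfl⟩ := (hT g).1 hg
    have hmemP : s * (t : Cfsg.Omega F ⇑Q) * s⁻¹ ∈ P := by
      obtain ⟨k, hk, hk'⟩ := (show prj Q (t : Cfsg.Omega F ⇑Q) ∈ M' from t.2)
      show prj Q (s * (t : Cfsg.Omega F ⇑Q) * s⁻¹) ∈ M'
      refine ⟨⟨prj Q s, psi_fix hs⟩ * k * ⟨prj Q s, psi_fix hs⟩⁻¹, hn.conj_mem k hk _, ?_⟩
      show prj Q s * (k : Cfsg.POmega F ⇑Q) * (prj Q s)⁻¹ = _
      rw [show (k : Cfsg.POmega F ⇑Q) = prj Q (t : Cfsg.Omega F ⇑Q) from hk', ← map_inv, ← map_mul, ← map_mul]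
    exact (hT _).2 ⟨⟨_, hmemP⟩, Subtype.ext (by
      show (s * (t : Cfsg.Omega F ⇑Q) * s⁻¹) ^ Nat.card M = 1
      rw [conj_pow, show (t : Cfsg.Omega F ⇑Q) ^ Nat.card M = 1 from congrArg Subtype.val ht, mul_one,
        mul_inv_cancel]), rfl⟩
  · refine Subgroup.card_eq_one.1 ?_
    rw [← hcardH, Subgroup.card_eq_one]
    refine (Subgroup.eq_bot_iff_forall _).2 fun t ht => Subtype.ext (Subtype.ext ?_)
    exact (Subgroup.eq_bot_iff_forall _).1 hbot _ ⟨_, ⟨t, ht, rfl⟩, rfl⟩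

/-- The criterion for a trivial core. -/
theorem core_bot (h : Good Q) (A : Subgroup (MulAut (Cfsg.POmega F ⇑Q))) (hinn : ∀ k, MulAut.conj k ∈ A)
    {y : semi Q} (hyA : psi Q y ∈ A) (hord : orderOf (psi Q y) = 2)
    (hex : ∃ s : Cfsg.Omega F ⇑Q,
      (∀ v, sv (y : Semilin F ι) (ap (s : Grp Q) v) = ap (s : Grp Q) (sv (y : Semilin F ι) v)) ∧
      prj Q s ≠ 1 ∧ s * s = 1)
    (hT : ∀ T : Subgroup (Grp Q), Odd (Nat.card T) →
      (∀ t ∈ T, ∀ v, sv (y : Semilin F ι) (ap t v) = ap t (sv (y : Semilin F ι) v)) →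
      (∀ s : Cfsg.Omega F ⇑Q, (∀ v, sv (y : Semilin F ι) (ap (s : Grp Q) v) = ap (s : Grp Q) (sv (y : Semilin F ι) v)) →
        ∀ t ∈ T, (s : Grp Q) * t * (s : Grp Q)⁻¹ ∈ T) → T = ⊥)
    (hcent : ∀ z : semi Q, (∀ s : Cfsg.Omega F ⇑Q,
      (∀ v, sv (y : Semilin F ι) (ap (s : Grp Q) v) = ap (s : Grp Q) (sv (y : Semilin F ι) v)) →
        psi Q z (prj Q s) = prj Q s) → psi Q z ∈ Subgroup.zpowers (psi Q y)) :
    Cfsg.pPrimeCore 2 ↥(A ⊓ Subgroup.centralizer {psi Q y}) = ⊥ := by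
  haveI : Finite (Cfsg.POmega F ⇑Q) := inferInstance
  haveI : Fact (Nat.Prime 2) := ⟨Nat.prime_two⟩
  have hker : ∀ k : Cfsg.POmega F ⇑Q, MulAut.conj k = 1 → k = 1 := fun k hk => by
    obtain ⟨s, rfl⟩ := prj_surjective (Q := Q) k
    rw [← psi_incl, show incl Q (s : Grp Q) = simInc Q ⟨((s : Grp Q) : GL ι F), isometry_le_sim (s : Grp Q).2⟩ from
      Subtype.ext (SemidirectProduct.ext rfl rfl), psi_simInc_eq_one_iff h] at hk
    obtain ⟨c, hc⟩ := hk
    exact (QuotientGroup.eq_one_iff _).2 (mem_center_of_scalar (a := (c : F)) fun y => by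
      show (((s : Grp Q) : GL ι F) : Matrix ι ι F) *ᵥ y = _
      rw [show ((s : Grp Q) : GL ι F) = scal c from hc, scal_coe, smul_mulVec, one_mulVec])
  obtain ⟨s, hs, hs1, hss⟩ := hex
  let k : Fix (psi Q y) := ⟨prj Q s, psi_fix hs⟩
  have h2 : 2 ∣ Nat.card (Fix (psi Q y)) := by
    have hk : orderOf k = 2 := orderOf_eq_prime (Subtype.ext (by
      show prj Q s ^ 2 = 1
      rw [pow_two, ← map_mul, hss, map_one])) fun e => hs1 (congrArg Subtype.val e)
    exact hk ▸ orderOf_dvd_natCard k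
  by_contra hne
  have h3 := (CfsgLib.ClassicalAut.Balance.pPrimeCore_ne_bot_iff A hinn hker hyA hord ⟨_, hs1, k.2⟩
    (fun _ M hn hMne => ?_) (fun g hg => ?_)).1 hne
  · exact (Nat.Prime.coprime_iff_not_dvd Nat.prime_two).1 h3 h2
  · by_contra hM2
    obtain ⟨T, hTo, hTc, hTn, hTM⟩ := exists_odd_lift h.fine y M hn
      (Nat.odd_iff.2 (by omega))
    exact hMne (hTM (hT T hTo hTc hTn))
  · obtain ⟨z, rfl⟩ := psi_surjective h g
    exact hcent z fun s hs => hg _ (psi_fix hs)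

/-- A semisimilarity fixing an involution of `PΩ` preserves the smaller of its eigenspaces. -/
theorem neg_space (h : Fine Q) {z : semi Q} {s : Cfsg.Omega F ⇑Q} (hz : psi Q z (prj Q s) = prj Q s)
    {P U : Set (ι → F)} (hP : ∀ v, ap (s : Grp Q) v = -v ↔ v ∈ P) (hU : ∀ v ∈ U, ap (s : Grp Q) v = v)
    (hcard : Nat.card P < Nat.card U) : ∀ v ∈ P, sv (z : Semilin F ι) v ∈ P := by
  rw [psi_mk] at hz
  have hc : s⁻¹ * onOmega Q z s ∈ Subgroup.center (Cfsg.Omega F ⇑Q) := QuotientGroup.eq.1 hz.symm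
  obtain ⟨a, ha⟩ := center_scalar h.nondeg h.five hc
  have ha2 : a * a = 1 := by
    obtain ⟨w, hw⟩ := exists_aniso h.nondeg (le_trans (by norm_num) h.five)
    have h1 := ap_q ((s⁻¹ * onOmega Q z s : Cfsg.Omega F ⇑Q) : Grp Q) w
    rw [ha, q_smul] at h1
    exact mul_right_cancel₀ hw (h1.trans (one_mul _).symm)
  have h1 : ∀ v, sv (z : Semilin F ι) (ap (s : Grp Q) v) = a • ap (s : Grp Q) (sv (z : Semilin F ι) v) := fun v => by
    rw [← ap_onGrp, ← onOmega_coe, show onOmega Q z s = s * (s⁻¹ * onOmega Q z s) by rw [mul_inv_cancel_left],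
      Subgroup.coe_mul, ap_mul, ha, ap_smul]
  have hneg : ∀ v, sv (z : Semilin F ι) (-v) = -sv (z : Semilin F ι) v := fun v => by
    rw [← neg_one_smul F v, sv_smul, map_neg, map_one, neg_one_smul]
  rcases mul_self_eq_one_iff.1 ha2 with rfl | rfl
  · intro v hv
    refine (hP _).1 ?_
    have h3 := h1 v
    rw [(hP v).2 hv, hneg, one_smul] at h3
    exact h3.symm
  · exfalso
    have hmem : ∀ v ∈ U, sv (z : Semilin F ι) v ∈ P := fun v hv => (hP _).1 (by
      have h3 := h1 v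
      rw [hU v hv, neg_one_smul] at h3
      exact (neg_eq_iff_eq_neg.2 h3).symm)
    exact absurd (Nat.card_le_card_of_injective (fun v : U => (⟨_, hmem v v.2⟩ : P)) fun v w e =>
      Subtype.ext (sv_inj _ (congrArg Subtype.val e))) hcard.not_ge

/-- The product of two reflections with the same class. -/
theorem exists_pair (h : Fine Q) (h2 : (2 : F) ≠ 0) {a b : ι → F} (ha : Q a ≠ 0) (hb : Q b ≠ 0)
    (hsq : IsSquare (Q a * Q b)) :
    ∃ r₁ r₂ : Grp Q, IsRefl a r₁ ∧ IsRefl b r₂ ∧ ∃ s : Cfsg.Omega F ⇑Q, (s : Grp Q) = r₁ * r₂ := by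
  obtain ⟨r₁, hr₁⟩ := exists_refl h.nondeg ha
  obtain ⟨r₂, hr₂⟩ := exists_refl h.nondeg hb
  have h3 := QuotientGroup.eq.1 (mk_refl_of_square h.nondeg h2 hr₁ hr₂ hsq)
  rw [refl_inv hr₁] at h3
  exact ⟨r₁, r₂, hr₁, hr₂, ⟨_, h3⟩, rfl⟩

/-- The product of orthogonal reflections with the same class is an involution. -/
theorem pair_apply {a b : ι → F} {r₁ r₂ : Grp Q} (hr₁ : IsRefl a r₁) (hr₂ : IsRefl b r₂)
    (hab : QuadraticMap.polar Q a b = 0) (h2 : (2 : F) ≠ 0) :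
    (∀ x, QuadraticMap.polar Q a x = 0 → QuadraticMap.polar Q b x = 0 → ap (r₁ * r₂) x = x) ∧
      (∀ p q : F, ap (r₁ * r₂) (p • a + q • b) = -(p • a + q • b)) ∧
      (∀ x, ap (r₁ * r₂) x = -x ↔ ∃ p q : F, p • a + q • b = x) := by
  have hba : QuadraticMap.polar Q b a = 0 := (b_comm b a).trans hab
  have t1 : ap (r₁ * r₂) a = -a := by rw [ap_mul, refl_fix hr₂ hba, refl_self hr₁]
  have t2 : ap (r₁ * r₂) b = -b := by
    rw [ap_mul, refl_self hr₂, ← neg_one_smul F b, ap_smul, refl_fix hr₁ hab, neg_one_smul]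
  have hpq : ∀ p q : F, ap (r₁ * r₂) (p • a + q • b) = -(p • a + q • b) := fun p q => by
    rw [ap_add, ap_smul, ap_smul, t1, t2]; module
  have hfix : ∀ x, QuadraticMap.polar Q a x = 0 → QuadraticMap.polar Q b x = 0 → ap (r₁ * r₂) x = x :=
    fun x h1 h3 => by rw [ap_mul, refl_fix hr₂ h3, refl_fix hr₁ h1]
  refine ⟨hfix, hpq, fun x => ⟨fun hx => ⟨QuadraticMap.polar Q a x / (2 * Q a), QuadraticMap.polar Q b x / (2 * Q b), ?_⟩,
    fun ⟨p, q, e⟩ => e ▸ hpq p q⟩⟩
  set p := QuadraticMap.polar Q a x / (2 * Q a) with hp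
  set q := QuadraticMap.polar Q b x / (2 * Q b) with hq
  have ha0 := hr₁.1
  have hb0 := hr₂.1
  have h1 := hfix (x - (p • a + q • b)) (by
    simp only [b_sub_right, b_add_right, b_smul_right, hab, b_self, hp]; field_simp; ring) (by
    simp only [b_sub_right, b_add_right, b_smul_right, hba, b_self, hq]; field_simp; ring)
  have hsub : ∀ x y, ap (r₁ * r₂) (x - y) = ap (r₁ * r₂) x - ap (r₁ * r₂) y := fun x y => by
    rw [sub_eq_add_neg x, ← neg_one_smul F y, ap_add, ap_smul, neg_one_smul, ← sub_eq_add_neg]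
  rw [hsub, hx, hpq] at h1
  have h3 : (2 : F) • (p • a + q • b - x) = 0 := by linear_combination (norm := module) h1
  exact sub_eq_zero.1 ((smul_eq_zero.1 h3).resolve_left h2)

/-- The action of a subgroup on an invariant subspace. -/
def resHom (T : Subgroup (Grp Q)) (W : Submodule F (ι → F)) (hW : ∀ t ∈ T, ∀ v ∈ W, ap t v ∈ W) :
    T →* (W ≃ₗ[F] W) where
  toFun t :=
    { toFun := fun v => ⟨ap (t : Grp Q) v, hW t t.2 v v.2⟩
      invFun := fun v => ⟨ap ((t : Grp Q)⁻¹) v, hW _ (inv_mem t.2) v v.2⟩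
      left_inv := fun v => Subtype.ext (by
        show ap ((t : Grp Q)⁻¹) (ap (t : Grp Q) (v : ι → F)) = _
        rw [← ap_mul, inv_mul_cancel, ap_one])
      right_inv := fun v => Subtype.ext (by
        show ap (t : Grp Q) (ap ((t : Grp Q)⁻¹) (v : ι → F)) = _
        rw [← ap_mul, mul_inv_cancel, ap_one])
      map_add' := fun v w => Subtype.ext (ap_add _ _ _)
      map_smul' := fun c v => Subtype.ext (ap_smul _ _ _) }
  map_one' := LinearEquiv.ext fun v => Subtype.ext (ap_one _)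
  map_mul' _ _ := LinearEquiv.ext fun v => Subtype.ext (ap_mul _ _ _)

theorem resHom_apply (T : Subgroup (Grp Q)) (W : Submodule F (ι → F)) (hW : ∀ t ∈ T, ∀ v ∈ W, ap t v ∈ W)
    (t : T) (v : W) : ((resHom T W hW t v : W) : ι → F) = ap (t : Grp Q) (v : ι → F) := rfl

/-- The polar form on a subspace. -/
abbrev formOn (Q : QuadraticForm F (ι → F)) (W : Submodule F (ι → F)) : W →ₗ[F] W →ₗ[F] F :=
  (QuadraticMap.polarBilin Q).compl₁₂ W.subtype W.subtype

theorem formOn_apply (W : Submodule F (ι → F)) (x y : W) :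
    formOn Q W x y = QuadraticMap.polar Q (x : ι → F) (y : ι → F) := rfl

section Square

variable (h : Good Q) (h2 : (2 : F) ≠ 0) {g : Cfsg.Geo.quadSimilarityGroup ⇑Q} {d : F} (hd : d ≠ 0)
variable {W W' : Submodule F (ι → F)}
variable (hgW : ∀ v ∈ W, ((g : GL ι F) : Matrix ι ι F) *ᵥ v = d • v)
variable (hgW' : ∀ v ∈ W', ((g : GL ι F) : Matrix ι ι F) *ᵥ v = -(d • v))
variable (hsum : ∀ x, ∃ u ∈ W, x - u ∈ W') (horth : ∀ u ∈ W, ∀ v ∈ W', QuadraticMap.polar Q u v = 0)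
variable (hW5 : 5 ≤ Module.finrank F W) (hW'odd : Odd (Module.finrank F W'))

include h hsum horth in
theorem nd_parts : Bil.Nd (QuadraticMap.polarBilin Q) W ∧ Bil.Nd (QuadraticMap.polarBilin Q) W' := by
  refine ⟨fun x hx hxy => h.nondeg x fun y => ?_, fun x hx hxy => h.nondeg x fun y => ?_⟩
  · obtain ⟨u, hu, hv⟩ := hsum y
    have h1 : QuadraticMap.polar Q x u = 0 := hxy u hu
    show QuadraticMap.polar Q x y = 0
    rw [← add_sub_cancel u y, b_add_right, h1, horth x hx _ hv, add_zero]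
  · obtain ⟨u, hu, hv⟩ := hsum y
    have h1 : QuadraticMap.polar Q x (y - u) = 0 := hxy _ hv
    show QuadraticMap.polar Q x y = 0
    rw [← add_sub_cancel u y, b_add_right, h1, b_comm x u, horth u hu x hx, add_zero]

include hgW hgW' hsum horth in
theorem refl_comm {a : ι → F} (ha : a ∈ W ∨ a ∈ W') {r : Grp Q} (hr : IsRefl a r) (x : ι → F) :
    ((g : GL ι F) : Matrix ι ι F) *ᵥ ap r x = ap r (((g : GL ι F) : Matrix ι ι F) *ᵥ x) := by
  obtain ⟨u, hu, hv⟩ := hsum x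
  have hgx : ((g : GL ι F) : Matrix ι ι F) *ᵥ x = d • u + -(d • (x - u)) := by
    conv_lhs => rw [← add_sub_cancel u x]
    rw [mulVec_add, hgW u hu, hgW' _ hv]
  rw [hr.2, hr.2, mulVec_sub, mulVec_smul]
  rcases ha with ha | ha
  · have e1 : QuadraticMap.polar Q a (x - u) = 0 := horth a ha _ hv
    rw [hgW a ha, hgx]
    rw [b_sub_right, sub_eq_zero] at e1
    simp only [b_add_right, b_sub_right, b_smul_right, ← neg_one_smul F (d • (x - u)), e1]
    module
  · have e1 : QuadraticMap.polar Q a u = 0 := by rw [b_comm]; exact horth u hu a ha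
    rw [hgW' a ha, hgx]
    simp only [b_add_right, b_sub_right, b_smul_right, ← neg_one_smul F (d • (x - u)), e1]
    module

include h h2 hd hgW hgW' hsum horth hW5 hW'odd in
theorem square_hT : ∀ T : Subgroup (Grp Q), Odd (Nat.card T) →
    (∀ t ∈ T, ∀ v, sv (simInc Q g : Semilin F ι) (ap t v) = ap t (sv (simInc Q g : Semilin F ι) v)) →
    (∀ s : Cfsg.Omega F ⇑Q, (∀ v, sv (simInc Q g : Semilin F ι) (ap (s : Grp Q) v) =
        ap (s : Grp Q) (sv (simInc Q g : Semilin F ι) v)) →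
      ∀ t ∈ T, (s : Grp Q) * t * (s : Grp Q)⁻¹ ∈ T) → T = ⊥ := by
  intro T hTo hTc hTn
  simp only [sv_simInc] at hTc hTn
  set f := QuadraticMap.polarBilin Q
  have hs : ∀ x y, f x y = f y x := fun x y => b_comm x y
  obtain ⟨hndW, hndW'⟩ := nd_parts h hsum horth
  have hmW : ∀ x, ((g : GL ι F) : Matrix ι ι F) *ᵥ x = d • x → x ∈ W := fun x hx => by
    obtain ⟨u, hu, hv⟩ := hsum x
    rw [← add_sub_cancel u x, mulVec_add, hgW u hu, hgW' _ hv] at hx
    have h3 : (2 * d) • (x - u) = 0 := by linear_combination (norm := module) -hx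
    rwa [sub_eq_zero.1 ((smul_eq_zero.1 h3).resolve_left (mul_ne_zero h2 hd))]
  have hmW' : ∀ x, ((g : GL ι F) : Matrix ι ι F) *ᵥ x = -(d • x) → x ∈ W' := fun x hx => by
    obtain ⟨u, hu, hv⟩ := hsum x
    rw [← add_sub_cancel u x, mulVec_add, hgW u hu, hgW' _ hv] at hx
    have h3 : (2 * d) • u = 0 := by linear_combination (norm := module) hx
    rwa [(smul_eq_zero.1 h3).resolve_left (mul_ne_zero h2 hd), sub_zero] at hv
  have hTW : ∀ t ∈ T, ∀ v ∈ W, ap t v ∈ W := fun t ht v hv => hmW _ (by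
    rw [hTc t ht, hgW v hv, ap_smul])
  have hTW' : ∀ t ∈ T, ∀ v ∈ W', ap t v ∈ W' := fun t ht v hv => hmW' _ (by
    rw [hTc t ht, hgW' v hv, ← neg_one_smul F (d • v), ap_smul, ap_smul, neg_one_smul])
  -- generic facts on the restrictions
  have hform : ∀ (U : Submodule F (ι → F)) (hU : ∀ t ∈ T, ∀ v ∈ U, ap t v ∈ U),
      ∀ σ ∈ (resHom T U hU).range, ∀ x y, formOn Q U (σ x) (σ y) = formOn Q U x y := by
    rintro U hU _ ⟨t, rfl⟩ x y
    exact ap_b _ _ _
  have hoddU : ∀ (U : Submodule F (ι → F)) (hU : ∀ t ∈ T, ∀ v ∈ U, ap t v ∈ U),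
      Odd (Nat.card (resHom T U hU).range) := fun U hU =>
    hTo.of_dvd_nat (Subgroup.card_range_dvd _)
  have hnorm : ∀ (U : Submodule F (ι → F)) (hU : ∀ t ∈ T, ∀ v ∈ U, ap t v ∈ U) (v : U) (hv : formOn Q U v v ≠ 0)
      (z : ι → F), ((v : ι → F) ∈ W ∧ z ∈ W' ∨ (v : ι → F) ∈ W' ∧ z ∈ W) → (∀ u ∈ U, QuadraticMap.polar Q z u = 0) →
      f z z ≠ 0 → IsSquare (f v v * f z z) →
      ∀ σ ∈ (resHom T U hU).range, Bil.rfl' (formOn Q U) v hv * σ * Bil.rfl' (formOn Q U) v hv ∈ (resHom T U hU).range := by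
    rintro U hU v hv z hvz hzU hz hsq _ ⟨t, rfl⟩
    have hv0 : Q (v : ι → F) ≠ 0 := fun e => hv (by rw [formOn_apply, b_self, e, mul_zero])
    have hz0 : Q z ≠ 0 := fun e => hz (by
      show QuadraticMap.polar Q z z = 0
      rw [b_self, e, mul_zero])
    have hsq' : IsSquare (Q (v : ι → F) * Q z) := by
      rw [show f (v : ι → F) (v : ι → F) = 2 * Q (v : ι → F) from b_self _, show f z z = 2 * Q z from b_self _] at hsq
      obtain ⟨r, hr⟩ := hsq
      exact ⟨r / 2, by field_simp; linear_combination hr⟩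
    obtain ⟨r₁, r₂, hr₁, hr₂, s, hs'⟩ := exists_pair h.fine h2 hv0 hz0 hsq'
    have hcom : ∀ x, ((g : GL ι F) : Matrix ι ι F) *ᵥ ap (s : Grp Q) x =
        ap (s : Grp Q) (((g : GL ι F) : Matrix ι ι F) *ᵥ x) := fun x => by
      rw [hs', ap_mul, ap_mul, refl_comm hgW hgW' hsum horth (hvz.elim (fun e => Or.inl e.1) fun e => Or.inr e.1) hr₁,
        refl_comm hgW hgW' hsum horth (hvz.elim (fun e => Or.inr e.2) fun e => Or.inl e.2) hr₂]
    refine ⟨⟨_, hTn s hcom t t.2⟩, LinearEquiv.ext fun u => Subtype.ext ?_⟩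
    have hR : ∀ w : U, ((Bil.rfl' (formOn Q U) v hv w : U) : ι → F) = ap r₁ (w : ι → F) := fun w => by
      rw [Bil.rfl'_apply, hr₁.2, formOn_apply, formOn_apply, b_self, Submodule.coe_sub, Submodule.coe_smul]
      congr 2
      field_simp
    have hr₂U : ∀ w ∈ U, ap r₂ w = w := fun w hw => refl_fix hr₂ (hzU w hw)
    rw [LinearEquiv.mul_apply, LinearEquiv.mul_apply, hR, resHom_apply, resHom_apply, hR]
    show ap ((s : Grp Q) * (t : Grp Q) * (s : Grp Q)⁻¹) (u : ι → F) = _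
    have hmem : ap r₁ (u : ι → F) ∈ U := hR u ▸ (Bil.rfl' (formOn Q U) v hv u).2
    rw [hs', _root_.mul_inv_rev, refl_inv hr₁, refl_inv hr₂, ap_mul, ap_mul, ap_mul, ap_mul, hr₂U _ hmem,
      hr₂U _ (hU _ t.2 _ hmem)]
  have hbotW' : ∀ t : T, resHom T W' hTW' t = 1 := by
    suffices (resHom T W' hTW').range = ⊥ from fun t => (Subgroup.eq_bot_iff_forall _).1 this _ ⟨t, rfl⟩
    rcases le_or_gt 3 (Module.finrank F W') with h3 | h3
    · refine Bil.eq_bot (f := formOn Q W') h2 (fun x y => b_comm _ _) (fun x hx => Subtype.ext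
        (hndW' x x.2 fun y hy => hx ⟨y, hy⟩)) _ (hoddU _ _) (hform _ _) 1 one_ne_zero h3 fun v hv _ => ?_
      obtain ⟨z, hz, hzz⟩ := Bil.exists_value (f := f) h2 hs hndW (by omega) hv
      exact hnorm _ _ v hv z (Or.inr ⟨v.2, hz⟩) (horth z hz) (hzz ▸ hv) (by rw [hzz]; exact ⟨_, rfl⟩)
    · refine (Subgroup.eq_bot_iff_forall _).2 fun σ hσ => LinearEquiv.ext fun x => ?_
      have h1 : Module.finrank F W' = 1 := by obtain ⟨j, hj⟩ := hW'odd; omega
      obtain ⟨v, hv0, hvs⟩ := finrank_eq_one_iff'.1 h1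
      obtain ⟨a, ha⟩ := hvs (σ v)
      have hvv : formOn Q W' v v ≠ 0 := fun e => hv0 (Subtype.ext (hndW' v v.2 fun y hy => by
        obtain ⟨b, hb⟩ := hvs ⟨y, hy⟩
        rw [show y = ((b • v : W') : ι → F) from (congrArg Subtype.val hb).symm, Submodule.coe_smul, map_smul]
        show b • formOn Q W' v v = 0
        rw [e, smul_zero]))
      have ha2 : a * a = 1 := by
        have h4 := hform _ _ σ hσ v v
        rw [← ha, map_smul, LinearMap.map_smul₂, smul_eq_mul, smul_eq_mul, ← mul_assoc] at h4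
        exact mul_right_cancel₀ hvv (h4.trans (one_mul _).symm)
      have h5 := Bil.fix_of_neg h2 _ (hoddU _ _) hσ ha.symm ha2
      obtain ⟨b, rfl⟩ := hvs x
      rw [map_smul, h5]
      rfl
  have hbotW : ∀ t : T, resHom T W hTW t = 1 := by
    suffices (resHom T W hTW).range = ⊥ from fun t => (Subgroup.eq_bot_iff_forall _).1 this _ ⟨t, rfl⟩
    obtain ⟨z₀, hz₀, hzz⟩ := Bil.exists_aniso_mem (f := f) h2 hs hndW' (by obtain ⟨j, hj⟩ := hW'odd; omega)
    refine Bil.eq_bot (f := formOn Q W) h2 (fun x y => b_comm _ _) (fun x hx => Subtype.ext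
      (hndW x x.2 fun y hy => hx ⟨y, hy⟩)) _ (hoddU _ _) (hform _ _) (f z₀ z₀) hzz (by omega) fun v hv hc => ?_
    refine hnorm _ _ v hv z₀ (Or.inl ⟨v.2, hz₀⟩) (fun u hu => by rw [b_comm]; exact horth u hu z₀ hz₀) hzz ?_
    rw [mul_comm]
    exact hc.resolve_left (by omega)
  refine (Subgroup.eq_bot_iff_forall _).2 fun t ht => ext_ap fun x => ?_
  obtain ⟨u, hu, hv⟩ := hsum x
  have e1 := congrArg Subtype.val (LinearEquiv.congr_fun (hbotW ⟨t, ht⟩) ⟨u, hu⟩)
  have e2 := congrArg Subtype.val (LinearEquiv.congr_fun (hbotW' ⟨t, ht⟩) ⟨_, hv⟩)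
  rw [resHom_apply] at e1 e2
  rw [ap_one, ← add_sub_cancel u x, ap_add]
  exact congrArg₂ (· + ·) e1 e2

include h h2 hd hgW hgW' hsum horth hW5 hW'odd in
theorem square_hex : ∃ s : Cfsg.Omega F ⇑Q,
    (∀ v, sv (simInc Q g : Semilin F ι) (ap (s : Grp Q) v) = ap (s : Grp Q) (sv (simInc Q g : Semilin F ι) v)) ∧
    prj Q s ≠ 1 ∧ s * s = 1 := by
  set f := QuadraticMap.polarBilin Q
  have hs : ∀ x y, f x y = f y x := fun x y => b_comm x y
  obtain ⟨hndW, -⟩ := nd_parts h hsum horth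
  obtain ⟨a, ha, haa⟩ := Bil.exists_aniso_mem (f := f) h2 hs hndW (by omega)
  obtain ⟨h1, h1'⟩ := Bil.perp_step hs hndW ha haa
  obtain ⟨b, hb, hbb⟩ := Bil.exists_value (f := f) h2 hs h1 (by omega) haa
  obtain ⟨h3, h3'⟩ := Bil.perp_step hs h1 hb (hbb ▸ haa)
  obtain ⟨u, hu, huu⟩ := Bil.exists_aniso_mem (f := f) h2 hs h3 (by omega)
  have hab : QuadraticMap.polar Q a b = 0 := hb.2
  have hau : QuadraticMap.polar Q a u = 0 := hu.1.2
  have hbu : QuadraticMap.polar Q b u = 0 := hu.2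
  have ha0 : Q a ≠ 0 := fun e => haa (by show QuadraticMap.polar Q a a = 0; rw [b_self, e, mul_zero])
  have hqb : Q b = Q a := mul_left_cancel₀ h2 (by
    rw [← b_self, ← b_self]; exact hbb)
  obtain ⟨r₁, r₂, hr₁, hr₂, s, hs'⟩ := exists_pair h.fine h2 ha0 (hqb ▸ ha0) (by rw [hqb]; exact ⟨_, rfl⟩)
  obtain ⟨hfix, hpq, hiff⟩ := pair_apply hr₁ hr₂ hab h2
  refine ⟨s, fun v => ?_, fun e => ?_, Subtype.ext (ext_ap fun x => ?_)⟩
  · rw [sv_simInc, sv_simInc, hs', ap_mul, ap_mul, refl_comm hgW hgW' hsum horth (Or.inl ha) hr₁,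
      refl_comm hgW hgW' hsum horth (Or.inl hb.1) hr₂]
  · obtain ⟨c, hc⟩ := center_scalar h.nondeg h.five ((QuotientGroup.eq_one_iff _).1 e)
    have hu0 : u ≠ 0 := fun e => huu (by rw [e, map_zero])
    have ha00 : a ≠ 0 := fun e => haa (by rw [e, map_zero])
    have e1 : c = 1 := smul_left_injective F hu0
      (((hc u).symm.trans (by rw [hs']; exact hfix u hau hbu)).trans (one_smul F u).symm)
    have e2 := (hc a).symm.trans (show ap (s : Grp Q) a = -a by
      rw [hs']; simpa using hpq 1 0)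
    rw [e1, one_smul] at e2
    have e3 : (2 : F) • a = 0 := by rw [two_smul]; exact eq_neg_iff_add_eq_zero.1 e2
    exact ha00 ((smul_eq_zero.1 e3).resolve_left h2)
  · rw [Subgroup.coe_mul, ap_mul, hs', Subgroup.coe_one, ap_one]
    set p := QuadraticMap.polar Q a x / (2 * Q a) with hp
    set q := QuadraticMap.polar Q b x / (2 * Q b) with hq
    have hba : QuadraticMap.polar Q b a = 0 := (b_comm b a).trans hab
    have hb0 := hr₂.1
    have h4 := hfix (x - (p • a + q • b)) (by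
      simp only [b_sub_right, b_add_right, b_smul_right, hab, b_self, hp]; field_simp; ring) (by
      simp only [b_sub_right, b_add_right, b_smul_right, hba, b_self, hq]; field_simp; ring)
    conv_lhs => rw [← sub_add_cancel x (p • a + q • b)]
    rw [ap_add, h4, hpq, ap_add, h4, ← neg_one_smul F (p • a + q • b), ap_smul, hpq]
    module

include h h2 hd hgW hgW' hsum horth hW5 hW'odd in
theorem square_hcent : ∀ z : semi Q, (∀ s : Cfsg.Omega F ⇑Q,
    (∀ v, sv (simInc Q g : Semilin F ι) (ap (s : Grp Q) v) = ap (s : Grp Q) (sv (simInc Q g : Semilin F ι) v)) →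
      psi Q z (prj Q s) = prj Q s) → psi Q z ∈ Subgroup.zpowers (psi Q (simInc Q g)) := by
  intro z hz
  simp only [sv_simInc] at hz
  set f := QuadraticMap.polarBilin Q
  have hs : ∀ x y, f x y = f y x := fun x y => b_comm x y
  obtain ⟨hndW, hndW'⟩ := nd_parts h hsum horth
  have hline : ∀ a, (a ∈ W ∨ a ∈ W') → f a a ≠ 0 → ∃ c : F, sv (z : Semilin F ι) a = c • a := by
    intro a ha haa
    have ha0 : Q a ≠ 0 := fun e => haa (by show QuadraticMap.polar Q a a = 0; rw [b_self, e, mul_zero])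
    obtain ⟨U, hUW, hUnd, hUd, haU⟩ : ∃ U : Submodule F (ι → F), U ≤ W ∧ Bil.Nd f U ∧
        4 ≤ Module.finrank F U ∧ ∀ x ∈ U, f a x = 0 := by
      rcases ha with ha | ha
      · obtain ⟨h1, h1'⟩ := Bil.perp_step hs hndW ha haa
        exact ⟨_, inf_le_left, h1, by omega, fun x hx => hx.2⟩
      · exact ⟨W, le_rfl, hndW, by omega, fun x hx => (b_comm a x).trans (horth x hx a ha)⟩
    have hplane : ∀ b ∈ U, f b b = f a a → ∃ p q : F, p • a + q • b = sv (z : Semilin F ι) a := by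
      intro b hb hbb
      have hqb : Q b = Q a := mul_left_cancel₀ h2 (by rw [← b_self, ← b_self]; exact hbb)
      obtain ⟨r₁, r₂, hr₁, hr₂, s, hs'⟩ := exists_pair h.fine h2 ha0 (hqb ▸ ha0) (by rw [hqb]; exact ⟨_, rfl⟩)
      obtain ⟨hfix, hpq, hiff⟩ := pair_apply hr₁ hr₂ (haU b hb) h2
      have hzs := hz s fun v => by
        rw [hs', ap_mul, ap_mul, refl_comm hgW hgW' hsum horth ha hr₁,
          refl_comm hgW hgW' hsum horth (Or.inl (hUW hb)) hr₂]
      obtain ⟨hV, hV'⟩ := Bil.perp_step hs hUnd hb (hbb ▸ haa)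
      set V := U ⊓ LinearMap.ker (f b)
      have hmem := neg_space h.fine hzs (P := Set.range fun pq : F × F => pq.1 • a + pq.2 • b) (U := (V : Set (ι → F)))
        (fun v => by
          rw [hs', hiff]
          exact ⟨fun ⟨p, q, e⟩ => ⟨(p, q), e⟩, fun ⟨pq, e⟩ => ⟨pq.1, pq.2, e⟩⟩)
        (fun v hv => by rw [hs']; exact hfix v (haU v hv.1) hv.2)
        (lt_of_le_of_lt (Finite.card_range_le _) (by
          rw [Nat.card_prod, ← pow_two, SetLike.coe_sort_coe, Module.natCard_eq_pow_finrank (K := F) (V := V)]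
          exact Nat.pow_lt_pow_right Finite.one_lt_card (by omega)))
      obtain ⟨pq, e⟩ := hmem a ⟨(1, 0), by simp⟩
      exact ⟨pq.1, pq.2, e⟩
    obtain ⟨b, hb, hbb⟩ := Bil.exists_value (f := f) h2 hs hUnd (by omega) haa
    obtain ⟨hV, hV'⟩ := Bil.perp_step hs hUnd hb (hbb ▸ haa)
    obtain ⟨b', hb', hbb'⟩ := Bil.exists_value (f := f) h2 hs hV (by omega) haa
    obtain ⟨p, q, e⟩ := hplane b hb hbb
    obtain ⟨p', q', e'⟩ := hplane b' hb'.1 hbb'
    have h5 := congrArg (f b) (e.trans e'.symm)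
    simp only [map_add, map_smul, smul_eq_mul, hs b a, haU b hb, show f b b' = 0 from hb'.2, mul_zero, zero_add,
      hbb] at h5
    exact ⟨p, by rw [← e, (mul_eq_zero.1 h5).resolve_right haa, zero_smul, add_zero]⟩
  obtain ⟨l, hl⟩ := Bil.homothety (f := formOn Q W) h2 (fun x y => b_comm _ _) (fun x hx => Subtype.ext
      (hndW x x.2 fun y hy => hx ⟨y, hy⟩)) (by omega) (j := W.subtype) W.subtype_injective
    (g := fun w : W => sv (z : Semilin F ι) (w : ι → F)) (fun x y => sv_add _ _ _)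
    fun x hx => hline x (Or.inl x.2) hx
  have hl' : ∀ u ∈ W, sv (z : Semilin F ι) u = l • u := fun u hu => hl ⟨u, hu⟩
  obtain ⟨a₀, ha₀, haa₀⟩ := Bil.exists_aniso_mem (f := f) h2 hs hndW (by omega)
  have ha00 : Q a₀ ≠ 0 := fun e => haa₀ (by show QuadraticMap.polar Q a₀ a₀ = 0; rw [b_self, e, mul_zero])
  have ha000 : a₀ ≠ 0 := fun e => haa₀ (by rw [e, map_zero])
  have hl0 : l ≠ 0 := fun e => ha000 (by
    have h1 := hl' a₀ ha₀
    rw [e, zero_smul] at h1
    exact sv_inj _ (h1.trans (by simp [sv, show (fun _ : ι => (0 : F)) = 0 from rfl])))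
  have hτ : (z : Semilin F ι).right = 1 := RingEquiv.ext fun e => by
    have h1 := hl' (e • a₀) (W.smul_mem _ ha₀)
    rw [sv_smul, hl' a₀ ha₀, smul_smul, smul_smul] at h1
    exact mul_right_cancel₀ hl0 ((smul_left_injective F ha000 h1).trans (mul_comm _ _))
  obtain ⟨mz, hmz⟩ := mem_semi.1 z.2
  have hmult : ∀ u c, Q u ≠ 0 → sv (z : Semilin F ι) u = c • u → c * c = (mz : F) := fun u c hu hc => by
    have h1 := hmz u
    rw [hc, q_smul, hτ] at h1
    exact mul_right_cancel₀ hu h1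
  obtain ⟨l', hl''⟩ : ∃ l' : F, ∀ u ∈ W', sv (z : Semilin F ι) u = l' • u := by
    rcases le_or_gt 3 (Module.finrank F W') with h3 | h3
    · obtain ⟨l', hl''⟩ := Bil.homothety (f := formOn Q W') h2 (fun x y => b_comm _ _) (fun x hx => Subtype.ext
        (hndW' x x.2 fun y hy => hx ⟨y, hy⟩)) h3 (j := W'.subtype) W'.subtype_injective
        (g := fun w : W' => sv (z : Semilin F ι) (w : ι → F)) (fun x y => sv_add _ _ _)
        fun x hx => hline x (Or.inr x.2) hx
      exact ⟨l', fun u hu => hl'' ⟨u, hu⟩⟩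
    · have h1 : Module.finrank F W' = 1 := by obtain ⟨j, hj⟩ := hW'odd; omega
      obtain ⟨v, hv, hvv⟩ := Bil.exists_aniso_mem (f := f) h2 hs hndW' (by omega)
      obtain ⟨c, hc⟩ := hline v (Or.inr hv) hvv
      refine ⟨c, fun u hu => ?_⟩
      obtain ⟨b, hb⟩ := exists_smul_eq_of_finrank_eq_one h1 (x := (⟨v, hv⟩ : W'))
        (fun e => hvv (by rw [show v = 0 from congrArg Subtype.val e, map_zero])) ⟨u, hu⟩
      have hbu : b • v = u := congrArg Subtype.val hb
      rw [← hbu, sv_smul, hτ, hc, smul_comm]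
      rfl
  obtain ⟨v, hv, hvv⟩ := Bil.exists_aniso_mem (f := f) h2 hs hndW' (by obtain ⟨j, hj⟩ := hW'odd; omega)
  have h6 : l' * l' = l * l := (hmult v l' (fun e => hvv (by
    show QuadraticMap.polar Q v v = 0; rw [b_self, e, mul_zero])) (hl'' v hv)).trans (hmult a₀ l ha00 (hl' a₀ ha₀)).symm
  have hsv : ∀ x, ((z : Semilin F ι).left : Matrix ι ι F) *ᵥ x = sv (z : Semilin F ι) x := fun x => by simp [sv, hτ]
  rcases mul_self_eq_mul_self_iff.1 h6 with rfl | rfl
  · have h7 : psi Q z = 1 := by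
      rw [show z = simInc Q ⟨scal (Units.mk0 l' hl0), scal_mem_sim _⟩ from Subtype.ext (SemidirectProduct.ext
        (Units.ext (Matrix.ext_iff_mulVec.2 fun x => by
          obtain ⟨u, hu, hv⟩ := hsum x
          rw [hsv, ← add_sub_cancel u x, sv_add, hl' u hu, hl'' _ hv, ← smul_add]
          show _ = (scal (Units.mk0 l' hl0) : GL ι F).1 *ᵥ _
          rw [scal_coe, smul_mulVec, one_mulVec]
          rfl)) hτ), psi_simInc_eq_one_iff h]
      exact ⟨_, rfl⟩
    rw [h7]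
    exact one_mem _
  · have e : z = simInc Q (⟨scal (Units.mk0 (l / d) (div_ne_zero hl0 hd)), scal_mem_sim _⟩ * g) :=
      Subtype.ext (SemidirectProduct.ext (Units.ext (Matrix.ext_iff_mulVec.2 fun x => by
        obtain ⟨u, hu, hv⟩ := hsum x
        rw [hsv, ← add_sub_cancel u x, sv_add, hl' u hu, hl'' _ hv]
        show _ = ((scal (Units.mk0 (l / d) (div_ne_zero hl0 hd)) * (g : GL ι F) : GL ι F) : Matrix ι ι F) *ᵥ _
        rw [CfsgLib.ClassicalAut.scal_mul_coe, smul_mulVec, mulVec_add, hgW u hu, hgW' _ hv, Units.val_mk0,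
          smul_add, smul_neg, smul_smul, smul_smul, div_mul_cancel₀ _ hd, neg_smul])) hτ)
    rw [e, map_mul, map_mul, (psi_simInc_eq_one_iff h.fine
      ⟨scal (Units.mk0 (l / d) (div_ne_zero hl0 hd)), scal_mem_sim _⟩).2 ⟨_, rfl⟩, one_mul]
    exact Subgroup.mem_zpowers _

end Square

end CfsgLib.OrthAut
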