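import Cfsg.Agent.Lib.OrthAut.GraphBalance

/-!
Local balance holds for similitudes whose square is a nonsquare scalar equal to the multiplier.
-/

set_option autoImplicit false
set_option linter.unusedSectionVars false

namespace CfsgLib.OrthAut

open Matrix CfsgLib.Orth CfsgLib.AutPSL
open CfsgLib.ClassicalAut (scal scal_coe)

universe u

variable {F : Type u} [Field F] [Fintype F] {ι : Type} [Fintype ι] [DecidableEq ι]
variable {Q : QuadraticForm F (ι → F)}

/-- A similitude of order two modulo scalars as the square root of a nonsquare. -/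
structure SqrtData (Q : QuadraticForm F (ι → F)) (K : Type u) [Field K] [Module K (ι → F)] where
  good : Good Q
  h2 : (2 : F) ≠ 0
  g : Cfsg.Geo.quadSimilarityGroup ⇑Q
  c : F
  hc : ¬ IsSquare c
  hgg : ∀ x, ((g : GL ι F) : Matrix ι ι F) *ᵥ (((g : GL ι F) : Matrix ι ι F) *ᵥ x) = c • x
  hgq : ∀ x, Q (((g : GL ι F) : Matrix ι ι F) *ᵥ x) = c * Q x
  e : F →+* K
  ω : K
  hω : ω * ω = e c
  hsurj : ∀ κ : K, ∃ p r : F, e p + e r * ω = κ
  hes : ∀ (p : F) (v : ι → F), e p • v = p • v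
  hωs : ∀ v : ι → F, ω • v = ((g : GL ι F) : Matrix ι ι F) *ᵥ v
  hn : 8 ≤ Fintype.card ι

namespace SqrtData

variable {K : Type u} [Field K] [Fintype K] [Module K (ι → F)] (D : SqrtData Q K)

/-- The similitude. -/
abbrev G (v : ι → F) : ι → F := ((D.g : GL ι F) : Matrix ι ι F) *ᵥ v

theorem c_ne : D.c ≠ 0 := fun e => D.hc (e ▸ IsSquare.zero)

theorem smul_eq (p r : F) (v : ι → F) : (D.e p + D.e r * D.ω) • v = p • v + r • D.G v := by
  rw [add_smul, mul_smul, D.hes, D.hes, D.hωs]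

theorem uniq {p r : F} (h : D.e p + D.e r * D.ω = 0) : p = 0 ∧ r = 0 := by
  have h1 : D.e (p * p) = D.e (D.c * (r * r)) := by
    simp only [map_mul, ← D.hω]
    linear_combination (D.e p - D.e r * D.ω) * h
  have h3 := D.e.injective h1
  by_cases hr : r = 0
  · exact ⟨mul_self_eq_zero.1 (by rw [h3, hr]; ring), hr⟩
  · exact absurd ⟨p / r, by field_simp; linear_combination -h3⟩ D.hc

theorem b_G (x y : ι → F) : QuadraticMap.polar Q (D.G x) y = QuadraticMap.polar Q x (D.G y) := by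
  have h1 : ∀ u v, QuadraticMap.polar Q (D.G u) (D.G v) = D.c * QuadraticMap.polar Q u v := fun u v => by
    simp only [QuadraticMap.polar, G, ← mulVec_add, D.hgq]; ring
  have h3 := h1 x (D.G y)
  rw [show D.G (D.G y) = D.c • y from D.hgg y, b_smul_right] at h3
  exact mul_left_cancel₀ D.c_ne h3

/-- The form over `K`. -/
noncomputable def form : (ι → F) →ₗ[K] (ι → F) →ₗ[K] K :=
  LinearMap.mk₂ K (fun x y => D.e (QuadraticMap.polar Q x y) + D.e (QuadraticMap.polar Q x (D.G y) / D.c) * D.ω)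
    (fun x x' y => by simp only [b_add_left, add_div, map_add]; ring)
    (fun κ x y => by
      obtain ⟨p, r, rfl⟩ := D.hsurj κ
      rw [D.smul_eq, b_add_left, b_add_left, b_smul_left, b_smul_left, b_smul_left, b_smul_left, D.b_G,
        D.b_G x (D.G y), show D.G (D.G y) = D.c • y from D.hgg y, b_smul_right]
      simp only [smul_eq_mul, map_add, map_mul, map_div₀]
      have hc : D.e D.c ≠ 0 := by simpa using D.c_ne
      field_simp
      linear_combination (-(D.e r * D.e (QuadraticMap.polar Q x (D.G y)))) * D.hω)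
    (fun x y y' => by simp only [G, mulVec_add, b_add_right, add_div, map_add]; ring)
    (fun κ x y => by
      obtain ⟨p, r, rfl⟩ := D.hsurj κ
      rw [D.smul_eq]
      simp only [G, mulVec_add, mulVec_smul, D.hgg, b_add_right, b_smul_right, smul_eq_mul, map_add, map_mul, map_div₀]
      have hc : D.e D.c ≠ 0 := by simpa using D.c_ne
      field_simp
      linear_combination (-(D.e r * D.e (QuadraticMap.polar Q x (((D.g : GL ι F) : Matrix ι ι F) *ᵥ y)))) * D.hω)

theorem form_apply (x y : ι → F) :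
    D.form x y = D.e (QuadraticMap.polar Q x y) + D.e (QuadraticMap.polar Q x (D.G y) / D.c) * D.ω := rfl

theorem form_symm (x y : ι → F) : D.form x y = D.form y x := by
  rw [form_apply, form_apply, b_comm x y, b_comm x (D.G y), D.b_G]

theorem form_eq_zero {x y : ι → F} (h : D.form x y = 0) :
    QuadraticMap.polar Q x y = 0 ∧ QuadraticMap.polar Q x (D.G y) = 0 := by
  obtain ⟨h1, h3⟩ := D.uniq h
  exact ⟨h1, (div_eq_zero_iff.1 h3).resolve_right D.c_ne⟩

theorem form_nd : ∀ x, (∀ y, D.form x y = 0) → x = 0 := fun x hx =>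
  D.good.nondeg x fun y => (D.form_eq_zero (hx y)).1

theorem h2K (D : SqrtData Q K) : (2 : K) ≠ 0 := fun h => D.h2 (by
  have h1 : D.e 2 = 0 := by rwa [map_ofNat]
  exact (_root_.map_eq_zero _).1 h1)

/-- An element with square norm is a square. -/
theorem square_of_norm {p r : F} (h : IsSquare (p * p - D.c * (r * r))) : IsSquare (D.e p + D.e r * D.ω) := by
  have h2 := D.h2
  have hfour : (4 : F) ≠ 0 := by
    rw [show (4 : F) = 2 * 2 by norm_num]
    exact mul_ne_zero h2 h2
  have hch : ringChar F ≠ 2 := fun hc => h2 (by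
    haveI : CharP F 2 := hc ▸ ringChar.charP F
    exact_mod_cast CharP.cast_eq_zero F 2)
  suffices ∃ u w : F, u * u + D.c * (w * w) = p ∧ 2 * u * w = r by
    obtain ⟨u, w, rfl, rfl⟩ := this
    exact ⟨D.e u + D.e w * D.ω, by simp only [map_add, map_mul, map_ofNat, ← D.hω]; ring⟩
  obtain ⟨s, hs⟩ := h
  by_cases hr : r = 0
  · by_cases hp : IsSquare p
    · obtain ⟨u, hu⟩ := hp
      exact ⟨u, 0, by rw [hu]; ring, by rw [hr]; ring⟩
    · have hp0 : p ≠ 0 := fun e => hp (e ▸ IsSquare.zero)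
      have h3 : IsSquare (D.c * p) := (isSquare_mul_iff D.c_ne).2 (Or.inr (iff_of_false D.hc hp))
      obtain ⟨w, hw⟩ := h3
      exact ⟨0, w / D.c, by field_simp [D.c_ne]; linear_combination -hw, by rw [hr]; ring⟩
  · have hprod : (p + s) / 2 * ((p - s) / 2) = D.c * (r / 2) ^ 2 := by
      field_simp
      linear_combination hs
    have hns : ¬ IsSquare ((p + s) / 2 * ((p - s) / 2)) := by
      rw [hprod]
      rintro ⟨z, hz⟩
      refine D.hc ⟨z / (r / 2), ?_⟩
      rw [div_mul_div_comm, eq_div_iff (mul_ne_zero (div_ne_zero hr h2) (div_ne_zero hr h2))]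
      linear_combination hz
    obtain ⟨q, ⟨u, hu⟩, hq⟩ : ∃ q, IsSquare q ∧ (q = (p + s) / 2 ∨ q = (p - s) / 2) := by
      by_cases h4 : IsSquare ((p + s) / 2)
      · exact ⟨_, h4, Or.inl rfl⟩
      · refine ⟨_, ?_, Or.inr rfl⟩
        by_contra h5
        have h6 : (p + s) / 2 ≠ 0 := fun e => h4 (e ▸ IsSquare.zero)
        exact hns ((isSquare_mul_iff h6).2 (Or.inr (iff_of_false h4 h5)))
    have hu0 : u ≠ 0 := fun e0 => by
      rw [e0, mul_zero] at hu
      refine hns ⟨0, ?_⟩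
      rcases hq with e | e <;> rw [hu] at e <;> rw [← e] <;> ring
    have hroot : q * q - p * q + D.c * (r * r) / 4 = 0 := by
      rcases hq with rfl | rfl <;> field_simp <;> linear_combination hs * (-4)
    refine ⟨u, r / (2 * u), ?_, by field_simp⟩
    rw [hu] at hroot
    field_simp at hroot ⊢
    linear_combination hroot

/-- The negation on a line of nonsquare class. -/
theorem exists_line_refl {v : ι → F} (hv : D.form v v ≠ 0) (hns : ¬ IsSquare (D.form v v)) :
    ∃ s : Cfsg.Omega F ⇑Q, ∀ x, ap (s : Grp Q) x = Bil.rfl' D.form v hv x := by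
  obtain ⟨κ, hκ, hβ⟩ : ∃ κ : K, κ ≠ 0 ∧ QuadraticMap.polar Q (κ • v) (κ • v) ≠ 0 := by
    by_cases h0 : QuadraticMap.polar Q v v = 0
    · have h1 : QuadraticMap.polar Q v (D.G v) ≠ 0 := fun e => hv (by rw [form_apply, h0, e]; simp)
      refine ⟨D.e 1 + D.e 1 * D.ω, fun e => one_ne_zero (D.uniq e).1, ?_⟩
      rw [D.smul_eq, one_smul, one_smul, b_add_left, b_add_right, b_add_right, D.b_G, D.b_G v (D.G v),
        show D.G (D.G v) = D.c • v from D.hgg v, b_smul_right, h0, mul_zero, zero_add, add_zero, ← two_mul]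
      exact mul_ne_zero D.h2 h1
    · exact ⟨1, one_ne_zero, by rwa [one_smul]⟩
  obtain ⟨a, ha⟩ : ∃ a, a = κ • v := ⟨_, rfl⟩
  rw [← ha] at hβ
  have haa : D.form a a = κ * κ * D.form v v := by
    rw [ha, map_smul, LinearMap.map_smul₂, smul_eq_mul, smul_eq_mul, mul_assoc]
  have haa0 : D.form a a ≠ 0 := by rw [haa]; exact mul_ne_zero (mul_ne_zero hκ hκ) hv
  have hnsa : ¬ IsSquare (D.form a a) := fun ⟨s, hs⟩ => hns ⟨s / κ, by
    rw [haa] at hs; field_simp; linear_combination hs⟩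
  set β := QuadraticMap.polar Q a a
  set γ := QuadraticMap.polar Q a (D.G a)
  set b := D.G a - (γ / β) • a with hb
  have hab : QuadraticMap.polar Q a b = 0 := by
    rw [hb, b_sub_right, b_smul_right, div_mul_cancel₀ _ hβ, sub_self]
  have hQa : 2 * Q a = β := (b_self a).symm
  have hQb : 2 * Q b = D.c * β - γ * γ / β := by
    rw [← b_self, hb]
    simp only [b_sub_left, b_sub_right, b_smul_left, b_smul_right, D.b_G, G, D.hgg]
    simp only [β, γ, G]
    have hβ' : QuadraticMap.polar Q a a ≠ 0 := hβ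
    field_simp
    ring
  have hnorm : ¬ IsSquare (β * β - D.c * ((γ / D.c) * (γ / D.c))) := fun hsq => hnsa (by
    rw [form_apply]
    exact D.square_of_norm hsq)
  have hprod : IsSquare (Q a * Q b) := by
    have h4 : IsSquare (D.c * (β * β - D.c * ((γ / D.c) * (γ / D.c)))) :=
      (isSquare_mul_iff D.c_ne).2 (Or.inr (iff_of_false D.hc hnorm))
    obtain ⟨s, hs⟩ := h4
    refine ⟨s / 2, ?_⟩
    have h5 : (2 * Q a) * (2 * Q b) = s * s := by
      rw [hQa, hQb, ← hs]
      have := D.c_ne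
      field_simp
    have := D.h2
    field_simp
    linear_combination h5
  have ha0 : Q a ≠ 0 := fun e => hβ (by rw [← hQa, e, mul_zero])
  have hb0 : Q b ≠ 0 := fun e => hnorm (by
    rw [e, mul_zero] at hQb
    have := D.c_ne
    refine ⟨0, ?_⟩
    field_simp at hQb ⊢
    linear_combination -hQb)
  obtain ⟨r₁, r₂, hr₁, hr₂, s, hs⟩ := exists_pair D.good.fine D.h2 ha0 hb0 hprod
  obtain ⟨hfix, hpq, -⟩ := pair_apply hr₁ hr₂ hab D.h2
  refine ⟨s, fun x => ?_⟩
  set κ' := D.form a x / D.form a a with hκ'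
  obtain ⟨p, r, hpr⟩ := D.hsurj κ'
  have hx₀ : D.form a (x - κ' • a) = 0 := by
    rw [map_sub (D.form a), map_smul (D.form a), smul_eq_mul, hκ', div_mul_cancel₀ _ haa0, sub_self]
  obtain ⟨h6, h7⟩ := D.form_eq_zero hx₀
  have h8 : QuadraticMap.polar Q b (x - κ' • a) = 0 := by
    rw [hb, b_sub_left, b_smul_left, D.b_G, h6, h7, mul_zero, sub_zero]
  have hκa : κ' • a = (p + r * (γ / β)) • a + r • b := by
    rw [← hpr, D.smul_eq, hb]; module
  have e1 : ap (s : Grp Q) x = x - κ' • a - κ' • a := by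
    conv_lhs => rw [← sub_add_cancel x (κ' • a)]
    rw [hs, ap_add, hfix _ h6 h8, hκa, hpq]
    abel
  rw [e1, Bil.rfl'_apply, hκ', haa, ha, LinearMap.map_smul₂, smul_eq_mul]
  match_scalars
  all_goals field_simp
  all_goals ring

theorem card_K (D : SqrtData Q K) : Nat.card K = Nat.card F ^ 2 := by
  have hb : Function.Bijective (fun pr : F × F => D.e pr.1 + D.e pr.2 * D.ω) := by
    refine ⟨fun a b hab => ?_, fun κ => ?_⟩
    · have := D.uniq (p := a.1 - b.1) (r := a.2 - b.2) (by rw [map_sub, map_sub]; linear_combination hab)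
      exact Prod.ext (sub_eq_zero.1 this.1) (sub_eq_zero.1 this.2)
    · obtain ⟨p, r, h⟩ := D.hsurj κ
      exact ⟨(p, r), h⟩
  rw [← Nat.card_eq_of_bijective _ hb, Nat.card_prod, pow_two]

theorem dim_four (D : SqrtData Q K) : 4 ≤ Module.finrank K (ι → F) := by
  haveI : Module.Finite K (ι → F) := Module.Finite.of_finite
  have h1 := Module.natCard_eq_pow_finrank (K := K) (V := ι → F)
  rw [Module.natCard_eq_pow_finrank (K := F) (V := ι → F), D.card_K, ← pow_mul, Module.finrank_pi] at h1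
  have h3 := Nat.pow_right_injective Finite.one_lt_card h1
  have := D.hn
  omega

theorem exists_nonsquareK (D : SqrtData Q K) : ∃ ν : K, ¬ IsSquare ν :=
  FiniteField.exists_nonsquare fun hc => D.h2K (by
    haveI : CharP K 2 := hc ▸ ringChar.charP K
    exact_mod_cast CharP.cast_eq_zero K 2)

theorem refl_comm {v : ι → F} (hv : D.form v v ≠ 0) {s : Grp Q} (hs : ∀ x, ap s x = Bil.rfl' D.form v hv x)
    (x : ι → F) : D.G (ap s x) = ap s (D.G x) := by
  rw [hs, hs, G, G, ← D.hωs, ← D.hωs, map_smul]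

theorem hT : ∀ T : Subgroup (Grp Q), Odd (Nat.card T) →
    (∀ t ∈ T, ∀ v, sv (simInc Q D.g : Semilin F ι) (ap t v) = ap t (sv (simInc Q D.g : Semilin F ι) v)) →
    (∀ s : Cfsg.Omega F ⇑Q, (∀ v, sv (simInc Q D.g : Semilin F ι) (ap (s : Grp Q) v) =
        ap (s : Grp Q) (sv (simInc Q D.g : Semilin F ι) v)) →
      ∀ t ∈ T, (s : Grp Q) * t * (s : Grp Q)⁻¹ ∈ T) → T = ⊥ := by
  haveI : Module.Finite K (ι → F) := Module.Finite.of_finite
  intro T hTo hTc hTn
  simp only [sv_simInc] at hTc hTn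
  have hlin : ∀ t ∈ T, ∀ (κ : K) (v : ι → F), ap t (κ • v) = κ • ap t v := fun t ht κ v => by
    obtain ⟨p, r, rfl⟩ := D.hsurj κ
    rw [D.smul_eq, D.smul_eq, ap_add, ap_smul, ap_smul, ← hTc t ht]
  let φ : T →* ((ι → F) ≃ₗ[K] (ι → F)) :=
    { toFun := fun t =>
        { toFun := fun v => ap (t : Grp Q) v
          invFun := fun v => ap ((t : Grp Q)⁻¹) v
          left_inv := fun v => by
            show ap ((t : Grp Q)⁻¹) (ap (t : Grp Q) v) = v
            rw [← ap_mul, inv_mul_cancel, ap_one]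
          right_inv := fun v => by
            show ap (t : Grp Q) (ap ((t : Grp Q)⁻¹) v) = v
            rw [← ap_mul, mul_inv_cancel, ap_one]
          map_add' := ap_add _
          map_smul' := hlin t t.2 }
      map_one' := LinearEquiv.ext fun v => ap_one v
      map_mul' := fun _ _ => LinearEquiv.ext fun v => ap_mul _ _ _ }
  have hφ : ∀ (t : T) v, φ t v = ap (t : Grp Q) v := fun _ _ => rfl
  obtain ⟨ν, hν⟩ := D.exists_nonsquareK
  have hν0 : ν ≠ 0 := fun e => hν (e ▸ IsSquare.zero)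
  have h4 := D.dim_four
  have hbot : φ.range = ⊥ := by
    refine Bil.eq_bot D.h2K D.form_symm D.form_nd _ (hTo.of_dvd_nat (Subgroup.card_range_dvd _)) ?_ ν hν0
      (by omega) fun v hv hsq => ?_
    · rintro _ ⟨t, rfl⟩ x y
      rw [form_apply, form_apply, hφ, hφ, ap_b, show D.G (ap (t : Grp Q) y) = ap (t : Grp Q) (D.G y) from hTc t t.2 y,
        ap_b]
    have hns : ¬ IsSquare (D.form v v) := fun ⟨s, hs⟩ => by
      obtain ⟨r, hr⟩ := hsq.resolve_left (by omega)
      refine hν ⟨r / s, ?_⟩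
      have hs0 : s ≠ 0 := fun e => hv (by rw [hs, e, mul_zero])
      rw [hs] at hr
      field_simp
      linear_combination hr
    obtain ⟨s, hs⟩ := D.exists_line_refl hv hns
    rintro _ ⟨t, rfl⟩
    refine ⟨⟨_, hTn s (D.refl_comm hv hs) t t.2⟩, LinearEquiv.ext fun x => ?_⟩
    rw [hφ, LinearEquiv.mul_apply, LinearEquiv.mul_apply, hφ, ← hs]
    show ap ((s : Grp Q) * (t : Grp Q) * (s : Grp Q)⁻¹) x = _
    have hinv : ap ((s : Grp Q)⁻¹) x = Bil.rfl' D.form v hv x := by
      conv_lhs => rw [show x = ap (s : Grp Q) (ap (s : Grp Q) x) by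
        rw [hs, hs]; exact (LinearEquiv.congr_fun (Bil.rfl'_mul_self (f := D.form) v hv) x).symm]
      rw [← ap_mul, inv_mul_cancel, ap_one, hs]
    rw [ap_mul, ap_mul, hinv]
  refine (Subgroup.eq_bot_iff_forall _).2 fun t ht => ext_ap fun x => ?_
  rw [ap_one]
  exact LinearEquiv.congr_fun ((Subgroup.eq_bot_iff_forall _).1 hbot (φ ⟨t, ht⟩) ⟨_, rfl⟩) x

theorem hex : ∃ s : Cfsg.Omega F ⇑Q,
    (∀ v, sv (simInc Q D.g : Semilin F ι) (ap (s : Grp Q) v) = ap (s : Grp Q) (sv (simInc Q D.g : Semilin F ι) v)) ∧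
    prj Q s ≠ 1 ∧ s * s = 1 := by
  haveI : Module.Finite K (ι → F) := Module.Finite.of_finite
  obtain ⟨ν, hν⟩ := D.exists_nonsquareK
  have hν0 : ν ≠ 0 := fun e => hν (e ▸ IsSquare.zero)
  have hT : Bil.Nd D.form (⊤ : Submodule K (ι → F)) := fun x _ hx => D.form_nd x fun y => hx y trivial
  have h4 := D.dim_four
  obtain ⟨v, -, hvν⟩ := Bil.exists_value D.h2K D.form_symm hT (by rw [finrank_top]; omega) hν0
  have hv : D.form v v ≠ 0 := hvν ▸ hν0
  obtain ⟨h1, h1'⟩ := Bil.perp_step D.form_symm hT (Submodule.mem_top (x := v)) hv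
  rw [finrank_top] at h1'
  obtain ⟨w, hw, hww⟩ := Bil.exists_aniso_mem D.h2K D.form_symm h1 (by omega)
  obtain ⟨s, hs⟩ := D.exists_line_refl hv (hvν ▸ hν)
  refine ⟨s, fun x => ?_, fun e => ?_, Subtype.ext (ext_ap fun x => ?_)⟩
  · rw [sv_simInc, sv_simInc]; exact D.refl_comm hv hs x
  · obtain ⟨a, ha⟩ := center_scalar D.good.nondeg D.good.five ((QuotientGroup.eq_one_iff _).1 e)
    have hw0 : w ≠ 0 := fun e => hww (by rw [e, map_zero])
    have hv0 : v ≠ 0 := fun e => hv (by rw [e, map_zero])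
    have e1 : a = 1 := smul_left_injective F hw0
      (((ha w).symm.trans (by rw [hs, Bil.rfl'_fix v hv hw.2])).trans (one_smul F w).symm)
    have e2 := (ha v).symm.trans ((hs v).trans (Bil.rfl'_self v hv))
    rw [e1, one_smul] at e2
    have e3 : (2 : F) • v = 0 := by rw [two_smul]; exact eq_neg_iff_add_eq_zero.1 e2
    exact hv0 ((smul_eq_zero.1 e3).resolve_left D.h2)
  · rw [Subgroup.coe_mul, ap_mul, hs, hs, Subgroup.coe_one, ap_one]
    exact LinearEquiv.congr_fun (Bil.rfl'_mul_self (f := D.form) v hv) x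

theorem hcent : ∀ z : semi Q, (∀ s : Cfsg.Omega F ⇑Q,
    (∀ v, sv (simInc Q D.g : Semilin F ι) (ap (s : Grp Q) v) = ap (s : Grp Q) (sv (simInc Q D.g : Semilin F ι) v)) →
      psi Q z (prj Q s) = prj Q s) → psi Q z ∈ Subgroup.zpowers (psi Q (simInc Q D.g)) := by
  haveI : Module.Finite K (ι → F) := Module.Finite.of_finite
  intro z hz
  simp only [sv_simInc] at hz
  have hs := D.form_symm
  have h2K := D.h2K
  have h4 := D.dim_four
  have hT : Bil.Nd D.form (⊤ : Submodule K (ι → F)) := fun x _ hx => D.form_nd x fun y => hx y trivial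
  have hns : ∀ v, ¬ IsSquare (D.form v v) → ∃ κ : K, sv (z : Semilin F ι) v = κ • v := by
    intro v hvs
    have hv : D.form v v ≠ 0 := fun e => hvs (e ▸ IsSquare.zero)
    obtain ⟨s, hs'⟩ := D.exists_line_refl hv hvs
    obtain ⟨h1, h1'⟩ := Bil.perp_step hs hT (Submodule.mem_top (x := v)) hv
    rw [finrank_top] at h1'
    set U := (⊤ : Submodule K (ι → F)) ⊓ LinearMap.ker (D.form v)
    have hmem := neg_space D.good.fine (hz s (D.refl_comm hv hs')) (P := Set.range fun κ : K => κ • v)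
      (U := (U : Set (ι → F))) (fun x => ?_) (fun x hx => by rw [hs', Bil.rfl'_fix v hv hx.2])
      (lt_of_le_of_lt (Finite.card_range_le _) (by
        rw [SetLike.coe_sort_coe, Module.natCard_eq_pow_finrank (K := K) (V := U)]
        exact lt_of_le_of_lt (pow_one _).symm.le (Nat.pow_lt_pow_right Finite.one_lt_card (by omega))))
    · obtain ⟨κ, e⟩ := hmem v ⟨1, one_smul _ _⟩
      exact ⟨κ, e.symm⟩
    rw [hs', Bil.rfl'_apply]
    constructor
    · intro e
      refine ⟨D.form v x / D.form v v, ?_⟩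
      have h5 : (2 : K) • ((D.form v x / D.form v v) • v - x) = 0 := by
        linear_combination (norm := module) -e
      exact sub_eq_zero.1 ((smul_eq_zero.1 h5).resolve_left h2K)
    · rintro ⟨κ, rfl⟩
      rw [map_smul, smul_eq_mul]
      match_scalars
      field_simp
      ring
  obtain ⟨ν, hν⟩ := D.exists_nonsquareK
  have hν0 : ν ≠ 0 := fun e => hν (e ▸ IsSquare.zero)
  have hline : ∀ v, D.form v v ≠ 0 → ∃ κ : K, sv (z : Semilin F ι) v = κ • v := by
    intro v hv
    by_cases hsq : IsSquare (D.form v v)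
    swap
    · exact hns v hsq
    have hd : ν - D.form v v ≠ 0 := fun e => hν ((sub_eq_zero.1 e).symm ▸ hsq)
    obtain ⟨h1, h1'⟩ := Bil.perp_step hs hT (Submodule.mem_top (x := v)) hv
    rw [finrank_top] at h1'
    obtain ⟨w, hw, hww⟩ := Bil.exists_value h2K hs h1 (by omega) hd
    have hww0 : D.form w w ≠ 0 := hww ▸ hd
    obtain ⟨h3, h3'⟩ := Bil.perp_step hs h1 hw hww0
    obtain ⟨w', hw', hww'⟩ := Bil.exists_value h2K hs h3 (by omega) hd
    have hplane : ∀ u, D.form v u = 0 → D.form u u = ν - D.form v v → ∃ p q : K, p • v + q • u = sv (z : Semilin F ι) v := by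
      intro u hu huu
      have hp : D.form (v + u) (v + u) = ν := by
        rw [map_add, map_add, LinearMap.add_apply, LinearMap.add_apply, (hs u v).trans hu, hu, huu]; ring
      have hm : D.form (v + (-1 : K) • u) (v + (-1 : K) • u) = ν := by
        simp only [map_add, map_smul, LinearMap.add_apply, LinearMap.smul_apply, smul_eq_mul, (hs u v).trans hu, hu, huu]; ring
      obtain ⟨k₁, e₁⟩ := hns _ (hp.symm ▸ hν)
      obtain ⟨k₂, e₂⟩ := hns _ (hm.symm ▸ hν)
      refine ⟨(k₁ + k₂) / 2, (k₁ - k₂) / 2, ?_⟩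
      have e3 : (v + u) + (v + (-1 : K) • u) = v + v := by rw [neg_one_smul]; abel
      have e4 := congrArg (sv (z : Semilin F ι)) e3
      rw [sv_add, e₁, e₂, sv_add] at e4
      refine smul_right_injective (ι → F) h2K ?_
      simp only [smul_add, smul_smul, mul_div_cancel₀ _ h2K]
      rw [two_smul]
      linear_combination (norm := module) e4
    obtain ⟨p, q, e⟩ := hplane w hw.2 hww
    obtain ⟨p', q', e'⟩ := hplane w' hw'.1.2 hww'
    have h5 := congrArg (D.form w) (e.trans e'.symm)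
    simp only [map_add, map_smul, smul_eq_mul, hs w v, show D.form v w = 0 from hw.2, show D.form w w' = 0 from hw'.2,
      mul_zero, zero_add] at h5
    exact ⟨p, by rw [← e, (mul_eq_zero.1 h5).resolve_right hww0, zero_smul, add_zero]⟩
  obtain ⟨α, hα⟩ := Bil.homothety h2K hs D.form_nd (by omega) (j := LinearMap.id) Function.injective_id
    (g := sv (z : Semilin F ι)) (sv_add _) hline
  simp only [LinearMap.id_apply] at hα
  obtain ⟨a, b, rfl⟩ := D.hsurj α
  obtain ⟨x₀, -, hx₀⟩ := Bil.exists_value h2K hs hT (by rw [finrank_top]; omega)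
    (a := D.ω) (fun e => one_ne_zero (D.uniq (p := 0) (r := 1) (by rw [e, map_zero, mul_zero, add_zero])).2)
  have hω : QuadraticMap.polar Q x₀ x₀ = 0 ∧ QuadraticMap.polar Q x₀ (D.G x₀) = D.c := by
    have h5 : D.e (QuadraticMap.polar Q x₀ x₀) + D.e (QuadraticMap.polar Q x₀ (D.G x₀) / D.c - 1) * D.ω = 0 := by
      rw [map_sub, map_one, sub_mul, one_mul, ← add_sub_assoc, ← D.form_apply, hx₀, sub_self]
    obtain ⟨h6, h7⟩ := D.uniq h5
    exact ⟨h6, (div_eq_one_iff_eq D.c_ne).1 (sub_eq_zero.1 h7)⟩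
  have hx0 : x₀ ≠ 0 := fun e => D.c_ne (by rw [← hω.2, e, b_zero_left])
  have hα0 : D.e a + D.e b * D.ω ≠ 0 := fun e => hx0 (sv_inj (z : Semilin F ι) (by
    rw [hα x₀, e, zero_smul]
    simp [sv, show (fun _ : ι => (0 : F)) = 0 from rfl]))
  have hτ : (z : Semilin F ι).right = 1 := RingEquiv.ext fun d => by
    have h5 := hα (d • x₀)
    rw [sv_smul, hα x₀, ← D.hes, ← D.hes d, smul_comm (D.e a + D.e b * D.ω)] at h5
    exact D.e.injective (smul_left_injective K (smul_ne_zero hα0 hx0) h5)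
  have hz' : ∀ x, sv (z : Semilin F ι) x = a • x + b • D.G x := fun x => (hα x).trans (D.smul_eq a b x)
  obtain ⟨mz, hmz⟩ := mem_semi.1 z.2
  have hab : a * b = 0 := by
    have h5 := hmz x₀
    rw [hz', hτ, q_add, q_smul, q_smul, b_smul_left, b_smul_right, show Q (D.G x₀) = D.c * Q x₀ from D.hgq x₀,
      show Q x₀ = 0 from (mul_eq_zero.1 ((b_self x₀).symm.trans hω.1)).resolve_left D.h2, hω.2, map_zero,
      mul_zero, mul_zero, mul_zero, mul_zero, zero_add, zero_add, ← mul_assoc] at h5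
    exact (mul_eq_zero.1 h5).resolve_right D.c_ne
  have hsv : ∀ x, ((z : Semilin F ι).left : Matrix ι ι F) *ᵥ x = sv (z : Semilin F ι) x := fun x => by simp [sv, hτ]
  rcases mul_eq_zero.1 hab with rfl | rfl
  · have hb : b ≠ 0 := fun e => hα0 (by rw [e, map_zero, zero_mul, add_zero])
    have e : z = simInc Q (⟨scal (Units.mk0 b hb), scal_mem_sim _⟩ * D.g) :=
      Subtype.ext (SemidirectProduct.ext (Units.ext (Matrix.ext_iff_mulVec.2 fun x => by
        rw [hsv, hz', zero_smul, zero_add]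
        show _ = ((scal (Units.mk0 b hb) * (D.g : GL ι F) : GL ι F) : Matrix ι ι F) *ᵥ _
        rw [CfsgLib.ClassicalAut.scal_mul_coe, smul_mulVec, Units.val_mk0])) hτ)
    rw [e, map_mul, map_mul, (psi_simInc_eq_one_iff D.good.fine
      ⟨scal (Units.mk0 b hb), scal_mem_sim _⟩).2 ⟨_, rfl⟩, one_mul]
    exact Subgroup.mem_zpowers _
  · have ha : a ≠ 0 := fun e => hα0 (by rw [e, map_zero, zero_mul, add_zero])
    rw [show z = simInc Q ⟨scal (Units.mk0 a ha), scal_mem_sim _⟩ from Subtype.ext (SemidirectProduct.ext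
      (Units.ext (Matrix.ext_iff_mulVec.2 fun x => by
        rw [hsv, hz', zero_smul, add_zero]
        show _ = (scal (Units.mk0 a ha) : GL ι F).1 *ᵥ _
        rw [scal_coe, smul_mulVec, one_mulVec, Units.val_mk0])) hτ),
      (psi_simInc_eq_one_iff D.good.fine ⟨scal (Units.mk0 a ha), scal_mem_sim _⟩).2 ⟨_, rfl⟩]
    exact one_mem _

end SqrtData

/-- Trivial core for a square root of a nonsquare multiplier. -/
theorem core_bot_nonsquare (h : Good Q) (h2 : (2 : F) ≠ 0) (hn : 8 ≤ Fintype.card ι)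
    {g : Cfsg.Geo.quadSimilarityGroup ⇑Q} {c : F} (hc : ¬ IsSquare c)
    (hgg : ∀ x, ((g : GL ι F) : Matrix ι ι F) *ᵥ (((g : GL ι F) : Matrix ι ι F) *ᵥ x) = c • x)
    (hgq : ∀ x, Q (((g : GL ι F) : Matrix ι ι F) *ᵥ x) = c * Q x)
    (A : Subgroup (MulAut (Cfsg.POmega F ⇑Q))) (hinn : ∀ k, MulAut.conj k ∈ A)
    (hA : psi Q (simInc Q g) ∈ A) (hord : orderOf (psi Q (simInc Q g)) = 2) :
    Cfsg.pPrimeCore 2 ↥(A ⊓ Subgroup.centralizer {psi Q (simInc Q g)}) = ⊥ := by
  haveI : Fact (∀ r : F, r ^ 2 ≠ c + 0 * r) := ⟨fun r hr => hc ⟨r, by linear_combination -hr⟩⟩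
  let L : Module.End F (ι → F) := ((g : GL ι F) : Matrix ι ι F).mulVecLin
  have hL : L * L = c • 1 + (0 : F) • L := LinearMap.ext fun x => by
    rw [zero_smul, add_zero]
    exact hgg x
  let φ := QuadraticAlgebra.lift (A := Module.End F (ι → F)) ⟨L, hL⟩
  letI : Module (QuadraticAlgebra F c 0) (ι → F) := Module.compHom (ι → F) φ.toRingHom
  haveI : Finite (QuadraticAlgebra F c 0) := Finite.of_equiv _ (QuadraticAlgebra.equivProd c 0).symm
  haveI : Fintype (QuadraticAlgebra F c 0) := Fintype.ofFinite _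
  let D : SqrtData Q (QuadraticAlgebra F c 0) :=
    { good := h
      h2 := h2
      g := g
      c := c
      hc := hc
      hgg := hgg
      hgq := hgq
      e := algebraMap F _
      ω := QuadraticAlgebra.omega
      hω := by rw [QuadraticAlgebra.omega_mul_omega_eq_algebraMap, map_zero, zero_mul, add_zero]
      hsurj := fun κ => ⟨κ.re, κ.im, by ext <;> simp⟩
      hes := fun p v => by
        show φ (algebraMap F _ p) v = p • v
        rw [AlgHom.commutes]
        rfl
      hωs := fun v => by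
        show φ QuadraticAlgebra.omega v = _
        simp [φ, L]
      hn := hn }
  exact core_bot h A hinn hA hord D.hex D.hT D.hcent

/-- Trivial core for a similitude with square multiplier. -/
theorem core_bot_square (h : Good Q) (h2 : (2 : F) ≠ 0) {g : Cfsg.Geo.quadSimilarityGroup ⇑Q} {d : F} (hd : d ≠ 0)
    {W W' : Submodule F (ι → F)} (hgW : ∀ v ∈ W, ((g : GL ι F) : Matrix ι ι F) *ᵥ v = d • v)
    (hgW' : ∀ v ∈ W', ((g : GL ι F) : Matrix ι ι F) *ᵥ v = -(d • v))
    (hsum : ∀ x, ∃ u ∈ W, x - u ∈ W') (horth : ∀ u ∈ W, ∀ v ∈ W', QuadraticMap.polar Q u v = 0)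
    (hW5 : 5 ≤ Module.finrank F W) (hW'odd : Odd (Module.finrank F W'))
    (A : Subgroup (MulAut (Cfsg.POmega F ⇑Q))) (hinn : ∀ k, MulAut.conj k ∈ A)
    (hA : psi Q (simInc Q g) ∈ A) (hord : orderOf (psi Q (simInc Q g)) = 2) :
    Cfsg.pPrimeCore 2 ↥(A ⊓ Subgroup.centralizer {psi Q (simInc Q g)}) = ⊥ :=
  core_bot h A hinn hA hord (square_hex h h2 hd hgW hgW' hsum horth hW5 hW'odd)
    (square_hT h h2 hd hgW hgW' hsum horth hW5 hW'odd) (square_hcent h h2 hd hgW hgW' hsum horth hW5 hW'odd)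

end CfsgLib.OrthAut
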