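import Cfsg.Agent.Lib.OrthAut.InndiagQuot
import Cfsg.Agent.Lib.OrthAut.SplitCount

/-!
Splitting of the classes of involutory outer similitudes in even dimension.
-/

set_option autoImplicit false
set_option linter.unusedSectionVars false

namespace CfsgLib.OrthAut

open Matrix CfsgLib.Orth CfsgLib.AutPSL
open CfsgLib.ClassicalAut (scal scal_coe)

universe u

variable {F : Type u} [Field F] [Fintype F] {ι : Type} [Fintype ι] [DecidableEq ι]
variable {Q : QuadraticForm F (ι → F)}

/-- A form vanishing on the singular vectors of a nondegenerate one is a multiple of it. -/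
theorem forms_prop (hB : Nondeg Q) (hn : 5 ≤ Module.finrank F (ι → F)) {R : QuadraticForm F (ι → F)}
    (hz : ∀ v, Q v = 0 → R v = 0) : ∃ μ : F, ∀ v, R v = μ * Q v := by
  obtain ⟨u, hu, hu0⟩ := exists_nonzero_singular (Q := Q) hn
  obtain ⟨f, hf, huf⟩ := exists_partner hB hu hu0
  obtain ⟨a, b, ha, hb, hab, hua, hub, hfa, hfb⟩ := exists_pair_orth hB hu hf huf hn
  set μ := QuadraticMap.polar R u f with hμ
  have hsing : ∀ e, (e = u ∨ e = f) → ∀ x, Q x = 0 → QuadraticMap.polar Q e x = 0 →
      QuadraticMap.polar R e x = 0 := by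
    intro e he x hx hex
    have he0 : Q e = 0 := he.elim (fun h => h ▸ hu) (fun h => h ▸ hf)
    have h1 : R (e + x) = 0 := hz _ (by rw [q_add, he0, hx, hex, zero_add, zero_add])
    rw [q_add, hz e he0, hz x hx, zero_add, zero_add] at h1
    exact h1
  have hperp : ∀ x, QuadraticMap.polar Q u x = 0 → QuadraticMap.polar Q f x = 0 →
      QuadraticMap.polar R u x = 0 ∧ QuadraticMap.polar R f x = 0 ∧ R x = μ * Q x := by
    intro x hux hfx
    set α := QuadraticMap.polar Q b x
    set β := QuadraticMap.polar Q a x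
    set y := x - α • a - β • b with hy
    have hay : QuadraticMap.polar Q a y = 0 := by
      simp only [hy, b_sub_right, b_smul_right, b_self_zero ha, hab, β]; ring
    have hby : QuadraticMap.polar Q b y = 0 := by
      simp only [hy, b_sub_right, b_smul_right, b_self_zero hb, b_comm b a, hab, α]; ring
    have huy : QuadraticMap.polar Q u y = 0 := by
      simp only [hy, b_sub_right, b_smul_right, hux, hua, hub]; ring
    have hfy : QuadraticMap.polar Q f y = 0 := by
      simp only [hy, b_sub_right, b_smul_right, hfx, hfa, hfb]; ring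
    set a' := a - Q y • b + y with ha'
    have ha'0 : Q a' = 0 := by
      simp only [ha', q_add, q_sub, q_smul, ha, hb, b_sub_left, b_smul_left, b_smul_right, hab, hay, hby]; ring
    have hxe : x = α • a + β • b + (a' - a + Q y • b) := by
      simp only [ha', hy]; abel
    have hlin : ∀ e, (e = u ∨ e = f) → QuadraticMap.polar R e x = 0 := by
      intro e he
      have hea : QuadraticMap.polar Q e a = 0 := he.elim (fun h => h ▸ hua) (fun h => h ▸ hfa)
      have heb : QuadraticMap.polar Q e b = 0 := he.elim (fun h => h ▸ hub) (fun h => h ▸ hfb)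
      have hey : QuadraticMap.polar Q e y = 0 := he.elim (fun h => h ▸ huy) (fun h => h ▸ hfy)
      have hea' : QuadraticMap.polar Q e a' = 0 := by
        simp only [ha', b_add_right, b_sub_right, b_smul_right, hea, heb, hey]; ring
      rw [hxe]
      simp only [b_add_right, b_sub_right, b_smul_right, hsing e he a ha hea, hsing e he b hb heb,
        hsing e he a' ha'0 hea']
      ring
    refine ⟨hlin u (Or.inl rfl), hlin f (Or.inr rfl), ?_⟩
    have h1 : R (u - Q x • f + x) = 0 := hz _ (by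
      simp only [q_add, q_sub, q_smul, hu, hf, b_sub_left, b_smul_left, b_smul_right, huf, hux, hfx]; ring)
    simp only [q_add, q_sub, q_smul, hz u hu, hz f hf, b_sub_left, b_smul_left, b_smul_right,
      hlin u (Or.inl rfl), hlin f (Or.inr rfl)] at h1
    linear_combination h1
  refine ⟨μ, fun v => ?_⟩
  set x := v - QuadraticMap.polar Q f v • u - QuadraticMap.polar Q u v • f with hx
  have hux : QuadraticMap.polar Q u x = 0 := by
    simp only [hx, b_sub_right, b_smul_right, b_self_zero hu, huf]; ring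
  have hfx : QuadraticMap.polar Q f x = 0 := by
    simp only [hx, b_sub_right, b_smul_right, b_self_zero hf, b_comm f u, huf]; ring
  obtain ⟨h1, h2, h3⟩ := hperp x hux hfx
  have hv : v = QuadraticMap.polar Q f v • u + QuadraticMap.polar Q u v • f + x := by simp only [hx]; abel
  rw [hv]
  generalize QuadraticMap.polar Q f v = p
  generalize QuadraticMap.polar Q u v = q
  simp only [q_add, q_smul, b_add_left, b_smul_left, b_smul_right, hu, hf, hz u hu, hz f hf, huf, hux, hfx, h1, h2, h3,
    ← hμ]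
  ring

/-- The product of two orthogonal reflections commutes with a similitude fixing their plane. -/
theorem pair_commute {v w : ι → F} {r₁ r₂ : Grp Q} (hr₁ : IsRefl v r₁) (hr₂ : IsRefl w r₂)
    (hvw : QuadraticMap.polar Q v w = 0) {g : GL ι F} {c : F}
    (hg : ∀ x, Q ((g : Matrix ι ι F) *ᵥ x) = c * Q x) {α β γ δ α' β' γ' δ' : F}
    (hgv : (g : Matrix ι ι F) *ᵥ v = α • v + β • w) (hgw : (g : Matrix ι ι F) *ᵥ w = γ • v + δ • w)
    (hv' : v = α' • ((g : Matrix ι ι F) *ᵥ v) + β' • ((g : Matrix ι ι F) *ᵥ w))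
    (hw' : w = γ' • ((g : Matrix ι ι F) *ᵥ v) + δ' • ((g : Matrix ι ι F) *ᵥ w)) (h2 : (2 : F) ≠ 0) :
    g * ((r₁ * r₂ : Grp Q) : GL ι F) = ((r₁ * r₂ : Grp Q) : GL ι F) * g := by
  have hv0 := hr₁.1
  have hw0 := hr₂.1
  have hwv : QuadraticMap.polar Q w v = 0 := (b_comm w v).trans hvw
  have hbg : ∀ x y, QuadraticMap.polar Q ((g : Matrix ι ι F) *ᵥ x) ((g : Matrix ι ι F) *ᵥ y) =
      c * QuadraticMap.polar Q x y := fun x y => by
    simp only [QuadraticMap.polar, ← mulVec_add, hg]; ring
  have tv : ap (r₁ * r₂) v = -v := by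
    rw [ap_mul, hr₂.2, hwv, mul_zero, zero_smul, sub_zero, hr₁.2, b_self]
    match_scalars
    field_simp
    ring
  have tw : ap (r₁ * r₂) w = -w := by
    rw [ap_mul, hr₂.2, hr₁.2, b_sub_right, b_smul_right, hvw, b_self]
    match_scalars <;> field_simp <;> ring
  have tx : ∀ x, QuadraticMap.polar Q v x = 0 → QuadraticMap.polar Q w x = 0 → ap (r₁ * r₂) x = x := fun x h h' => by
    rw [ap_mul, hr₂.2, h', mul_zero, zero_smul, sub_zero, hr₁.2, h, mul_zero, zero_smul, sub_zero]
  refine Units.ext (Matrix.ext_iff_mulVec.2 fun x => ?_)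
  rw [Units.val_mul, Units.val_mul, ← mulVec_mulVec, ← mulVec_mulVec]
  show (g : Matrix ι ι F) *ᵥ ap (r₁ * r₂) x = ap (r₁ * r₂) ((g : Matrix ι ι F) *ᵥ x)
  set p := QuadraticMap.polar Q v x / (2 * Q v)
  set q := QuadraticMap.polar Q w x / (2 * Q w)
  set x₀ := x - p • v - q • w with hx₀
  have hv₀ : QuadraticMap.polar Q v x₀ = 0 := by
    simp only [hx₀, b_sub_right, b_smul_right, hvw, b_self, p, q]
    field_simp
    ring
  have hw₀ : QuadraticMap.polar Q w x₀ = 0 := by
    simp only [hx₀, b_sub_right, b_smul_right, hwv, b_self, p, q]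
    field_simp
    ring
  have hgv₀ : QuadraticMap.polar Q v ((g : Matrix ι ι F) *ᵥ x₀) = 0 := by
    rw [hv']
    simp only [b_add_left, b_smul_left, hbg, hv₀, hw₀, mul_zero, add_zero]
  have hgw₀ : QuadraticMap.polar Q w ((g : Matrix ι ι F) *ᵥ x₀) = 0 := by
    rw [hw']
    simp only [b_add_left, b_smul_left, hbg, hv₀, hw₀, mul_zero, add_zero]
  have hx : x = p • v + q • w + x₀ := by simp only [hx₀]; abel
  rw [hx]
  simp only [ap_add, ap_smul, mulVec_add, mulVec_smul, mulVec_neg, tv, tw, tx x₀ hv₀ hw₀, hgv, hgw,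
    tx _ hgv₀ hgw₀, smul_add, smul_neg]
  module

/-- A pair of reflections in a nondegenerate subspace of dimension at least three with nonsquare product. -/
theorem exists_pair_in (h2 : (2 : F) ≠ 0) {W : Submodule F (ι → F)} (hd : 3 ≤ Module.finrank F W)
    (hW : ∀ x ∈ W, (∀ y ∈ W, QuadraticMap.polar Q x y = 0) → x = 0) :
    ∃ v ∈ W, ∃ w ∈ W, QuadraticMap.polar Q v w = 0 ∧ ¬ IsSquare (Q v * Q w) := by
  classical
  have haniso : ∀ U : Submodule F (ι → F), U ≠ ⊥ → (∀ x ∈ U, (∀ y ∈ U, QuadraticMap.polar Q x y = 0) → x = 0) →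
      ∃ x ∈ U, Q x ≠ 0 := by
    intro U hU hUnd
    by_contra hc
    push Not at hc
    obtain ⟨x, hx, hx0⟩ := Submodule.exists_mem_ne_zero_of_ne_bot hU
    exact hx0 (hUnd x hx fun y hy => by
      rw [QuadraticMap.polar, hc _ (U.add_mem hx hy), hc x hx, hc y hy]; ring)
  obtain ⟨v, hvW, hv⟩ := haniso W (fun e => by rw [e, finrank_bot] at hd; omega) hW
  have hnd : ∀ (v : ι → F) (U : Submodule F (ι → F)), v ∈ U → Q v ≠ 0 →
      (∀ x ∈ U, (∀ y ∈ U, QuadraticMap.polar Q x y = 0) → x = 0) →
      ∀ x ∈ U ⊓ LinearMap.ker (QuadraticMap.polarBilin Q v),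
        (∀ y ∈ U ⊓ LinearMap.ker (QuadraticMap.polarBilin Q v), QuadraticMap.polar Q x y = 0) → x = 0 := by
    intro v U hvU hv hU x hx hxy
    have hvx : QuadraticMap.polar Q v x = 0 := hx.2
    refine hU x hx.1 fun y hy => ?_
    set t := QuadraticMap.polar Q v y / (2 * Q v)
    have h1 := hxy (y - t • v) ⟨U.sub_mem hy (U.smul_mem _ hvU), by
      show QuadraticMap.polar Q v (y - t • v) = 0
      rw [b_sub_right, b_smul_right, b_self]
      simp only [t]; field_simp; ring⟩
    rwa [b_sub_right, b_smul_right, b_comm x v, hvx, mul_zero, sub_zero] at h1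
  have hdim : ∀ (v : ι → F) (U : Submodule F (ι → F)), Module.finrank F U ≤
      Module.finrank F ↥(U ⊓ LinearMap.ker (QuadraticMap.polarBilin Q v)) + 1 := by
    intro v U
    have h1 := Submodule.finrank_sup_add_finrank_inf_eq U (LinearMap.ker (QuadraticMap.polarBilin Q v))
    have h2 := (QuadraticMap.polarBilin Q v).finrank_range_add_finrank_ker
    have h3 := Submodule.finrank_le (LinearMap.range (QuadraticMap.polarBilin Q v))
    have h4 := Submodule.finrank_le (U ⊔ LinearMap.ker (QuadraticMap.polarBilin Q v))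
    rw [Module.finrank_self] at h3
    omega
  set W₁ := W ⊓ LinearMap.ker (QuadraticMap.polarBilin Q v)
  have hd₁ : 2 ≤ Module.finrank F W₁ := by
    have : Module.finrank F W ≤ Module.finrank F W₁ + 1 := hdim v W
    omega
  have hW₁ := hnd v W hvW hv hW
  obtain ⟨x, hx, hxq⟩ := haniso W₁ (fun e => by rw [e, finrank_bot] at hd₁; omega) hW₁
  set W₂ := W₁ ⊓ LinearMap.ker (QuadraticMap.polarBilin Q x)
  obtain ⟨y, hy, hyq⟩ := haniso W₂ (fun e => by
    have := hdim x W₁
    rw [show W₁ ⊓ LinearMap.ker (QuadraticMap.polarBilin Q x) = ⊥ from e, finrank_bot] at this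
    omega) (hnd x W₁ hx hxq hW₁)
  have hxy : QuadraticMap.polar Q x y = 0 := hy.2
  have hch : ringChar F ≠ 2 := fun hc => h2 (by
    haveI : CharP F 2 := hc ▸ ringChar.charP F
    exact_mod_cast CharP.cast_eq_zero F 2)
  obtain ⟨ν, hν⟩ := FiniteField.exists_nonsquare (F := F) hch
  obtain ⟨s, t, hst⟩ := FiniteField.exists_root_sum_quadratic
    (f := Polynomial.C (Q x) * Polynomial.X ^ 2 - Polynomial.C (ν * Q v))
    (g := Polynomial.C (Q y) * Polynomial.X ^ 2)
    (by rw [Polynomial.degree_sub_C (by rw [Polynomial.degree_C_mul_X_pow 2 hxq]; norm_num),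
      Polynomial.degree_C_mul_X_pow 2 hxq]; rfl)
    (by rw [Polynomial.degree_C_mul_X_pow 2 hyq]; rfl) (FiniteField.odd_card_of_char_ne_two hch)
  simp only [Polynomial.eval_sub, Polynomial.eval_mul, Polynomial.eval_C, Polynomial.eval_pow, Polynomial.eval_X] at hst
  have hval : Q (s • x + t • y) = ν * Q v := by
    rw [q_add, q_smul, q_smul, b_smul_left, b_smul_right, hxy]
    linear_combination hst
  refine ⟨v, hvW, s • x + t • y, W.add_mem (W.smul_mem _ hx.1) (W.smul_mem _ hy.1.1), ?_, ?_⟩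
  · have h1 : QuadraticMap.polar Q v x = 0 := hx.2
    have h2 : QuadraticMap.polar Q v y = 0 := hy.1.2
    rw [b_add_right, b_smul_right, b_smul_right, h1, h2, mul_zero, mul_zero, add_zero]
  · rw [hval, mul_left_comm, mul_comm]
    rintro h0
    rw [CfsgLib.Orth.isSquare_mul_iff (mul_ne_zero hv hv)] at h0
    rcases h0 with h0 | h0
    · exact hν (h0 ▸ IsSquare.zero)
    · exact hν (h0.1 ⟨Q v, rfl⟩)

namespace CData

variable (D : CData Q)

/-- An element of the centraliser in the nontrivial class of the special isometries. -/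
theorem exists_comm_pair {g : Cfsg.Geo.quadSimilarityGroup ⇑Q} (hχ : D.χ g = -1) {l : Fˣ}
    (hl : (g : GL ι F) * (g : GL ι F) = scal l) :
    ∃ (v w : ι → F) (r₁ r₂ : Grp Q), IsRefl v r₁ ∧ IsRefl w r₂ ∧ ¬ IsSquare (Q v * Q w) ∧
      (g : GL ι F) * ((r₁ * r₂ : Grp Q) : GL ι F) = ((r₁ * r₂ : Grp Q) : GL ι F) * g := by
  classical
  have h2 := D.h2
  have hB := D.fine.nondeg
  have hn := D.fine.five
  obtain ⟨c, hc⟩ := g.2
  have hggv : ∀ x, ((g : GL ι F) : Matrix ι ι F) *ᵥ (((g : GL ι F) : Matrix ι ι F) *ᵥ x) = (l : F) • x := fun x => by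
    rw [mulVec_mulVec, ← Units.val_mul, hl, scal_coe, smul_mulVec, one_mulVec]
  have hbg : ∀ x y, QuadraticMap.polar Q (((g : GL ι F) : Matrix ι ι F) *ᵥ x) (((g : GL ι F) : Matrix ι ι F) *ᵥ y) =
      (c : F) * QuadraticMap.polar Q x y := fun x y => by
    simp only [QuadraticMap.polar, ← mulVec_add, hc]; ring
  obtain ⟨z, hz⟩ := exists_aniso hB (le_trans (by norm_num) hn)
  have hcl : (c : F) * c = (l : F) * l := by
    have h1 := hc (((g : GL ι F) : Matrix ι ι F) *ᵥ z)
    rw [hggv, q_smul, hc] at h1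
    exact mul_right_cancel₀ hz (by linear_combination -h1)
  by_cases hsq : IsSquare (c : F)
  · obtain ⟨d, s, hgs, -, hds⟩ := D.exists_isometry ((D.nu_eq_one_iff hc).2 hsq)
    rw [hχ] at hds
    set e := (l : F) / ((d : F) * d) with he
    have hss : ∀ x, ap s (ap s x) = e • x := fun x => by
      have h1 := hggv x
      rw [show (g : GL ι F) = scal d * (s : GL ι F) from congrArg Subtype.val hgs,
        CfsgLib.ClassicalAut.scal_mul_coe, smul_mulVec, smul_mulVec, mulVec_smul, smul_smul] at h1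
      show ((s : GL ι F) : Matrix ι ι F) *ᵥ (((s : GL ι F) : Matrix ι ι F) *ᵥ x) = _
      rw [he, div_eq_mul_inv, mul_comm (l : F), ← smul_smul, ← h1, smul_smul, inv_mul_cancel₀ (by simp), one_smul]
    have he2 : e * e = 1 := by
      have h1 := ap_q s (ap s z)
      rw [hss, q_smul, ap_q] at h1
      exact mul_right_cancel₀ hz (h1.trans (one_mul _).symm)
    rcases mul_self_eq_one_iff.1 he2 with he1 | he1
    swap
    · -- a complex structure is proper
      exfalso
      set M := ((s : GL ι F) : Matrix ι ι F)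
      have hskew : ∀ x, QuadraticMap.polar Q x (ap s x) = 0 := fun x => by
        have h1 := ap_b s x (ap s x)
        rw [hss, he1, b_smul_right, b_comm (ap s x) x] at h1
        exact mul_left_cancel₀ h2 (by linear_combination -h1)
      have hM : ∀ x, Q ((1 + M) *ᵥ x) = 2 * Q x := fun x => by
        rw [add_mulVec, one_mulVec, q_add, show M *ᵥ x = ap s x from rfl, ap_q, hskew]; ring
      have hMM : (1 + M) * (1 + M) = (2 : F) • M := Matrix.ext_iff_mulVec.2 fun x => by
        have h1 : M *ᵥ (M *ᵥ x) = e • x := hss x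
        rw [← mulVec_mulVec, add_mulVec, add_mulVec, one_mulVec, one_mulVec, mulVec_add, h1, he1, smul_mulVec]
        module
      have hdet := det_sq hB hM
      have h3 := congrArg Matrix.det hMM
      rw [det_mul, det_smul, ← pow_two, hdet] at h3
      have h4 : M.det = 1 := mul_left_cancel₀ (pow_ne_zero _ h2) (by rw [← h3, mul_one])
      rw [(dickson_iff_det hB h2 hn s).2 h4] at hds
      exact absurd hds (by decide)
    · -- an involution
      set M := ((s : GL ι F) : Matrix ι ι F).mulVecLin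
      have hM : ∀ x, M (M x) = x := fun x => (hss x).trans (by rw [he1, one_smul])
      set Wp := LinearMap.ker (M - LinearMap.id)
      set Wm := LinearMap.ker (M + LinearMap.id)
      have hp : ∀ x, x ∈ Wp ↔ M x = x := fun x => by
        rw [LinearMap.mem_ker, LinearMap.sub_apply, LinearMap.id_apply, sub_eq_zero]
      have hm : ∀ x, x ∈ Wm ↔ M x = -x := fun x => by
        rw [LinearMap.mem_ker, LinearMap.add_apply, LinearMap.id_apply, add_eq_zero_iff_eq_neg]
      have horth : ∀ x ∈ Wp, ∀ y ∈ Wm, QuadraticMap.polar Q x y = 0 := fun x hx y hy => by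
        have h1 : QuadraticMap.polar Q (M x) (M y) = QuadraticMap.polar Q x y := ap_b s x y
        rw [(hp x).1 hx, (hm y).1 hy, ← neg_one_smul F y, b_smul_right] at h1
        exact mul_left_cancel₀ h2 (by linear_combination -h1)
      have hsplit : ∀ x, x = (2 : F)⁻¹ • (x + M x) + (2 : F)⁻¹ • (x - M x) := fun x => by
        match_scalars <;> field_simp <;> ring
      have hmp : ∀ x, (2 : F)⁻¹ • (x + M x) ∈ Wp ∧ (2 : F)⁻¹ • (x - M x) ∈ Wm := fun x =>
        ⟨(hp _).2 (by rw [map_smul, map_add, hM, add_comm]), (hm _).2 (by rw [map_smul, map_sub, hM, ← smul_neg, neg_sub])⟩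
      have hndp : ∀ x ∈ Wp, (∀ y ∈ Wp, QuadraticMap.polar Q x y = 0) → x = 0 := fun x hx hxy => hB x fun y => by
        show QuadraticMap.polar Q x y = 0
        rw [hsplit y, b_add_right, hxy _ (hmp y).1, horth x hx _ (hmp y).2, add_zero]
      have hndm : ∀ x ∈ Wm, (∀ y ∈ Wm, QuadraticMap.polar Q x y = 0) → x = 0 := fun x hx hxy => hB x fun y => by
        show QuadraticMap.polar Q x y = 0
        rw [hsplit y, b_add_right, hxy _ (hmp y).2, b_comm, horth _ (hmp y).1 x hx, add_zero]
      have htop : Wp ⊔ Wm = ⊤ := eq_top_iff.2 fun x _ =>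
        hsplit x ▸ Submodule.add_mem_sup (hmp x).1 (hmp x).2
      have hdim := Submodule.finrank_sup_add_finrank_inf_eq Wp Wm
      rw [htop, finrank_top] at hdim
      obtain ⟨ε, hε, v, hv, w, hw, hvw, hns⟩ : ∃ ε : F, (ε = 1 ∨ ε = -1) ∧ ∃ v, M v = ε • v ∧ ∃ w, M w = ε • w ∧
          QuadraticMap.polar Q v w = 0 ∧ ¬ IsSquare (Q v * Q w) := by
        rcases le_or_gt 3 (Module.finrank F Wp) with h3 | h3
        · obtain ⟨v, hv, w, hw, h4⟩ := exists_pair_in h2 h3 hndp
          exact ⟨1, Or.inl rfl, v, by rw [one_smul]; exact (hp v).1 hv, w, by rw [one_smul]; exact (hp w).1 hw, h4⟩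
        · obtain ⟨v, hv, w, hw, h4⟩ := exists_pair_in h2 (W := Wm) (by omega) hndm
          exact ⟨-1, Or.inr rfl, v, by rw [neg_one_smul]; exact (hm v).1 hv, w,
            by rw [neg_one_smul]; exact (hm w).1 hw, h4⟩
      have hv0 : Q v ≠ 0 := fun e0 => hns (by rw [e0, zero_mul]; exact IsSquare.zero)
      have hw0 : Q w ≠ 0 := fun e0 => hns (by rw [e0, mul_zero]; exact IsSquare.zero)
      obtain ⟨r₁, hr₁⟩ := exists_refl hB hv0
      obtain ⟨r₂, hr₂⟩ := exists_refl hB hw0
      refine ⟨v, w, r₁, r₂, hr₁, hr₂, hns, ?_⟩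
      have hgm : ∀ u, M u = ε • u → ((g : GL ι F) : Matrix ι ι F) *ᵥ u = ((d : F) * ε) • u := fun u hu => by
        rw [show (g : GL ι F) = scal d * (s : GL ι F) from congrArg Subtype.val hgs,
          CfsgLib.ClassicalAut.scal_mul_coe, smul_mulVec, show ((s : GL ι F) : Matrix ι ι F) *ᵥ u = M u from rfl, hu,
          smul_smul]
      have hde : (d : F) * ε ≠ 0 := mul_ne_zero d.ne_zero (by rcases hε with rfl | rfl <;> simp)
      refine pair_commute hr₁ hr₂ hvw hc (α := (d : F) * ε) (β := 0) (γ := 0) (δ := (d : F) * ε)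
        (α' := ((d : F) * ε)⁻¹) (β' := 0) (γ' := 0) (δ' := ((d : F) * ε)⁻¹) ?_ ?_ ?_ ?_ h2
      · rw [hgm v hv, zero_smul, add_zero]
      · rw [hgm w hw, zero_smul, zero_add]
      · rw [hgm v hv, zero_smul, add_zero, smul_smul, inv_mul_cancel₀ hde, one_smul]
      · rw [hgm w hw, zero_smul, zero_add, smul_smul, inv_mul_cancel₀ hde, one_smul]
  · -- a plane with a nonsquare multiplier
    obtain ⟨v, hv0, hv⟩ : ∃ v, Q v ≠ 0 ∧ QuadraticMap.polar Q v (((g : GL ι F) : Matrix ι ι F) *ᵥ v) = 0 := by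
      have hadj : ∀ x y, (l : F) * QuadraticMap.polar Q (((g : GL ι F) : Matrix ι ι F) *ᵥ x) y =
          (c : F) * QuadraticMap.polar Q x (((g : GL ι F) : Matrix ι ι F) *ᵥ y) := fun x y => by
        rw [← hbg, hggv, b_smul_right]
      rcases mul_self_eq_mul_self_iff.1 hcl with e | e
      · by_contra hno
        push Not at hno
        let gl := ((g : GL ι F) : Matrix ι ι F).mulVecLin
        let R : QuadraticForm F (ι → F) := Q.comp (LinearMap.id + gl) - Q - (c : F) • Q
        have hR : ∀ x, R x = QuadraticMap.polar Q x (((g : GL ι F) : Matrix ι ι F) *ᵥ x) := fun x => by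
          show Q (x + ((g : GL ι F) : Matrix ι ι F) *ᵥ x) - Q x - (c : F) * Q x = _
          rw [QuadraticMap.polar, hc]
        have hpolR : ∀ x y, QuadraticMap.polar R x y =
            2 * QuadraticMap.polar Q x (((g : GL ι F) : Matrix ι ι F) *ᵥ y) := fun x y => by
          have h1 := hadj y x
          rw [e] at h1
          have h1' := mul_left_cancel₀ l.ne_zero h1
          rw [QuadraticMap.polar, hR, hR, hR, mulVec_add, b_add_left, b_add_right, b_add_right, ← h1',
            b_comm (((g : GL ι F) : Matrix ι ι F) *ᵥ y) x]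
          ring
        have hRnd : Nondeg R := fun x hx => hB x fun y => by
          show QuadraticMap.polar Q x y = 0
          have h1 : QuadraticMap.polar R x ((((g : GL ι F)⁻¹ : GL ι F) : Matrix ι ι F) *ᵥ y) = 0 := hx _
          rw [hpolR, mulVec_mulVec, Units.mul_inv, one_mulVec] at h1
          exact (mul_eq_zero.1 h1).resolve_left h2
        obtain ⟨μ, hμ⟩ := forms_prop hRnd hn (R := Q) fun x hx => by
          by_contra hq
          exact hno x hq (by rw [← hR]; exact hx)
        have hpol : ∀ x y, QuadraticMap.polar Q x y =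
            QuadraticMap.polar Q x ((μ * 2) • (((g : GL ι F) : Matrix ι ι F) *ᵥ y)) := fun x y => by
          rw [b_smul_right, mul_assoc, ← hpolR]
          simp only [QuadraticMap.polar, hμ]
          ring
        have hfix : ∀ y, (μ * 2) • (((g : GL ι F) : Matrix ι ι F) *ᵥ y) = y := fun y =>
          (sub_eq_zero.1 (hB _ fun x => by
            show QuadraticMap.polar Q (y - (μ * 2) • (((g : GL ι F) : Matrix ι ι F) *ᵥ y)) x = 0
            rw [b_comm, b_sub_right, ← hpol, sub_self])).symm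
        have h1 : ((μ * 2) * (μ * 2)) * (c : F) = 1 := by
          have h3 := congrArg Q (hfix z)
          rw [q_smul, hc] at h3
          exact mul_right_cancel₀ hz (by linear_combination h3)
        have hμ0 : μ * 2 ≠ 0 := fun e0 => by rw [e0, zero_mul, zero_mul] at h1; exact zero_ne_one h1
        exact hsq ⟨(μ * 2)⁻¹, by rw [← mul_inv]; exact eq_inv_of_mul_eq_one_left (by linear_combination h1)⟩
      · refine ⟨z, hz, ?_⟩
        have h1 := hadj z z
        rw [e, b_comm (((g : GL ι F) : Matrix ι ι F) *ᵥ z) z] at h1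
        refine mul_left_cancel₀ (mul_ne_zero h2 l.ne_zero) ?_
        linear_combination h1
    set w := ((g : GL ι F) : Matrix ι ι F) *ᵥ v with hw
    have hw0 : Q w = (c : F) * Q v := hc v
    obtain ⟨r₁, hr₁⟩ := exists_refl hB hv0
    obtain ⟨r₂, hr₂⟩ := exists_refl hB (v := w) (by rw [hw0]; exact mul_ne_zero c.ne_zero hv0)
    refine ⟨v, w, r₁, r₂, hr₁, hr₂, ?_, ?_⟩
    · rw [hw0, mul_left_comm, mul_comm]
      intro h0
      rw [CfsgLib.Orth.isSquare_mul_iff (mul_ne_zero hv0 hv0)] at h0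
      rcases h0 with h0 | h0
      · exact c.ne_zero h0
      · exact hsq (h0.1 ⟨Q v, rfl⟩)
    · have hgw : ((g : GL ι F) : Matrix ι ι F) *ᵥ w = (l : F) • v := hggv v
      refine pair_commute hr₁ hr₂ hv hc (α := 0) (β := 1) (γ := (l : F)) (δ := 0)
        (α' := 0) (β' := (l : F)⁻¹) (γ' := 1) (δ' := 0) ?_ ?_ ?_ ?_ h2
      · rw [zero_smul, zero_add, one_smul]
      · rw [hgw, zero_smul, add_zero]
      · rw [hgw, zero_smul, zero_add, smul_smul, inv_mul_cancel₀ l.ne_zero, one_smul]
      · rw [one_smul, zero_smul, add_zero]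

/-- The classes fixing both families. -/
theorem ker_list (y : Cfsg.Out (Cfsg.POmega F ⇑Q)) :
    y ∈ D.χ.ker.map (simOut Q) ↔ y = 1 ∨ y = D.cb ∨ y = D.ca ∨ y = D.ca * D.cb := by
  constructor
  · rintro ⟨g, hg, rfl⟩
    rcases Int.units_eq_one_or (D.ν g) with h1 | h1
    · rcases D.simOut_kernel hg h1 with e | e
      · exact Or.inl e
      · exact Or.inr (Or.inl e)
    · have hg' : D.χ g = 1 := hg
      rw [show g = D.G * (D.G⁻¹ * g) by rw [mul_inv_cancel_left], map_mul]
      rcases D.simOut_kernel (g := D.G⁻¹ * g) (by rw [map_mul, map_inv, D.χG, hg', inv_one, one_mul])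
        (by rw [map_mul, map_inv, D.nu_G, h1]; rfl) with e | e <;> rw [e]
      · exact Or.inr (Or.inr (Or.inl (mul_one _)))
      · exact Or.inr (Or.inr (Or.inr rfl))
  · have hb : D.cb ∈ D.χ.ker.map (simOut Q) := by
      refine ⟨_, ?_, D.cb_eq.symm⟩
      show D.χ _ = 1
      rw [map_mul, D.χ_grp, D.χ_grp, dickson_refl D.fine.nondeg D.hr₁, dickson_refl D.fine.nondeg D.hr₂]
      rfl
    have ha := D.ca_mem D.χ.ker D.χG
    rintro (rfl | rfl | rfl | rfl)
    exacts [one_mem _, hb, ha, mul_mem ha hb]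

/-- Splitting of the class of an involutory similitude exchanging the families. -/
theorem graph_split {g : Cfsg.Geo.quadSimilarityGroup ⇑Q} (hχ : D.χ g = -1) (hg2 : orderOf (simAut Q g) = 2) :
    (Cfsg.splitClassCount (D.χ.ker.map (simAut Q)) (Cfsg.Inn (Cfsg.POmega F ⇑Q)) (simAut Q g) = 1 ∨
      Cfsg.splitClassCount (D.χ.ker.map (simAut Q)) (Cfsg.Inn (Cfsg.POmega F ⇑Q)) (simAut Q g) = 2) ∧
    (D.cb ≠ 1 →
      Cfsg.splitClassCount (D.χ.ker.map (simAut Q)) (Cfsg.Inn (Cfsg.POmega F ⇑Q)) (simAut Q g) = 2) := by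
  classical
  set H := D.χ.ker.map (simAut Q)
  set x := simAut Q g
  set N := Cfsg.Inn (Cfsg.POmega F ⇑Q)
  have hN : N ≤ H := by
    rintro _ ⟨y, rfl⟩
    obtain ⟨s, rfl⟩ := prj_surjective (Q := Q) y
    refine ⟨⟨((s : Grp Q) : GL ι F), isometry_le_sim (s : Grp Q).2⟩, ?_, psi_incl s⟩
    show D.χ _ = 1
    rw [D.χ_grp]
    exact Abelianization.commutator_subset_ker _ s.2
  set C := H ⊓ Subgroup.centralizer {x}
  have hcount := splitClassCount_mul H N hN x
  let π := QuotientGroup.mk' N
  have hmapH : H.map π = D.χ.ker.map (simOut Q) := Subgroup.map_map _ _ _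
  have hidx : ∀ K : Subgroup (MulAut (Cfsg.POmega F ⇑Q)), N.relIndex K = Nat.card (K.map π) := fun K => by
    conv_lhs => rw [← QuotientGroup.ker_mk' N]
    exact Subgroup.relIndex_ker K _
  rw [hidx, hidx, hmapH] at hcount
  by_cases hb : D.cb = 1
  · have hK : Nat.card (D.χ.ker.map (simOut Q)) = 2 := by
      rw [(Nat.card_congr (Equiv.subtypeEquivRight (q := fun y => y ∈ ({1, D.ca} : Finset _)) fun y => by
        rw [D.ker_list]; simp [hb])).trans (Nat.card_eq_finsetCard _)]
      exact Finset.card_pair (Ne.symm D.ca_ne)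
    rw [hK] at hcount
    refine ⟨(Nat.dvd_prime Nat.prime_two).1 ⟨_, hcount.symm⟩, fun h => absurd hb h⟩
  have hab1 : D.ca * D.cb ≠ 1 := fun e =>
    D.ca_ne_cb ((eq_inv_of_mul_eq_one_left e).trans (inv_eq_of_mul_eq_one_right D.cb_sq))
  have hK : Nat.card (D.χ.ker.map (simOut Q)) = 4 := by
    rw [(Nat.card_congr (Equiv.subtypeEquivRight
      (q := fun y => y ∈ ({1, D.cb, D.ca, D.ca * D.cb} : Finset _)) fun y => by
      rw [D.ker_list]; simp)).trans (Nat.card_eq_finsetCard _)]
    rw [Finset.card_insert_of_notMem (by simp [Ne.symm hb, Ne.symm D.ca_ne, Ne.symm hab1]),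
      Finset.card_insert_of_notMem (by simp [Ne.symm D.ca_ne_cb, D.ca_ne]),
      Finset.card_insert_of_notMem (by simp [hb]), Finset.card_singleton]
  set r := cls Q D.r₁
  set γ := simOut Q g
  obtain ⟨k, hk, hγ⟩ : ∃ k ∈ D.χ.ker.map (simOut Q), γ = r * k := by
    let R : Cfsg.Geo.quadSimilarityGroup ⇑Q := ⟨D.r₁, isometry_le_sim D.r₁.2⟩
    refine ⟨simOut Q (R⁻¹ * g), ⟨_, ?_, rfl⟩, ?_⟩
    · show D.χ _ = 1
      rw [map_mul, map_inv, D.chi_r₁, hχ]; rfl
    · rw [show r = simOut Q R from rfl, ← map_mul, mul_inv_cancel_left]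
  have hak : Commute D.ca k := by
    rcases (D.ker_list k).1 hk with rfl | rfl | rfl | rfl
    exacts [Commute.one_right _, D.comm_ab, Commute.refl _, (Commute.refl _).mul_right D.comm_ab]
  have hbr : Commute D.cb r := by
    show D.cb * r = r * D.cb
    show cls Q D.r₁ * cls Q D.r₂ * cls Q D.r₁ = cls Q D.r₁ * (cls Q D.r₁ * cls Q D.r₂)
    rw [mul_assoc, cls_comm D.r₂ D.r₁]
  have hbk : Commute D.cb k := by
    rcases (D.ker_list k).1 hk with rfl | rfl | rfl | rfl
    exacts [Commute.one_right _, Commute.refl _, D.comm_ab.symm, D.comm_ab.symm.mul_right (Commute.refl _)]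
  have hnot : ¬ Commute D.ca γ := fun hc => by
    have har : Commute D.ca r := by
      have h1 := hc.mul_right hak.inv_right
      rwa [hγ, mul_inv_cancel_right] at h1
    refine hb ?_
    have h1 := D.conj_r₁
    rw [har.eq, mul_inv_cancel_right] at h1
    show cls Q D.r₁ * cls Q D.r₂ = 1
    rw [← h1]
    exact cls_refl_sq D.hr₁
  have himg : ∀ y, y ∈ C.map π ↔ y = 1 ∨ y = D.cb := by
    intro y
    constructor
    · rintro ⟨β, ⟨hβ, hβc⟩, rfl⟩
      have hcγ : Commute (π β) γ := by
        have e : β * x = x * β := Subgroup.mem_centralizer_singleton_iff.1 hβc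
        show π β * π x = π x * π β
        rw [← map_mul, ← map_mul, e]
      rcases (D.ker_list _).1 (hmapH ▸ Subgroup.mem_map_of_mem π hβ) with e | e | e | e
      · exact Or.inl e
      · exact Or.inr e
      · exact absurd (e ▸ hcγ) hnot
      · refine absurd ?_ hnot
        rw [e] at hcγ
        have hbγ : Commute D.cb γ := hγ ▸ hbr.mul_right hbk
        have h1 := hcγ.mul_left hbγ.inv_left
        rwa [mul_inv_cancel_right] at h1
    · have hone : (g : Cfsg.Geo.quadSimilarityGroup ⇑Q) * g ∈ (simAut Q).ker := by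
        rw [MonoidHom.mem_ker, map_mul, ← pow_two]
        exact hg2 ▸ pow_orderOf_eq_one (simAut Q g)
      obtain ⟨l, hl⟩ := (psi_simInc_eq_one_iff D.fine _).1 hone
      obtain ⟨v, w, r₁, r₂, hr₁, hr₂, hns, hcomm⟩ := D.exists_comm_pair hχ hl
      let t : Cfsg.Geo.quadSimilarityGroup ⇑Q := ⟨((r₁ * r₂ : Grp Q) : GL ι F), isometry_le_sim (r₁ * r₂).2⟩
      have hpair := spinor_pair D.fine D.h2 hr₁ hr₂ hns
      have htC : simAut Q t ∈ C := by
        refine ⟨⟨t, ?_, rfl⟩, Subgroup.mem_centralizer_singleton_iff.2 ?_⟩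
        · show D.χ _ = 1
          rw [D.χ_grp]; exact hpair.1
        · rw [← map_mul, ← map_mul]
          exact congrArg _ (Subtype.ext hcomm.symm)
      have htb : π (simAut Q t) = D.cb := by
        show cls Q (r₁ * r₂) = D.cb
        refine (D.cls_proper' hpair.1).resolve_left fun e => hb ?_
        refine cls_pair_trivial D.fine D.h2 D.ev D.hr₁ D.hr₂ D.hvw fun hyes => ?_
        rw [map_mul] at e
        exact cls_pair_ne D.fine D.h2 hr₁ hr₂ hns hyes e
      rintro (rfl | rfl)
      · exact one_mem _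
      · exact ⟨_, htC, htb⟩
  have hC : Nat.card (C.map π) = 2 := by
    rw [(Nat.card_congr (Equiv.subtypeEquivRight (q := fun y => y ∈ ({1, D.cb} : Finset _)) fun y => by
      rw [himg]; simp)).trans (Nat.card_eq_finsetCard _)]
    exact Finset.card_pair (Ne.symm hb)
  rw [hK, hC] at hcount
  have h2 : Cfsg.splitClassCount H N x = 2 := by omega
  exact ⟨Or.inr h2, fun _ => h2⟩

end CData

end CfsgLib.OrthAut
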