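import Cfsg.Agent.Lib.OrthAut.Basic

/-!
The action of `Ω` on subspaces: the orbit of a totally singular `k`-space contains all graphs of
maps from it to its complement.
-/

set_option autoImplicit false
set_option linter.unusedSectionVars false

namespace CfsgLib.OrthAut

open Matrix CfsgLib.Orth

variable {F : Type*} [Field F] [Finite F] {ι : Type} [Fintype ι] [DecidableEq ι]
variable {Q : QuadraticForm F (ι → F)} (hB : Nondeg Q)

local notation "B" => QuadraticMap.polar (DFunLike.coe Q)
local notation "Ω" => Cfsg.Omega F (DFunLike.coe Q)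

/-- An element of `Ω` as a linear map. -/
def lin (g : Ω) : (ι → F) →ₗ[F] (ι → F) where
  toFun := ap (g : Grp Q)
  map_add' := ap_add _
  map_smul' c x := ap_smul _ c x

/-- The action on subspaces. -/
@[implicit_reducible]
def subAct (Q : QuadraticForm F (ι → F)) :
    MulAction (Cfsg.Omega F ⇑Q) (Submodule F (ι → F)) where
  smul g W := W.map (lin g)
  one_smul W := by
    show W.map (lin 1) = W
    rw [show lin (1 : Cfsg.Omega F ⇑Q) = LinearMap.id from LinearMap.ext fun x => ap_one x,
      Submodule.map_id]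
  mul_smul g h W := by
    show W.map (lin (g * h)) = (W.map (lin h)).map (lin g)
    rw [← Submodule.map_comp]
    exact congrArg (Submodule.map · W) (LinearMap.ext fun x => ap_mul (g : Grp Q) h x)

attribute [local instance] subAct

theorem smul_sub (g : Ω) (W : Submodule F (ι → F)) : g • W = W.map (lin g) := rfl

theorem smul_span (g : Ω) (x : ι → F) :
    g • Submodule.span F ({x} : Set (ι → F)) = Submodule.span F {ap (g : Grp Q) x} := by
  rw [smul_sub, Submodule.map_span, Set.image_singleton]
  rfl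

theorem mem_stabilizer_sub {g : Ω} {W : Submodule F (ι → F)} :
    g ∈ MulAction.stabilizer Ω W ↔ ∀ x ∈ W, ap (g : Grp Q) x ∈ W := by
  rw [MulAction.mem_stabilizer_iff, smul_sub]
  refine ⟨fun h x hx => h ▸ Submodule.mem_map_of_mem hx, fun h => ?_⟩
  refine Submodule.eq_of_le_of_finrank_eq (Submodule.map_le_iff_le_comap.2 h) ?_
  exact (Submodule.equivMapOfInjective (lin g) (fun a b e => ap_inj (g : Grp Q) e) W).finrank_eq.symm

theorem pstab_eq_stabilizer (x : ι → F) :
    pstab Q x = MulAction.stabilizer Ω (Submodule.span F ({x} : Set (ι → F))) := by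
  ext g
  rw [mem_pstab, mem_stabilizer_sub]
  refine ⟨fun h y hy => ?_, fun h => h x (Submodule.mem_span_singleton_self x)⟩
  obtain ⟨c, rfl⟩ := Submodule.mem_span_singleton.1 hy
  rw [ap_smul]
  exact Submodule.smul_mem _ _ h

theorem singular_of_span {k : ℕ} (r : Fin k → ι → F) (hs : ∀ i j, B (r i) (r j) = 0)
    (hq : ∀ i, Q (r i) = 0) {y : ι → F} (hy : y ∈ Submodule.span F (Set.range r)) :
    Q y = 0 ∧ ∀ l, B y (r l) = 0 := by
  induction hy using Submodule.span_induction with
  | mem z hz => obtain ⟨i, rfl⟩ := hz; exact ⟨hq i, fun l => hs i l⟩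
  | zero => exact ⟨map_zero Q, fun l => b_zero_left _⟩
  | add a b ha' hb' ha hb =>
    refine ⟨?_, fun l => by rw [b_add_left, ha.2, hb.2, add_zero]⟩
    rw [q_add, ha.1, hb.1, zero_add, zero_add]
    have : ∀ z ∈ Submodule.span F (Set.range r), B a z = 0 := fun z hz => by
      induction hz using Submodule.span_induction with
      | mem w hw => obtain ⟨i, rfl⟩ := hw; exact ha.2 i
      | zero => exact b_zero_right _
      | add c d _ _ hc hd => rw [b_add_right, hc, hd, add_zero]
      | smul c d _ hd => rw [b_smul_right, hd, mul_zero]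
    exact this b hb'
  | smul c a _ ha => exact ⟨by rw [q_smul, ha.1, mul_zero], fun l => by rw [b_smul_left, ha.2, mul_zero]⟩

include hB in
/-- A partner system for a basis of a totally singular subspace. -/
theorem exists_dual {k : ℕ} (r : Fin k → ι → F)
    (hr : LinearIndependent F r) (hs : ∀ i j, B (r i) (r j) = 0) (hq : ∀ i, Q (r i) = 0) :
    ∃ f : Fin k → ι → F, (∀ i, Q (f i) = 0) ∧ (∀ i j, B (f i) (f j) = 0) ∧
      ∀ i j, B (r i) (f j) = if i = j then 1 else 0 := by
  classical
  have hex : ∀ j, ∃ v, ∀ i, B (r i) v = if i = j then 1 else 0 := fun j => by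
    obtain ⟨v, hv, hjv⟩ := exists_orth_one hB
      (linearIndependent_iff_notMem_span.1 hr j)
    refine ⟨v, fun i => ?_⟩
    split_ifs with h
    · rw [h, hjv]
    · exact mem_orth_span.1 hv _ ⟨i, ⟨trivial, h⟩, rfl⟩
  choose g hg using hex
  let c : Fin k → Fin k → F := fun i l =>
    if i = l then Q (g i) else if i < l then B (g i) (g l) else 0
  let R : Fin k → ι → F := fun i => ∑ l, c i l • r l
  have hR : ∀ i, R i ∈ Submodule.span F (Set.range r) := fun i =>
    Submodule.sum_mem _ fun l _ => Submodule.smul_mem _ _ (Submodule.subset_span ⟨l, rfl⟩)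
  have hgR : ∀ i j, B (g i) (R j) = c j i := fun i j => by
    show (QuadraticMap.polarBilin Q (g i)) (∑ l, c j l • r l) = _
    rw [map_sum, Finset.sum_eq_single i]
    · rw [map_smul, smul_eq_mul, QuadraticMap.polarBilin_apply_apply, b_comm, hg i i, if_pos rfl,
        mul_one]
    · intro l _ hl
      rw [map_smul, smul_eq_mul, QuadraticMap.polarBilin_apply_apply, b_comm, hg i l, if_neg hl,
        mul_zero]
    · exact fun h => absurd (Finset.mem_univ i) h
  have hRR : ∀ i j, B (R i) (R j) = 0 := fun i j => by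
    have h1 := singular_of_span r hs hq (hR i)
    have h2 := singular_of_span r hs hq (hR j)
    have h3 := singular_of_span r hs hq (add_mem (hR i) (hR j))
    rw [q_add, h1.1, h2.1, zero_add, zero_add] at h3
    exact h3.1
  refine ⟨fun i => g i - R i, fun i => ?_, fun i j => ?_, fun i j => ?_⟩
  · rw [q_sub, (singular_of_span r hs hq (hR i)).1, hgR, add_zero]
    show Q (g i) - (if i = i then Q (g i) else _) = 0
    rw [if_pos rfl, sub_self]
  · rw [b_sub_left, b_sub_right, b_sub_right, hgR, hRR, sub_zero, b_comm (R i) (g j), hgR]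
    show B (g i) (g j) - (if j = i then Q (g j) else if j < i then B (g j) (g i) else 0) -
      (if i = j then Q (g i) else if i < j then B (g i) (g j) else 0) = 0
    rcases lt_trichotomy i j with h | rfl | h
    · rw [if_neg h.ne', if_neg h.not_gt, if_neg h.ne, if_pos h]; ring
    · rw [if_pos rfl, b_self]; ring
    · rw [if_neg h.ne, if_pos h, if_neg h.ne', if_neg h.not_gt, b_comm (g j) (g i)]; ring
  · rw [b_sub_right, hg j i, b_comm (r i) (R j), (singular_of_span r hs hq (hR j)).2, sub_zero]

include hB in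
/-- The orbit of a totally singular `k`-space is large. -/
theorem card_orbit_ge (hn : 5 ≤ Module.finrank F (ι → F)) {R : Submodule F (ι → F)}
    (hR : ∀ x ∈ R, Q x = 0) {k : ℕ} (hk : Module.finrank F R = k) :
    Nat.card F ^ (k * (Module.finrank F (ι → F) - 2 * k) +
        Nat.card {p : Fin k × Fin k // p.2 < p.1}) ≤
      Nat.card (MulAction.orbit Ω R) := by
  classical
  let b := Module.finBasisOfFinrankEq F R hk
  let r : Fin k → ι → F := fun i => (b i : ι → F)
  have hli : LinearIndependent F r := b.linearIndependent.map' R.subtype R.ker_subtype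
  have hq : ∀ i, Q (r i) = 0 := fun i => hR _ (b i).2
  have hs : ∀ i j, B (r i) (r j) = 0 := fun i j =>
    le_orth_of_singular hR (b j).2 _ (b i).2
  have hspan : ∀ x ∈ R, ∃ c : Fin k → F, x = ∑ j, c j • r j := fun x hx =>
    ⟨fun j => b.repr ⟨x, hx⟩ j, by
      have h := congrArg (Submodule.subtype R) (b.sum_repr ⟨x, hx⟩)
      rw [map_sum] at h
      exact h.symm⟩
  obtain ⟨f, hfq, hff, hrf⟩ := exists_dual hB r hli hs hq
  have hfr : ∀ i j, B (f i) (r j) = if j = i then 1 else 0 := fun i j => by rw [b_comm, hrf]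
  let W := orth Q (Submodule.span F
    ((Finset.univ.image r ∪ Finset.univ.image f : Finset (ι → F)) : Set (ι → F)))
  have hmemW : ∀ x, x ∈ W ↔ (∀ i, B (r i) x = 0) ∧ ∀ i, B (f i) x = 0 := fun x => by
    simp only [W, mem_orth_span, Finset.coe_union, Finset.coe_image, Finset.coe_univ, Set.image_univ,
      Set.mem_union, Set.mem_range]
    exact ⟨fun h => ⟨fun i => h _ (Or.inl ⟨i, rfl⟩), fun i => h _ (Or.inr ⟨i, rfl⟩)⟩,
      fun h y hy => by rcases hy with ⟨i, rfl⟩ | ⟨i, rfl⟩; exacts [h.1 i, h.2 i]⟩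
  have hdW : Module.finrank F (ι → F) - 2 * k ≤ Module.finrank F W := by
    have h1 := finrank_orth_span hB (Finset.univ.image r ∪ Finset.univ.image f)
    have h2 := (Finset.card_union_le (Finset.univ.image r) (Finset.univ.image f))
    have h3 := Finset.card_image_le (f := r) (s := Finset.univ)
    have h4 := Finset.card_image_le (f := f) (s := Finset.univ)
    rw [Finset.card_univ, Fintype.card_fin] at h3 h4
    show _ ≤ Module.finrank F (orth Q _)
    omega
  -- the projection on `W`
  let π : (ι → F) →ₗ[F] (ι → F) := LinearMap.id -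
    ∑ l, ((QuadraticMap.polarBilin Q).flip (f l)).smulRight (r l) -
    ∑ l, ((QuadraticMap.polarBilin Q).flip (r l)).smulRight (f l)
  have hπ : ∀ x, π x = x - ∑ l, B x (f l) • r l - ∑ l, B x (r l) • f l := fun x => by
    simp [π, LinearMap.sum_apply]
  have hπW : ∀ x, π x ∈ W := fun x => by
    rw [hmemW]
    have hsum : ∀ (y : ι → F) (c : Fin k → F) (v : Fin k → ι → F),
        B y (∑ l, c l • v l) = ∑ l, c l * B y (v l) := fun y c v => by
      show (QuadraticMap.polarBilin Q y) (∑ l, c l • v l) = _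
      rw [map_sum]
      exact Finset.sum_congr rfl fun l _ => by rw [map_smul]; rfl
    constructor <;> intro i <;> rw [hπ, b_sub_right, b_sub_right, hsum, hsum]
    · simp [hs, hrf, b_comm (r i) x]
    · simp [hff, hfr, b_comm (f i) x]
  have hπw : ∀ w ∈ W, π w = w := fun w hw => by
    obtain ⟨h1, h2⟩ := (hmemW w).1 hw
    simp [hπ, b_comm w, h1, h2]
  have hπf : ∀ i, π (f i) = 0 := fun i => by
    simp [hπ, hff, hfr]
  let U : Subgroup Ω :=
    { carrier := {g | (∀ i, ap (g : Grp Q) (f i) = f i) ∧
        ∀ w ∈ W, ap (g : Grp Q) w - w ∈ Submodule.span F (Set.range f)}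
      mul_mem' := by
        rintro g h ⟨hg, hg'⟩ ⟨hh, hh'⟩
        refine ⟨fun i => ?_, fun w hw => ?_⟩
        · show ap ((g : Grp Q) * (h : Grp Q)) (f i) = _
          rw [ap_mul, hh, hg]
        · show ap ((g : Grp Q) * (h : Grp Q)) w - w ∈ _
          have hfix : ∀ y ∈ Submodule.span F (Set.range f), ap (g : Grp Q) y = y := fun y hy => by
            induction hy using Submodule.span_induction with
            | mem z hz => obtain ⟨i, rfl⟩ := hz; exact hg i
            | zero => exact ap_zero _
            | add a b _ _ ha hb => rw [ap_add, ha, hb]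
            | smul c a _ ha => rw [ap_smul, ha]
          rw [ap_mul, show ap (h : Grp Q) w = w + (ap (h : Grp Q) w - w) by abel, ap_add,
            hfix _ (hh' w hw), show ap (g : Grp Q) w + (ap (h : Grp Q) w - w) - w =
              (ap (g : Grp Q) w - w) + (ap (h : Grp Q) w - w) by abel]
          exact add_mem (hg' w hw) (hh' w hw)
      one_mem' := ⟨fun i => ap_one _, fun w _ => by
        rw [show ((1 : Ω) : Grp Q) = 1 from rfl, ap_one, sub_self]; exact zero_mem _⟩
      inv_mem' := by
        rintro g ⟨hg, hg'⟩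
        have hfix : ∀ i, ap (g : Grp Q)⁻¹ (f i) = f i := fun i => by
          conv_lhs => rw [← hg i, ap_inv_ap]
        have hfix' : ∀ y ∈ Submodule.span F (Set.range f), ap (g : Grp Q)⁻¹ y = y := fun y hy => by
          induction hy using Submodule.span_induction with
          | mem z hz => obtain ⟨i, rfl⟩ := hz; exact hfix i
          | zero => exact ap_zero _
          | add a b _ _ ha hb => rw [ap_add, ha, hb]
          | smul c a _ ha => rw [ap_smul, ha]
        refine ⟨hfix, fun w hw => ?_⟩
        have h1 := hfix' _ (hg' w hw)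
        rw [ap_sub, ap_inv_ap] at h1
        show ap (g : Grp Q)⁻¹ w - w ∈ _
        rw [show ap (g : Grp Q)⁻¹ w - w = -(ap (g : Grp Q) w - w) by rw [← h1]; abel_nf]
        exact neg_mem (hg' w hw) }
  -- coordinates of an element of `U`
  let Φw : U → Fin k → W := fun g i => ⟨π (ap (g : Grp Q) (r i)), hπW _⟩
  let Φc : U → {p : Fin k × Fin k // p.2 < p.1} → F := fun g p =>
    B (ap (g : Grp Q) (r p.1.1)) (r p.1.2)
  have hdecomp : ∀ (g : U) i, ap (g : Grp Q) (r i) =
      r i + (Φw g i : ι → F) + ∑ l, B (ap (g : Grp Q) (r i)) (r l) • f l := fun g i => by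
    have hc : ∀ l, B (ap (g : Grp Q) (r i)) (f l) = if i = l then 1 else 0 := fun l => by
      conv_lhs => rw [← g.2.1 l]
      rw [ap_b, hrf]
    show _ = r i + π (ap (g : Grp Q) (r i)) + _
    rw [hπ]
    simp [hc]
    abel
  have hfixs : ∀ (g : U) (c : Fin k → F), ap (g : Grp Q) (∑ l, c l • f l) = ∑ l, c l • f l := by
    intro g c
    show lin g.1 (∑ l, c l • f l) = _
    rw [map_sum]
    exact Finset.sum_congr rfl fun l _ => by rw [map_smul]; exact congrArg _ (g.2.1 l)
  have hmul : ∀ (g h : U) i, ap ((g * h : U) : Grp Q) (r i) =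
      ap (g : Grp Q) (r i) + ap (g : Grp Q) (Φw h i : ι → F) +
        ∑ l, B (ap (h : Grp Q) (r i)) (r l) • f l := fun g h i => by
    show ap ((g : Grp Q) * (h : Grp Q)) (r i) = _
    rw [ap_mul]
    conv_lhs => rw [hdecomp h i]
    rw [ap_add, ap_add, hfixs]
  have hw_mul : ∀ g h i, Φw (g * h) i = Φw g i + Φw h i := fun g h i => Subtype.ext (by
    show π (ap ((g * h : U) : Grp Q) (r i)) = π (ap (g : Grp Q) (r i)) + (Φw h i : ι → F)
    rw [hmul, map_add, map_add]
    obtain ⟨w, hw⟩ : ∃ w, w = (Φw h i : ι → F) := ⟨_, rfl⟩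
    have hwW : w ∈ W := hw ▸ (Φw h i).2
    have h0 : ∀ y ∈ Submodule.span F (Set.range f), π y = 0 := fun y hy =>
      (Submodule.span_le.2 (by rintro _ ⟨l, rfl⟩; exact hπf l) : _ ≤ LinearMap.ker π) hy
    rw [← hw, h0 _ (Submodule.sum_mem _ fun l _ => Submodule.smul_mem _ _ (Submodule.subset_span ⟨l, rfl⟩)),
      add_zero, show ap (g : Grp Q) w = w + (ap (g : Grp Q) w - w) by abel, map_add,
      h0 _ (g.2.2 w hwW), add_zero, hπw w hwW])
  have hc_mul : ∀ g h, Φw h = 0 → Φc (g * h) = Φc g + Φc h := fun g h hh => funext fun p => by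
    show B (ap ((g * h : U) : Grp Q) (r p.1.1)) (r p.1.2) = Φc g p + Φc h p
    rw [hmul, hh, Pi.zero_apply, Submodule.coe_zero, ap_zero, add_zero, b_add_left]
    congr 1
    show (QuadraticMap.polarBilin Q).flip (r p.1.2) (∑ l, B (ap (h : Grp Q) (r p.1.1)) (r l) • f l) = _
    rw [map_sum, Finset.sum_eq_single p.1.2]
    · simp [hfr, Φc]
    · intro l _ hl
      simp [hfr, Ne.symm hl]
    · exact fun h' => absurd (Finset.mem_univ _) h'
  -- generators
  have hgenw : ∀ i (w : W), ∃ g : U, Φw g = Pi.single i w := fun i w => by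
    obtain ⟨h1, h2⟩ := (hmemW _).1 w.2
    obtain ⟨g, hg⟩ := exists_siegel_omega hB hn (hfq i) (h2 i)
    have hgU : g ∈ U := by
      refine ⟨fun l => siegel_fix hg (hff l i) (h2 l), fun y hy => ?_⟩
      obtain ⟨h3, h4⟩ := (hmemW y).1 hy
      rw [hg.2.2, b_comm y (f i), h4 i, zero_smul, add_zero, mul_zero, zero_smul, sub_zero,
        sub_sub_cancel_left]
      exact neg_mem (Submodule.smul_mem _ _ (Submodule.subset_span ⟨i, rfl⟩))
    refine ⟨⟨g, hgU⟩, funext fun j => Subtype.ext ?_⟩
    show π (ap (g : Grp Q) (r j)) = _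
    rw [hg.2.2, hrf, h1 j, zero_smul, sub_zero, map_sub, map_add, map_smul, map_smul, hπw _ w.2,
      hπf, smul_zero, sub_zero, show π (r j) = 0 by simp [hπ, hs, hrf], zero_add]
    by_cases h : j = i
    · subst h; simp
    · simp [h]
  have hgenc : ∀ (p : {p : Fin k × Fin k // p.2 < p.1}) (c : F),
      ∃ g : U, Φw g = 0 ∧ Φc g = Pi.single p c := by
    rintro ⟨⟨i, l⟩, hli'⟩ c
    obtain ⟨g, hg⟩ := exists_siegel_omega hB hn (hfq i) (v := c • f l)
      (by rw [b_smul_right, hff, mul_zero])
    have hgU : g ∈ U := by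
      refine ⟨fun j => siegel_fix hg (hff j i) (by rw [b_smul_right, hff, mul_zero]), fun y hy => ?_⟩
      obtain ⟨h3, h4⟩ := (hmemW y).1 hy
      rw [siegel_fix hg (by rw [b_comm, h4]) (by rw [b_smul_right, b_comm, h4, mul_zero]), sub_self]
      exact zero_mem _
    have happ : ∀ j, ap (g : Grp Q) (r j) = r j + ((if j = i then 1 else 0) * c) • f l -
        (c * (if j = l then 1 else 0)) • f i := fun j => by
      rw [hg.2.2, b_smul_right, hrf, hrf, q_smul, hfq, mul_zero, zero_mul, zero_smul, sub_zero,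
        smul_smul]
    refine ⟨⟨g, hgU⟩, funext fun j => Subtype.ext ?_, funext fun p' => ?_⟩
    · show π (ap (g : Grp Q) (r j)) = 0
      rw [happ, map_sub, map_add, map_smul, map_smul, hπf, hπf, smul_zero, smul_zero, sub_zero,
        add_zero]
      simp [hπ, hs, hrf]
    · obtain ⟨⟨a, b'⟩, hab⟩ := p'
      show B (ap (g : Grp Q) (r a)) (r b') = _
      rw [happ, b_sub_left, b_add_left, b_smul_left, b_smul_left, hs, hfr, hfr, Pi.single_apply]
      simp only [Subtype.mk.injEq, Prod.mk.injEq]
      replace hab : b' < a := hab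
      replace hli' : l < i := hli'
      by_cases h1 : a = i <;> by_cases h2 : b' = l <;> by_cases h3 : a = l <;>
        by_cases h4 : b' = i <;> (try subst h1) <;> (try subst h2) <;>
        first | (exfalso; omega) | simp [*]
  have hontow : ∀ w : Fin k → W, ∃ g : U, Φw g = w := by
    intro w
    rw [← Finset.univ_sum_single w]
    refine Finset.sum_induction _ (fun v => ∃ g : U, Φw g = v) ?_ ?_ fun i _ => hgenw i (w i)
    · rintro _ _ ⟨g, rfl⟩ ⟨h, rfl⟩
      exact ⟨g * h, funext fun i => hw_mul g h i⟩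
    · refine ⟨1, funext fun i => Subtype.ext ?_⟩
      show π (ap (1 : Grp Q) (r i)) = 0
      simp [ap_one, hπ, hs, hrf]
  have hontoc : ∀ c : {p : Fin k × Fin k // p.2 < p.1} → F, ∃ g : U, Φw g = 0 ∧ Φc g = c := by
    intro c
    rw [← Finset.univ_sum_single c]
    refine Finset.sum_induction _ (fun v => ∃ g : U, Φw g = 0 ∧ Φc g = v) ?_ ?_
      fun p _ => hgenc p (c p)
    · rintro _ _ ⟨g, hg, rfl⟩ ⟨h, hh, rfl⟩
      exact ⟨g * h, funext fun i => by rw [hw_mul, hg, hh]; simp, hc_mul g h hh⟩
    · refine ⟨1, funext fun i => Subtype.ext ?_, funext fun p => ?_⟩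
      · show π (ap (1 : Grp Q) (r i)) = 0
        simp [ap_one, hπ, hs, hrf]
      · show B (ap (1 : Grp Q) (r p.1.1)) (r p.1.2) = 0
        rw [ap_one, hs]
  have honto : ∀ x : (Fin k → W) × ({p : Fin k × Fin k // p.2 < p.1} → F),
      ∃ g : U, Φw g = x.1 ∧ Φc g = x.2 := fun x => by
    obtain ⟨g, hg⟩ := hontow x.1
    obtain ⟨h, hh, hc⟩ := hontoc (x.2 - Φc g)
    exact ⟨g * h, funext fun i => by rw [hw_mul, hh, hg]; simp,
      by rw [hc_mul g h hh, hc, add_sub_cancel]⟩
  choose G hGw hGc using honto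
  have hinj : Function.Injective fun x => (⟨((G x : U) : Ω) • R, MulAction.mem_orbit _ _⟩ :
      MulAction.orbit Ω R) := by
    intro x y hxy
    have hxy' : R.map (lin ((G x : U) : Ω)) = R.map (lin ((G y : U) : Ω)) := congrArg Subtype.val hxy
    have hsame : ∀ i, ap ((G x : U) : Grp Q) (r i) = ap ((G y : U) : Grp Q) (r i) := by
      intro i
      obtain ⟨z, hz, he⟩ := hxy'.le (Submodule.mem_map_of_mem (b i).2)
      obtain ⟨c, rfl⟩ := hspan z hz
      have hc : ∀ l, c l = if i = l then 1 else 0 := fun l => by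
        have h1 : ∀ g : U, ∀ z, B (ap (g : Grp Q) z) (f l) = B z (f l) := fun g z => by
          conv_lhs => rw [← g.2.1 l]
          rw [ap_b]
        have h2 := congrArg (fun v => B v (f l)) he
        rw [show (lin ((G y : U) : Ω)) (∑ j, c j • r j) = ap ((G y : U) : Grp Q) (∑ j, c j • r j) from rfl,
          h1, show (lin ((G x : U) : Ω)) (r i) = ap ((G x : U) : Grp Q) (r i) from rfl, h1, hrf,
          show B (∑ j, c j • r j) (f l) = (QuadraticMap.polarBilin Q).flip (f l) (∑ j, c j • r j) from rfl,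
          map_sum] at h2
        simp [hrf] at h2
        exact h2
      rw [Finset.sum_eq_single i (fun l _ hl => by rw [hc, if_neg (Ne.symm hl), zero_smul])
        (fun h => absurd (Finset.mem_univ _) h), hc, if_pos rfl, one_smul] at he
      exact he.symm
    refine Prod.ext ?_ ?_
    · rw [← hGw x, ← hGw y]
      exact funext fun i => Subtype.ext (congrArg π (hsame i))
    · rw [← hGc x, ← hGc y]
      exact funext fun p => congrArg (fun v => B v (r p.1.2)) (hsame p.1.1)
  refine le_trans ?_ (Nat.card_le_card_of_injective _ hinj)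
  rw [Nat.card_prod, Nat.card_fun, Nat.card_fun, Module.natCard_eq_pow_finrank (K := F) (V := W),
    ← pow_mul, ← pow_add, Nat.card_fin, mul_comm (Module.finrank F W)]
  exact Nat.pow_le_pow_right Nat.card_pos (Nat.add_le_add_right (Nat.mul_le_mul_left k hdW) _)

end CfsgLib.OrthAut
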