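import Cfsg.Agent.Lib.OrthAut.Count
import Cfsg.Agent.Lib.Classical.OmegaTests
import Cfsg.Prelude.Def_KGroupFacts

/-!
The outer automorphism group of `PΩ(Q)`: the map from semisimilarities and the field part.
-/

set_option autoImplicit false
set_option linter.unusedSectionVars false

namespace CfsgLib.OrthAut

open Matrix CfsgLib.Orth

variable {F : Type*} [Field F] [Finite F] {ι : Type} [Fintype ι] [DecidableEq ι]
variable {Q : QuadraticForm F (ι → F)}

local notation "Ω" => Cfsg.Omega F (DFunLike.coe Q)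
local notation "X" => Cfsg.POmega F (DFunLike.coe Q)

theorem finite_semilin : Finite (Semilin F ι) := by
  haveI : Finite (GL ι F) := Finite.of_injective _ Units.val_injective
  haveI : Finite (F ≃+* F) := Finite.of_injective (fun σ => ⇑σ) DFunLike.coe_injective
  exact Finite.of_injective (fun x : Semilin F ι => (x.left, x.right)) fun x y h =>
    SemidirectProduct.ext (congrArg Prod.fst h) (congrArg Prod.snd h)

/-- Isometries as semisimilarities. -/
def incl (Q : QuadraticForm F (ι → F)) : Grp Q →* semi Q where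
  toFun g := ⟨⟨(g : GL ι F), 1⟩, 1, fun v => (g.2 v v).trans (by simp)⟩
  map_one' := Subtype.ext (SemidirectProduct.ext rfl rfl)
  map_mul' g h := Subtype.ext (SemidirectProduct.ext (by simp) (by simp))

theorem sv_incl (g : Grp Q) (v : ι → F) : sv (incl Q g : Semilin F ι) v = ap g v := rfl

theorem psi_incl (g : Ω) : psi Q (incl Q (g : Grp Q)) = MulAut.conj (prj Q g) := by
  refine psi_eq fun s s' hs => ?_
  have e : s' = g * s * g⁻¹ := by
    refine Subtype.ext (Subtype.ext (Units.ext ?_))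
    rw [hs]
    show _ * ((((s : Grp Q) : GL ι F)) : Matrix ι ι F).map (1 : F ≃+* F) * _ = _
    rw [show (⇑(1 : F ≃+* F)) = id from rfl, Matrix.map_id]
    rfl
  rw [e]
  rfl

/-- The class in `Out` of a semisimilarity. -/
def outHom (Q : QuadraticForm F (ι → F)) : semi Q →* Cfsg.Out (Cfsg.POmega F ⇑Q) :=
  (QuotientGroup.mk' (Cfsg.Inn (Cfsg.POmega F ⇑Q))).comp (psi Q)

theorem outHom_surjective (h : Good Q) : Function.Surjective (outHom Q) :=
  (QuotientGroup.mk'_surjective _).comp (psi_surjective h)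

theorem mem_inn_iff {β : MulAut X} : β ∈ Cfsg.Inn X ↔ ∃ g : Ω, MulAut.conj (prj Q g) = β := by
  constructor
  · rintro ⟨y, rfl⟩
    obtain ⟨g, rfl⟩ := prj_surjective (Q := Q) y
    exact ⟨g, rfl⟩
  · rintro ⟨g, rfl⟩
    exact ⟨_, rfl⟩

theorem outHom_omega (g : Grp Q) (hg : g ∈ Ω) : outHom Q (incl Q g) = 1 :=
  (QuotientGroup.eq_one_iff _).2 (mem_inn_iff.2 ⟨⟨g, hg⟩, (psi_incl ⟨g, hg⟩).symm⟩)

theorem outHom_scalar (h : Fine Q) (a : Fˣ) : outHom Q (scalarHom Q a) = 1 := by
  have : scalarHom Q a ∈ (psi Q).ker := ker_psi h ▸ ⟨a, rfl⟩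
  show QuotientGroup.mk' _ (psi Q (scalarHom Q a)) = 1
  rw [MonoidHom.mem_ker.1 this, map_one]

/-- The kernel: scalar multiples of elements of `Ω`. -/
theorem outHom_eq_one (h : Fine Q) {x : semi Q} (hx : outHom Q x = 1) :
    ∃ (a : Fˣ) (g : Grp Q), g ∈ Ω ∧ x = scalarHom Q a * incl Q g := by
  obtain ⟨g, hg⟩ := mem_inn_iff.1 ((QuotientGroup.eq_one_iff _).1 hx)
  rw [← psi_incl] at hg
  have : x * (incl Q (g : Grp Q))⁻¹ ∈ (psi Q).ker := by
    rw [MonoidHom.mem_ker, map_mul, map_inv, hg, mul_inv_cancel]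
  rw [ker_psi h] at this
  obtain ⟨a, ha⟩ := this
  exact ⟨a, g, g.2, by rw [ha, inv_mul_cancel_right]⟩

/-- An isometry with trivial class lies in `Ω` up to sign. -/
theorem incl_outer (h : Fine Q) {g : Grp Q} (hg : outHom Q (incl Q g) = 1) :
    g ∈ Ω ∨ ∃ g' : Grp Q, ((g' : GL ι F) : Matrix ι ι F) = -1 ∧ g' * g ∈ Ω := by
  obtain ⟨a, s, hs, he⟩ := outHom_eq_one h hg
  have hm : ((g : GL ι F) : Matrix ι ι F) = (a : F) • ((s : GL ι F) : Matrix ι ι F) := by
    have := congrArg (fun x : semi Q => (((x : Semilin F ι).left : GL ι F) : Matrix ι ι F)) he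
    simp only [incl, scalarHom, MonoidHom.coe_mk, OneHom.coe_mk, Subgroup.coe_mul, SemidirectProduct.mul_left,
      map_one, MulAut.one_apply, Units.val_mul] at this
    rw [this]
    ext i j
    simp [Matrix.diagonal_mul]
  obtain ⟨v, hv⟩ := exists_aniso h.nondeg (le_trans (by norm_num) h.five)
  have hq := ap_q g v
  rw [show ap g v = (a : F) • ap s v by
    show ((g : GL ι F) : Matrix ι ι F) *ᵥ v = _
    rw [hm, smul_mulVec]; rfl, q_smul, ap_q] at hq
  rcases mul_self_eq_one_iff.1 (mul_right_cancel₀ hv (hq.trans (one_mul _).symm)) with e | e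
  · left
    have : g = s := Subtype.ext (Units.ext (by rw [hm, e, one_smul]))
    rw [this]; exact hs
  · right
    refine ⟨g * s⁻¹, ?_, ?_⟩
    · show ((g : GL ι F) : Matrix ι ι F) * (((s : GL ι F)⁻¹ : GL ι F) : Matrix ι ι F) = -1
      rw [hm, e, Matrix.smul_mul, Units.mul_inv, neg_one_smul]
    · have e2 : (g * s⁻¹) * (g * s⁻¹) = 1 := by
        refine Subtype.ext (Units.ext ?_)
        show ((g : GL ι F) : Matrix ι ι F) * (((s : GL ι F)⁻¹ : GL ι F) : Matrix ι ι F) *
          (((g : GL ι F) : Matrix ι ι F) * (((s : GL ι F)⁻¹ : GL ι F) : Matrix ι ι F)) = 1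
        rw [hm, e, Matrix.smul_mul, Units.mul_inv, neg_one_smul, neg_mul_neg, one_mul]
      have : g * s⁻¹ * g = s := by
        calc g * s⁻¹ * g = (g * s⁻¹) * (g * s⁻¹) * s := by group
          _ = s := by rw [e2, one_mul]
      rw [this]; exact hs

theorem card_center_eq (h : Fine Q) : Nat.card (Cfsg.Inn X) = Nat.card X := by
  refine (Nat.card_congr (MonoidHom.ofInjective (f := MulAut.conj) ?_).toEquiv).symm
  rw [injective_iff_map_eq_one]
  intro y hy
  obtain ⟨g, rfl⟩ := prj_surjective (Q := Q) y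
  rw [← psi_incl] at hy
  obtain ⟨-, a, -, ha⟩ := psi_eq_one h hy
  refine (QuotientGroup.eq_one_iff g).2 (mem_center_of_scalar (a := a) fun x => ?_)
  show ((((g : Grp Q)) : GL ι F) : Matrix ι ι F) *ᵥ x = _
  rw [show (((g : Grp Q) : GL ι F) : Matrix ι ι F) = a • 1 from ha, smul_mulVec, one_mulVec]

theorem card_out_mul (h : Good Q) : Nat.card (Cfsg.Out X) * Nat.card X = Nat.card (MulAut X) := by
  rw [← card_center_eq h, Cfsg.Out, ← Subgroup.card_eq_card_quotient_mul_card_subgroup]

theorem card_out (h : Good Q) {k : ℕ} (hk : Nat.card (MulAut X) = k * Nat.card X) : Nat.card (Cfsg.Out X) = k := by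
  haveI : Finite (GL ι F) := Finite.of_injective _ Units.val_injective
  haveI : Finite (Cfsg.POmega F ⇑Q) := inferInstance
  exact Nat.eq_of_mul_eq_mul_right Nat.card_pos ((card_out_mul h).trans hk)

theorem right_of_psi_inn (h : Fine Q) {x : semi Q} (hx : outHom Q x = 1) : fieldPart Q x = 1 := by
  obtain ⟨a, g, -, rfl⟩ := outHom_eq_one h hx
  show (1 : F ≃+* F) * 1 = 1
  rw [one_mul]

/-- The field part of an outer automorphism. -/
noncomputable def fieldOut (h : Good Q) : Cfsg.Out X →* (F ≃+* F) :=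
  (outHom Q).liftOfSurjective (outHom_surjective h)
    ⟨fieldPart Q, fun _ hx => MonoidHom.mem_ker.2 (right_of_psi_inn h (MonoidHom.mem_ker.1 hx))⟩

theorem fieldOut_outHom (h : Good Q) (x : semi Q) : fieldOut h (outHom Q x) = fieldPart Q x :=
  MonoidHom.liftOfRightInverse_comp_apply _ _ _ _ x

theorem fieldOut_surjective (h : Good Q) (hfield : Function.Surjective (fieldPart Q)) :
    Function.Surjective (fieldOut h) := fun σ => by
  obtain ⟨x, rfl⟩ := hfield σ
  exact ⟨_, fieldOut_outHom h x⟩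

theorem card_ker_fieldOut (h : Good Q) (hfield : Function.Surjective (fieldPart Q)) {k : ℕ}
    (hk : Nat.card (MulAut X) = k * Nat.card (F ≃+* F) * Nat.card X) : Nat.card (fieldOut h).ker = k := by
  haveI : Finite (F ≃+* F) := Finite.of_injective (fun σ => ⇑σ) DFunLike.coe_injective
  have e := Subgroup.card_eq_card_quotient_mul_card_subgroup (fieldOut h).ker
  rw [Nat.card_congr (QuotientGroup.quotientKerEquivOfSurjective _ (fieldOut_surjective h hfield)).toEquiv,
    card_out h hk] at e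
  exact Nat.eq_of_mul_eq_mul_left Nat.card_pos (e.symm.trans (mul_comm _ _))

/-- A normal subgroup of order two is central. -/
theorem central_of_card_two {G : Type*} [Group G] (N : Subgroup G) [N.Normal] (hN : Nat.card N = 2) {n : G}
    (hn : n ∈ N) (g : G) : g * n = n * g := by
  obtain ⟨x, y, hxy, huniv⟩ := Nat.card_eq_two_iff.1 hN
  have hmem : ∀ z : N, z = x ∨ z = y := fun z => by
    have : z ∈ ({x, y} : Set N) := by rw [huniv]; trivial
    simpa using this
  by_cases h1 : n = 1
  · rw [h1, mul_one, one_mul]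
  have h2 : g * n * g⁻¹ ≠ 1 := fun e => h1 (by simpa [mul_assoc] using congrArg (fun z => g⁻¹ * z * g) e)
  have key : ∀ z w : N, (z : G) ≠ 1 → (w : G) ≠ 1 → z = w := by
    intro z w hz hw
    rcases hmem z with rfl | rfl <;> rcases hmem w with rfl | rfl <;> rcases hmem 1 with e | e <;>
      first
      | rfl
      | exact absurd (congrArg Subtype.val e.symm) hz
      | exact absurd (congrArg Subtype.val e.symm) hw
  have h3 : g * n * g⁻¹ = n := congrArg Subtype.val
    (key ⟨_, Subgroup.Normal.conj_mem inferInstance n hn g⟩ ⟨n, hn⟩ h2 h1)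
  calc g * n = g * n * g⁻¹ * g := by group
    _ = n * g := by rw [h3]

/-- A split extension with central kernel of order two. -/
theorem equiv_of_section {G A : Type*} [Group G] [Group A] [Finite G] (π : G →* A) (hπ : Nat.card π.ker = 2)
    (s : A →* G) (hs : ∀ a, π (s a) = a) {f : ℕ} (e : A ≃* Multiplicative (ZMod f)) :
    Nonempty (G ≃* Multiplicative (ZMod 2 × ZMod f)) := by
  let m : π.ker × A →* G :=
    MonoidHom.mk' (fun x => (x.1 : G) * s x.2) fun x y => by
      show (x.1 : G) * (y.1 : G) * s (x.2 * y.2) = (x.1 : G) * s x.2 * ((y.1 : G) * s y.2)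
      rw [map_mul, mul_assoc, mul_assoc, ← mul_assoc (s x.2), central_of_card_two π.ker hπ y.1.2 (s x.2), mul_assoc]
  have hbij : Function.Bijective m := by
    refine ⟨fun x y h => ?_, fun g => ⟨(⟨g * (s (π g))⁻¹, by rw [MonoidHom.mem_ker, map_mul, map_inv, hs,
      mul_inv_cancel]⟩, π g), by simp [m]⟩⟩
    have h2 : x.2 = y.2 := by
      have := congrArg π h
      simpa [m, hs, MonoidHom.mem_ker.1 x.1.2, MonoidHom.mem_ker.1 y.1.2] using this
    refine Prod.ext (Subtype.ext ?_) h2
    have : (x.1 : G) * s x.2 = (y.1 : G) * s y.2 := h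
    rw [h2] at this
    exact mul_right_cancel this
  haveI : Fact (Nat.Prime 2) := ⟨Nat.prime_two⟩
  haveI : IsCyclic π.ker := isCyclic_of_prime_card hπ
  let k : π.ker ≃* Multiplicative (ZMod 2) := mulEquivOfCyclicCardEq (by rw [hπ]; simp)
  let pr : Multiplicative (ZMod 2) × Multiplicative (ZMod f) ≃* Multiplicative (ZMod 2 × ZMod f) :=
    (MulEquiv.prodMultiplicative _ _).symm
  exact ⟨((MulEquiv.ofBijective m hbij).symm.trans (k.prodCongr e)).trans pr⟩

theorem out_pomega_odd [Fintype F] {p f m : ℕ} [Fact p.Prime] (hf : 1 ≤ f) (hF : Fintype.card F = p ^ f)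
    (hp : p ≠ 2) (hm : 3 ≤ m) :
    Nonempty (Cfsg.Out (Cfsg.POmega F (Cfsg.quadFormOdd m F)) ≃* Multiplicative (ZMod 2 × ZMod f)) := by
  have hodd : Odd (Fintype.card F) := hF ▸ ((Fact.out : p.Prime).odd_of_ne_two hp).pow
  have h2 : (2 : F) ≠ 0 := Ring.two_ne_zero fun e =>
    Nat.not_even_iff_odd.2 hodd (Nat.even_iff.2 (FiniteField.even_card_of_char_two e))
  obtain ⟨Q, hQ, hB⟩ := exists_quadForm_odd (F := F) h2 m
  rw [← hQ]
  have hg := good_odd hm (by rwa [Nat.card_eq_fintype_card]) hB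
  have hmap : ∀ (σ : F ≃+* F) v, Q (fun i => σ (v i)) = σ (Q v) := fun σ v => by rw [hQ]; exact odd_map σ v
  haveI := finite_semilin (F := F) (ι := Unit ⊕ (Fin m ⊕ Fin m))
  haveI : Finite (Cfsg.Out (Cfsg.POmega F ⇑Q)) := Finite.of_surjective _ (outHom_surjective hg)
  have hk : Nat.card (fieldOut hg).ker = 2 :=
    card_ker_fieldOut hg (fieldPart_surjective hmap)
      (card_mulAut_odd hg h2 ⟨m, by simp; omega⟩ (fieldPart_surjective hmap))
  let sec : (F ≃+* F) →* semi Q :=
    { toFun := fun σ => ⟨⟨1, σ⟩, 1, fun v => by simpa using hmap σ v⟩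
      map_one' := rfl
      map_mul' := fun σ τ => Subtype.ext (SemidirectProduct.ext (by simp) rfl) }
  obtain ⟨e⟩ := CfsgLib.AutPSL.exists_ringAut_equiv hF hf
  exact equiv_of_section (fieldOut hg) hk ((outHom Q).comp sec) (fun σ => fieldOut_outHom hg (sec σ)) e

end CfsgLib.OrthAut
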