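import Cfsg.Agent.Lib.OrthAut.Out

/-!
The outer automorphism group of `PΩ` of minus type.
-/

set_option autoImplicit false
set_option linter.unusedSectionVars false

namespace CfsgLib.OrthAut

open Matrix CfsgLib.Orth Polynomial

variable {F : Type*} [Field F] [Finite F] {ι : Type} [Fintype ι] [DecidableEq ι]
variable {Q : QuadraticForm F (ι → F)}

local notation "B" => QuadraticMap.polar (DFunLike.coe Q)

/-- The Frobenius automorphism. -/
noncomputable def frob (F : Type*) [Field F] [Finite F] (p : ℕ) [Fact p.Prime] [CharP F p] : F ≃+* F :=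
  frobeniusEquiv F p

theorem frob_apply (p : ℕ) [Fact p.Prime] [CharP F p] (x : F) : frob F p x = x ^ p := rfl

theorem frob_pow_apply (p : ℕ) [Fact p.Prime] [CharP F p] (k : ℕ) (x : F) : (frob F p ^ k) x = x ^ p ^ k := by
  induction k with
  | zero => simp
  | succ k ih => rw [pow_succ', show (frob F p * frob F p ^ k) x = frob F p ((frob F p ^ k) x) from rfl, ih,
      frob_apply, ← pow_mul, pow_succ]

theorem orderOf_frob [Fintype F] {p f : ℕ} [Fact p.Prime] [CharP F p] (hf : 1 ≤ f) (hF : Fintype.card F = p ^ f) :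
    orderOf (frob F p) = f := by
  rw [orderOf_eq_iff hf]
  refine ⟨RingEquiv.ext fun x => ?_, fun k hk hk0 e => ?_⟩
  · rw [frob_pow_apply, ← hF, FiniteField.pow_card]; rfl
  have h1 : 1 < p ^ k := Nat.one_lt_pow (by omega) (Fact.out : p.Prime).one_lt
  have hne : (X ^ p ^ k - X : F[X]) ≠ 0 := FiniteField.X_pow_card_pow_sub_X_ne_zero F (by omega) (Fact.out : p.Prime).one_lt
  have hle : (Finset.univ : Finset F).card ≤ (X ^ p ^ k - X : F[X]).natDegree :=
    Polynomial.card_le_degree_of_subset_roots (Z := Finset.univ) fun x _ => by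
      rw [Polynomial.mem_roots hne]
      have := DFunLike.congr_fun e x
      rw [frob_pow_apply] at this
      simp [this]
  rw [FiniteField.X_pow_card_sub_X_natDegree_eq F h1, Finset.card_univ, hF] at hle
  exact absurd (Nat.pow_lt_pow_right (Fact.out : p.Prime).one_lt hk) (not_lt.2 hle)

/-- The class of an isometry. -/
def cls (Q : QuadraticForm F (ι → F)) : Grp Q →* Cfsg.Out (Cfsg.POmega F ⇑Q) := (outHom Q).comp (incl Q)

theorem conj_incl (x : semi Q) (g : Grp Q) : x * incl Q g * x⁻¹ = incl Q (onGrp Q x g) := by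
  refine Subtype.ext (SemidirectProduct.ext ?_ ?_)
  · simp [incl, onGrp_coe]
  · simp [incl]

theorem conj_cls (x : semi Q) (g : Grp Q) : outHom Q x * cls Q g * (outHom Q x)⁻¹ = cls Q (onGrp Q x g) := by
  rw [cls, MonoidHom.comp_apply, MonoidHom.comp_apply, ← map_inv, ← map_mul, ← map_mul, conj_incl]

theorem refl_conj {x : semi Q} {v : ι → F} {r : Grp Q} (hr : IsRefl v r) :
    IsRefl (sv (x : Semilin F ι) v) (onGrp Q x r) := by
  obtain ⟨c, hc⟩ := mem_semi.1 x.2
  refine ⟨by rw [hc]; exact mul_ne_zero c.ne_zero ((_root_.map_ne_zero _).2 hr.1), fun z => ?_⟩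
  obtain ⟨w, rfl⟩ : ∃ w, sv (x : Semilin F ι) w = z :=
    ⟨sv (x : Semilin F ι)⁻¹ z, by rw [← sv_mul, mul_inv_cancel, sv_one]⟩
  rw [ap_onGrp, hr.2, sv_sub, sv_smul, hc, b_sv hc, map_mul, map_inv₀, mul_inv, mul_mul_mul_comm,
    inv_mul_cancel₀ c.ne_zero, one_mul]

theorem dickson_iff_det (hB : Nondeg Q) (h2 : (2 : F) ≠ 0) (hn : 5 ≤ Module.finrank F (ι → F)) (g : Grp Q) :
    dickson hB g = 1 ↔ ((g : GL ι F) : Matrix ι ι F).det = 1 := by
  rw [← mem_special_iff_odd hB h2 (fun h => by omega) g]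
  show Matrix.GeneralLinearGroup.det (g : GL ι F) = 1 ↔ _
  exact Units.ext_iff

theorem dickson_conj (hB : Nondeg Q) (h2 : (2 : F) ≠ 0) (hn : 5 ≤ Module.finrank F (ι → F)) (x : semi Q) (g : Grp Q)
    (hg : dickson hB g = 1) : dickson hB (onGrp Q x g) = 1 := by
  rw [dickson_iff_det hB h2 hn] at hg ⊢
  rw [onGrp_coe, Units.val_mul, Units.val_mul, det_mul, det_mul, mul_right_comm, ← det_mul, Units.mul_inv, det_one,
    one_mul, entryAct_coe, show ((g : GL ι F) : Matrix ι ι F).map (x : Semilin F ι).right =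
      (x : Semilin F ι).right.toRingHom.mapMatrix ((g : GL ι F) : Matrix ι ι F) from rfl, ← RingHom.map_det, hg,
    map_one]

/-- A similitude squared is a scalar in determinant. -/
theorem det_sq (hB : Nondeg Q) {M : Matrix ι ι F} {c : F} (hM : ∀ v, Q (M *ᵥ v) = c * Q v) :
    M.det ^ 2 = c ^ Fintype.card ι := by
  let G := LinearMap.toMatrix₂ (Pi.basisFun F ι) (Pi.basisFun F ι) (QuadraticMap.polarBilin Q)
  have hG : G.det ≠ 0 := (LinearMap.separatingLeft_iff_det_ne_zero _).1 hB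
  have hb : ∀ u v : ι → F, u ⬝ᵥ (G *ᵥ v) = B u v := fun u v => by
    rw [← Matrix.toLinearMap₂'_apply' G u v]
    show (Matrix.toLinearMap₂' F G) u v = _
    rw [show Matrix.toLinearMap₂' F G = QuadraticMap.polarBilin Q from by
      rw [← Matrix.toLinearMap₂_basisFun]; exact Matrix.toLinearMap₂_toMatrix₂ _ _ _]
    rfl
  have key : Mᵀ * G * M = c • G := by
    ext i j
    have h : B (M *ᵥ Pi.single i 1) (M *ᵥ Pi.single j 1) = c * B (Pi.single i 1) (Pi.single j 1) := by
      simp only [QuadraticMap.polar, ← mulVec_add, hM]; ring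
    rw [← hb, ← hb, mulVec_mulVec, dotProduct_mulVec, ← Matrix.vecMul_transpose, vecMul_vecMul, ← Matrix.mul_assoc,
      ← dotProduct_mulVec] at h
    simpa using h
  have hdet := congrArg Matrix.det key
  rw [Matrix.det_mul, Matrix.det_mul, Matrix.det_transpose, Matrix.det_smul, mul_right_comm] at hdet
  rw [pow_two]
  exact mul_right_cancel₀ hG hdet

/-- A similitude with square multiplier and the matching determinant has the class of a proper isometry. -/
theorem class_of_scaled (h : Fine Q) (h2 : (2 : F) ≠ 0) {x : semi Q} (hx : fieldPart Q x = 1) (s : Fˣ)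
    (hs : ∀ v, Q (sv (x : Semilin F ι) v) = (s : F) * s * Q v)
    (hdet : ((x : Semilin F ι).left : Matrix ι ι F).det = (s : F) ^ Fintype.card ι) :
    ∃ g : Grp Q, dickson h.nondeg g = 1 ∧ outHom Q x = cls Q g := by
  have hx' : (x : Semilin F ι).right = 1 := hx
  let y : semi Q := scalarHom Q s⁻¹ * x
  have hy : ((y : Semilin F ι).left : Matrix ι ι F) = ((s⁻¹ : Fˣ) : F) • ((x : Semilin F ι).left : Matrix ι ι F) := by
    show ((scalarHom Q s⁻¹ : Semilin F ι) * (x : Semilin F ι)).left.val = _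
    simp only [scalarHom, MonoidHom.coe_mk, OneHom.coe_mk, SemidirectProduct.mul_left, map_one, MulAut.one_apply,
      Units.val_mul]
    ext i j
    simp [Matrix.diagonal_mul]
  have hyr : (y : Semilin F ι).right = 1 := by
    show (1 : F ≃+* F) * (x : Semilin F ι).right = 1
    rw [hx', one_mul]
  have hmem : (y : Semilin F ι).left ∈ Cfsg.isometryGroup F ⇑Q := by
    intro u _
    show Q (((y : Semilin F ι).left : Matrix ι ι F) *ᵥ u) = Q u
    have := hs u
    rw [sv, hx'] at this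
    rw [hy, smul_mulVec, q_smul, show ((x : Semilin F ι).left : Matrix ι ι F) *ᵥ u = _ from rfl]
    rw [show Q (((x : Semilin F ι).left : Matrix ι ι F) *ᵥ u) = (s : F) * s * Q u from this, Units.val_inv_eq_inv_val]
    field_simp
  refine ⟨⟨(y : Semilin F ι).left, hmem⟩, ?_, ?_⟩
  · rw [dickson_iff_det h.nondeg h2 h.five]
    show ((y : Semilin F ι).left : Matrix ι ι F).det = 1
    rw [hy, det_smul, hdet, ← mul_pow, Units.inv_mul, one_pow]
  · have e : incl Q ⟨(y : Semilin F ι).left, hmem⟩ = y := Subtype.ext (SemidirectProduct.ext rfl hyr.symm)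
    rw [cls, MonoidHom.comp_apply, e, map_mul, outHom_scalar h, one_mul]

/-- Powers of a lift generate the field part. -/
theorem orderOf_two_mul {G A : Type*} [Group G] [Group A] {π : G →* A} (hπ : Nat.card π.ker = 2) {y : G} {f : ℕ}
    (hf : 1 ≤ f) (hy : orderOf (π y) = f) (hne : y ^ f ≠ 1) : orderOf y = 2 * f := by
  have hk : y ^ f ∈ π.ker := by rw [MonoidHom.mem_ker, map_pow, ← hy, pow_orderOf_eq_one]
  have hd : orderOf y ∣ 2 * f := by
    refine orderOf_dvd_of_pow_eq_one ?_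
    rw [mul_comm, pow_mul]
    have := pow_card_eq_one' (G := π.ker) (x := ⟨y ^ f, hk⟩)
    rw [hπ] at this
    exact congrArg Subtype.val this
  have hd' : f ∣ orderOf y := hy ▸ orderOf_map_dvd π y
  obtain ⟨k, hk'⟩ := hd'
  rw [hk', mul_comm 2 f] at hd
  rcases (Nat.dvd_prime Nat.prime_two).1 (Nat.dvd_of_mul_dvd_mul_left hf hd) with e | e
  · exfalso
    rw [e, mul_one] at hk'
    exact hne (hk' ▸ pow_orderOf_eq_one y)
  · rw [hk', e, mul_comm]

/-! ### Even characteristic -/

section Minus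

variable {m : ℕ} {a b : F}

/-- The block matrix acting on the elliptic plane. -/
def planeMat (m : ℕ) (M : Matrix (Fin 2) (Fin 2) F) :
    Matrix ((Fin m ⊕ Fin m) ⊕ Fin 2) ((Fin m ⊕ Fin m) ⊕ Fin 2) F := Matrix.fromBlocks 1 0 0 M

theorem planeMat_det (M : Matrix (Fin 2) (Fin 2) F) : (planeMat m M).det = M.det := by
  rw [planeMat, det_fromBlocks_zero₁₂, det_one, one_mul]

/-- A semisimilarity lifting a field automorphism. -/
theorem exists_lift_semi {M : Matrix (Fin 2) (Fin 2) F} (hdet : M.det ≠ 0) (σ : F ≃+* F)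
    {Q : QuadraticForm F ((Fin m ⊕ Fin m) ⊕ Fin 2 → F)} (hQ : ⇑Q = Cfsg.quadFormMinus m F a b)
    (hM : ∀ z₀ z₁ : F, (M 0 0 * z₀ + M 0 1 * z₁) ^ 2 + a * (M 0 0 * z₀ + M 0 1 * z₁) * (M 1 0 * z₀ + M 1 1 * z₁) +
      b * (M 1 0 * z₀ + M 1 1 * z₁) ^ 2 = z₀ ^ 2 + σ a * z₀ * z₁ + σ b * z₁ ^ 2) :
    ∃ L : semi Q, fieldPart Q L = σ ∧ ((L : Semilin F ((Fin m ⊕ Fin m) ⊕ Fin 2)).left :
      Matrix ((Fin m ⊕ Fin m) ⊕ Fin 2) ((Fin m ⊕ Fin m) ⊕ Fin 2) F) = planeMat m M ∧
      ∀ v, Q (sv (L : Semilin F _) v) = σ (Q v) := by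
  have hN : ∀ v, Q (planeMat m M *ᵥ fun i => σ (v i)) = σ (Q v) := fun v => by
    rw [hQ]
    simp only [Cfsg.quadFormMinus, planeMat, fromBlocks_mulVec, Sum.elim_inl, Sum.elim_inr, zero_mulVec, add_zero,
      zero_add, one_mulVec, Function.comp_apply, map_add, map_sum, map_mul, map_pow]
    congr 1
    simpa [Matrix.mulVec, dotProduct, Fin.sum_univ_two] using hM (σ (v (.inr 0))) (σ (v (.inr 1)))
  exact ⟨⟨⟨Matrix.GeneralLinearGroup.mkOfDetNeZero (planeMat m M) (by rwa [planeMat_det]), σ⟩, 1, fun v => by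
    rw [Units.val_one, one_mul]; exact hN v⟩, rfl, rfl, hN⟩

theorem pow_isometry {x : semi Q} (hx : ∀ v, Q (sv (x : Semilin F ι) v) = (x : Semilin F ι).right (Q v)) :
    ∀ (k : ℕ) v, Q (sv ((x ^ k : semi Q) : Semilin F ι) v) = ((x : Semilin F ι).right ^ k) (Q v)
  | 0, v => by rw [pow_zero, pow_zero, OneMemClass.coe_one, sv_one]; rfl
  | k + 1, v => by
    rw [pow_succ', Subgroup.coe_mul, sv_mul, hx, pow_isometry hx k, pow_succ']
    rfl

theorem sv_plane {M : Matrix (Fin 2) (Fin 2) F} {x : Semilin F ((Fin m ⊕ Fin m) ⊕ Fin 2)}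
    (hx : (x.left : Matrix ((Fin m ⊕ Fin m) ⊕ Fin 2) ((Fin m ⊕ Fin m) ⊕ Fin 2) F) = planeMat m M)
    (v : (Fin m ⊕ Fin m) ⊕ Fin 2 → F) :
    (∀ j, sv x v (.inl j) = x.right (v (.inl j))) ∧
      ∀ i, sv x v (.inr i) = M i 0 * x.right (v (.inr 0)) + M i 1 * x.right (v (.inr 1)) := by
  refine ⟨fun j => ?_, fun i => ?_⟩ <;>
    simp [sv, hx, planeMat, fromBlocks_mulVec, Matrix.mulVec, dotProduct, Fin.sum_univ_two, Matrix.one_apply]

/-- Coefficients of the iterated Frobenius on the plane in characteristic two. -/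
def iterCoef (a b : F) : ℕ → F × F
  | 0 => (0, 1)
  | k + 1 => ((iterCoef a b k).1 ^ 2 + b * (iterCoef a b k).2 ^ 2, a * (iterCoef a b k).2 ^ 2)

theorem iterCoef_final [Fintype F] (h2 : (2 : F) = 0) {f : ℕ} (hF : Fintype.card F = 2 ^ f)
    (hab : ∀ z₁ z₂ : F, z₁ ^ 2 + a * z₁ * z₂ + b * z₂ ^ 2 = 0 → z₁ = 0 ∧ z₂ = 0) : iterCoef a b f = (a, 1) := by
  let E := AlgebraicClosure F
  let φ := algebraMap F E
  obtain ⟨θ, hθ⟩ := IsAlgClosed.exists_root (X ^ 2 + C (φ a) * X + C (φ b) : E[X]) (by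
    rw [show (X ^ 2 + C (φ a) * X + C (φ b) : E[X]) = C 1 * X ^ 2 + C (φ a) * X + C (φ b) by simp,
      degree_quadratic one_ne_zero]
    decide)
  simp [Polynomial.IsRoot] at hθ
  have h2E : (2 : E) = 0 := by rw [← map_ofNat φ 2, h2, map_zero]
  have hout : ∀ z : F, θ ≠ φ z := fun z e => by
    rw [e, ← map_pow, ← map_mul, ← map_add, ← map_add, map_eq_zero] at hθ
    exact one_ne_zero (hab z 1 (by linear_combination hθ)).2
  have key : ∀ k, θ ^ 2 ^ k = φ (iterCoef a b k).1 + φ (iterCoef a b k).2 * θ := by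
    intro k
    induction k with
    | zero => simp [iterCoef]
    | succ k ih =>
      rw [pow_succ, pow_mul, ih]
      simp only [iterCoef, map_add, map_mul, map_pow]
      linear_combination (φ (iterCoef a b k).2) ^ 2 * hθ + (φ (iterCoef a b k).1 * φ (iterCoef a b k).2 * θ -
        φ a * φ (iterCoef a b k).2 ^ 2 * θ - φ b * φ (iterCoef a b k).2 ^ 2) * h2E
  haveI : CharP E 2 := CharTwo.of_one_ne_zero_of_two_eq_zero one_ne_zero h2E
  have hfix : ∀ z : F, φ z ^ 2 ^ f = φ z := fun z => by rw [← map_pow, ← hF, FiniteField.pow_card]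
  have hroot : (θ ^ 2 ^ f - θ) * (θ ^ 2 ^ f - θ - φ a) = 0 := by
    have h' : (θ ^ 2 ^ f) ^ 2 + φ a * θ ^ 2 ^ f + φ b = 0 := by
      have := congrArg (fun y => y ^ 2 ^ f) hθ
      simp only [zero_pow (pow_ne_zero f two_ne_zero), add_pow_char_pow, mul_pow, ← pow_mul, hfix] at this
      rw [← pow_mul]
      linear_combination this
    linear_combination h' - hθ + (θ ^ 2 - θ ^ 2 ^ f * θ - φ a * θ ^ 2 ^ f + φ a * θ) * h2E
  have hne : θ ^ 2 ^ f ≠ θ := by
    intro e
    have hq1 : 1 < Fintype.card F := Fintype.one_lt_card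
    have hne0 : (X ^ Fintype.card F - X : E[X]) ≠ 0 := FiniteField.X_pow_card_sub_X_ne_zero E hq1
    classical
    have hle : (insert θ (Finset.univ.image φ)).card ≤ (X ^ Fintype.card F - X : E[X]).natDegree := by
      refine Polynomial.card_le_degree_of_subset_roots fun y hy => ?_
      rw [Polynomial.mem_roots hne0]
      rcases Finset.mem_insert.1 hy with rfl | hy
      · simp [hF, e]
      · obtain ⟨z, -, rfl⟩ := Finset.mem_image.1 hy
        simp [hF, hfix]
    rw [FiniteField.X_pow_card_sub_X_natDegree_eq E hq1, Finset.card_insert_of_notMem (fun hm => by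
      obtain ⟨z, -, hz⟩ := Finset.mem_image.1 hm; exact hout z hz.symm),
      Finset.card_image_of_injective _ φ.injective, Finset.card_univ] at hle
    omega
  have hθq : θ ^ 2 ^ f = θ + φ a := by
    have := (mul_eq_zero.1 hroot).resolve_left (sub_ne_zero.2 hne)
    linear_combination this
  rw [key f] at hθq
  have hd : (iterCoef a b f).2 = 1 := by
    by_contra hd
    refine hout ((a - (iterCoef a b f).1) / ((iterCoef a b f).2 - 1)) ?_
    rw [map_div₀, map_sub, map_sub, map_one, eq_div_iff (sub_ne_zero.2 fun e => hd (φ.injective (by rwa [map_one])))]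
    linear_combination hθq
  rw [hd, map_one, one_mul] at hθq
  exact Prod.ext (φ.injective (by linear_combination hθq)) hd

theorem out_minus_two [Fintype F] {f m : ℕ} (hf : 1 ≤ f) (hF : Fintype.card F = 2 ^ f) (hm : 4 ≤ m) (a b : F)
    (hab : ∀ z₁ z₂ : F, z₁ ^ 2 + a * z₁ * z₂ + b * z₂ ^ 2 = 0 → z₁ = 0 ∧ z₂ = 0) :
    IsCyclic (Cfsg.Out (Cfsg.POmega F (Cfsg.quadFormMinus (m - 1) F a b))) ∧
      Nat.card (Cfsg.Out (Cfsg.POmega F (Cfsg.quadFormMinus (m - 1) F a b))) = 2 * f := by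
  haveI : Fact (Nat.Prime 2) := ⟨Nat.prime_two⟩
  haveI := CfsgLib.AutPSL.charP_of_card (F := F) hF
  have h2 : (2 : F) = 0 := by exact_mod_cast CharP.cast_eq_zero F 2
  have hcount := card_mulAut_pomega_minus 2 f hf hF m hm a b hab
  rw [if_pos rfl] at hcount
  obtain ⟨Q, hQ, hB⟩ := exists_quadForm_minus (m - 1) hab
  have hg := good_minus (m := m - 1) (by omega) hab hQ hB
  rw [← hQ] at hcount ⊢
  haveI := finite_semilin (F := F) (ι := (Fin (m - 1) ⊕ Fin (m - 1)) ⊕ Fin 2)
  haveI : Finite (Cfsg.Out (Cfsg.POmega F ⇑Q)) := Finite.of_surjective _ (outHom_surjective hg)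
  have hgal := (CfsgLib.AutPSL.card_ringAut_isCyclic hF hf).2
  have hk : Nat.card (fieldOut hg).ker = 2 :=
    card_ker_fieldOut hg (minus_field hab hQ hB) (by rw [hgal]; exact hcount)
  have ha : a ≠ 0 := CfsgLib.Classical.BinaryNorm.a_ne_zero_of_char_two a b hab (ringChar.eq F 2)
  obtain ⟨L, hLσ, hLM, hLq⟩ := exists_lift_semi (M := !![1, b; 0, a]) (by simp [Matrix.det_fin_two, ha]) (frob F 2)
    hQ (fun z₀ z₁ => by simp [frob_apply]; linear_combination (b * z₀ * z₁ + a ^ 2 * b * z₁ ^ 2) * h2)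
  set N := (L : Semilin F ((Fin (m - 1) ⊕ Fin (m - 1)) ⊕ Fin 2)) with hN
  have hLσ' : N.right = frob F 2 := hLσ
  have hiter : ∀ (k : ℕ) v, (∀ j, sv (N ^ k) v (.inl j) = (v (.inl j)) ^ 2 ^ k) ∧
      sv (N ^ k) v (.inr 0) = (v (.inr 0)) ^ 2 ^ k + (iterCoef a b k).1 * (v (.inr 1)) ^ 2 ^ k ∧
      sv (N ^ k) v (.inr 1) = (iterCoef a b k).2 * (v (.inr 1)) ^ 2 ^ k := by
    intro k
    induction k with
    | zero => intro v; simp [sv_one, iterCoef]
    | succ k ih =>
      intro v
      obtain ⟨i1, i2, i3⟩ := ih v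
      obtain ⟨s1, s2⟩ := sv_plane hLM (sv (N ^ k) v)
      simp only [pow_succ' N, sv_mul]
      refine ⟨fun j => ?_, ?_, ?_⟩
      · rw [s1, i1, hLσ', frob_apply, ← pow_mul, ← pow_succ]
      · rw [s2, i2, i3, hLσ', frob_apply, frob_apply, pow_succ (2 : ℕ) k]; simp only [pow_mul]
        simp [iterCoef]
        linear_combination ((iterCoef a b k).1 * v (.inr 1) ^ 2 ^ k * v (.inr 0) ^ 2 ^ k) * h2
      · rw [s2, i2, i3, hLσ', frob_apply, frob_apply, pow_succ (2 : ℕ) k]; simp only [pow_mul]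
        simp [iterCoef]
        ring
  have hσf : frob F 2 ^ f = 1 := by
    have := pow_orderOf_eq_one (frob F 2)
    rwa [orderOf_frob hf hF] at this
  have hy : orderOf (fieldOut hg (outHom Q L)) = f := by rw [fieldOut_outHom, hLσ, orderOf_frob hf hF]
  have hne : outHom Q L ^ f ≠ 1 := by
    intro e
    rw [← map_pow] at e
    let h₀ : Grp Q := ⟨(N ^ f).left, fun u _ => by
      have := pow_isometry (x := L) (fun v => (hLq v).trans (congrArg (fun σ : F ≃+* F => σ (Q v)) hLσ'.symm)) f u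
      rw [Subgroup.coe_pow, ← hN, hLσ', hσf] at this
      show Q (((N ^ f).left : Matrix _ _ F) *ᵥ u) = Q u
      rw [sv, show (N ^ f).right = 1 from (map_pow (SemidirectProduct.rightHom) N f).trans (by
        show N.right ^ f = 1; rw [hLσ', hσf])] at this
      exact this⟩
    have hL : L ^ f = incl Q h₀ := Subtype.ext (SemidirectProduct.ext rfl ((map_pow (SemidirectProduct.rightHom) N f).trans (by
        show N.right ^ f = 1; rw [hLσ', hσf])))
    rw [hL] at e
    have hmem : h₀ ∈ Cfsg.Omega F ⇑Q := by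
      rcases incl_outer hg e with h | ⟨g', hg', h⟩
      · exact h
      · have : g' = 1 := Subtype.ext (Units.ext (hg'.trans (by
          ext i j
          rw [Matrix.neg_apply, CharTwo.neg_eq]
          rfl)))
        rwa [this, one_mul] at h
    have hv : Q (Pi.single (.inr 0) 1) = 1 := by rw [hQ]; simp [Cfsg.quadFormMinus]
    have hr : IsRefl (Pi.single (.inr 0) 1) h₀ := by
      refine ⟨by rw [hv]; exact one_ne_zero, fun v => ?_⟩
      have hap : ap h₀ v = sv (N ^ f) v := by rw [← sv_incl, ← hL, Subgroup.coe_pow]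
      obtain ⟨i1, i2, i3⟩ := hiter f v
      rw [iterCoef_final h2 hF hab] at i2 i3
      have hB' : QuadraticMap.polar (⇑Q) (Pi.single (Sum.inr (0 : Fin 2)) 1) v = a * v (.inr 1) := by
        rw [hQ, polar_minus]
        simp [h2]
      rw [hap, hv, inv_one, one_mul, hB']
      funext i
      rcases i with j | i
      · simp [i1, ← hF, FiniteField.pow_card]
      · fin_cases i
        · simp [i2, ← hF, FiniteField.pow_card]
          linear_combination (a * v (.inr 1)) * h2
        · simp [i3, ← hF, FiniteField.pow_card]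
    have h1 : dickson hB h₀ = 1 := Abelianization.commutator_subset_ker _ hmem
    rw [dickson_refl hB hr] at h1
    exact absurd h1 (by decide)
  have hcard : Nat.card (Cfsg.Out (Cfsg.POmega F ⇑Q)) = 2 * f := card_out hg hcount
  exact ⟨isCyclic_of_orderOf_eq_card _ ((orderOf_two_mul hk hf hy hne).trans hcard.symm), hcard⟩

end Minus

end CfsgLib.OrthAut
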