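import Cfsg.Agent.Lib.OrthAut.InndiagPlus
import Cfsg.Agent.Lib.OrthAut.OutMinusOdd
import Cfsg.Agent.Lib.OrthAut.Out

/-!
Automorphisms of `PΩ⁺(2m, q)` for `m ≥ 5`.
-/

set_option autoImplicit false
set_option linter.unusedSectionVars false

namespace CfsgLib.OrthAut

open Matrix CfsgLib.Orth CfsgLib.AutPSL
open CfsgLib.ClassicalAut (scal scal_coe)

universe u

variable {F : Type u} [Field F] [Fintype F]

theorem two_ne_zero_of_char {p f : ℕ} [Fact p.Prime] (hF : Fintype.card F = p ^ f) (hp : p ≠ 2) : (2 : F) ≠ 0 := by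
  have hodd : Odd (Fintype.card F) := hF ▸ ((Fact.out : p.Prime).odd_of_ne_two hp).pow
  exact Ring.two_ne_zero fun e =>
    Nat.not_even_iff_odd.2 hodd (Nat.even_iff.2 (FiniteField.even_card_of_char_two e))

theorem even_half_iff {q m : ℕ} (hq : q % 2 = 1) : Even (m * (q - 1) / 2) ↔ ¬ (Odd m ∧ q % 4 = 3) := by
  rw [show q - 1 = 2 * (q / 2) by omega, mul_left_comm, Nat.mul_div_cancel_left _ two_pos, Nat.even_mul,
    Nat.even_iff, Nat.even_iff, Nat.odd_iff]
  omega

/-- The order of the automorphism group of `PΩ⁺`. -/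
theorem card_mulAut_plus (p f : ℕ) [Fact p.Prime] (hf : 1 ≤ f) (hF : Fintype.card F = p ^ f) {m : ℕ} (hm : 5 ≤ m)
    {Q : QuadraticForm F (PIdx m → F)} (hQ : ⇑Q = Cfsg.quadFormPlus m F) (hB : Nondeg Q) :
    Nat.card (MulAut (Cfsg.POmega F ⇑Q)) =
      (if p = 2 then 2 else (if Even (m * (p ^ f - 1) / 2) then 8 else 4)) * f * Nat.card (Cfsg.POmega F ⇑Q) := by
  have hg := good_plus hm hB
  haveI := charP_of_card (F := F) hF
  rw [card_mulAut_of_top hg (fieldPart_surjective fun σ v => plus_map hQ σ v)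
    (fun c => ⟨_, diag_q hQ (d := halfDiag m c) (c := c) fun i => by simp [halfDiag]⟩),
    (card_ringAut_isCyclic hF hf).2]
  by_cases hp : p = 2
  · subst hp
    have h2 : (2 : F) = 0 := by exact_mod_cast CharP.cast_eq_zero F 2
    rw [if_pos rfl, grp_char_two hB hg.five h2]
    ring
  have h2 := two_ne_zero_of_char hF hp
  rw [if_neg hp]
  have hiff := neg_iff_plus hQ hg.fine h2 (by omega)
  have hq : p ^ f % 2 = 1 :=
    Nat.odd_iff.1 ((Fact.out : p.Prime).odd_of_ne_two hp).pow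
  rw [hF] at hiff
  by_cases hc : Odd m ∧ p ^ f % 4 = 3
  · rw [if_neg fun e => (even_half_iff hq).1 e hc, grp_no_neg hB hg.five h2 fun e => hiff.1 e hc]
    ring
  · rw [if_pos ((even_half_iff hq).2 hc), grp_neg hB hg.five h2 (hiff.2 hc)]
    ring

theorem out_plus_char_two {f m : ℕ} (hf : 1 ≤ f) (hF : Fintype.card F = 2 ^ f) (hm : 5 ≤ m) :
    Nonempty (Cfsg.Out (Cfsg.POmega F (Cfsg.quadFormPlus m F)) ≃* Multiplicative (ZMod 2 × ZMod f)) := by
  obtain ⟨Q, hQ, hB⟩ := exists_quadForm_plus (F := F) m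
  have hcard := card_mulAut_plus 2 f hf hF hm hQ hB
  rw [if_pos rfl, ← (card_ringAut_isCyclic hF hf).2] at hcard
  rw [← hQ]
  have hg := good_plus hm hB
  haveI := finite_semilin (F := F) (ι := PIdx m)
  haveI : Finite (Cfsg.Out (Cfsg.POmega F ⇑Q)) := Finite.of_surjective _ (outHom_surjective hg)
  have hk : Nat.card (fieldOut hg).ker = 2 :=
    card_ker_fieldOut hg (fieldPart_surjective fun σ v => plus_map hQ σ v) hcard
  let sec : (F ≃+* F) →* semi Q :=
    { toFun := fun σ => ⟨⟨1, σ⟩, 1, fun v => by simpa using plus_map hQ σ v⟩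
      map_one' := rfl
      map_mul' := fun σ τ => Subtype.ext (SemidirectProduct.ext (by simp) rfl) }
  obtain ⟨e⟩ := exists_ringAut_equiv hF hf
  exact equiv_of_section (fieldOut hg) hk ((outHom Q).comp sec) (fun σ => fieldOut_outHom hg (sec σ)) e

/-- A split extension by a complement centralising the kernel. -/
theorem equiv_central {G A L : Type*} [Group G] [Group A] [Group L] (π : G →* A) (eK : π.ker ≃* L) (s : A →* G)
    (hs : ∀ a, π (s a) = a) (hcomm : ∀ k ∈ π.ker, ∀ a, Commute (s a) k) {B : Type*} [Group B] (eA : A ≃* B) :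
    Nonempty (G ≃* L × B) := by
  let μ : π.ker × A →* G :=
    MonoidHom.mk' (fun x => (x.1 : G) * s x.2) fun x y => by
      show (x.1 : G) * (y.1 : G) * s (x.2 * y.2) = (x.1 : G) * s x.2 * ((y.1 : G) * s y.2)
      rw [map_mul, mul_assoc, mul_assoc, ← mul_assoc (s x.2), (hcomm _ y.1.2 x.2).eq, mul_assoc]
  have hbij : Function.Bijective μ := by
    refine ⟨fun x y h => ?_, fun g => ⟨(⟨g * (s (π g))⁻¹, by rw [MonoidHom.mem_ker, map_mul, map_inv, hs,
      mul_inv_cancel]⟩, π g), by simp [μ]⟩⟩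
    have h2 : x.2 = y.2 := by
      have := congrArg π h
      simpa [μ, hs, MonoidHom.mem_ker.1 x.1.2, MonoidHom.mem_ker.1 y.1.2] using this
    refine Prod.ext (Subtype.ext ?_) h2
    have : (x.1 : G) * s x.2 = (y.1 : G) * s y.2 := h
    rw [h2] at this
    exact mul_right_cancel this
  exact ⟨(MulEquiv.ofBijective μ hbij).symm.trans (eK.prodCongr eA)⟩

variable {m : ℕ} {Q : QuadraticForm F (PIdx m → F)}

/-- The kernel of the field part consists of the classes of similitudes. -/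
theorem range_simOut (hg : Good Q) : (simOut Q).range = (fieldOut hg).ker := by
  ext y
  constructor
  · rintro ⟨g, rfl⟩
    rw [MonoidHom.mem_ker, simOut, MonoidHom.comp_apply, fieldOut_outHom]
    rfl
  · intro hy
    obtain ⟨x, rfl⟩ := outHom_surjective hg y
    rw [MonoidHom.mem_ker, fieldOut_outHom] at hy
    have hr : (x : Semilin F (PIdx m)).right = 1 := hy
    obtain ⟨c, hc⟩ := mem_semi.1 x.2
    refine ⟨⟨(x : Semilin F (PIdx m)).left, c, fun v => ?_⟩, congrArg (outHom Q) (Subtype.ext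
      (SemidirectProduct.ext rfl hr.symm))⟩
    have := hc v
    rwa [sv, hr] at this

theorem equiv_of_pgo_quotient {L : Type*} [Group L]
    (hφ : ∃ φ : ↥(Cfsg.pgoAut F ⇑Q) →* L, Function.Surjective φ ∧
      φ.ker = (Cfsg.Inn (Cfsg.POmega F ⇑Q)).subgroupOf (Cfsg.pgoAut F ⇑Q)) :
    Nonempty ((simOut Q).range ≃* L) := by
  obtain ⟨φ, hφ, hker⟩ := hφ
  let θ : Cfsg.Geo.quadSimilarityGroup ⇑Q →* L :=
    φ.comp ((simAut Q).codRestrict _ fun g => by rw [pgoAut_eq]; exact ⟨g, rfl⟩)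
  have hθ : Function.Surjective θ := fun l => by
    obtain ⟨y, rfl⟩ := hφ l
    obtain ⟨g, hg⟩ : (y : MulAut _) ∈ (simAut Q).range := pgoAut_eq (Q := Q) ▸ y.2
    exact ⟨g, congrArg φ (Subtype.ext hg)⟩
  have hk : (simOut Q).ker = θ.ker := by
    ext g
    rw [MonoidHom.mem_ker, simOut_eq_one_iff, MonoidHom.mem_ker]
    show _ ↔ φ _ = 1
    rw [← MonoidHom.mem_ker, hker, Subgroup.mem_subgroupOf]
    rfl
  exact ⟨((QuotientGroup.quotientKerEquivRange (simOut Q)).symm.trans (QuotientGroup.quotientMulEquivOfEq hk)).trans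
    (QuotientGroup.quotientKerEquivOfSurjective θ hθ)⟩

theorem out_plus_odd {p f : ℕ} [Fact p.Prime] (hf : 1 ≤ f) (hF : Fintype.card F = p ^ f) (hp : p ≠ 2) (hm : 5 ≤ m) :
    if p ^ f % 4 = 3 ∧ Odd m then
      Nonempty (Cfsg.Out (Cfsg.POmega F (Cfsg.quadFormPlus m F)) ≃* Multiplicative (ZMod 2 × ZMod 2 × ZMod f))
    else Nonempty (Cfsg.Out (Cfsg.POmega F (Cfsg.quadFormPlus m F)) ≃* DihedralGroup 4 × Multiplicative (ZMod f)) := by
  haveI := charP_of_card (F := F) hF
  have hpodd : Odd p := (Fact.out : p.Prime).odd_of_ne_two hp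
  have h2 := two_ne_zero_of_char hF hp
  obtain ⟨Q, hQ, hB⟩ := exists_quadForm_plus (F := F) m
  rw [← hQ]
  have hg := good_plus hm hB
  obtain ⟨D, -, hG⟩ := exists_cdata_plus hQ hB h2 (by omega)
  have hord := orderOf_frob (F := F) (p := p) hf hF
  let sec : (F ≃+* F) →* semi Q :=
    { toFun := fun σ => ⟨⟨1, σ⟩, 1, fun v => by simpa using plus_map hQ σ v⟩
      map_one' := rfl
      map_mul' := fun σ τ => Subtype.ext (SemidirectProduct.ext (by simp) rfl) }
  set ρ := frob F p with hρ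
  set φ := outHom Q (sec ρ) with hφd
  set r := cls Q D.r₁ with hrd
  have hφf : φ ^ f = 1 := by
    rw [hφd, ← map_pow, ← map_pow]
    have := pow_orderOf_eq_one ρ
    rw [hord] at this
    rw [this, map_one, map_one]
  have hπφ : fieldOut hg φ = ρ := fieldOut_outHom hg (sec ρ)
  have hfix : ∀ (u : PIdx m → F) (q : Grp Q), IsRefl u q → φ * cls Q q * φ⁻¹ = cls Q q := by
    intro u q hq
    rw [hφd, conj_cls]
    refine cls_refl_eq hg.fine h2 (refl_conj hq) hq ?_
    rw [show Q (sv ((sec ρ : semi Q) : Semilin F (PIdx m)) u) = ρ (Q u) by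
      show Q (((1 : GL (PIdx m) F) : Matrix (PIdx m) (PIdx m) F) *ᵥ _) = _
      rw [Units.val_one, one_mulVec]; exact plus_map hQ ρ u, hρ, frob_apply, ← pow_succ]
    obtain ⟨j, hj⟩ := hpodd
    exact ⟨Q u ^ (j + 1), by rw [← pow_add]; congr 1; omega⟩
  have hφr : φ * r * φ⁻¹ = r := hfix _ _ D.hr₁
  have hφb : φ * D.cb * φ⁻¹ = D.cb := by
    rw [show D.cb = r * cls Q D.r₂ from rfl, ← conj_mul, hφr, hfix _ _ D.hr₂]
  have hφa : φ * D.ca * φ⁻¹ = D.ca ^ p := by
    rw [mul_inv_eq_iff_eq_mul, hφd]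
    show outHom Q (sec ρ) * outHom Q (simInc Q D.G) = outHom Q (simInc Q D.G) ^ p * outHom Q (sec ρ)
    rw [← map_pow, ← map_mul, ← map_mul, ← map_pow]
    refine congrArg _ (Subtype.ext (SemidirectProduct.ext ?_ ?_))
    · show 1 * entryAct F (PIdx m) ρ (D.G : GL (PIdx m) F) = ((D.G ^ p : Cfsg.Geo.quadSimilarityGroup ⇑Q) : GL (PIdx m) F) *
        entryAct F (PIdx m) 1 1
      rw [map_one, mul_one, one_mul, SubmonoidClass.coe_pow, hG, ← map_pow]
      refine Units.ext ?_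
      rw [entryAct_coe]
      show (Matrix.diagonal fun i => ((halfDiag m D.c i : Fˣ) : F)).map ρ =
        Matrix.diagonal fun i => (((halfDiag m D.c ^ p) i : Fˣ) : F)
      rw [Matrix.diagonal_map (map_zero ρ)]
      congr 1
    · show ρ * 1 = 1 * ρ
      rw [mul_one, one_mul]
  have hcb2 := D.cb_sq
  have hrr : r * r = 1 := cls_refl_sq D.hr₁
  have hrb : Commute r D.cb := by
    show r * (r * cls Q D.r₂) = r * cls Q D.r₂ * r
    rw [mul_assoc r (cls Q D.r₂) r, cls_comm D.r₂ D.r₁]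
  -- the element lifting Frobenius centralising the similitude classes
  obtain ⟨y, hyπ, hyf, hya, hyb, hyr⟩ : ∃ y, fieldOut hg y = ρ ∧ y ^ f = 1 ∧ Commute y D.ca ∧ Commute y D.cb ∧
      Commute y r := by
    by_cases hap : D.ca ^ p = D.ca
    · exact ⟨φ, hπφ, hφf, mul_inv_eq_iff_eq_mul.1 (hφa.trans hap), mul_inv_eq_iff_eq_mul.1 hφb,
        mul_inv_eq_iff_eq_mul.1 hφr⟩
    obtain ⟨j, hj⟩ := hpodd
    have hsq : D.ca * D.ca = D.cb := D.ca_sq.resolve_left fun e => hap (by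
      rw [hj, pow_succ, pow_mul, pow_two, e, one_pow, one_mul])
    have hb : D.cb ≠ 1 := fun e => hap (by rw [hj, pow_succ, pow_mul, pow_two, hsq, e, one_pow, one_mul])
    have hjodd : Odd j := by
      rcases Nat.even_or_odd j with ⟨i, hi⟩ | h
      · refine absurd ?_ hap
        rw [hj, pow_succ, pow_mul, pow_two, hsq, hi, ← two_mul, pow_mul, pow_two, hcb2, one_pow, one_mul]
      · exact h
    have hapinv : D.ca ^ p = D.ca⁻¹ := by
      refine eq_inv_of_mul_eq_one_left ?_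
      obtain ⟨i, hi⟩ := hjodd
      rw [hj, pow_succ, pow_mul, pow_two, hsq, mul_assoc, hsq, ← pow_succ, hi,
        show 2 * i + 1 + 1 = 2 * (i + 1) by ring, pow_mul, pow_two, hcb2, one_pow]
    have hra : r * D.ca * r⁻¹ = D.ca⁻¹ := by
      have h1 := mul_inv_eq_iff_eq_mul.1 D.conj_r₁
      rw [inv_eq_of_mul_eq_one_right hrr, mul_assoc, h1, ← mul_assoc, show r * cls Q D.r₂ = D.cb from rfl,
        ← hsq, mul_assoc]
      refine eq_inv_of_mul_eq_one_left ?_
      rw [← mul_assoc D.ca D.ca D.ca, hsq, mul_assoc, hsq, hcb2]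
    have hfe : Even f := by
      have hne : ¬ (Odd m ∧ Fintype.card F % 4 = 3) := mt (cb_iff_plus hQ (by omega) D).2 hb
      have hmodd : Odd m := by
        refine Nat.not_even_iff_odd.1 fun he => ?_
        exact hb ((hsq.symm.trans ((ca_sq_plus hQ (by omega) D hb hG).2 he)))
      rcases Nat.even_or_odd f with h | ⟨i, hi⟩
      · exact h
      · refine absurd ⟨hmodd, ?_⟩ hne
        obtain ⟨k, hk⟩ := hjodd
        rw [hF, hi, pow_succ, pow_mul, Nat.mul_mod, Nat.pow_mod, Nat.pow_mod p 2,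
          show p % 4 = 3 by omega]
        norm_num
    have hφrc : Commute φ r := mul_inv_eq_iff_eq_mul.1 hφr
    refine ⟨φ * r, ?_, ?_, ?_, ?_, ?_⟩
    · rw [map_mul, hπφ, hrd, cls, MonoidHom.comp_apply, fieldOut_outHom]
      exact mul_one ρ
    · obtain ⟨i, hi⟩ := hfe
      rw [hφrc.mul_pow, hφf, one_mul, hi, ← two_mul, pow_mul, pow_two, hrr, one_pow]
    · refine mul_inv_eq_iff_eq_mul.1 ?_
      rw [_root_.mul_inv_rev, show φ * r * D.ca * (r⁻¹ * φ⁻¹) = φ * (r * D.ca * r⁻¹) * φ⁻¹ by group, hra, ← _root_.conj_inv,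
        hφa, hapinv, inv_inv]
    · exact Commute.mul_left (mul_inv_eq_iff_eq_mul.1 hφb) hrb
    · exact hφrc.mul_left (Commute.refl r)
  -- the splitting
  haveI := (card_ringAut_isCyclic hF hf).1
  have hgen : ∀ a : F ≃+* F, a ∈ Subgroup.zpowers ρ := fun a =>
    haveI : Finite (F ≃+* F) := Finite.of_injective (fun σ => ⇑σ) DFunLike.coe_injective
    (Subgroup.eq_top_of_card_eq (Subgroup.zpowers ρ) (by rw [Nat.card_zpowers, hord, (card_ringAut_isCyclic hF hf).2])).symm ▸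
      Subgroup.mem_top a
  let s : (F ≃+* F) →* Cfsg.Out (Cfsg.POmega F ⇑Q) := monoidHomOfForallMemZpowers hgen
    (g' := y) (by rw [hord]; exact orderOf_dvd_of_pow_eq_one hyf)
  have hsρ : s ρ = y := monoidHomOfForallMemZpowers_apply_gen _ _
  have hs : ∀ a, fieldOut hg (s a) = a := fun a => by
    obtain ⟨k, rfl⟩ := hgen a
    rw [map_zpow, hsρ, map_zpow, hyπ]
  have hcomm : ∀ k ∈ (fieldOut hg).ker, ∀ a, Commute (s a) k := by
    intro k hk a
    rw [← range_simOut hg] at hk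
    obtain ⟨g, rfl⟩ := hk
    have hy : simOut Q g ∈ Subgroup.centralizer {y} := D.mem_all _
      (Subgroup.mem_centralizer_singleton_iff.2 hya.symm.eq) (Subgroup.mem_centralizer_singleton_iff.2 hyb.symm.eq)
      (Subgroup.mem_centralizer_singleton_iff.2 hyr.symm.eq) g
    obtain ⟨i, rfl⟩ := hgen a
    rw [map_zpow, hsρ]
    exact (show Commute y (simOut Q g) from (Subgroup.mem_centralizer_singleton_iff.1 hy).symm).zpow_left i
  obtain ⟨eA⟩ := exists_ringAut_equiv hF hf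
  have hcb := cb_iff_plus hQ (by omega) D
  rw [hF] at hcb
  split_ifs with hc
  · obtain ⟨eK⟩ := equiv_of_pgo_quotient (D.pgo_mod_inn_klein (hcb.2 ⟨hc.2, hc.1⟩))
    obtain ⟨e⟩ := equiv_central (fieldOut hg) ((MulEquiv.subgroupCongr (range_simOut hg).symm).trans eK) s hs hcomm eA
    exact ⟨(e.trans (MulEquiv.prodMultiplicative (G := ZMod 2 × ZMod 2) (H := ZMod f)).symm).trans
      (AddEquiv.toMultiplicative AddEquiv.prodAssoc)⟩
  · obtain ⟨eK⟩ := equiv_of_pgo_quotient (D.pgo_mod_inn_dihedral fun e => hc ⟨(hcb.1 e).2, (hcb.1 e).1⟩)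
    exact equiv_central (fieldOut hg) ((MulEquiv.subgroupCongr (range_simOut hg).symm).trans eK) s hs hcomm eA

end CfsgLib.OrthAut
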