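import Cfsg.Agent.Lib.OrthAut.PlusGraph
import Cfsg.Agent.Lib.OrthAut.Count
import Cfsg.Agent.Lib.OrthAut.Standard

/-!
Rational similitudes of minus type inside a plus-type space over the quadratic extension.
-/

set_option autoImplicit false
set_option linter.unusedSectionVars false

namespace CfsgLib.OrthAut

open Matrix CfsgLib.Orth CfsgLib.AutPSL
open CfsgLib.ClassicalAut (scal scal_coe)

universe u v

variable {F : Type u} [Field F] [Fintype F] {F₀ : Type v} [Field F₀] [Fintype F₀] {n : ℕ}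

/-- Any quadratic extension is isomorphic to a given one. -/
theorem exists_equiv_ext (e : F₀ →+* F) (hcard : Nat.card F = Nat.card F₀ ^ 2) {K : Type v} [Field K] [Algebra F₀ K]
    (h : Module.finrank F₀ K = 2) : ∃ ε : K ≃+* F, ∀ y, ε (algebraMap F₀ K y) = e y := by
  letI := e.toAlgebra
  obtain ⟨p, hp⟩ := CharP.exists F₀
  haveI : Fact p.Prime := ⟨CharP.char_is_prime F₀ p⟩
  have h2 : Module.finrank F₀ F = 2 := by
    refine Nat.pow_right_injective (Finite.one_lt_card : 2 ≤ Nat.card F₀) ?_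
    show Nat.card F₀ ^ _ = Nat.card F₀ ^ 2
    rw [← Module.natCard_eq_pow_finrank, hcard]
  let A := (FiniteField.algEquivExtension F₀ p 2 K h).trans (FiniteField.algEquivExtension F₀ p 2 F h2).symm
  exact ⟨A.toRingEquiv, fun y => A.commutes y⟩

/-- A quadratic extension in the universe of the base field. -/
theorem exists_quadratic (e : F₀ →+* F) (hcard : Nat.card F = Nat.card F₀ ^ 2) :
    ∃ (K : Type v) (_ : Field K) (_ : Algebra F₀ K), Module.finrank F₀ K = 2 ∧
      ∃ ε : K ≃+* F, ∀ y, ε (algebraMap F₀ K y) = e y := by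
  obtain ⟨K, _, _, hK⟩ := CfsgLib.Classical.OrthModels.exists_field (F := F₀)
  let ε₁ : K ≃+* F := FiniteField.ringEquivOfCardEq (by
    rw [hK, ← Nat.card_eq_fintype_card (α := F), hcard, Nat.card_eq_fintype_card])
  letI : Algebra F₀ K := (ε₁.symm.toRingHom.comp e).toAlgebra
  refine ⟨K, inferInstance, inferInstance, ?_, ε₁, fun y => ε₁.apply_symm_apply (e y)⟩
  refine Nat.pow_right_injective (Finite.one_lt_card : 2 ≤ Nat.card F₀) ?_
  show Nat.card F₀ ^ _ = Nat.card F₀ ^ 2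
  rw [← Module.natCard_eq_pow_finrank, Nat.card_eq_fintype_card, hK, Nat.card_eq_fintype_card]

/-- Reindexing of matrices. -/
def reind (F₀ : Type v) [Field F₀] (n : ℕ) : GL (MIdx n) F₀ →* GL (PIdx (n + 1)) F₀ :=
  Units.map (Matrix.reindexAlgEquiv F₀ F₀ (rho n)).toMonoidHom

theorem reind_mulVec (u : GL (MIdx n) F₀) (y : PIdx (n + 1) → F₀) :
    ((reind F₀ n u : Matrix (PIdx (n + 1)) (PIdx (n + 1)) F₀) *ᵥ y) =
      ((u : Matrix (MIdx n) (MIdx n) F₀) *ᵥ (y ∘ rho n)) ∘ (rho n).symm := by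
  show Matrix.reindex (rho n) (rho n) (u : Matrix (MIdx n) (MIdx n) F₀) *ᵥ y = _
  rw [Matrix.reindex_apply, Matrix.submatrix_mulVec_equiv]
  simp

/-- The minus form read on the index set of the plus form. -/
def minusOnPlus (Qm : QuadraticForm F₀ (MIdx n → F₀)) : QuadraticForm F₀ (PIdx (n + 1) → F₀) :=
  Qm.comp (LinearMap.funLeft F₀ F₀ (rho n))

theorem minusOnPlus_apply (Qm : QuadraticForm F₀ (MIdx n → F₀)) (y : PIdx (n + 1) → F₀) :
    minusOnPlus Qm y = Qm (y ∘ rho n) := rfl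

theorem reind_mem {Qm : QuadraticForm F₀ (MIdx n → F₀)} {u : GL (MIdx n) F₀}
    (hu : u ∈ Cfsg.Geo.quadSimilarityGroup ⇑Qm) :
    reind F₀ n u ∈ Cfsg.Geo.quadSimilarityGroup ⇑(minusOnPlus Qm) := by
  obtain ⟨c, hc⟩ := hu
  refine ⟨c, fun y => ?_⟩
  rw [minusOnPlus_apply, minusOnPlus_apply, reind_mulVec, Function.comp_assoc, Equiv.symm_comp_self,
    Function.comp_id, hc]

theorem reind_surj {Qm : QuadraticForm F₀ (MIdx n → F₀)} {g : GL (PIdx (n + 1)) F₀}
    (hg : g ∈ Cfsg.Geo.quadSimilarityGroup ⇑(minusOnPlus Qm)) :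
    ∃ u ∈ Cfsg.Geo.quadSimilarityGroup ⇑Qm, reind F₀ n u = g := by
  let u : GL (MIdx n) F₀ := Units.map (Matrix.reindexAlgEquiv F₀ F₀ (rho n).symm).toMonoidHom g
  have he : reind F₀ n u = g := Units.ext (by
    show Matrix.reindex (rho n) (rho n) (Matrix.reindex (rho n).symm (rho n).symm _) = _
    ext i j
    simp)
  obtain ⟨c, hc⟩ := hg
  refine ⟨u, ⟨c, fun w => ?_⟩, he⟩
  have := hc (w ∘ (rho n).symm)
  rw [minusOnPlus_apply, minusOnPlus_apply, ← he, reind_mulVec] at this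
  simpa [Function.comp_assoc] using this

variable {Q : QuadraticForm F (PIdx (n + 1) → F)}

/-- The rational structure of minus type. -/
structure MinusStr (hQ : ⇑Q = Cfsg.quadFormPlus (n + 1) F) (σ : F ≃+* F) (F₀ : Type v) [Field F₀] [Fintype F₀] where
  e : F₀ →+* F
  fix : ∀ y, σ (e y) = e y
  surj : ∀ z, σ z = z → ∃ y, e y = z
  card : Nat.card F = Nat.card F₀ ^ 2
  ω : F
  ne : ω ≠ σ ω
  inv : σ (σ ω) = ω
  a₀ : F₀
  b₀ : F₀
  ha : e a₀ = ω + σ ω
  hb : e b₀ = ω * σ ω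
  aniso : ∀ z₁ z₂ : F₀, z₁ ^ 2 + a₀ * z₁ * z₂ + b₀ * z₂ ^ 2 = 0 → z₁ = 0 ∧ z₂ = 0

theorem exists_minusStr (hQ : ⇑Q = Cfsg.quadFormPlus (n + 1) F) {σ : F ≃+* F} (hσ : orderOf σ = 2)
    (hc : Nat.card F₀ = Nat.card (fixedField σ)) : Nonempty (MinusStr hQ σ F₀) := by
  obtain ⟨e, hfix, hsurj⟩ := exists_emb_fixed (σ := σ) F₀ hc
  have h2 : σ * σ = 1 := by rw [← pow_two, ← hσ, pow_orderOf_eq_one]
  obtain ⟨ω, hω⟩ : ∃ ω, ω ≠ σ ω := by
    by_contra hno
    push Not at hno
    rw [show σ = 1 from RingEquiv.ext fun x => (hno x).symm, orderOf_one] at hσ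
    omega
  have hinv : σ (σ ω) = ω := by
    show (σ * σ) ω = ω
    rw [h2]; rfl
  obtain ⟨a₀, ha⟩ := hsurj (ω + σ ω) (by rw [map_add, hinv, add_comm])
  obtain ⟨b₀, hb⟩ := hsurj (ω * σ ω) (by rw [map_mul, hinv, mul_comm])
  refine ⟨⟨e, hfix, hsurj, ?_, ω, hω, hinv, a₀, b₀, ha, hb, fun z₁ z₂ hz => ?_⟩⟩
  · rw [hc, card_fixedField_pow hσ]
  · have h := congrArg e hz
    simp only [map_add, map_mul, map_pow, map_zero, ha, hb] at h
    have h' : (e z₁ + ω * e z₂) * (e z₁ + σ ω * e z₂) = 0 := by linear_combination h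
    have key : e z₁ + ω * e z₂ = 0 ∧ e z₁ + σ ω * e z₂ = 0 := by
      rcases mul_eq_zero.1 h' with h0 | h0
      · refine ⟨h0, ?_⟩
        have := congrArg σ h0
        rwa [map_add, map_mul, hfix, hfix, map_zero] at this
      · refine ⟨?_, h0⟩
        have := congrArg σ h0
        rwa [map_add, map_mul, hfix, hfix, hinv, map_zero] at this
    have hz2 : e z₂ = 0 := by
      have : (ω - σ ω) * e z₂ = 0 := by linear_combination key.1 - key.2
      exact (mul_eq_zero.1 this).resolve_left (sub_ne_zero.2 hω)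
    have hz1 : e z₁ = 0 := by simpa [hz2] using key.1
    exact ⟨e.injective (hz1.trans e.map_zero.symm), e.injective (hz2.trans e.map_zero.symm)⟩

namespace MinusStr

variable {hQ : ⇑Q = Cfsg.quadFormPlus (n + 1) F} {σ : F ≃+* F} (M : MinusStr hQ σ F₀)

/-- The change of coordinates. -/
noncomputable def P : GL (PIdx (n + 1)) F := planeP n M.ne

theorem P_q (w : PIdx (n + 1) → F) :
    Q ((M.P : Matrix (PIdx (n + 1)) (PIdx (n + 1)) F) *ᵥ w) =
      Cfsg.quadFormMinus n F (M.e M.a₀) (M.e M.b₀) (w ∘ rho n) := by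
  rw [P, planeP_mulVec, hQ, planeLin_q, M.ha, M.hb]

theorem P_comm (w : PIdx (n + 1) → F) :
    Q ((M.P : Matrix (PIdx (n + 1)) (PIdx (n + 1)) F) *ᵥ fun i => σ (w i)) =
      σ (Q ((M.P : Matrix (PIdx (n + 1)) (PIdx (n + 1)) F) *ᵥ w)) := by
  rw [M.P_q, M.P_q]
  simp [Cfsg.quadFormMinus, map_sum, M.fix, Function.comp]

theorem form_emb {Qm : QuadraticForm F₀ (MIdx n → F₀)} (hQm : ⇑Qm = Cfsg.quadFormMinus n F₀ M.a₀ M.b₀)
    (y : PIdx (n + 1) → F₀) :
    Q ((M.P : Matrix (PIdx (n + 1)) (PIdx (n + 1)) F) *ᵥ fun i => M.e (y i)) = M.e (minusOnPlus Qm y) := by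
  rw [M.P_q, minusOnPlus_apply, hQm]
  simp [Cfsg.quadFormMinus, map_sum, Function.comp]

/-- Preservation of the classes over a quadratic extension, read in the plus-type space. -/
theorem preserves_iff (u : GL (MIdx n) F₀) {g : GL (PIdx (n + 1)) F}
    (hg : g = M.P * Units.map M.e.mapMatrix.toMonoidHom (reind F₀ n u) * M.P⁻¹) :
    Cfsg.PreservesSingularClassesMinus n M.a₀ M.b₀ (u : Matrix (MIdx n) (MIdx n) F₀) ↔
      Cfsg.PreservesSingularClasses (Cfsg.quadFormPlus (n + 1) F) (g : Matrix (PIdx (n + 1)) (PIdx (n + 1)) F) := by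
  have key : ∀ (K : Type v) [Field K] [Algebra F₀ K] (ε : K ≃+* F), (∀ y, ε (algebraMap F₀ K y) = M.e y) →
      (Cfsg.PreservesSingularClasses
        (Cfsg.quadFormMinus n K (algebraMap F₀ K M.a₀) (algebraMap F₀ K M.b₀))
        ((u : Matrix (MIdx n) (MIdx n) F₀).map (algebraMap F₀ K)) ↔
      Cfsg.PreservesSingularClasses (Cfsg.quadFormPlus (n + 1) F) (g : Matrix (PIdx (n + 1)) (PIdx (n + 1)) F)) := by
    intro K _ _ ε hε
    haveI : Finite K := Finite.of_equiv F ε.symm.toEquiv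
    let L : (MIdx n → K) → (PIdx (n + 1) → F) := fun v =>
      (M.P : Matrix (PIdx (n + 1)) (PIdx (n + 1)) F) *ᵥ fun i => ε (v ((rho n).symm i))
    let Φ : (MIdx n → K) ≃+ (PIdx (n + 1) → F) :=
      { toFun := L
        invFun := fun w i => ε.symm ((((M.P⁻¹ : GL (PIdx (n + 1)) F)) : Matrix (PIdx (n + 1)) (PIdx (n + 1)) F).mulVec w (rho n i))
        left_inv := fun v => by
          funext i
          simp [L, mulVec_mulVec]
        right_inv := fun w => by
          simp [L, mulVec_mulVec]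
        map_add' := fun v w => by
          simp only [L, ← mulVec_add]
          congr 1
          funext i
          simp }
    refine preserves_iff_transport (ε := ε) (Φ := Φ) (c := 1) one_ne_zero (fun a v => ?_) (fun v => ?_) fun v => ?_
    · show L (a • v) = ε a • L v
      simp only [L, ← mulVec_smul]
      congr 1
      funext i
      simp
    · show Cfsg.quadFormPlus (n + 1) F (L v) = _
      rw [← hQ, one_mul, M.P_q]
      simp [Cfsg.quadFormMinus, map_sum, hε, Function.comp]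
    · show L _ = (g : Matrix (PIdx (n + 1)) (PIdx (n + 1)) F) *ᵥ L v
      simp only [L]
      rw [hg, mulVec_mulVec, ← Units.val_mul, inv_mul_cancel_right, Units.val_mul, ← mulVec_mulVec]
      congr 1
      funext i
      rw [show ε (((u : Matrix (MIdx n) (MIdx n) F₀).map (algebraMap F₀ K) *ᵥ v) ((rho n).symm i)) =
        (((u : Matrix (MIdx n) (MIdx n) F₀).map M.e) *ᵥ fun j => ε (v j)) ((rho n).symm i) by
          rw [show ((u : Matrix (MIdx n) (MIdx n) F₀).map M.e) =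
            ((u : Matrix (MIdx n) (MIdx n) F₀).map (algebraMap F₀ K)).map ε.toRingHom from
              Matrix.ext fun a b => (hε _).symm]
          exact RingHom.map_mulVec ε.toRingHom _ v _]
      show _ = (((Matrix.reindex (rho n) (rho n) (u : Matrix (MIdx n) (MIdx n) F₀)).map M.e) *ᵥ _) i
      rw [show ((Matrix.reindex (rho n) (rho n) (u : Matrix (MIdx n) (MIdx n) F₀)).map M.e) =
        Matrix.reindex (rho n) (rho n) ((u : Matrix (MIdx n) (MIdx n) F₀).map M.e) from rfl, Matrix.reindex_apply,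
        Matrix.submatrix_mulVec_equiv]
      simp [Function.comp_def]
  constructor
  · rintro ⟨K, _, _, hK, hp⟩
    obtain ⟨ε, hε⟩ := exists_equiv_ext M.e M.card hK
    exact (key K ε hε).1 hp
  · intro hp
    obtain ⟨K, _, _, hK, ε, hε⟩ := exists_quadratic M.e M.card
    exact ⟨K, _, _, hK, (key K ε hε).2 hp⟩

end MinusStr

end CfsgLib.OrthAut
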