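import Cfsg.Agent.Lib.OrthAut.InndiagPlus
import Cfsg.Agent.Lib.OrthAut.SplitCount

/-!
Generation of the similitudes fixing both families, and transport along automorphisms.
-/

set_option autoImplicit false
set_option linter.unusedSectionVars false

namespace CfsgLib.OrthAut

open Matrix CfsgLib.Orth CfsgLib.AutPSL
open CfsgLib.ClassicalAut (scal scal_coe)

universe u

variable {F : Type u} [Field F] [Fintype F] {m : ℕ}
variable {Q : QuadraticForm F (PIdx m → F)}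

theorem fine_plus (hm : 3 ≤ m) (hB : Nondeg Q) : Fine Q :=
  ⟨hB, by simp; omega⟩

/-- The diagonal similitude with multiplier `c` on the first half. -/
noncomputable def halfSim (hQ : ⇑Q = Cfsg.quadFormPlus m F) (c : Fˣ) : Cfsg.Geo.quadSimilarityGroup ⇑Q :=
  ⟨diagHom F m (halfDiag m c), diag_mem hQ (c := c) fun i => by simp [halfDiag]⟩

/-- The torus element as a similitude. -/
noncomputable def torSim (hQ : ⇑Q = Cfsg.quadFormPlus m F) (l : Fin m → Fˣ) : Cfsg.Geo.quadSimilarityGroup ⇑Q :=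
  ⟨tor hQ l, isometry_le_sim (tor hQ l).2⟩

theorem chiP_halfSim (hQ : ⇑Q = Cfsg.quadFormPlus m F) (hB : Nondeg Q) (c : Fˣ) :
    chiP hQ hB (halfSim hQ c) = 1 :=
  chiP_diag hQ hB _ _

theorem chiP_torSim (hQ : ⇑Q = Cfsg.quadFormPlus m F) (hB : Nondeg Q) (l : Fin m → Fˣ) :
    chiP hQ hB (torSim hQ l) = 1 :=
  chiP_diag hQ hB _ _

/-- Similitudes of square multiplier. -/
theorem sim_square_mem {Γ : Type*} [Group Γ] (hQ : ⇑Q = Cfsg.quadFormPlus m F) (hB : Nondeg Q)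
    (μ : Cfsg.Geo.quadSimilarityGroup ⇑Q →* Γ) (S : Subgroup Γ)
    (hscal : ∀ c : Fˣ, μ ⟨scal c, scal_mem_sim c⟩ ∈ S)
    (hiso : ∀ s : Grp Q, dickson hB s = 1 → μ ⟨s, isometry_le_sim s.2⟩ ∈ S)
    (g : Cfsg.Geo.quadSimilarityGroup ⇑Q) (hg : chiP hQ hB g = 1) (d : Fˣ)
    (hd : ∀ v, Q (((g : GL (PIdx m) F) : Matrix (PIdx m) (PIdx m) F) *ᵥ v) = (d : F) * d * Q v) : μ g ∈ S := by
  obtain ⟨s, hs⟩ := scaled_isometry hd
  have e : g = ⟨scal d, scal_mem_sim d⟩ * ⟨s, isometry_le_sim s.2⟩ := Subtype.ext hs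
  rw [e, map_mul, chiP_scal, one_mul, chiP_grp] at hg
  rw [e, map_mul]
  exact S.mul_mem (hscal d) (hiso s hg)

/-- In characteristic two. -/
theorem mem_of_gens_two {Γ : Type*} [Group Γ] (hQ : ⇑Q = Cfsg.quadFormPlus m F) (h : Fine Q) (h2 : (2 : F) = 0)
    (μ : Cfsg.Geo.quadSimilarityGroup ⇑Q →* Γ) (S : Subgroup Γ)
    (hscal : ∀ c : Fˣ, μ ⟨scal c, scal_mem_sim c⟩ ∈ S)
    (hΩ : ∀ s : Grp Q, s ∈ Cfsg.Omega F ⇑Q → μ ⟨s, isometry_le_sim s.2⟩ ∈ S)
    (g : Cfsg.Geo.quadSimilarityGroup ⇑Q) (hg : chiP hQ h.nondeg g = 1) : μ g ∈ S := by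
  obtain ⟨c, hc⟩ := g.2
  haveI : CharP F 2 := CharTwo.of_one_ne_zero_of_two_eq_zero one_ne_zero h2
  obtain ⟨d, hd⟩ := FiniteField.isSquare_of_char_two (ringChar.eq F 2) (c : F)
  have hd0 : d ≠ 0 := fun e => c.ne_zero (by rw [hd, e, zero_mul])
  refine sim_square_mem hQ h.nondeg μ S hscal (fun s hs => hΩ s ?_) g hg (Units.mk0 d hd0)
    fun v => by rw [hc, hd, Units.val_mk0]
  rw [omega_eq_ker_dickson h.nondeg h2 (by have := h.five; omega) fun e => absurd e (by have := h.five; omega)]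
  exact hs

/-- In odd characteristic: scalars, `Ω`, a diagonal similitude and a torus element. -/
theorem mem_of_gens {Γ : Type*} [Group Γ] (hQ : ⇑Q = Cfsg.quadFormPlus m F) (h : Fine Q) (h2 : (2 : F) ≠ 0)
    (hm : 1 ≤ m) {c : Fˣ} (hc : ¬ IsSquare (c : F))
    (μ : Cfsg.Geo.quadSimilarityGroup ⇑Q →* Γ) (S : Subgroup Γ)
    (hscal : ∀ c : Fˣ, μ ⟨scal c, scal_mem_sim c⟩ ∈ S)
    (hΩ : ∀ s : Grp Q, s ∈ Cfsg.Omega F ⇑Q → μ ⟨s, isometry_le_sim s.2⟩ ∈ S)
    (hG : μ (halfSim hQ c) ∈ S) (ht : μ (torSim hQ (Pi.mulSingle ⟨0, hm⟩ c)) ∈ S)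
    (g : Cfsg.Geo.quadSimilarityGroup ⇑Q) (hg : chiP hQ h.nondeg g = 1) : μ g ∈ S := by
  have hn : 2 ≤ Module.finrank F (PIdx m → F) := by have := h.five; omega
  set t := tor hQ (Pi.mulSingle ⟨0, hm⟩ c)
  have htsp : spinor Q 1 t ≠ 1 := fun e => hc ((spinor_tor_single hQ h h2 _ c).1 e)
  have hiso : ∀ s : Grp Q, dickson h.nondeg s = 1 → μ ⟨s, isometry_le_sim s.2⟩ ∈ S := by
    intro s hs
    rcases Int.units_eq_one_or (spinor Q 1 s) with e | e
    · exact hΩ s ((mem_omega_iff h.nondeg h2 hn s).2 ⟨hs, e⟩)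
    · have hsΩ : s * t⁻¹ ∈ Cfsg.Omega F ⇑Q := (mem_omega_iff h.nondeg h2 hn _).2 ⟨by
        rw [map_mul, map_inv, hs, dickson_tor hQ h.nondeg]; simp, by
        rw [map_mul, map_inv, e, (Int.units_eq_one_or _).resolve_left htsp]; simp⟩
      have e2 : (⟨s, isometry_le_sim s.2⟩ : Cfsg.Geo.quadSimilarityGroup ⇑Q) =
          ⟨(s * t⁻¹ : Grp Q), isometry_le_sim (s * t⁻¹).2⟩ * torSim hQ (Pi.mulSingle ⟨0, hm⟩ c) :=
        Subtype.ext (congrArg Subtype.val (inv_mul_cancel_right s t)).symm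
      rw [e2, map_mul]
      exact S.mul_mem (hΩ _ hsΩ) ht
  obtain ⟨b, hb⟩ := g.2
  by_cases hsq : IsSquare (b : F)
  · obtain ⟨d, hd⟩ := hsq
    have hd0 : d ≠ 0 := fun e => b.ne_zero (by rw [hd, e, zero_mul])
    exact sim_square_mem hQ h.nondeg μ S hscal hiso g hg (Units.mk0 d hd0) fun v => by rw [hb, hd, Units.val_mk0]
  · obtain ⟨d, hd⟩ : IsSquare ((c : F) * b) := (CfsgLib.Orth.isSquare_mul_iff c.ne_zero).2 (Or.inr (iff_of_false hc hsq))
    have hd0 : d ≠ 0 := fun e => mul_ne_zero c.ne_zero b.ne_zero (by rw [hd, e, zero_mul])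
    have h1 : μ (halfSim hQ c * g) ∈ S := by
      refine sim_square_mem hQ h.nondeg μ S hscal hiso _ (by rw [map_mul, chiP_halfSim, hg, one_mul])
        (Units.mk0 d hd0) fun v => ?_
      rw [Subgroup.coe_mul, Units.val_mul, ← mulVec_mulVec]
      show Q (((diagHom F m (halfDiag m c) : GL (PIdx m) F) : Matrix (PIdx m) (PIdx m) F) *ᵥ _) = _
      rw [diag_q hQ (c := c) (fun i => by simp [halfDiag]), hb, Units.val_mk0, ← hd, mul_assoc]
    have h3 : μ g = (μ (halfSim hQ c))⁻¹ * μ (halfSim hQ c * g) := by rw [map_mul, inv_mul_cancel_left]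
    rw [h3]
    exact S.mul_mem (S.inv_mem hG) h1

section Transport

variable {X : Type*} [Group X]

/-- Splitting counts are invariant under an element normalising both groups. -/
theorem splitClassCount_normal (H N : Subgroup X) [N.Normal] (hN : N ≤ H) (x a : X)
    (hH : H.map (MulAut.conj a).toMonoidHom = H) [Finite X] :
    Cfsg.splitClassCount H N (a * x * a⁻¹) = Cfsg.splitClassCount H N x := by
  have hC : H ⊓ Subgroup.centralizer {a * x * a⁻¹} =
      (H ⊓ Subgroup.centralizer {x}).map (MulAut.conj a).toMonoidHom := by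
    ext z
    constructor
    · intro hz
      obtain ⟨y, hy, rfl⟩ := (show z ∈ H.map (MulAut.conj a).toMonoidHom by rw [hH]; exact hz.1)
      refine ⟨y, ⟨hy, Subgroup.mem_centralizer_singleton_iff.2 ?_⟩, rfl⟩
      have h1 : (MulAut.conj a) y * (a * x * a⁻¹) = (a * x * a⁻¹) * (MulAut.conj a) y :=
        Subgroup.mem_centralizer_singleton_iff.1 hz.2
      rw [← MulAut.conj_apply, ← map_mul, ← map_mul] at h1
      exact (MulAut.conj a).injective h1
    · rintro ⟨y, ⟨hy, hy'⟩, rfl⟩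
      refine ⟨hH ▸ Subgroup.mem_map_of_mem _ hy, Subgroup.mem_centralizer_singleton_iff.2 ?_⟩
      show (MulAut.conj a) y * _ = _ * (MulAut.conj a) y
      rw [← MulAut.conj_apply, ← map_mul, ← map_mul, Subgroup.mem_centralizer_singleton_iff.1 hy']
  have hNm : N.map (MulAut.conj a).toMonoidHom = N := by
    ext z
    constructor
    · rintro ⟨y, hy, rfl⟩
      exact Subgroup.Normal.conj_mem inferInstance y hy a
    · intro hz
      exact ⟨a⁻¹ * z * a, by simpa using Subgroup.Normal.conj_mem (inferInstance : N.Normal) z hz a⁻¹,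
        by simp [mul_assoc]⟩
  have h1 := splitClassCount_mul H N hN (a * x * a⁻¹)
  have h2 := splitClassCount_mul H N hN x
  have h3 : N.relIndex (H ⊓ Subgroup.centralizer {a * x * a⁻¹}) = N.relIndex (H ⊓ Subgroup.centralizer {x}) := by
    rw [hC]
    conv_lhs => rw [← hNm]
    exact Subgroup.relIndex_map_map_of_injective _ _ (MulAut.conj a).injective
  rw [h3] at h1
  exact Nat.eq_of_mul_eq_mul_right (Nat.pos_of_ne_zero Subgroup.index_ne_zero_of_finite) (h1.trans h2.symm)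

/-- Centralisers are carried along. -/
theorem centralizer_normal (H : Subgroup X) (x a : X) (hH : H.map (MulAut.conj a).toMonoidHom = H) :
    Nonempty (↥(H ⊓ Subgroup.centralizer {x}) ≃* ↥(H ⊓ Subgroup.centralizer {a * x * a⁻¹})) := by
  have hC : (H ⊓ Subgroup.centralizer {x}).map (MulAut.conj a).toMonoidHom =
      H ⊓ Subgroup.centralizer {a * x * a⁻¹} := by
    ext z
    constructor
    · rintro ⟨y, ⟨hy, hy'⟩, rfl⟩
      refine ⟨hH ▸ Subgroup.mem_map_of_mem _ hy, Subgroup.mem_centralizer_singleton_iff.2 ?_⟩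
      show (MulAut.conj a) y * _ = _ * (MulAut.conj a) y
      rw [← MulAut.conj_apply, ← map_mul, ← map_mul, Subgroup.mem_centralizer_singleton_iff.1 hy']
    · intro hz
      obtain ⟨y, hy, rfl⟩ := (show z ∈ H.map (MulAut.conj a).toMonoidHom by rw [hH]; exact hz.1)
      refine ⟨y, ⟨hy, Subgroup.mem_centralizer_singleton_iff.2 ?_⟩, rfl⟩
      have h1 : (MulAut.conj a) y * (a * x * a⁻¹) = (a * x * a⁻¹) * (MulAut.conj a) y :=
        Subgroup.mem_centralizer_singleton_iff.1 hz.2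
      rw [← MulAut.conj_apply, ← map_mul, ← map_mul] at h1
      exact (MulAut.conj a).injective h1
  exact ⟨((MulAut.conj a).subgroupMap _).trans (MulEquiv.subgroupCongr hC)⟩

end Transport

end CfsgLib.OrthAut
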