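import Cfsg.Agent.Lib.OrthAut.PlusCoset
import Cfsg.Agent.Lib.OrthAut.PlusTorus
import Cfsg.Agent.Lib.OrthAut.ClassTransport

/-!
The standard graph-field automorphism of order two and its rational structure of minus type.
-/

set_option autoImplicit false
set_option linter.unusedSectionVars false

namespace CfsgLib.OrthAut

open Matrix CfsgLib.Orth CfsgLib.AutPSL
open CfsgLib.ClassicalAut (scal scal_coe)

universe u v

variable {F : Type u} [Field F] [Fintype F] {n : ℕ}

/-- The index set in minus type. -/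
abbrev MIdx (n : ℕ) : Type := (Fin n ⊕ Fin n) ⊕ Fin 2

/-- The index bijection. -/
def rho (n : ℕ) : MIdx n ≃ PIdx (n + 1) where
  toFun := Sum.elim (Sum.elim (fun j => .inl j.succ) fun j => .inr j.succ) ![.inl 0, .inr 0]
  invFun := Sum.elim (Fin.cases (.inr 0) fun j => .inl (.inl j)) (Fin.cases (.inr 1) fun j => .inl (.inr j))
  left_inv i := by rcases i with (i | i) | i <;> [simp; simp; (fin_cases i <;> simp)]
  right_inv i := by rcases i with i | i <;> (induction i using Fin.cases <;> simp)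

/-- The change of coordinates as a linear map. -/
def planeLin (n : ℕ) (ω τ : F) : (PIdx (n + 1) → F) →ₗ[F] (PIdx (n + 1) → F) where
  toFun w := Sum.elim (Fin.cases (w (.inl 0) + ω * w (.inr 0)) fun j => w (.inl j.succ))
    (Fin.cases (w (.inl 0) + τ * w (.inr 0)) fun j => w (.inr j.succ))
  map_add' v w := funext fun i => by
    rcases i with i | i <;> induction i using Fin.cases <;> simp <;> ring
  map_smul' c v := funext fun i => by
    rcases i with i | i <;> induction i using Fin.cases <;> simp <;> ring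

theorem planeLin_injective {ω τ : F} (h : ω ≠ τ) : Function.Injective (planeLin n ω τ) := by
  refine (injective_iff_map_eq_zero (planeLin n ω τ)).2 fun w hw => ?_
  have h0 := congrFun hw (.inl 0)
  have h1 := congrFun hw (.inr 0)
  simp [planeLin] at h0 h1
  have h2 : w (.inr 0) = 0 := by
    have : (ω - τ) * w (.inr 0) = 0 := by linear_combination h0 - h1
    exact (mul_eq_zero.1 this).resolve_left (sub_ne_zero.2 h)
  funext i
  rcases i with i | i <;> induction i using Fin.cases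
  · rw [h2] at h0; simpa using h0
  · next j => simpa [planeLin] using congrFun hw (.inl j.succ)
  · exact h2
  · next j => simpa [planeLin] using congrFun hw (.inr j.succ)

/-- The change of coordinates. -/
noncomputable def planeP (n : ℕ) {ω τ : F} (h : ω ≠ τ) : GL (PIdx (n + 1)) F :=
  Matrix.GeneralLinearGroup.mkOfDetNeZero (LinearMap.toMatrix' (planeLin n ω τ))
    ((Matrix.isUnit_iff_isUnit_det _).1 (Matrix.mulVec_injective_iff_isUnit.1 fun x y e => planeLin_injective h (by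
      simpa [LinearMap.toMatrix'_mulVec] using e))).ne_zero

theorem planeP_mulVec {ω τ : F} (h : ω ≠ τ) (w : PIdx (n + 1) → F) :
    (planeP n h : Matrix (PIdx (n + 1)) (PIdx (n + 1)) F) *ᵥ w = planeLin n ω τ w :=
  LinearMap.toMatrix'_mulVec _ w

/-- The values of the hyperbolic form in the new coordinates. -/
theorem planeLin_q (ω τ : F) (w : PIdx (n + 1) → F) :
    Cfsg.quadFormPlus (n + 1) F (planeLin n ω τ w) =
      Cfsg.quadFormMinus n F (ω + τ) (ω * τ) (w ∘ rho n) := by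
  simp [Cfsg.quadFormPlus, Cfsg.quadFormMinus, planeLin, rho, Fin.sum_univ_succ]
  ring

variable {Q : QuadraticForm F (PIdx (n + 1) → F)}

/-- The swap of the first hyperbolic pair. -/
theorem exists_swap (hQ : ⇑Q = Cfsg.quadFormPlus (n + 1) F) (hB : Nondeg Q) :
    ∃ g : Grp Q, IsRefl (hypVec (n + 1) 0 1) g ∧ (∀ (σ : F ≃+* F) i, σ (hypVec (n + 1) 0 1 i) = hypVec (n + 1) 0 1 i) ∧
      ∀ z : PIdx (n + 1) → F, ap g z =
        Sum.elim (Fin.cases (z (.inr 0)) fun j => z (.inl j.succ)) (Fin.cases (z (.inl 0)) fun j => z (.inr j.succ)) := by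
  obtain ⟨g, hg⟩ := exists_refl hB (v := hypVec (n + 1) 0 1) (by rw [q_hypVec hQ]; simp)
  refine ⟨g, hg, fun σ i => ?_, fun z => funext fun i => ?_⟩
  · rcases i with i | i <;> by_cases h : i = 0 <;> simp [hypVec, h]
  · rw [hg.2, q_hypVec hQ, polar_hypVec hQ]
    rcases i with i | i <;> induction i using Fin.cases <;> simp [hypVec, Fin.succ_ne_zero]

theorem planeP_swap (hQ : ⇑Q = Cfsg.quadFormPlus (n + 1) F) {g : Grp Q}
    (hg : ∀ z : PIdx (n + 1) → F, ap g z =
        Sum.elim (Fin.cases (z (.inr 0)) fun j => z (.inl j.succ)) (Fin.cases (z (.inl 0)) fun j => z (.inr j.succ)))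
    {σ : F ≃+* F} {ω : F} (h : ω ≠ σ ω) (h2 : σ (σ ω) = ω) :
    planeP n h * (entryAct F (PIdx (n + 1)) σ (planeP n h))⁻¹ = g := by
  rw [mul_inv_eq_iff_eq_mul]
  refine Units.ext (Matrix.ext_iff_mulVec.2 fun w => ?_)
  obtain ⟨w, rfl⟩ : ∃ w', (fun i => σ (w' i)) = w :=
    ⟨fun i => σ.symm (w i), funext fun i => σ.apply_symm_apply _⟩
  rw [Units.val_mul, ← mulVec_mulVec, entryAct_coe,
    show (planeP n h : Matrix (PIdx (n + 1)) (PIdx (n + 1)) F).map σ *ᵥ (fun i => σ (w i)) =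
      fun i => σ (((planeP n h : Matrix (PIdx (n + 1)) (PIdx (n + 1)) F) *ᵥ w) i) from
      (funext fun i => RingHom.map_mulVec σ.toRingHom _ w i).symm,
    planeP_mulVec, planeP_mulVec]
  show _ = ap g _
  rw [hg]
  funext i
  rcases i with i | i <;> induction i using Fin.cases <;> simp [planeLin, h2]

/-- The conjugacy of the reflection parts. -/
theorem exists_conj_refl (hQ : ⇑Q = Cfsg.quadFormPlus (n + 1) F) (h : Good Q) {σ : F ≃+* F} (hσ : orderOf σ = 2)
    {v v' : PIdx (n + 1) → F} {g g' : Grp Q} (hg : IsRefl v g) (hv : ∀ i, σ (v i) = v i)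
    (hg' : IsRefl v' g') (hv' : ∀ i, σ (v' i) = v' i) :
    ∃ a : Cfsg.Geo.quadSimilarityGroup ⇑Q, chiP hQ h.nondeg a = 1 ∧
      psi Q (entryElt hQ g' σ) = psi Q (simInc Q a) * psi Q (entryElt hQ g σ) * (psi Q (simInc Q a))⁻¹ := by
  obtain ⟨P, hP, hPσ⟩ := exists_refl_structure hQ hσ hg' hv'
  obtain ⟨ν, R₁, hν, hnd, hh⟩ := exists_rational_form (σ := σ)
    (R := pull Q (P : Matrix (PIdx (n + 1)) (PIdx (n + 1)) F)) (nondeg_pull h.nondeg P) (by simp; omega) (μ := 1)
    fun x => by rw [one_mul, pull_apply, pull_apply, hPσ]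
  have hm : P * (entryAct F (PIdx (n + 1)) σ P)⁻¹ ∈ Cfsg.Geo.quadSimilarityGroup ⇑Q := by
    rw [hP]; exact isometry_le_sim g'.2
  rcases structure_cases hQ h.nondeg (by omega) Nat.prime_two hσ hν hnd hh hm with ⟨h1, -⟩ | ⟨-, -, hall⟩
  · exfalso
    rw [show (⟨_, hm⟩ : Cfsg.Geo.quadSimilarityGroup ⇑Q) = ⟨g', isometry_le_sim g'.2⟩ from Subtype.ext hP,
      chiP_refl hQ h.nondeg hg'] at h1
    exact absurd h1 (by decide)
  obtain ⟨k, hk, hk'⟩ := hall v g hg hv
  rw [hP] at hk'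
  have hfix := refl_entry hQ σ hg hv
  have key : ∀ a : Cfsg.Geo.quadSimilarityGroup ⇑Q,
      (g' : GL (PIdx (n + 1)) F) = (a : GL (PIdx (n + 1)) F) * g * (entryAct F (PIdx (n + 1)) σ a)⁻¹ →
      psi Q (entryElt hQ g' σ) = psi Q (simInc Q a) * psi Q (entryElt hQ g σ) * (psi Q (simInc Q a))⁻¹ := fun a ha => by
    rw [eq_mul_inv_iff_mul_eq, ← map_mul, ← map_mul]
    refine congrArg _ (Subtype.ext (SemidirectProduct.ext ?_ ?_))
    · show (g' : GL (PIdx (n + 1)) F) * entryAct F (PIdx (n + 1)) σ a =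
        (a : GL (PIdx (n + 1)) F) * entryAct F (PIdx (n + 1)) (1 : F ≃+* F) (g : GL (PIdx (n + 1)) F)
      rw [map_one, MulAut.one_apply, ha, inv_mul_cancel_right]
    · show σ * 1 = 1 * σ
      rw [one_mul, mul_one]
  by_cases hchi : chiP hQ h.nondeg ⟨k, hk⟩ = 1
  · exact ⟨⟨k, hk⟩, hchi, key ⟨k, hk⟩ hk'⟩
  refine ⟨⟨k, hk⟩ * ⟨g, isometry_le_sim g.2⟩, ?_, key _ ?_⟩
  · rw [map_mul, chiP_refl hQ h.nondeg hg, (Int.units_eq_one_or _).resolve_left hchi]
    rfl
  · show (g' : GL (PIdx (n + 1)) F) =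
      k * (g : GL (PIdx (n + 1)) F) * g * (entryAct F (PIdx (n + 1)) σ (k * (g : GL (PIdx (n + 1)) F)))⁻¹
    rw [map_mul, hfix, hk']
    group

end CfsgLib.OrthAut
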