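import Cfsg.Agent.Lib.OrthAut.FieldPlus

/-!
The rational structures of a plus-type space.
-/

set_option autoImplicit false
set_option linter.unusedSectionVars false

namespace CfsgLib.OrthAut

open Matrix CfsgLib.Orth CfsgLib.AutPSL
open CfsgLib.ClassicalAut (scal scal_coe)
open CfsgLib.Classical.OrthModels (Iso)

universe u v

variable {F : Type u} [Field F] [Fintype F] {m : ℕ}
variable {Q : QuadraticForm F (PIdx m → F)}

theorem refl_entry (hQ : ⇑Q = Cfsg.quadFormPlus m F) (σ : F ≃+* F) {v : PIdx m → F} {g : Grp Q} (hg : IsRefl v g)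
    (hv : ∀ i, σ (v i) = v i) : entryAct F (PIdx m) σ (g : GL (PIdx m) F) = g := by
  let x : semi Q := ⟨⟨1, σ⟩, 1, fun w => by simpa using plus_map hQ σ w⟩
  have h1 := refl_conj (x := x) hg
  rw [show sv (x : Semilin F (PIdx m)) v = v by
    show ((1 : GL (PIdx m) F) : Matrix (PIdx m) (PIdx m) F) *ᵥ _ = v
    rw [Units.val_one, one_mulVec]
    exact funext hv] at h1
  have h2 : onGrp Q x g = g := ext_ap fun z => by rw [h1.2, hg.2]
  have h3 := congrArg (fun z : Grp Q => (z : GL (PIdx m) F)) h2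
  simpa [onGrp_coe, x] using h3

theorem refl_sq {v : PIdx m → F} {g : Grp Q} (hg : IsRefl v g) : g * g = 1 := by
  refine ext_ap fun x => ?_
  rw [ap_mul, hg.2, hg.2, ap_one, b_sub_right, b_smul_right, b_self]
  have hv := hg.1
  match_scalars <;> field_simp <;> ring

/-- A fixed reflection exists for every field automorphism. -/
theorem exists_refl_rat (hQ : ⇑Q = Cfsg.quadFormPlus m F) (hB : Nondeg Q) (hm : 1 ≤ m) :
    ∃ (v : PIdx m → F) (g : Grp Q), IsRefl v g ∧ ∀ (σ : F ≃+* F) i, σ (v i) = v i := by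
  let i₀ : Fin m := ⟨0, hm⟩
  let v : PIdx m → F := Sum.elim (fun i => if i = i₀ then 1 else 0) fun i => if i = i₀ then 1 else 0
  have hv : Q v = 1 := by
    rw [hQ, Cfsg.quadFormPlus, Finset.sum_eq_single i₀ (fun b _ hb => by simp [v, hb]) (by simp)]
    simp [v]
  obtain ⟨g, hg⟩ := exists_refl hB (v := v) (by rw [hv]; exact one_ne_zero)
  exact ⟨v, g, hg, fun σ i => by rcases i with i | i <;> by_cases h : i = i₀ <;> simp [v, h]⟩

/-- The twisted structure given by a reflection in a fixed vector. -/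
theorem exists_refl_structure (hQ : ⇑Q = Cfsg.quadFormPlus m F) {σ : F ≃+* F} (hσ : orderOf σ = 2)
    {v : PIdx m → F} {g : Grp Q} (hg : IsRefl v g) (hv : ∀ i, σ (v i) = v i) :
    ∃ P : GL (PIdx m) F, P * (entryAct F (PIdx m) σ P)⁻¹ = g ∧
      ∀ w, Q ((P : Matrix (PIdx m) (PIdx m) F) *ᵥ fun i => σ (w i)) = σ (Q ((P : Matrix (PIdx m) (PIdx m) F) *ᵥ w)) := by
  have hfix := refl_entry hQ σ hg hv
  obtain ⟨P, hP⟩ := CfsgLib.ClassicalAut.exists_coboundary_gl two_pos hσ (g : GL (PIdx m) F) (by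
    show (g : GL (PIdx m) F) * CfsgLib.ClassicalAut.Carrier.mapUnit σ
      ((g : GL (PIdx m) F) * CfsgLib.ClassicalAut.Carrier.mapUnit σ 1) = 1
    rw [map_one, mul_one]
    exact (congrArg ((g : GL (PIdx m) F) * ·) hfix).trans (congrArg Subtype.val (refl_sq hg)))
  have hP' : P * (entryAct F (PIdx m) σ P)⁻¹ = g := hP.symm
  refine ⟨P, hP', fun w => ?_⟩
  rw [← plus_map hQ σ,
    show (fun i => σ (((P : Matrix (PIdx m) (PIdx m) F) *ᵥ w) i)) =
      (entryAct F (PIdx m) σ P : Matrix (PIdx m) (PIdx m) F) *ᵥ fun i => σ (w i) from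
        funext fun i => RingHom.map_mulVec σ.toRingHom _ w i]
  have e := ap_q g ((entryAct F (PIdx m) σ P : Matrix (PIdx m) (PIdx m) F) *ᵥ fun i => σ (w i))
  rw [ap, mulVec_mulVec, ← Units.val_mul, ← hP', inv_mul_cancel_right] at e
  exact e

theorem chi_coboundary (hQ : ⇑Q = Cfsg.quadFormPlus m F) (hB : Nondeg Q) (σ : F ≃+* F) {E R k : GL (PIdx m) F}
    (hE : E ∈ Cfsg.Geo.quadSimilarityGroup ⇑Q) (hR : R ∈ Cfsg.Geo.quadSimilarityGroup ⇑Q)
    (hk : k ∈ Cfsg.Geo.quadSimilarityGroup ⇑Q) (h : E = k * R * (entryAct F (PIdx m) σ k)⁻¹) :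
    chiP hQ hB ⟨E, hE⟩ = chiP hQ hB ⟨R, hR⟩ := by
  rw [show (⟨E, hE⟩ : Cfsg.Geo.quadSimilarityGroup ⇑Q) = ⟨k, hk⟩ * ⟨R, hR⟩ * ⟨_, entry_mem_sim hQ σ hk⟩⁻¹ from
    Subtype.ext h, map_mul, map_mul, map_inv, chiP_entry hQ hB σ ⟨k, hk⟩, mul_comm (chiP hQ hB ⟨k, hk⟩), mul_assoc,
    mul_inv_cancel, mul_one]

/-- A rational form isometric to another one up to a scalar gives a twisted coboundary. -/
theorem similitude_of_iso {σ : F ≃+* F} {P h : GL (PIdx m) F} {ν ν' : F} (hν : ν ≠ 0) (hν' : ν' ≠ 0)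
    {R₁ R₀ : QuadraticForm (fixedField σ) (PIdx m → fixedField σ)}
    (hh : ∀ x, Q ((h : Matrix (PIdx m) (PIdx m) F) *ᵥ emb _ x) = ν * ((R₁ x : fixedField σ) : F))
    (hP : ∀ x, Q ((P : Matrix (PIdx m) (PIdx m) F) *ᵥ emb _ x) = ν' * ((R₀ x : fixedField σ) : F))
    (hfix : σ ν' = ν') (hiso : Iso (⇑R₁) (⇑R₀)) :
    ∃ k : GL (PIdx m) F, k ∈ Cfsg.Geo.quadSimilarityGroup ⇑Q ∧
      h * (entryAct F (PIdx m) σ h)⁻¹ = k * (P * (entryAct F (PIdx m) σ P)⁻¹) * (entryAct F (PIdx m) σ k)⁻¹ := by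
  obtain ⟨g, hg⟩ := hiso
  set c : fixedField σ := ⟨ν', hfix⟩
  have hc : c ≠ 0 := fun e => hν' (congrArg Subtype.val e)
  refine exists_similitude hν hh (R₀ := c • R₀) (fun x => ?_) g.symm (inv_ne_zero hc) fun x => ?_
  · rw [hP, _root_.QuadraticMap.smul_apply, smul_eq_mul, Subfield.coe_mul]
  · have := hg (g.symm x)
    rw [LinearEquiv.apply_symm_apply] at this
    rw [_root_.QuadraticMap.smul_apply, smul_eq_mul, inv_mul_cancel_left₀ hc]
    exact this.symm

theorem fixed_scalar {σ : F ≃+* F} {R : QuadraticForm F (PIdx m → F)}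
    (hR : ∀ x, R (fun i => σ (x i)) = σ (R x)) {ν : F}
    {R₁ : QuadraticForm (fixedField σ) (PIdx m → fixedField σ)} (hnd : (QuadraticMap.polarBilin R₁).Nondegenerate)
    (hm : 1 ≤ m) (hh : ∀ x, R (emb _ x) = ν * ((R₁ x : fixedField σ) : F)) : σ ν = ν := by
  obtain ⟨x, hx⟩ := exists_aniso (Q := R₁) hnd.1 (by simp; omega)
  have h1 := hh x
  have h2 := congrArg σ h1
  rw [← hR, map_emb, map_mul, show σ ((R₁ x : fixedField σ) : F) = (R₁ x : fixedField σ) from (R₁ x).2, h1] at h2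
  exact (mul_right_cancel₀ (fun e => hx (Subtype.ext e)) h2).symm

/-- A rational structure has class sign `1` and is split, or is of minus type of sign `-1`. -/
theorem structure_cases (hQ : ⇑Q = Cfsg.quadFormPlus m F) (hB : Nondeg Q) (hm : 1 ≤ m) {σ : F ≃+* F} {r : ℕ}
    (hr : r.Prime) (hσ : orderOf σ = r) {h : GL (PIdx m) F} {ν : F} (hν : ν ≠ 0)
    {R₁ : QuadraticForm (fixedField σ) (PIdx m → fixedField σ)} (hnd : (QuadraticMap.polarBilin R₁).Nondegenerate)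
    (hh : ∀ x, Q ((h : Matrix (PIdx m) (PIdx m) F) *ᵥ emb _ x) = ν * ((R₁ x : fixedField σ) : F))
    (hE : h * (entryAct F (PIdx m) σ h)⁻¹ ∈ Cfsg.Geo.quadSimilarityGroup ⇑Q) :
    (chiP hQ hB ⟨_, hE⟩ = 1 ∧ ∃ k ∈ Cfsg.Geo.quadSimilarityGroup ⇑Q,
      h * (entryAct F (PIdx m) σ h)⁻¹ = k * (entryAct F (PIdx m) σ k)⁻¹) ∨
    (r = 2 ∧ chiP hQ hB ⟨_, hE⟩ = -1 ∧ ∀ (v : PIdx m → F) (g : Grp Q), IsRefl v g → (∀ i, σ (v i) = v i) →
      ∃ k ∈ Cfsg.Geo.quadSimilarityGroup ⇑Q,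
        h * (entryAct F (PIdx m) σ h)⁻¹ = k * (g : GL (PIdx m) F) * (entryAct F (PIdx m) σ k)⁻¹) := by
  classical
  let K := fixedField σ
  haveI : Fintype K := Fintype.ofFinite K
  obtain ⟨a₀, b₀, hab₀⟩ := CfsgLib.Classical.RestrictScalars.exists_ab (F := K)
  obtain ⟨Qp, hQp, hBp⟩ := exists_quadForm_plus (F := K) m
  have hd : Module.finrank K (PIdx m → K) = 2 * m := by simp; omega
  have hsplit : ∀ {h : GL (PIdx m) F} {ν : F} {R₁ : QuadraticForm K (PIdx m → K)}, ν ≠ 0 →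
      (∀ x, Q ((h : Matrix (PIdx m) (PIdx m) F) *ᵥ emb _ x) = ν * ((R₁ x : K) : F)) →
      Iso (⇑R₁) (Cfsg.quadFormPlus m K) → ∃ k ∈ Cfsg.Geo.quadSimilarityGroup ⇑Q,
        h * (entryAct F (PIdx m) σ h)⁻¹ = k * (entryAct F (PIdx m) σ k)⁻¹ := by
    intro h ν R₁ hν hh hiso
    obtain ⟨k, hk, hk'⟩ := similitude_of_iso (P := 1) hν one_ne_zero hh (R₀ := Qp) (fun x => by
      rw [Units.val_one, one_mulVec, one_mul, hQ, hQp]
      exact plus_emb K.subtype x) (map_one σ) (hQp ▸ hiso)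
    exact ⟨k, hk, by rw [hk', map_one, inv_one, mul_one, mul_one]⟩
  rcases CfsgLib.Classical.OrthModels.classify_even R₁ hnd hd a₀ b₀ hab₀ with hplus | ⟨j, hj, hminus⟩
  · left
    obtain ⟨k, hk, hk'⟩ := hsplit hν hh hplus
    refine ⟨?_, k, hk, hk'⟩
    rw [chi_coboundary hQ hB σ hE (one_mem _) hk (by rw [hk', mul_one])]
    exact map_one (chiP hQ hB)
  right
  have hr2 : r = 2 := by
    by_contra hne
    have hab : ∀ z₁ z₂ : F, z₁ ^ 2 + (a₀ : F) * z₁ * z₂ + (b₀ : F) * z₂ ^ 2 = 0 → z₁ = 0 ∧ z₂ = 0 :=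
      aniso_odd_ext (hr.odd_of_ne_two hne) hσ a₀.2 b₀.2 fun z₁ z₂ h1 h2 hz => by
        obtain ⟨e1, e2⟩ := hab₀ ⟨z₁, h1⟩ ⟨z₂, h2⟩ (Subtype.ext (by push_cast; exact hz))
        exact ⟨congrArg Subtype.val e1, congrArg Subtype.val e2⟩
    obtain ⟨g, hg⟩ := hminus
    let b := (Pi.basisFun K (PIdx m)).map g
    let T : Matrix ((Fin j ⊕ Fin j) ⊕ Fin 2) (PIdx m) F := fun s i => ((b i s : K) : F)
    have hTx : ∀ x : PIdx m → K, T *ᵥ emb K x = fun s => ((g x s : K) : F) := fun x => funext fun s => by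
      have hx : g x s = ∑ i, x i * b i s := by
        conv_lhs => rw [pi_eq_sum_univ' x, map_sum, Finset.sum_apply]
        refine Finset.sum_congr rfl fun i _ => ?_
        rw [map_smul]
        simp [b]
      show ∑ i, T s i * emb K x i = _
      rw [hx, AddSubmonoidClass.coe_finset_sum]
      exact Finset.sum_congr rfl fun i _ => by simp [T, emb, mul_comm]
    obtain ⟨Qm, hQm, hBm⟩ := exists_quadForm_minus (F := F) j hab
    have key : pull Q (h : Matrix (PIdx m) (PIdx m) F) = ν • Qm.comp T.mulVecLin := ext_emb K fun x => by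
      rw [pull_apply, hh, _root_.QuadraticMap.smul_apply, smul_eq_mul]
      refine congrArg (ν * ·) ?_
      show _ = Qm (T *ᵥ emb K x)
      rw [hTx, hQm, ← hg x]
      simp [Cfsg.quadFormMinus]
    have hTinj : Function.Injective T.mulVecLin := by
      rw [← LinearMap.ker_eq_bot, Submodule.eq_bot_iff]
      intro w hw
      rw [LinearMap.mem_ker] at hw
      refine nondeg_pull hB h w fun z => ?_
      show QuadraticMap.polar (⇑(pull Q (h : Matrix (PIdx m) (PIdx m) F))) w z = 0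
      rw [key]
      simp only [QuadraticMap.polar, _root_.QuadraticMap.smul_apply, QuadraticMap.comp_apply, map_add, hw, zero_add,
        QuadraticMap.map_zero, smul_eq_mul]
      ring
    let U₀ := stdHalf m F
    have hU := isHalf_std hQ
    let U := U₀.map ((h⁻¹ : GL (PIdx m) F) : Matrix (PIdx m) (PIdx m) F).mulVecLin
    let W := U.map T.mulVecLin
    have hW : ∀ x ∈ W, Cfsg.quadFormMinus j F (a₀ : F) (b₀ : F) x = 0 := by
      rintro _ ⟨_, ⟨u, hu, rfl⟩, rfl⟩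
      have hz := DFunLike.congr_fun key (((h⁻¹ : GL (PIdx m) F) : Matrix (PIdx m) (PIdx m) F).mulVecLin u)
      rw [pull_apply, Matrix.mulVecLin_apply, mulVec_mulVec, Units.mul_inv, one_mulVec, hU.1 u hu,
        _root_.QuadraticMap.smul_apply, smul_eq_mul] at hz
      rw [← hQm]
      exact (mul_eq_zero.1 hz.symm).resolve_left hν
    have h1 := minus_singular_le j hab W hW
    have hinvinj : Function.Injective ((h⁻¹ : GL (PIdx m) F) : Matrix (PIdx m) (PIdx m) F).mulVecLin := fun x y e => by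
      simpa [mulVec_mulVec] using congrArg ((h : Matrix (PIdx m) (PIdx m) F) *ᵥ ·) e
    rw [← (Submodule.equivMapOfInjective _ hTinj U).finrank_eq,
      ← (Submodule.equivMapOfInjective _ hinvinj U₀).finrank_eq] at h1
    have h2 := hU.2
    simp only [Module.finrank_fintype_fun_eq_card, Fintype.card_sum, Fintype.card_fin] at h2
    simp only [U₀] at h1
    omega
  subst hr2
  have main : ∀ (v : PIdx m → F) (g : Grp Q), IsRefl v g → (∀ i, σ (v i) = v i) →
      ∃ k ∈ Cfsg.Geo.quadSimilarityGroup ⇑Q,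
        h * (entryAct F (PIdx m) σ h)⁻¹ = k * (g : GL (PIdx m) F) * (entryAct F (PIdx m) σ k)⁻¹ := by
    intro v g hg hv
    obtain ⟨P, hP, hPσ⟩ := exists_refl_structure hQ hσ hg hv
    obtain ⟨ν', R', hν', hnd', hh'⟩ := exists_rational_form (σ := σ) (R := pull Q (P : Matrix (PIdx m) (PIdx m) F))
      (nondeg_pull hB P) (by simp; omega) (μ := 1) fun x => by
        rw [one_mul, pull_apply, pull_apply, hPσ]
    have hfix : σ ν' = ν' := fixed_scalar (R := pull Q (P : Matrix (PIdx m) (PIdx m) F))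
      (fun x => by rw [pull_apply, pull_apply, hPσ]) hnd' hm hh'
    rcases CfsgLib.Classical.OrthModels.classify_even R' hnd' hd a₀ b₀ hab₀ with hplus | ⟨j', hj', hminus'⟩
    · exfalso
      obtain ⟨k, hk, hk'⟩ := hsplit hν' (h := P) (fun x => hh' x) hplus
      rw [hP] at hk'
      have h1 := chi_coboundary hQ hB σ (isometry_le_sim g.2) (one_mem _) hk (by rw [hk', mul_one])
      rw [chiP_refl hQ hB hg, show (⟨1, one_mem _⟩ : Cfsg.Geo.quadSimilarityGroup ⇑Q) = 1 from rfl, map_one] at h1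
      exact absurd h1 (by decide)
    · obtain rfl : j = j' := by omega
      obtain ⟨k, hk, hk'⟩ := similitude_of_iso (P := P) hν hν' hh (fun x => hh' x) hfix (hminus.trans hminus'.symm)
      exact ⟨k, hk, by rw [hk', hP]⟩
  refine ⟨rfl, ?_, main⟩
  obtain ⟨v, g, hg, hv⟩ := exists_refl_rat hQ hB hm
  obtain ⟨k, hk, hk'⟩ := main v g hg (hv σ)
  rw [chi_coboundary hQ hB σ hE (isometry_le_sim g.2) hk hk', chiP_refl hQ hB hg]

end CfsgLib.OrthAut
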