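import Cfsg.Agent.Lib.OrthAut.Orbit

/-!
Every automorphism of `PΩ(Q)` permutes the singular points, with their Siegel groups and orthogonality.
-/

set_option autoImplicit false
set_option linter.unusedSectionVars false
set_option linter.style.haveILetI false

namespace CfsgLib.OrthAut

open Matrix CfsgLib.Orth

variable {F : Type*} [Field F] [Finite F] {ι : Type} [Fintype ι] [DecidableEq ι]
variable {Q : QuadraticForm F (ι → F)} (hB : Nondeg Q)

local notation "B" => QuadraticMap.polar (DFunLike.coe Q)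
local notation "Ω" => Cfsg.Omega F (DFunLike.coe Q)

attribute [local instance] subAct

/-- The action of `Ω` on vectors. -/
@[implicit_reducible]
def vecAct (Q : QuadraticForm F (ι → F)) : MulAction (Cfsg.Omega F ⇑Q) (ι → F) where
  smul g x := ap (g : Grp Q) x
  one_smul x := ap_one x
  mul_smul g h x := ap_mul (g : Grp Q) h x

attribute [local instance] vecAct

/-- The projection of `Ω` onto `PΩ`. -/
abbrev prj (Q : QuadraticForm F (ι → F)) : Cfsg.Omega F ⇑Q →* Cfsg.POmega F ⇑Q :=
  QuotientGroup.mk' (Subgroup.center (Cfsg.Omega F ⇑Q))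

theorem prj_surjective : Function.Surjective (prj Q) := QuotientGroup.mk'_surjective _

theorem prj_ker : (prj Q).ker = Subgroup.center Ω := QuotientGroup.ker_mk' _

/-- The subgroups of `PΩ` attached to a point. -/
def ppstab (Q : QuadraticForm F (ι → F)) (u : ι → F) : Subgroup (Cfsg.POmega F ⇑Q) :=
  (pstab Q u).map (prj Q)

/-- The image of a Siegel group in `PΩ`. -/
def psieg (Q : QuadraticForm F (ι → F)) {u : ι → F} (hu : Q u = 0) : Subgroup (Cfsg.POmega F ⇑Q) :=
  (sieg Q hu).map (prj Q)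

/-- The hypotheses under which there is no exceptional automorphism. -/
structure Good (Q : QuadraticForm F (ι → F)) : Prop where
  nondeg : Nondeg Q
  dim : 7 ≤ Module.finrank F (ι → F)
  eight : Module.finrank F (ι → F) = 8 →
    ∀ R : Submodule F (ι → F), (∀ x ∈ R, Q x = 0) → Module.finrank F R < 4
  seven : Module.finrank F (ι → F) = 7 → 3 ≤ Nat.card F

theorem Good.five (h : Good Q) : 5 ≤ Module.finrank F (ι → F) := le_trans (by norm_num) h.dim

/-- The hypotheses under which the linear part acts faithfully. -/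
structure Fine (Q : QuadraticForm F (ι → F)) : Prop where
  nondeg : Nondeg Q
  five : 5 ≤ Module.finrank F (ι → F)

theorem Good.fine (h : Good Q) : Fine Q := ⟨h.nondeg, h.five⟩

instance : CoeOut (Good Q) (Fine Q) := ⟨Good.fine⟩

include hB in
theorem center_mul_self (hn : 5 ≤ Module.finrank F (ι → F)) {z : Ω} (hz : z ∈ Subgroup.center Ω) :
    z * z = 1 ∧ (∀ p : ℕ, CharP F p → p = 2 → z = 1) := by
  obtain ⟨a, ha⟩ := center_scalar hB hn hz
  obtain ⟨v, hv⟩ : ∃ v, Q v ≠ 0 := by
    by_contra hc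
    push Not at hc
    obtain ⟨u, -, hu0⟩ := exists_nonzero_singular (Q := Q) hn
    exact hu0 (hB u fun y => by simp [QuadraticMap.polar, hc])
  have h1 : a * a = 1 := by
    have h := ap_q (z : Grp Q) v
    rw [ha, q_smul] at h
    apply mul_right_cancel₀ hv
    rw [one_mul]
    linear_combination h
  refine ⟨Subtype.ext (ext_ap fun x => ?_), fun p hp h2 => Subtype.ext (ext_ap fun x => ?_)⟩
  · show ap ((z : Grp Q) * (z : Grp Q)) x = ap 1 x
    rw [ap_mul, ha, ha, smul_smul, h1, one_smul, ap_one]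
  · subst h2
    show ap (z : Grp Q) x = ap 1 x
    have : (a - 1) * (a - 1) = 0 := by
      have h2 : (2 : F) = 0 := by exact_mod_cast CharP.cast_eq_zero F 2
      linear_combination h1 + (1 - a) * h2
    rw [ha, sub_eq_zero.1 (mul_self_eq_zero.1 this), one_smul, ap_one]

theorem exists_card_eq_pow (p : ℕ) [CharP F p] : ∃ k, k ≠ 0 ∧ Nat.card F = p ^ k := by
  cases nonempty_fintype F
  obtain ⟨k, -, hk⟩ := FiniteField.card F p
  exact ⟨k, k.ne_zero, by rw [Nat.card_eq_fintype_card, hk]⟩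

/-! ### Counting singular points -/

include hB in
theorem card_orbit_point_eq_index (hn : 5 ≤ Module.finrank F (ι → F)) {u w : ι → F} (hu : Q u = 0)
    (hu0 : u ≠ 0) (hw : Q w = 0) (hw0 : w ≠ 0) :
    (pstab Q w).index = Nat.card (MulAction.orbit Ω (Submodule.span F ({u} : Set (ι → F)))) := by
  obtain ⟨g, hg⟩ := exists_move hB hn hu hw hu0 hw0
  rw [pstab_eq_stabilizer, MulAction.index_stabilizer, ← hg, ← smul_span, MulAction.orbit_smul,
    Nat.card_coe_set_eq]

include hB in
/-- The number of singular points is small. -/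
theorem card_orbit_point_lt (hn : 5 ≤ Module.finrank F (ι → F)) {u : ι → F} (hu : Q u = 0)
    (hu0 : u ≠ 0) :
    Nat.card (MulAction.orbit Ω (Submodule.span F ({u} : Set (ι → F)))) <
        Nat.card F ^ Module.finrank F (ι → F) ∧
      (3 ≤ Nat.card F → Nat.card (MulAction.orbit Ω (Submodule.span F ({u} : Set (ι → F)))) <
        Nat.card F ^ (Module.finrank F (ι → F) - 1)) := by
  classical
  set O := MulAction.orbit Ω (Submodule.span F ({u} : Set (ι → F))) with hO
  have hrep : ∀ L : O, ∃ x, Q x = 0 ∧ x ≠ 0 ∧ (L : Submodule F (ι → F)) = Submodule.span F {x} := by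
    rintro ⟨L, g, rfl⟩
    exact ⟨ap (g : Grp Q) u, by rw [ap_q, hu], fun e => hu0 (ap_inj (g : Grp Q) (by rw [e, ap_zero])),
      smul_span g u⟩
  choose r hr hr0 hrL using hrep
  let φ : O × Fˣ → {x : ι → F // Q x = 0 ∧ x ≠ 0} := fun p =>
    ⟨(p.2 : F) • r p.1, by rw [q_smul, hr, mul_zero], smul_ne_zero p.2.ne_zero (hr0 _)⟩
  have hφ : Function.Injective φ := fun p p' h => by
    have h' : (p.2 : F) • r p.1 = (p'.2 : F) • r p'.1 := congrArg Subtype.val h
    have h1 : p.1 = p'.1 := Subtype.ext (by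
      rw [hrL, hrL, ← Submodule.span_singleton_smul_eq p.2.isUnit, h',
        Submodule.span_singleton_smul_eq p'.2.isUnit])
    rw [h1] at h'
    exact Prod.ext h1 (Units.ext (smul_left_injective F (hr0 _) h'))
  have hle := Nat.card_le_card_of_injective φ hφ
  rw [Nat.card_prod] at hle
  have hunits : Nat.card Fˣ + 1 = Nat.card F := by
    rw [Nat.card_units]; have := Finite.one_lt_card (α := F); omega
  refine ⟨?_, fun hq => ?_⟩
  · have h1 : Nat.card {x : ι → F // Q x = 0 ∧ x ≠ 0} < Nat.card (ι → F) :=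
      Finite.card_subtype_lt (x := (0 : ι → F)) (fun h => h.2 rfl)
    rw [Module.natCard_eq_pow_finrank (K := F) (V := ι → F)] at h1
    have h2 : Nat.card O ≤ Nat.card O * Nat.card Fˣ := Nat.le_mul_of_pos_right _ Nat.card_pos
    omega
  · obtain ⟨v, hv⟩ : ∃ v, Q v ≠ 0 := by
      by_contra hc
      push Not at hc
      exact hu0 (hB u fun y => by simp [QuadraticMap.polar, hc])
    have hv0 : v ≠ 0 := fun e => hv (by rw [e, map_zero])
    cases nonempty_fintype F
    let L := Submodule.span F ({v} : Set (ι → F))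
    let s : Finset (ι → F) := Finset.univ.filter fun x => Q x = 0
    have hfib : ∀ b ∈ s.image L.mkQ, (s.filter fun x => L.mkQ x = b).card ≤ 2 := by
      intro b hb
      obtain ⟨y, hy, rfl⟩ := Finset.mem_image.1 hb
      have hy' : Q y = 0 := (Finset.mem_filter.1 hy).2
      refine le_trans (Finset.card_le_card (t := {y, y + (-(B y v) / Q v) • v}) fun x hx => ?_)
        Finset.card_le_two
      obtain ⟨hx, hxy⟩ := Finset.mem_filter.1 hx
      obtain ⟨t, ht⟩ := Submodule.mem_span_singleton.1 ((Submodule.Quotient.eq L).1 hxy)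
      have hx' : x = y + t • v := by rw [ht]; abel
      have h0 := (Finset.mem_filter.1 hx).2
      rw [hx', q_add, hy', q_smul, b_smul_right, zero_add] at h0
      have h1 : t * (B y v + t * Q v) = 0 := by linear_combination h0
      rcases mul_eq_zero.1 h1 with e | e
      · simp [hx', e]
      · refine Finset.mem_insert_of_mem (Finset.mem_singleton.2 ?_)
        rw [hx', show t = -(B y v) / Q v by rw [eq_div_iff hv]; linear_combination e]
    have h1 := Finset.card_le_mul_card_image s 2 hfib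
    have h2 : (s.image L.mkQ).card ≤ Nat.card F ^ (Module.finrank F (ι → F) - 1) := by
      refine (Finset.card_le_univ _).trans_eq ?_
      rw [← Nat.card_eq_fintype_card, Module.natCard_eq_pow_finrank (K := F)]
      congr 1
      have := L.finrank_quotient_add_finrank
      rw [finrank_span_singleton hv0] at this
      omega
    have h3 : Nat.card {x : ι → F // Q x = 0 ∧ x ≠ 0} < s.card := by
      rw [Nat.card_eq_fintype_card, Fintype.card_subtype]
      refine Finset.card_lt_card ((Finset.ssubset_iff_of_subset fun x hx => ?_).2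
        ⟨0, by simp [s], by simp⟩)
      exact Finset.mem_filter.2 ⟨Finset.mem_univ _, (Finset.mem_filter.1 hx).2.1⟩
    have h4 : Nat.card O * 2 ≤ Nat.card O * Nat.card Fˣ := Nat.mul_le_mul_left _ (by omega)
    omega

/-! ### The image of a point -/

section Image

variable (β : MulAut (Cfsg.POmega F ⇑Q))

/-- The full preimage of the image of a subgroup under an automorphism of `PΩ`. -/
def img (H : Subgroup Ω) : Subgroup Ω :=
  ((H.map (prj Q)).map (β : Cfsg.POmega F ⇑Q ≃* Cfsg.POmega F ⇑Q).toMonoidHom).comap (prj Q)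

theorem mem_img {H : Subgroup Ω} {g : Ω} :
    g ∈ img β H ↔ ∃ h ∈ H, β (prj Q h) = prj Q g := by
  simp [img, Subgroup.mem_map]

theorem index_img {H : Subgroup Ω} (hH : Subgroup.center Ω ≤ H) : (img β H).index = H.index := by
  rw [img, Subgroup.index_comap_of_surjective _ prj_surjective,
    Subgroup.index_map_of_bijective (EquivLike.bijective β),
    Subgroup.index_map_eq _ prj_surjective (prj_ker.le.trans hH)]

include hB in
/-- Lift of the image of a Siegel group. -/
theorem exists_lift (p : ℕ) [Fact p.Prime] [CharP F p] (hn : 5 ≤ Module.finrank F (ι → F))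
    {u : ι → F} (hu : Q u = 0) (hu0 : u ≠ 0) :
    ∃ S : Subgroup Ω, IsPGroup p S ∧ Nat.card S = Nat.card (sieg Q hu) ∧
      S.map (prj Q) = (psieg Q hu).map (β : Cfsg.POmega F ⇑Q ≃* Cfsg.POmega F ⇑Q).toMonoidHom ∧
      ∀ g ∈ img β (pstab Q u), ∀ s ∈ S, g * s * g⁻¹ ∈ S := by
  have hp : p.Prime := Fact.out
  set T := img β (sieg Q hu) with hT
  have hTp : ∀ x ∈ T, x ^ p ∈ Subgroup.center Ω := fun x hx => by
    obtain ⟨h, hh, he⟩ := (mem_img β).1 hx
    rw [← prj_ker, MonoidHom.mem_ker, map_pow, ← he, ← map_pow, ← map_pow, sieg_pow_char hu p hh,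
      map_one, map_one]
  have hcz : ∀ c ∈ Subgroup.center Ω, c ^ p = 1 → c = 1 := fun c hc hcp => by
    rcases hp.eq_two_or_odd' with h2 | hodd
    · exact (center_mul_self hB hn hc).2 p inferInstance h2
    · obtain ⟨k, rfl⟩ := hodd
      rwa [pow_succ, pow_mul, sq, (center_mul_self hB hn hc).1, one_pow, one_mul] at hcp
  have hcomm : ∀ x ∈ T, ∀ y ∈ T, x * y = y * x := fun x hx y hy => by
    obtain ⟨h, hh, he⟩ := (mem_img β).1 hx
    obtain ⟨k, hk, hke⟩ := (mem_img β).1 hy
    obtain ⟨v, hv⟩ := hh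
    obtain ⟨w, hw⟩ := hk
    have hhk : h * k = k * h := by
      have h1 : IsSiegel u (v + w) ((h * k : Ω) : Grp Q) := siegel_mul hv hw
      have h2 : IsSiegel u (w + v) ((k * h : Ω) : Grp Q) := siegel_mul hw hv
      rw [add_comm w v] at h2
      exact Subtype.ext (siegel_unique h1 h2)
    set c := x * y * x⁻¹ * y⁻¹ with hc_def
    have hc : c ∈ Subgroup.center Ω := by
      have hxy : prj Q x * prj Q y = prj Q y * prj Q x := by
        rw [← he, ← hke, ← map_mul, ← map_mul, ← map_mul, ← map_mul, hhk]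
      rw [← prj_ker, MonoidHom.mem_ker, hc_def, map_mul, map_mul, map_mul, map_inv, map_inv, hxy]
      group
    have hxy : x * y * x⁻¹ = c * y := by rw [hc_def]; group
    have hcc : Commute c x := (Subgroup.mem_center_iff.1 hc x).symm
    have hiter : ∀ i : ℕ, x ^ i * y * (x ^ i)⁻¹ = c ^ i * y := by
      intro i
      induction i with
      | zero => simp
      | succ i ih =>
        calc x ^ (i + 1) * y * (x ^ (i + 1))⁻¹ = x * (x ^ i * y * (x ^ i)⁻¹) * x⁻¹ := by
              rw [pow_succ']; group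
          _ = x * c ^ i * y * x⁻¹ := by rw [ih]; group
          _ = c ^ i * (x * y * x⁻¹) := by rw [← (hcc.pow_left i).eq]; group
          _ = c ^ (i + 1) * y := by rw [hxy, ← mul_assoc, ← pow_succ]
    have h1 := hiter p
    rw [← Subgroup.mem_center_iff.1 (hTp x hx) y, mul_assoc, mul_inv_cancel, mul_one,
      right_eq_mul] at h1
    rw [hcz c hc h1, one_mul] at hxy
    exact mul_inv_eq_iff_eq_mul.1 hxy
  let S : Subgroup Ω :=
    { carrier := {s | s ∈ T ∧ s ^ p = 1}
      mul_mem' := fun {a b} ha hb => ⟨T.mul_mem ha.1 hb.1, by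
        rw [(show Commute a b from hcomm a ha.1 b hb.1).mul_pow, ha.2, hb.2, one_mul]⟩
      one_mem' := ⟨T.one_mem, one_pow p⟩
      inv_mem' := fun {a} ha => ⟨T.inv_mem ha.1, by rw [inv_pow, ha.2, inv_one]⟩ }
  have hmap : S.map (prj Q) = (psieg Q hu).map (β : Cfsg.POmega F ⇑Q ≃* Cfsg.POmega F ⇑Q).toMonoidHom := by
    refine le_antisymm (Subgroup.map_le_iff_le_comap.2 fun s hs => hs.1) fun y hy => ?_
    obtain ⟨x, rfl⟩ := prj_surjective y
    have hx : x ∈ T := hy
    obtain ⟨h, hh, he⟩ := (mem_img β).1 hx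
    refine ⟨x ^ (p + 1), ⟨T.pow_mem hx _, ?_⟩, ?_⟩
    · rcases hp.eq_two_or_odd' with h2 | ⟨k, hk⟩
      · rw [← pow_mul, mul_comm, pow_mul,
          (center_mul_self hB hn (hTp x hx)).2 p inferInstance h2, one_pow]
      · rw [← pow_mul, mul_comm, pow_mul, show p + 1 = 2 * (k + 1) by omega, pow_mul, sq,
          (center_mul_self hB hn (hTp x hx)).1, one_pow]
    · rw [map_pow, pow_succ, ← map_pow, show prj Q (x ^ p) = 1 from
        MonoidHom.mem_ker.1 (prj_ker.ge (hTp x hx)), one_mul]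
  refine ⟨S, fun s => ⟨1, by rw [pow_one]; exact Subtype.ext s.2.2⟩, ?_, hmap, ?_⟩
  · have hinjS : Set.InjOn (prj Q) S := fun a ha b hb h => by
      have hab : a⁻¹ * b ∈ Subgroup.center Ω := by
        rw [← prj_ker, MonoidHom.mem_ker, map_mul, map_inv, h, inv_mul_cancel]
      exact inv_mul_eq_one.1 (hcz _ hab (S.mul_mem (S.inv_mem ha) hb).2)
    have hinjU : Set.InjOn (prj Q) (sieg Q hu) := fun a ha b hb h => by
      have hab : a⁻¹ * b ∈ Subgroup.center Ω := by
        rw [← prj_ker, MonoidHom.mem_ker, map_mul, map_inv, h, inv_mul_cancel]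
      exact inv_mul_eq_one.1 (sieg_inf_center hB hn hu hu0 ((sieg Q hu).mul_mem ((sieg Q hu).inv_mem ha) hb) hab)
    calc Nat.card S = Nat.card (S.map (prj Q)) :=
          (Nat.card_image_of_injOn hinjS).symm.trans (by rfl)
      _ = Nat.card ((psieg Q hu).map (β : Cfsg.POmega F ⇑Q ≃* Cfsg.POmega F ⇑Q).toMonoidHom) := by rw [hmap]
      _ = Nat.card (psieg Q hu) := (Nat.card_congr
          ((psieg Q hu).equivMapOfInjective _ (EquivLike.injective β)).toEquiv).symm
      _ = Nat.card (sieg Q hu) := (Nat.card_image_of_injOn hinjU)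
  · rintro g hg s ⟨hs, hsp⟩
    refine ⟨?_, by rw [conj_pow, hsp, mul_one, mul_inv_cancel]⟩
    obtain ⟨a, ha, hae⟩ := (mem_img β).1 hg
    obtain ⟨b, hb, hbe⟩ := (mem_img β).1 hs
    exact (mem_img β).2 ⟨a * b * a⁻¹, sieg_normal hu hu0 ha hb, by
      simp only [map_mul, map_inv, hae, hbe]⟩

include hB in
/-- A normal `p`-subgroup of a point stabiliser lies in the Siegel group. -/
theorem le_sieg_of_normal (p : ℕ) [Fact p.Prime] [CharP F p] (hn : 7 ≤ Module.finrank F (ι → F))
    {w : ι → F} (hw : Q w = 0) (hw0 : w ≠ 0) {S : Subgroup Ω} (hS : IsPGroup p S)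
    (hSw : ∀ s ∈ S, ap (s : Grp Q) w = w) (hN : ∀ g ∈ pstab Q w, ∀ s ∈ S, g * s * g⁻¹ ∈ S) :
    S ≤ sieg Q hw := by
  obtain ⟨f, hf, hwf⟩ := exists_partner hB hw hw0
  set L := Submodule.span F ({w} : Set (ι → F)) with hL
  let X : Submodule F (ι → F) :=
    { carrier := {x | B w x = 0 ∧ ∀ s ∈ S, ap (s : Grp Q) x - x ∈ L}
      add_mem' := fun {a b} ha hb => ⟨by rw [b_add_right, ha.1, hb.1, add_zero], fun s hs => by
        rw [ap_add, show ap (s : Grp Q) a + ap (s : Grp Q) b - (a + b) =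
          (ap (s : Grp Q) a - a) + (ap (s : Grp Q) b - b) by abel]
        exact add_mem (ha.2 s hs) (hb.2 s hs)⟩
      zero_mem' := ⟨b_zero_right _, fun s _ => by rw [ap_zero, sub_zero]; exact L.zero_mem⟩
      smul_mem' := fun c {a} ha => ⟨by rw [b_smul_right, ha.1, mul_zero], fun s hs => by
        rw [ap_smul, ← _root_.smul_sub]
        exact L.smul_mem c (ha.2 s hs)⟩ }
  have hLmem : ∀ (g : Ω), g ∈ pstab Q w → ∀ y ∈ L, ap (g : Grp Q) y ∈ L := fun g hg y hy => by
    obtain ⟨c, rfl⟩ := Submodule.mem_span_singleton.1 hy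
    rw [ap_smul]
    exact L.smul_mem c (mem_pstab.1 hg)
  have hwX : w ∈ X := ⟨b_self_zero hw, fun s hs => by rw [hSw s hs, sub_self]; exact L.zero_mem⟩
  have hinv : ∀ g ∈ pstab Q w, ∀ x ∈ X, ap (g : Grp Q) x ∈ X := by
    rintro g hg x ⟨hx1, hx2⟩
    obtain ⟨a, ha0, ha⟩ := exists_scalar_of_mem_pstab hg hw0
    refine ⟨?_, fun s hs => ?_⟩
    · have h1 := ap_b (g : Grp Q) w x
      rw [ha, b_smul_left, hx1] at h1
      exact (mul_eq_zero.1 h1).resolve_left ha0
    · have hs' : g⁻¹ * s * g ∈ S := by simpa using hN g⁻¹ ((pstab Q w).inv_mem hg) s hs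
      have h1 := hLmem g hg _ (hx2 _ hs')
      rw [ap_sub, ← ap_mul, show (g : Grp Q) * ((g⁻¹ * s * g : Ω) : Grp Q) = (s : Grp Q) * g by
        rw [Subgroup.coe_mul, Subgroup.coe_mul, Subgroup.coe_inv]; group, ap_mul] at h1
      exact h1
  -- `X` is bigger than `L`
  have hbig : ∃ x ∈ X, x ∉ L := by
    have hLS : ∀ s ∈ S, ∀ y ∈ L, ap (s : Grp Q) y = y := fun s hs y hy => by
      obtain ⟨c, rfl⟩ := Submodule.mem_span_singleton.1 hy
      rw [ap_smul, hSw s hs]
    let M := (orth Q L).map L.mkQ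
    haveI : Finite ((ι → F) ⧸ L) := Finite.of_surjective L.mkQ L.mkQ_surjective
    have hperp : ∀ x, x ∈ orth Q L ↔ B w x = 0 := fun x => by rw [hL, mem_orth_span]; simp
    have hw' : ∀ s ∈ S, ∀ x ∈ orth Q L, ap (s : Grp Q) x ∈ orth Q L := fun s hs x hx => by
      rw [hperp] at hx ⊢
      have h1 := ap_b (s : Grp Q) w x
      rw [hSw s hs, hx] at h1
      exact h1
    letI act : MulAction S M :=
      { smul := fun s y => ⟨L.mapQ L (lin s.1) (fun z hz => by
          show ap ((s : Ω) : Grp Q) z ∈ L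
          rw [hLS s s.2 z hz]; exact hz) y.1, by
          obtain ⟨x, hx, hxy⟩ := y.2
          exact ⟨ap ((s : Ω) : Grp Q) x, hw' s s.2 x hx, by rw [← hxy]; rfl⟩⟩
        one_smul := fun y => Subtype.ext (by
          obtain ⟨x, -, hxy⟩ := y.2
          show L.mapQ L _ _ y.1 = y.1
          rw [← hxy]
          show L.mkQ (ap (1 : Grp Q) x) = L.mkQ x
          rw [ap_one])
        mul_smul := fun s t y => Subtype.ext (by
          obtain ⟨x, -, hxy⟩ := y.2
          show L.mapQ L _ _ y.1 = L.mapQ L _ _ (L.mapQ L _ _ y.1)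
          rw [← hxy]
          show L.mkQ (ap (((s : Ω) : Grp Q) * ((t : Ω) : Grp Q)) x) =
            L.mkQ (ap ((s : Ω) : Grp Q) (ap ((t : Ω) : Grp Q) x))
          rw [ap_mul]) }
    have hfix0 : (0 : M) ∈ MulAction.fixedPoints S M := fun s => Subtype.ext (map_zero _)
    have hdvd : p ∣ Nat.card M := by
      obtain ⟨k, hk0, hk⟩ := exists_card_eq_pow (F := F) p
      rw [Module.natCard_eq_pow_finrank (K := F), hk, ← pow_mul]
      refine dvd_pow_self p (Nat.mul_ne_zero hk0 fun h0 => ?_)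
      have h1 := finrank_orth hB L
      have hL1 : Module.finrank F L = 1 := by rw [hL]; exact finrank_span_singleton hw0
      have h3 := LinearMap.finrank_range_add_finrank_ker (L.mkQ.comp (orth Q L).subtype)
      rw [LinearMap.range_comp, Submodule.range_subtype, LinearMap.ker_comp, Submodule.ker_mkQ] at h3
      have h5 : Module.finrank F ↥(Submodule.comap (orth Q L).subtype L) ≤ Module.finrank F L := by
        rw [← Submodule.finrank_map_subtype_eq, Submodule.map_comap_subtype]
        exact Submodule.finrank_mono inf_le_right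
      change Module.finrank F ((orth Q L).map L.mkQ) = 0 at h0
      omega
    obtain ⟨y, hy, hy0⟩ := hS.exists_fixed_point_of_prime_dvd_card_of_fixed_point M hdvd hfix0
    obtain ⟨x, hx, hxy⟩ := y.2
    refine ⟨x, ⟨(hperp x).1 hx, fun s hs => ?_⟩, fun hxL => hy0 (Subtype.ext ?_)⟩
    · have h1 := congrArg Subtype.val (hy ⟨s, hs⟩)
      change L.mapQ L _ _ y.1 = y.1 at h1
      rw [← hxy] at h1
      exact (Submodule.Quotient.eq L).1 h1
    · rw [← hxy]
      exact ((Submodule.Quotient.mk_eq_zero L).2 hxL).symm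
  obtain ⟨x₀, hx₀, hx₀L⟩ := hbig
  -- the Siegel elements in the stabiliser move `X` around
  have hstep : ∀ x ∈ X, ∀ a ∈ par Q w f, ∀ v ∈ par Q w f, Q a = 0 → B a v = 0 →
      B x a • v - B x v • a - (Q v * B x a) • a ∈ X := by
    intro x hx a ha v hv hqa hav
    obtain ⟨g, hg⟩ := exists_siegel_omega hB (by omega) hqa hav
    have hgw : g ∈ pstab Q w := mem_pstab.2 (by
      rw [siegel_fix hg (mem_par.1 ha).1 (mem_par.1 hv).1]
      exact Submodule.mem_span_singleton_self w)
    have h1 := sub_mem (hinv g hgw x hx) hx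
    rw [hg.2.2] at h1
    convert h1 using 1
    abel
  -- singular vectors of the complement span it
  obtain ⟨a₁, b₁, ha₁, hb₁, hab₁, h1, h2, h3, h4⟩ := exists_pair_orth hB hw hf hwf (by omega)
  have hspan : ∀ v ∈ par Q w f, v ∈ Submodule.span F {y | y ∈ par Q w f ∧ Q y = 0} := fun v hv =>
    mem_span_singular_of_pair (mem_par.2 ⟨h1, h3⟩) (mem_par.2 ⟨h2, h4⟩) ha₁ hb₁ hab₁ hv
  have hnd : ∀ x ∈ par Q w f, x ≠ 0 → ∃ a ∈ par Q w f, Q a = 0 ∧ B x a ≠ 0 := by
    intro x hx hx0
    by_contra hc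
    push Not at hc
    refine hx0 (hB x fun y => ?_)
    obtain ⟨z, hz⟩ : ∃ z, z = y - B f y • w - B w y • f := ⟨_, rfl⟩
    have hzP : z ∈ par Q w f := mem_par.2 ⟨by
      rw [hz, b_sub_right, b_sub_right, b_smul_right, b_smul_right, b_self_zero hw, hwf]; ring, by
      rw [hz, b_sub_right, b_sub_right, b_smul_right, b_smul_right, b_self_zero hf, b_comm f w, hwf]
      ring⟩
    have hall : ∀ v ∈ Submodule.span F {y | y ∈ par Q w f ∧ Q y = 0}, B x v = 0 := fun v hv => by
      induction hv using Submodule.span_induction with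
      | mem z hz => exact hc z hz.1 hz.2
      | zero => exact b_zero_right _
      | add c d _ _ hc hd => rw [b_add_right, hc, hd, add_zero]
      | smul c d _ hd => rw [b_smul_right, hd, mul_zero]
    have hy' : y = z + B f y • w + B w y • f := by rw [hz]; abel
    rw [hy', b_add_right, b_add_right, b_smul_right, b_smul_right, hall z (hspan z hzP),
      b_comm x w, b_comm x f, (mem_par.1 hx).1, (mem_par.1 hx).2]
    ring
  -- a singular vector not orthogonal to a member of `X` is in `X`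
  have hsing : ∀ x ∈ X, ∀ a ∈ par Q w f, Q a = 0 → B x a ≠ 0 → a ∈ X := by
    intro x hx a ha hqa hxa
    let N := par Q w f ⊓ LinearMap.ker (QuadraticMap.polarBilin Q a)
    obtain ⟨v, ⟨hv, hav⟩, v', ⟨hv', hav'⟩, hvv'⟩ : ∃ v ∈ N, ∃ v' ∈ N, B v v' ≠ 0 := by
      by_contra hc
      push Not at hc
      have hle : N ≤ orth Q N := fun y hy => mem_orth.2 fun z hz => hc z hz y hy
      have e1 := Submodule.finrank_mono hle
      have e2 := finrank_orth hB N
      have e3 := finrank_par hB hwf hw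
      have e4 := LinearMap.finrank_range_add_finrank_ker
        ((QuadraticMap.polarBilin Q a).comp (par Q w f).subtype)
      have e5 := Submodule.finrank_le
        (LinearMap.range ((QuadraticMap.polarBilin Q a).comp (par Q w f).subtype))
      rw [Module.finrank_self] at e5
      rw [LinearMap.ker_comp, ← Submodule.finrank_map_subtype_eq, Submodule.map_comap_subtype] at e4
      change _ + Module.finrank F N = _ at e4
      omega
    change B a v = 0 at hav
    change B a v' = 0 at hav'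
    have h := sub_mem (sub_mem (hstep x hx a ha (v + v') (add_mem hv hv') hqa
      (by rw [b_add_right, hav, hav', add_zero])) (hstep x hx a ha v hv hqa hav))
      (hstep x hx a ha v' hv' hqa hav')
    have e : B x a • (v + v') - B x (v + v') • a - (Q (v + v') * B x a) • a -
        (B x a • v - B x v • a - (Q v * B x a) • a) -
        (B x a • v' - B x v' • a - (Q v' * B x a) • a) = (-(B v v' * B x a)) • a := by
      rw [q_add, b_add_right]; module
    rw [e] at h
    exact (X.smul_mem_iff (neg_ne_zero.2 (mul_ne_zero hvv' hxa))).1 h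
  have hall : ∀ v ∈ par Q w f, v ∈ X := by
    obtain ⟨x, hxdef⟩ : ∃ x, x = x₀ - B f x₀ • w := ⟨_, rfl⟩
    have hxX : x ∈ X := hxdef ▸ sub_mem hx₀ (X.smul_mem _ hwX)
    have hxP : x ∈ par Q w f := mem_par.2 ⟨hxX.1, by
      rw [hxdef, b_sub_right, b_smul_right, b_comm f w, hwf, mul_one, sub_self]⟩
    have hx0 : x ≠ 0 := fun e => hx₀L (by
      rw [hxdef, sub_eq_zero] at e
      rw [e]; exact L.smul_mem _ (Submodule.mem_span_singleton_self w))
    obtain ⟨a, ha, hqa, hxa⟩ := hnd x hxP hx0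
    have haX := hsing x hxX a ha hqa hxa
    obtain ⟨b, hb, hqb, hab⟩ := hnd a ha (fun e => hxa (by rw [e, b_zero_right]))
    have hbX := hsing a haX b hb hqb hab
    intro v hv
    obtain ⟨z, hz⟩ : ∃ z, z = v - (B b v / B a b) • a := ⟨_, rfl⟩
    have hzP : z ∈ par Q w f := hz ▸ sub_mem hv (Submodule.smul_mem _ _ ha)
    have hbz : B b z = 0 := by
      rw [hz, b_sub_right, b_smul_right, b_comm b a, div_mul_cancel₀ _ hab, sub_self]
    have h := add_mem (hstep a haX b hb z hzP hqb hbz) (X.smul_mem (B a z + Q z * B a b) hbX)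
    have e : B a b • z - B a z • b - (Q z * B a b) • b + (B a z + Q z * B a b) • b = B a b • z := by
      module
    rw [e] at h
    have hzX := (X.smul_mem_iff hab).1 h
    rw [show v = z + (B b v / B a b) • a by rw [hz]; abel]
    exact add_mem hzX (X.smul_mem _ haX)
  intro s hs
  refine mem_sieg_of_trivial hB (by omega) hw hw0 (hSw s hs) fun y hy => ?_
  have hyX : y ∈ X := by
    rw [show y = (y - B f y • w) + B f y • w by abel]
    refine add_mem (hall _ (mem_par.2 ⟨?_, ?_⟩)) (X.smul_mem _ hwX)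
    · rw [b_sub_right, b_smul_right, hy, b_self_zero hw, mul_zero, sub_zero]
    · rw [b_sub_right, b_smul_right, b_comm f w, hwf, mul_one, sub_self]
  exact hyX.2 s hs

end Image

/-- The dimension count excluding singular subspaces of higher dimension. -/
theorem exp_ge {n k : ℕ} (hn : 7 ≤ n) (hk : 2 ≤ k) (h2 : 2 * k ≤ n) (h8 : n = 8 → k < 4) :
    n ≤ k * (n - 2 * k) + Nat.card {p : Fin k × Fin k // p.2 < p.1} ∨
      (n = 7 ∧ n - 1 ≤ k * (n - 2 * k) + Nat.card {p : Fin k × Fin k // p.2 < p.1}) := by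
  have hT : k * (k - 1) = 2 * Nat.card {p : Fin k × Fin k // p.2 < p.1} := by
    rw [← Finset.sum_range_id_mul_two k, mul_comm]
    congr 1
    rw [Nat.card_congr
      { toFun := fun p => (⟨p.1.1, ⟨(p.1.2 : ℕ), p.2⟩⟩ : Σ i : Fin k, Fin (i : ℕ))
        invFun := fun s => ⟨(s.1, ⟨(s.2 : ℕ), s.2.isLt.trans s.1.isLt⟩), s.2.isLt⟩
        left_inv := fun p => rfl
        right_inv := fun s => rfl }, Nat.card_sigma, ← Fin.sum_univ_eq_sum_range]
    simp
  obtain ⟨d, rfl⟩ : ∃ d, n = 2 * k + d := ⟨n - 2 * k, by omega⟩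
  rw [show 2 * k + d - 2 * k = d by omega]
  obtain ⟨j, rfl⟩ : ∃ j, k = j + 2 := ⟨k - 2, by omega⟩
  set T := Nat.card {p : Fin (j + 2) × Fin (j + 2) // p.2 < p.1}
  rw [show j + 2 - 1 = j + 1 by omega] at hT
  rcases lt_or_ge j 5 with hj | hj
  · interval_cases j <;> omega
  · left; nlinarith

theorem orbit_fixed_unique (h : Good Q) (p : ℕ) [Fact p.Prime] [CharP F p] {u v : ι → F}
    (hu : Q u = 0) (hu0 : u ≠ 0) :
    (Nat.card (MulAction.orbit Ω (Submodule.span F ({u} : Set (ι → F)))) ≡ 1 [MOD p]) ∧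
      (Q v ≠ 0 → Nat.card (MulAction.orbit Ω (Submodule.span F ({v} : Set (ι → F)))) ≡ 0 [MOD p]) := by
  have hP : IsPGroup p (sieg Q hu) := fun s => ⟨1, by
    rw [pow_one]; exact Subtype.ext (sieg_pow_char hu p s.2)⟩
  have key : ∀ y : ι → F, y ≠ 0 → ∀ g : Ω,
      (∀ s ∈ sieg Q hu, s • (g • Submodule.span F ({y} : Set (ι → F))) = g • Submodule.span F {y}) →
      ap (g : Grp Q) y ∈ Submodule.span F {u} := fun y _ g hg =>
    mem_span_of_fixed h.nondeg h.five hu hu0 fun s hs => by
      rw [pstab_eq_stabilizer, MulAction.mem_stabilizer_iff, ← smul_span]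
      exact hg s hs
  refine ⟨(hP.card_modEq_card_fixedPoints _).trans ?_,
    fun hv => (hP.card_modEq_card_fixedPoints _).trans ?_⟩
  · suffices Nat.card (MulAction.fixedPoints (sieg Q hu)
        (MulAction.orbit Ω (Submodule.span F ({u} : Set (ι → F))))) = 1 by rw [this]
    refine Nat.card_eq_one_iff_unique.2 ⟨⟨fun a b => ?_⟩, ⟨⟨⟨_, MulAction.mem_orbit_self _⟩, fun s => Subtype.ext ?_⟩⟩⟩
    · have hv' : ∀ c : MulAction.fixedPoints (sieg Q hu)
          (MulAction.orbit Ω (Submodule.span F ({u} : Set (ι → F)))),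
          (c.1 : Submodule F (ι → F)) = Submodule.span F {u} := by
        rintro ⟨⟨L, g, rfl⟩, hc⟩
        have hin := key u hu0 g fun s hs => congrArg Subtype.val (hc ⟨s, hs⟩)
        show g • _ = _
        rw [smul_span]
        obtain ⟨c, hc'⟩ := Submodule.mem_span_singleton.1 hin
        have hc0 : c ≠ 0 := fun e => hu0 (ap_inj (g : Grp Q) (by rw [← hc', e, zero_smul, ap_zero]))
        rw [← hc', Submodule.span_singleton_smul_eq (isUnit_iff_ne_zero.2 hc0)]
      exact Subtype.ext (Subtype.ext ((hv' a).trans (hv' b).symm))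
    · show (s : Ω) • Submodule.span F ({u} : Set (ι → F)) = _
      rw [← MulAction.mem_stabilizer_iff, ← pstab_eq_stabilizer]
      exact sieg_le_pstab hu s.2
  · suffices Nat.card (MulAction.fixedPoints (sieg Q hu)
        (MulAction.orbit Ω (Submodule.span F ({v} : Set (ι → F))))) = 0 by rw [this]
    refine Nat.card_eq_zero.2 (Or.inl ⟨?_⟩)
    rintro ⟨⟨L, g, rfl⟩, hc⟩
    have hin := key v (fun e => hv (by rw [e, map_zero])) g
      fun s hs => congrArg Subtype.val (hc ⟨s, hs⟩)
    obtain ⟨c, hc'⟩ := Submodule.mem_span_singleton.1 hin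
    exact hv (by rw [← ap_q (g : Grp Q), ← hc', q_smul, hu, mul_zero])

/-- An automorphism carries a point stabiliser and its Siegel group to those of a point. -/
theorem exists_image_point (h : Good Q) (β : MulAut (Cfsg.POmega F ⇑Q)) {u : ι → F} (hu : Q u = 0)
    (hu0 : u ≠ 0) : ∃ (w : ι → F) (hw : Q w = 0), w ≠ 0 ∧
      (ppstab Q u).map (β : Cfsg.POmega F ⇑Q ≃* Cfsg.POmega F ⇑Q).toMonoidHom = ppstab Q w ∧
      (psieg Q hu).map (β : Cfsg.POmega F ⇑Q ≃* Cfsg.POmega F ⇑Q).toMonoidHom = psieg Q hw := by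
  classical
  have hB := h.nondeg
  have hn := h.five
  obtain ⟨p, _⟩ := CharP.exists F
  haveI : Fact p.Prime := ⟨CharP.char_is_prime F p⟩
  obtain ⟨k₀, hk₀0, hk₀⟩ := exists_card_eq_pow (F := F) p
  have hZ : ∀ x, Subgroup.center Ω ≤ pstab Q x := center_le_pstab hB hn
  obtain ⟨S, hS, hScard, hSmap, hSN⟩ := exists_lift hB β p hn hu hu0
  set K := img β (pstab Q u) with hK
  set N := Nat.card (MulAction.orbit Ω (Submodule.span F ({u} : Set (ι → F)))) with hN
  have hKN : K.index = N := by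
    rw [hK, index_img β (hZ u), card_orbit_point_eq_index hB hn hu hu0 hu hu0]
  -- `K` preserves the fixed space of `S` and its radical
  let W : Submodule F (ι → F) :=
    { carrier := {x | ∀ s ∈ S, ap (s : Grp Q) x = x}
      add_mem' := fun {a b} ha hb s hs => by rw [ap_add, ha s hs, hb s hs]
      zero_mem' := fun s _ => ap_zero _
      smul_mem' := fun c {a} ha s hs => by rw [ap_smul, ha s hs] }
  let D := W ⊓ orth Q W
  have hWK : ∀ g ∈ K, ∀ x ∈ W, ap (g : Grp Q) x ∈ W := fun g hg x hx s hs => by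
    have hs' : g⁻¹ * s * g ∈ S := by simpa using hSN g⁻¹ (K.inv_mem hg) s hs
    have h1 := congrArg (ap (g : Grp Q)) (hx _ hs')
    rw [← ap_mul, show (g : Grp Q) * ((g⁻¹ * s * g : Ω) : Grp Q) = (s : Grp Q) * g by
        rw [Subgroup.coe_mul, Subgroup.coe_mul, Subgroup.coe_inv]; group, ap_mul] at h1
    exact h1
  have hDK : ∀ g ∈ K, ∀ x ∈ D, ap (g : Grp Q) x ∈ D := fun g hg x hx => by
    refine ⟨hWK g hg x hx.1, mem_orth.2 fun y hy => ?_⟩
    have h1 : ap ((g⁻¹ : Ω) : Grp Q) y ∈ W := hWK g⁻¹ (K.inv_mem hg) y hy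
    rw [← ap_ap_inv (g : Grp Q) y, ap_b]
    exact mem_orth.1 hx.2 _ h1
  have hDB : ∀ x ∈ D, ∀ y ∈ D, B x y = 0 := fun x hx y hy => mem_orth.1 hy.2 x hx.1
  have hD0 : D ≠ ⊥ := by
    intro hD
    have hWbot : orth Q W ≠ ⊥ := by
      intro e
      have e1 := finrank_orth hB W
      rw [e, finrank_bot, add_zero] at e1
      have hW : W = ⊤ := Submodule.eq_top_of_finrank_eq (by omega)
      have hS1 : S = ⊥ := (Subgroup.eq_bot_iff_forall _).2 fun s hs =>
        Subtype.ext (ext_ap fun x => by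
          rw [show ((1 : Ω) : Grp Q) = 1 from rfl, ap_one]
          exact (hW ▸ Submodule.mem_top : x ∈ W) s hs)
      rw [hS1, Subgroup.card_bot, card_sieg hB hn hu hu0] at hScard
      have := Nat.one_lt_pow (a := Nat.card F) (n := Module.finrank F (ι → F) - 2) (by omega)
        Finite.one_lt_card
      omega
    have hinv : ∀ s ∈ S, ∀ x ∈ orth Q W, ap (s : Grp Q) x ∈ orth Q W := fun s hs x hx =>
      mem_orth.2 fun y hy => by
        rw [← hy s hs, ap_b]
        exact mem_orth.1 hx y hy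
    letI act : MulAction S (orth Q W) :=
      { smul := fun s x => ⟨ap ((s : Ω) : Grp Q) x.1, hinv s s.2 x.1 x.2⟩
        one_smul := fun x => Subtype.ext (ap_one _)
        mul_smul := fun s t x => Subtype.ext (ap_mul _ _ _) }
    have hdvd : p ∣ Nat.card (orth Q W) := by
      rw [Module.natCard_eq_pow_finrank (K := F), hk₀, ← pow_mul]
      exact dvd_pow_self p (Nat.mul_ne_zero hk₀0
        (mt Submodule.finrank_eq_zero.1 hWbot))
    obtain ⟨y, hy, hy0⟩ := hS.exists_fixed_point_of_prime_dvd_card_of_fixed_point (orth Q W) hdvd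
      (a := 0) (fun s => Subtype.ext (ap_zero _))
    have : (y : ι → F) ∈ D := ⟨fun s hs => congrArg Subtype.val (hy ⟨s, hs⟩), y.2⟩
    rw [hD, Submodule.mem_bot] at this
    exact hy0 (Subtype.ext this.symm)
  let R : Submodule F (ι → F) :=
    { carrier := {x | x ∈ D ∧ Q x = 0}
      add_mem' := fun {a b} ha hb => ⟨D.add_mem ha.1 hb.1, by
        rw [q_add, ha.2, hb.2, hDB a ha.1 b hb.1, add_zero, add_zero]⟩
      zero_mem' := ⟨D.zero_mem, map_zero Q⟩
      smul_mem' := fun c {a} ha => ⟨D.smul_mem c ha.1, by rw [q_smul, ha.2, mul_zero]⟩ }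
  have hRq : ∀ x ∈ R, Q x = 0 := fun x hx => hx.2
  have hRK : K ≤ MulAction.stabilizer Ω R := fun g hg => mem_stabilizer_sub.2 fun x hx =>
    ⟨hDK g hg x hx.1, by rw [ap_q]; exact hx.2⟩
  have hdvdR : Nat.card (MulAction.orbit Ω R) ∣ N := by
    rw [← hKN, Nat.card_coe_set_eq, ← MulAction.index_stabilizer]
    exact Subgroup.index_dvd_of_le hRK
  have hNpos : 0 < N := by rw [← hKN]; exact Nat.pos_of_ne_zero Subgroup.index_ne_zero_of_finite
  -- the singular radical is nonzero
  have hR0 : R ≠ ⊥ := by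
    intro hR
    obtain ⟨v, hvD, hv0⟩ := Submodule.exists_mem_ne_zero_of_ne_bot hD0
    have hqv : Q v ≠ 0 := fun e => hv0 (by
      have : v ∈ R := ⟨hvD, e⟩
      rwa [hR, Submodule.mem_bot] at this)
    have h2 : (2 : F) = 0 := by
      have e := hDB v hvD v hvD
      rw [b_self] at e
      exact (mul_eq_zero.1 e).resolve_right hqv
    have hK' : K ≤ pstab Q v := fun g hg => by
      refine mem_pstab.2 ?_
      have hd := hDK g hg v hvD
      obtain ⟨z, hz⟩ : ∃ z, z = ap (g : Grp Q) v - v := ⟨_, rfl⟩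
      have hzD : z ∈ D := hz ▸ D.sub_mem hd hvD
      have hzR : z ∈ R := ⟨hzD, by
        rw [hz, q_sub, ap_q, hDB _ hd v hvD, sub_zero]
        linear_combination Q v * h2⟩
      rw [hR, Submodule.mem_bot, hz, sub_eq_zero] at hzR
      rw [hzR]
      exact Submodule.mem_span_singleton_self v
    have h1 := Subgroup.index_dvd_of_le hK'
    rw [hKN, pstab_eq_stabilizer, MulAction.index_stabilizer, ← Nat.card_coe_set_eq] at h1
    obtain ⟨ha, hb⟩ := orbit_fixed_unique h p (v := v) hu hu0
    have hp0 : p ∣ N := (Nat.modEq_zero_iff_dvd.1 (hb hqv)).trans h1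
    have : (0 : ℕ) ≡ 1 [MOD p] := (Nat.modEq_zero_iff_dvd.2 hp0).symm.trans ha
    exact (Fact.out : p.Prime).one_lt.ne' (Nat.dvd_one.1 (Nat.modEq_zero_iff_dvd.1 this.symm))
  -- it is a point
  have h2k : 2 * Module.finrank F R ≤ Module.finrank F (ι → F) := by
    have e1 := Submodule.finrank_mono (le_orth_of_singular hRq)
    have e2 := finrank_orth hB R
    omega
  have hR1 : Module.finrank F R = 1 := by
    have hpos : Module.finrank F R ≠ 0 := mt Submodule.finrank_eq_zero.1 hR0
    by_contra h1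
    have hge := (card_orbit_ge hB hn hRq rfl).trans (Nat.le_of_dvd hNpos hdvdR)
    obtain ⟨hlt, hlt'⟩ := card_orbit_point_lt hB hn hu hu0
    have hq := Finite.one_lt_card (α := F)
    rcases exp_ge h.dim (k := Module.finrank F R) (by omega) h2k
      (fun e => h.eight e R hRq) with he | ⟨e7, he⟩
    · exact absurd ((Nat.pow_le_pow_right hq.le he).trans hge) (not_le.2 hlt)
    · exact absurd ((Nat.pow_le_pow_right hq.le he).trans hge) (not_le.2 (hlt' (h.seven e7)))
  obtain ⟨⟨w, hwR⟩, hw0, hgen⟩ := finrank_eq_one_iff'.1 hR1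
  have hw0' : w ≠ 0 := fun e => hw0 (Subtype.ext e)
  have hKw : K = pstab Q w := by
    have hle : K ≤ pstab Q w := fun g hg => mem_pstab.2 (by
      obtain ⟨c, hc⟩ := hgen ⟨ap (g : Grp Q) w, mem_stabilizer_sub.1 (hRK hg) w hwR⟩
      exact Submodule.mem_span_singleton.2 ⟨c, congrArg Subtype.val hc⟩)
    refine le_antisymm hle ?_
    have h1 : (pstab Q w).index = K.index := by
      rw [hKN, card_orbit_point_eq_index hB hn hu hu0 (hRq w hwR) hw0']
    have h2 := K.card_mul_index
    have h3 := (pstab Q w).card_mul_index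
    rw [h1, ← h2] at h3
    have h4 : Nat.card (pstab Q w) = Nat.card K :=
      Nat.eq_of_mul_eq_mul_right (Nat.pos_of_ne_zero Subgroup.index_ne_zero_of_finite) h3
    exact (Subgroup.eq_of_le_of_card_ge hle h4.le).ge
  have hSeq : S = sieg Q (hRq w hwR) := by
    refine Subgroup.eq_of_le_of_card_ge (le_sieg_of_normal hB p h.dim (hRq w hwR) hw0' hS
      (fun s hs => hwR.1.1 s hs) (fun g hg => hSN g (hKw ▸ hg))) ?_
    rw [hScard, card_sieg hB hn hu hu0, card_sieg hB hn (hRq w hwR) hw0']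
  refine ⟨w, hRq w hwR, hw0', ?_, ?_⟩
  · rw [ppstab, ppstab, ← hKw, hK, img, Subgroup.map_comap_eq_self_of_surjective prj_surjective]
  · rw [← hSmap, hSeq]; rfl

include hB in
/-- Orthogonality of points is seen in `PΩ`. -/
theorem psieg_inf_ne_bot_iff (hn : 5 ≤ Module.finrank F (ι → F)) {u x : ι → F} (hu : Q u = 0)
    (hu0 : u ≠ 0) : psieg Q hu ⊓ ppstab Q x ≠ ⊥ ↔ B x u = 0 := by
  constructor
  · intro hne
    by_contra hxu
    refine hne ((Subgroup.eq_bot_iff_forall _).2 ?_)
    rintro _ ⟨⟨g, hg, rfl⟩, h2⟩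
    have hgx : g ∈ pstab Q x := by
      obtain ⟨g', hg', he⟩ := h2
      have : g'⁻¹ * g ∈ Subgroup.center Ω := by
        rw [← prj_ker, MonoidHom.mem_ker, map_mul, map_inv, he, inv_mul_cancel]
      simpa using (pstab Q x).mul_mem hg' (center_le_pstab hB hn x this)
    rw [sieg_eq_one_of_fix hB hu hxu hg hgx, map_one]
  · intro hxu hbot
    obtain ⟨g, hg, hg1, hgx⟩ := exists_sieg_fix hB hn hu hu0 hxu
    have : prj Q g ∈ psieg Q hu ⊓ ppstab Q x := ⟨⟨g, hg, rfl⟩, ⟨g, hgx, rfl⟩⟩
    rw [hbot, Subgroup.mem_bot] at this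
    exact hg1 (sieg_inf_center hB hn hu hu0 hg (prj_ker.le (MonoidHom.mem_ker.2 this)))

end CfsgLib.OrthAut
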