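import Cfsg.Agent.Lib.OrthAut.Gamma

/-!
The group of semisimilarities, its action on `PΩ(Q)` and the order of the automorphism group.
-/

set_option autoImplicit false
set_option linter.unusedSectionVars false

namespace CfsgLib.OrthAut

open Matrix CfsgLib.Orth

/-- An automorphism restricted to a characteristic subgroup. -/
def autSub {G : Type*} [Group G] (N : Subgroup G) (hN : ∀ (φ : MulAut G), ∀ x ∈ N, φ x ∈ N) :
    MulAut G →* MulAut N where
  toFun φ :=
    { toFun := fun x => ⟨φ x, hN φ x x.2⟩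
      invFun := fun x => ⟨φ⁻¹ x, hN φ⁻¹ x x.2⟩
      left_inv := fun x => Subtype.ext (φ.symm_apply_apply _)
      right_inv := fun x => Subtype.ext (φ.apply_symm_apply _)
      map_mul' := fun x y => Subtype.ext (map_mul φ _ _) }
  map_one' := MulEquiv.ext fun _ => Subtype.ext rfl
  map_mul' _ _ := MulEquiv.ext fun _ => Subtype.ext rfl

theorem commutator_stable {G : Type*} [Group G] (φ : MulAut G) : ∀ x ∈ commutator G, φ x ∈ commutator G := by
  intro x hx
  have h := Subgroup.mem_map_of_mem φ.toMonoidHom hx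
  rw [commutator_def, Subgroup.map_commutator] at h
  exact Subgroup.commutator_mono le_top le_top h

/-- An automorphism acting on the central quotient. -/
def autQuot (G : Type*) [Group G] : MulAut G →* MulAut (G ⧸ Subgroup.center G) where
  toFun φ := QuotientGroup.congr (Subgroup.center G) (Subgroup.center G) φ
    (Subgroup.characteristic_iff_map_eq.1 inferInstance φ)
  map_one' := MulEquiv.ext fun x => by
    obtain ⟨s, rfl⟩ := QuotientGroup.mk_surjective x
    rfl
  map_mul' _ _ := MulEquiv.ext fun x => by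
    obtain ⟨s, rfl⟩ := QuotientGroup.mk_surjective x
    rfl

variable {F : Type*} [Field F] [Finite F] {ι : Type} [Fintype ι] [DecidableEq ι]
variable {Q : QuadraticForm F (ι → F)}

local notation "B" => QuadraticMap.polar (DFunLike.coe Q)
local notation "Ω" => Cfsg.Omega F (DFunLike.coe Q)

variable (F ι) in
/-- The field automorphisms acting on the entries. -/
def entryAct : (F ≃+* F) →* MulAut (GL ι F) where
  toFun σ :=
    { toFun := Units.map σ.toRingHom.mapMatrix.toMonoidHom
      invFun := Units.map σ.symm.toRingHom.mapMatrix.toMonoidHom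
      left_inv := fun g => Units.ext (Matrix.ext fun i j => σ.symm_apply_apply _)
      right_inv := fun g => Units.ext (Matrix.ext fun i j => σ.apply_symm_apply _)
      map_mul' := fun a b => map_mul _ a b }
  map_one' := MulEquiv.ext fun g => Units.ext (Matrix.ext fun i j => rfl)
  map_mul' σ τ := MulEquiv.ext fun g => Units.ext (Matrix.ext fun i j => rfl)

theorem entryAct_coe (σ : F ≃+* F) (g : GL ι F) :
    ((entryAct F ι σ g : GL ι F) : Matrix ι ι F) = (g : Matrix ι ι F).map σ := rfl

variable (F ι) in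
/-- Semilinear bijections of column vectors. -/
abbrev Semilin := GL ι F ⋊[entryAct F ι] (F ≃+* F)

/-- `v ↦ g σ(v)`. -/
def sv (x : Semilin F ι) (v : ι → F) : ι → F := (x.left : Matrix ι ι F) *ᵥ fun i => x.right (v i)

theorem sv_one (v : ι → F) : sv (1 : Semilin F ι) v = v := one_mulVec v

theorem sv_mul (x y : Semilin F ι) (v : ι → F) : sv (x * y) v = sv x (sv y v) := by
  have e : (fun i => x.right (((y.left : Matrix ι ι F) *ᵥ fun j => y.right (v j)) i)) =
      (y.left : Matrix ι ι F).map x.right *ᵥ fun j => x.right (y.right (v j)) :=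
    funext fun i => RingHom.map_mulVec x.right.toRingHom _ _ i
  simp only [sv, SemidirectProduct.mul_left, SemidirectProduct.mul_right, Units.val_mul, entryAct_coe]
  rw [e, mulVec_mulVec]
  rfl

theorem sv_add (x : Semilin F ι) (v w : ι → F) : sv x (v + w) = sv x v + sv x w := by
  simp only [sv, ← mulVec_add]
  congr 1
  funext i
  simp

theorem sv_smul (x : Semilin F ι) (a : F) (v : ι → F) : sv x (a • v) = x.right a • sv x v := by
  simp only [sv, ← mulVec_smul]
  congr 1
  funext i
  simp

theorem sv_sub (x : Semilin F ι) (v w : ι → F) : sv x (v - w) = sv x v - sv x w := by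
  rw [eq_sub_iff_add_eq, ← sv_add, sub_add_cancel]

theorem sv_inj (x : Semilin F ι) : Function.Injective (sv x) := fun v w h => by
  have := congrArg (sv x⁻¹) h
  rwa [← sv_mul, ← sv_mul, inv_mul_cancel, sv_one, sv_one] at this

/-- The group of semisimilarities. -/
def semi (Q : QuadraticForm F (ι → F)) : Subgroup (Semilin F ι) where
  carrier := {x | Cfsg.IsSemisimilarityPair (⇑Q) x.left x.right}
  one_mem' := ⟨1, fun v => by
    show Q (sv 1 v) = _
    rw [sv_one, Units.val_one, one_mul]
    rfl⟩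
  mul_mem' {x y} hx hy := by
    obtain ⟨c, hc⟩ := hx
    obtain ⟨d, hd⟩ := hy
    refine ⟨c * Units.mk0 (x.right d) (by simp), fun v => ?_⟩
    show Q (sv (x * y) v) = _
    rw [sv_mul]
    refine (hc _).trans ?_
    rw [show sv y v = (y.left : Matrix ι ι F) *ᵥ fun i => y.right (v i) from rfl, hd, map_mul, ← mul_assoc]
    rfl
  inv_mem' {x} hx := by
    obtain ⟨c, hc⟩ := hx
    refine ⟨(Units.mk0 (x.right.symm c) (by simp))⁻¹, fun v => ?_⟩
    show Q (sv x⁻¹ v) = _
    have h := congrArg x.right.symm (hc (sv x⁻¹ v))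
    rw [show (x.left : Matrix ι ι F) *ᵥ (fun i => x.right (sv x⁻¹ v i)) = sv x (sv x⁻¹ v) from rfl,
      ← sv_mul, mul_inv_cancel, sv_one, map_mul, RingEquiv.symm_apply_apply] at h
    rw [SemidirectProduct.inv_right, show (x.right⁻¹ : F ≃+* F) = x.right.symm from rfl, h,
      Units.val_inv_eq_inv_val, Units.val_mk0, inv_mul_cancel_left₀ (by simp)]

theorem mem_semi {x : Semilin F ι} : x ∈ semi Q ↔ ∃ c : Fˣ, ∀ v, Q (sv x v) = (c : F) * x.right (Q v) := Iff.rfl

theorem conj_mem {x : Semilin F ι} (hx : x ∈ semi Q) (g : Grp Q) :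
    x.left * entryAct F ι x.right g * x.left⁻¹ ∈ Cfsg.isometryGroup F ⇑Q := by
  intro u _
  obtain ⟨w, rfl⟩ : ∃ w, sv x w = u := ⟨sv x⁻¹ u, by rw [← sv_mul, mul_inv_cancel, sv_one]⟩
  obtain ⟨c, hc⟩ := mem_semi.1 hx
  show Q (((x.left * entryAct F ι x.right g * x.left⁻¹ : GL ι F) : Matrix ι ι F) *ᵥ sv x w) = Q (sv x w)
  rw [Units.val_mul, Units.val_mul, sv, mulVec_mulVec, Matrix.mul_assoc, Units.inv_mul, Matrix.mul_one,
    ← mulVec_mulVec, entryAct_coe,
    show ((g : GL ι F) : Matrix ι ι F).map x.right *ᵥ (fun i => x.right (w i)) = fun i => x.right (ap g w i) from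
      (funext fun i => (RingHom.map_mulVec x.right.toRingHom _ w i).symm)]
  show Q (sv x (ap g w)) = Q (sv x w)
  rw [hc, hc, ap_q]

theorem conj_inv (y : Semilin F ι) (g : GL ι F) :
    y⁻¹.left * entryAct F ι y⁻¹.right (y.left * entryAct F ι y.right g * y.left⁻¹) * y⁻¹.left⁻¹ = g := by
  simp only [SemidirectProduct.inv_left, SemidirectProduct.inv_right, map_mul, map_inv, MulAut.inv_apply_self]
  group

/-- Conjugation in the isometry group. -/
def onGrp (Q : QuadraticForm F (ι → F)) : semi Q →* MulAut (Grp Q) where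
  toFun x :=
    { toFun := fun g => ⟨_, conj_mem x.2 g⟩
      invFun := fun g => ⟨_, conj_mem (x⁻¹).2 g⟩
      left_inv := fun g => Subtype.ext (conj_inv x.1 g)
      right_inv := fun g => Subtype.ext (by simpa using conj_inv (x.1)⁻¹ (g : GL ι F))
      map_mul' := fun a b => Subtype.ext (by simp [map_mul, mul_assoc]) }
  map_one' := MulEquiv.ext fun g => Subtype.ext (by simp)
  map_mul' x y := MulEquiv.ext fun g => Subtype.ext (by simp [map_mul, map_inv, mul_assoc])

theorem onGrp_coe (x : semi Q) (g : Grp Q) :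
    ((onGrp Q x g : Grp Q) : GL ι F) = x.1.left * entryAct F ι x.1.right g * x.1.left⁻¹ := rfl

theorem ap_onGrp (x : semi Q) (g : Grp Q) (v : ι → F) : ap (onGrp Q x g) (sv x v) = sv x (ap g v) := by
  show ((((onGrp Q x g : Grp Q) : GL ι F)) : Matrix ι ι F) *ᵥ sv (x : Semilin F ι) v = _
  rw [onGrp_coe, Units.val_mul, Units.val_mul, sv, mulVec_mulVec, Matrix.mul_assoc, Units.inv_mul, Matrix.mul_one,
    ← mulVec_mulVec, entryAct_coe]
  exact congrArg _ (funext fun i => (RingHom.map_mulVec (x : Semilin F ι).right.toRingHom _ v i).symm)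

/-- The action on `Ω`. -/
def onOmega (Q : QuadraticForm F (ι → F)) : semi Q →* MulAut (Cfsg.Omega F ⇑Q) :=
  (autSub _ commutator_stable).comp (onGrp Q)

theorem onOmega_coe (x : semi Q) (s : Ω) : ((onOmega Q x s : Ω) : Grp Q) = onGrp Q x (s : Grp Q) := rfl

/-- The action on `PΩ`. -/
def psi (Q : QuadraticForm F (ι → F)) : semi Q →* MulAut (Cfsg.POmega F ⇑Q) :=
  (autQuot _).comp (onOmega Q)

theorem psi_mk (x : semi Q) (s : Ω) : psi Q x (prj Q s) = prj Q (onOmega Q x s) := rfl

theorem psi_spec (x : semi Q) :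
    Cfsg.IsInducedBySemilinearPOmega ⇑Q (x : Semilin F ι).left (x : Semilin F ι).right (psi Q x) := by
  intro s s' hs
  have e : s' = onOmega Q x s := by
    refine Subtype.ext (Subtype.ext (Units.ext ?_))
    rw [hs, onOmega_coe, onGrp_coe, Units.val_mul, Units.val_mul, entryAct_coe]
  rw [e]
  rfl

theorem psi_eq {x : semi Q} {β : MulAut (Cfsg.POmega F ⇑Q)}
    (h : Cfsg.IsInducedBySemilinearPOmega ⇑Q (x : Semilin F ι).left (x : Semilin F ι).right β) : psi Q x = β := by
  refine MulEquiv.ext fun y => ?_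
  obtain ⟨s, rfl⟩ := prj_surjective (Q := Q) y
  refine (psi_mk x s).trans (h s (onOmega Q x s) ?_).symm
  rw [onOmega_coe, onGrp_coe, Units.val_mul, Units.val_mul, entryAct_coe]

theorem psi_surjective (h : Good Q) : Function.Surjective (psi Q) := by
  intro β
  have hβ : β ∈ Cfsg.gammaPOmega F ⇑Q := gamma_eq_top h ▸ Subgroup.mem_top β
  have hle : Cfsg.gammaPOmega F ⇑Q ≤ (psi Q).range := by
    refine (Subgroup.closure_le _).2 ?_
    rintro γ ⟨g, σ, hg, hind⟩
    exact ⟨⟨⟨g, σ⟩, hg⟩, psi_eq hind⟩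
  exact hle hβ

theorem b_sv {x : Semilin F ι} {c : Fˣ} (hc : ∀ v, Q (sv x v) = (c : F) * x.right (Q v)) (v w : ι → F) :
    B (sv x v) (sv x w) = (c : F) * x.right (B v w) := by
  simp only [QuadraticMap.polar, ← sv_add, hc, map_sub]
  ring

/-- An element inducing the identity is a scalar. -/
theorem psi_eq_one (h : Fine Q) {x : semi Q} (hx : psi Q x = 1) :
    (x : Semilin F ι).right = 1 ∧ ∃ a : F, a ≠ 0 ∧ ((x : Semilin F ι).left : Matrix ι ι F) = a • 1 := by
  obtain ⟨c, hc⟩ := mem_semi.1 x.2
  have hfix : ∀ w, Q w = 0 → w ≠ 0 → ∃ a : F, a ≠ 0 ∧ sv (x : Semilin F ι) w = a • w := by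
    intro w hw hw0
    have hxw0 : sv (x : Semilin F ι) w ≠ 0 := fun e => hw0 (sv_inj _ (e.trans (by simp [sv, show (fun _ : ι => (0 : F)) = 0 from rfl] : (0 : ι → F) = sv _ 0)))
    refine ppstab_inj h hw hw0 hxw0 ?_
    have key : pstab Q (sv (x : Semilin F ι) w) = (pstab Q w).map (onOmega Q x).toMonoidHom := by
      ext k
      constructor
      · intro hk
        obtain ⟨a, ha⟩ := Submodule.mem_span_singleton.1 (mem_pstab.1 hk)
        refine ⟨(onOmega Q x).symm k, mem_pstab.2 (Submodule.mem_span_singleton.2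
          ⟨(x : Semilin F ι).right.symm a, sv_inj (x : Semilin F ι) ?_⟩), (onOmega Q x).apply_symm_apply k⟩
        rw [sv_smul, RingEquiv.apply_symm_apply, ha, ← ap_onGrp, ← onOmega_coe, MulEquiv.apply_symm_apply]
      · rintro ⟨m, hm, rfl⟩
        obtain ⟨a, ha⟩ := Submodule.mem_span_singleton.1 (mem_pstab.1 hm)
        refine mem_pstab.2 (Submodule.mem_span_singleton.2 ⟨(x : Semilin F ι).right a, ?_⟩)
        show _ = ap (onGrp Q x (m : Grp Q)) _
        rw [ap_onGrp, ← sv_smul, ha]
    rw [ppstab, ppstab, key, Subgroup.map_map]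
    refine congrArg (fun f => Subgroup.map f (pstab Q w)) (MonoidHom.ext fun s => ?_)
    show prj Q s = prj Q (onOmega Q x s)
    rw [← psi_mk, hx, MulAut.one_apply]
  obtain ⟨u, hu, hu0⟩ := exists_nonzero_singular (Q := Q) h.five
  obtain ⟨f, hf, huf⟩ := exists_partner h.nondeg hu hu0
  have hf0 : f ≠ 0 := ne_zero_of_b (Q := Q) (y := u) (by rw [b_comm, huf]; exact one_ne_zero)
  obtain ⟨α, hα, hMu⟩ := hfix u hu hu0
  obtain ⟨β, hβ, hMf⟩ := hfix f hf hf0
  set σ := (x : Semilin F ι).right with hσdef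
  set M := sv (x : Semilin F ι) with hM
  have hpar : ∀ w, B u w = 0 → B f w = 0 → M w = α • w ∧ σ (Q w) * β = α * Q w := by
    intro w huw hfw
    let s := u - Q w • f + w
    have hs : Q s = 0 := by
      show Q (u - Q w • f + w) = 0
      rw [q_add, q_sub, q_smul, hu, hf, b_sub_left, b_smul_left, b_smul_right, huf, huw, hfw]
      ring
    have hsu : B f s = 1 := by
      show B f (u - Q w • f + w) = 1
      rw [b_add_right, b_sub_right, b_smul_right, b_self_zero hf, b_comm f u, huf, hfw]
      ring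
    have hs0 : s ≠ 0 := fun e => by rw [e, b_zero_right] at hsu; exact zero_ne_one hsu
    obtain ⟨e, -, he⟩ := hfix s hs hs0
    have hexp : α • u - (σ (Q w) * β) • f + M w = e • u - (e * Q w) • f + e • w := by
      rw [← hMu, mul_smul, ← hMf, ← sv_smul, ← sv_sub, ← sv_add]
      exact he.trans (by simp only [s]; module)
    have hMfw : B f (M w) = 0 := by
      have := b_sv hc f w
      rw [← hM, hMf, b_smul_left, hfw, map_zero, mul_zero] at this
      exact (mul_eq_zero.1 this).resolve_left hβ
    have hMuw : B u (M w) = 0 := by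
      have := b_sv hc u w
      rw [← hM, hMu, b_smul_left, huw, map_zero, mul_zero] at this
      exact (mul_eq_zero.1 this).resolve_left hα
    have e1 := congrArg (B f) hexp
    rw [b_add_right, b_sub_right, b_smul_right, b_smul_right, b_add_right, b_sub_right, b_smul_right, b_smul_right,
      b_smul_right, b_comm f u, huf, b_self_zero hf, hMfw, hfw] at e1
    simp only [mul_one, mul_zero, sub_zero, add_zero] at e1
    subst e1
    have e2 := congrArg (B u) hexp
    rw [b_add_right, b_sub_right, b_smul_right, b_smul_right, b_add_right, b_sub_right, b_smul_right, b_smul_right,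
      b_smul_right, huf, b_self_zero hu, hMuw, huw] at e2
    have e3 : σ (Q w) * β = α * Q w := by linear_combination -e2
    rw [e3, add_right_inj] at hexp
    exact ⟨hexp, e3⟩
  obtain ⟨a, ha, ha0, hua, hfa⟩ := exists_singular_perp h.nondeg h.five u f
  have hσ : ∀ t, σ t = t := fun t => by
    have h1 := (hpar (t • a) (by rw [b_smul_right, hua, mul_zero]) (by rw [b_smul_right, hfa, mul_zero])).1
    rw [hM, sv_smul, ← hσdef, ← hM, (hpar a hua hfa).1, smul_smul, smul_smul] at h1
    exact mul_right_cancel₀ hα ((smul_left_injective F ha0 h1).trans (mul_comm α t))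
  obtain ⟨b, hb, hab, hfb, -⟩ : ∃ b, Q b ≠ 0 ∧ B u b = 0 ∧ B f b = 0 ∧ True := by
    obtain ⟨a, b, ha, hb, hab, hua, hub, hfa, hfb⟩ := exists_pair_orth h.nondeg hu hf huf h.five
    exact ⟨a + b, by rw [q_add, ha, hb, hab]; simp, by rw [b_add_right, hua, hub, add_zero],
      by rw [b_add_right, hfa, hfb, add_zero], trivial⟩
  refine ⟨RingEquiv.ext hσ, α, hα, Matrix.ext_iff_mulVec.2 fun v => ?_⟩
  rw [smul_mulVec, one_mulVec]
  have hv : M v = (((x : Semilin F ι).left : GL ι F) : Matrix ι ι F) *ᵥ v := by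
    rw [hM, sv]
    exact congrArg _ (funext fun i => hσ _)
  rw [← hv]
  let z := v - B f v • u - B u v • f
  have hz := (hpar z (by simp only [z, b_sub_right, b_smul_right, b_self_zero hu, huf]; ring)
    (by simp only [z, b_sub_right, b_smul_right, b_self_zero hf, b_comm f u, huf]; ring)).1
  have hαβ : β = α := by
    have h1 := (hpar b hab hfb).2
    rw [hσ, mul_comm α] at h1
    exact mul_left_cancel₀ hb h1
  simp only [z, hM, sv_sub, sv_smul, ← hσdef, hσ] at hz
  rw [← hM, hMu, hMf, hαβ] at hz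
  linear_combination (norm := module) hz

variable (Q) in
/-- The scalar semisimilarities. -/
def scalarHom : Fˣ →* semi Q where
  toFun a := ⟨⟨Units.map (Matrix.scalar ι).toMonoidHom a, 1⟩, ⟨a * a, fun v => by
    show Q (Matrix.scalar ι (a : F) *ᵥ v) = _
    rw [show Matrix.scalar ι (a : F) *ᵥ v = (a : F) • v by ext i; simp [Matrix.mulVec_diagonal], q_smul]
    rfl⟩⟩
  map_one' := Subtype.ext (SemidirectProduct.ext (map_one _) rfl)
  map_mul' a b := Subtype.ext (SemidirectProduct.ext (by simp) (by simp))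

theorem ker_psi (h : Fine Q) : (psi Q).ker = (scalarHom Q).range := by
  ext x
  constructor
  · intro hx
    obtain ⟨h1, a, ha, h2⟩ := psi_eq_one h hx
    refine ⟨Units.mk0 a ha, Subtype.ext (SemidirectProduct.ext (Units.ext ?_) h1.symm)⟩
    rw [h2]
    ext i j
    by_cases hij : i = j <;> simp [scalarHom, hij]
  · rintro ⟨a, rfl⟩
    refine psi_eq fun s s' hs => ?_
    have e : s' = s := by
      refine Subtype.ext (Subtype.ext (Units.ext ?_))
      rw [hs]
      show Matrix.scalar ι (a : F) * ((((s : Grp Q) : GL ι F)) : Matrix ι ι F).map id *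
        Matrix.scalar ι ((a⁻¹ : Fˣ) : F) = _
      rw [Matrix.map_id, (Matrix.scalar_commute (a : F) (fun r => mul_comm _ r) _).eq, Matrix.mul_assoc, ← map_mul,
        Units.mul_inv, map_one, Matrix.mul_one]
    rw [e]
    rfl

/-- The field part. -/
def fieldPart (Q : QuadraticForm F (ι → F)) : semi Q →* (F ≃+* F) :=
  SemidirectProduct.rightHom.comp (semi Q).subtype

theorem ker_fieldPart_equiv :
    Nat.card (fieldPart Q).ker = Nat.card (Cfsg.Geo.quadSimilarityGroup ⇑Q) := by
  refine Nat.card_congr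
    { toFun := fun x => ⟨x.1.1.left, ?_⟩
      invFun := fun g => ⟨⟨⟨g.1, 1⟩, g.2⟩, rfl⟩
      left_inv := fun x => Subtype.ext (Subtype.ext (SemidirectProduct.ext rfl
        (show x.1.1.right = 1 from x.2).symm))
      right_inv := fun g => rfl }
  obtain ⟨c, hc⟩ := mem_semi.1 x.1.2
  refine ⟨c, fun v => ?_⟩
  have := hc v
  rwa [sv, show x.1.1.right = 1 from x.2] at this

theorem card_mulAut_mul (h : Good Q) (hfield : Function.Surjective (fieldPart Q)) :
    Nat.card (MulAut (Cfsg.POmega F ⇑Q)) * Nat.card Fˣ =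
      Nat.card (Cfsg.Geo.quadSimilarityGroup ⇑Q) * Nat.card (F ≃+* F) := by
  have hinj : Function.Injective (scalarHom Q) := fun a b e => by
    obtain ⟨u, hu, hu0⟩ := exists_nonzero_singular (Q := Q) h.five
    obtain ⟨i, hi⟩ := Function.ne_iff.1 hu0
    have := congrFun (congrFun (congrArg (fun x : semi Q => ((x : Semilin F ι).left : Matrix ι ι F)) e) i) i
    exact Units.ext (by simpa [scalarHom] using this)
  have h1 := Subgroup.card_eq_card_quotient_mul_card_subgroup (psi Q).ker
  rw [Nat.card_congr (QuotientGroup.quotientKerEquivOfSurjective _ (psi_surjective h)).toEquiv, ker_psi h,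
    ← Nat.card_congr (MonoidHom.ofInjective hinj).toEquiv] at h1
  have h2 := Subgroup.card_eq_card_quotient_mul_card_subgroup (fieldPart Q).ker
  rw [Nat.card_congr (QuotientGroup.quotientKerEquivOfSurjective _ hfield).toEquiv, ker_fieldPart_equiv] at h2
  rw [← h1, h2, mul_comm]

end CfsgLib.OrthAut
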