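import Cfsg.Agent.Lib.OrthAut.Points
import Cfsg.Prelude.Def_LieTypeDatum

/-!
The automorphism group of `PΩ(Q)` consists of the maps induced by semisimilarities.
-/

set_option autoImplicit false
set_option linter.unusedSectionVars false

namespace CfsgLib.OrthAut

open Matrix CfsgLib.Orth

variable {F : Type*} [Field F] [Finite F] {ι : Type} [Fintype ι] [DecidableEq ι]
variable {Q : QuadraticForm F (ι → F)}

local notation "B" => QuadraticMap.polar (DFunLike.coe Q)
local notation "Ω" => Cfsg.Omega F (DFunLike.coe Q)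
local notation "PΩ" => Cfsg.POmega F (DFunLike.coe Q)

/-- `β` sends the point of `x` to the point of `y`. -/
def ImPt (β : MulAut (Cfsg.POmega F ⇑Q)) (x y : ι → F) : Prop :=
  Q x = 0 ∧ x ≠ 0 ∧ Q y = 0 ∧ y ≠ 0 ∧
    (ppstab Q x).map (β : Cfsg.POmega F ⇑Q ≃* Cfsg.POmega F ⇑Q).toMonoidHom = ppstab Q y

theorem ppstab_inj (h : Fine Q) {x y : ι → F} (hx : Q x = 0) (hx0 : x ≠ 0) (hy0 : y ≠ 0)
    (he : ppstab Q x = ppstab Q y) : ∃ a : F, a ≠ 0 ∧ y = a • x := by
  refine pstab_inj h.nondeg h.five hx hx0 hy0 (le_of_eq ?_)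
  have e := congrArg (Subgroup.comap (prj Q)) he
  rwa [ppstab, ppstab, Subgroup.comap_map_eq_self (prj_ker.le.trans (center_le_pstab h.nondeg h.five x)),
    Subgroup.comap_map_eq_self (prj_ker.le.trans (center_le_pstab h.nondeg h.five y))] at e

variable (h : Good Q)

theorem pstab_conj (g : Ω) (x : ι → F) :
    pstab Q (ap (g : Grp Q) x) = (pstab Q x).map (MulAut.conj g).toMonoidHom := by
  ext k
  rw [mem_pstab, Subgroup.mem_map]
  constructor
  · intro hk
    refine ⟨g⁻¹ * k * g, ?_, by simp [MulAut.conj_apply, mul_assoc]⟩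
    obtain ⟨c, hc⟩ := Submodule.mem_span_singleton.1 hk
    refine mem_pstab.2 (Submodule.mem_span_singleton.2 ⟨c, ap_inj (g : Grp Q) ?_⟩)
    rw [ap_smul, hc, ← ap_mul (g : Grp Q), ← ap_mul (k : Grp Q)]
    congr 1
    simp only [Subgroup.coe_mul, Subgroup.coe_inv]
    group
  · rintro ⟨m, hm, rfl⟩
    obtain ⟨c, hc⟩ := Submodule.mem_span_singleton.1 (mem_pstab.1 hm)
    refine Submodule.mem_span_singleton.2 ⟨c, ?_⟩
    rw [← ap_smul, hc, ← ap_mul, ← ap_mul]
    congr 1
    simp [MulAut.conj_apply]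

theorem ppstab_conj (g : Ω) (x : ι → F) :
    ppstab Q (ap (g : Grp Q) x) = (ppstab Q x).map (MulAut.conj (prj Q g)).toMonoidHom := by
  rw [ppstab, ppstab, pstab_conj, Subgroup.map_map, Subgroup.map_map]
  congr 1

theorem ppstab_smul {a : F} (ha : a ≠ 0) (x : ι → F) : ppstab Q (a • x) = ppstab Q x := by
  rw [ppstab, ppstab, pstab_smul ha]

variable {β : MulAut (Cfsg.POmega F ⇑Q)}

include h in
theorem ImPt.exists {x : ι → F} (hx : Q x = 0) (hx0 : x ≠ 0) : ∃ y, ImPt β x y := by
  obtain ⟨w, hw, hw0, e, -⟩ := exists_image_point h β hx hx0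
  exact ⟨w, hx, hx0, hw, hw0, e⟩

include h in
theorem ImPt.unique {x y y' : ι → F} (h₁ : ImPt β x y) (h₂ : ImPt β x y') :
    ∃ a : F, a ≠ 0 ∧ y' = a • y :=
  ppstab_inj h h₁.2.2.1 h₁.2.2.2.1 h₂.2.2.2.1 (h₁.2.2.2.2.symm.trans h₂.2.2.2.2)

theorem ImPt.smul {x y : ι → F} {a b : F} (ha : a ≠ 0) (hb : b ≠ 0) (h₁ : ImPt β x y) :
    ImPt β (a • x) (b • y) := by
  obtain ⟨hx, hx0, hy, hy0, e⟩ := h₁
  exact ⟨by rw [q_smul, hx, mul_zero], smul_ne_zero ha hx0, by rw [q_smul, hy, mul_zero],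
    smul_ne_zero hb hy0, by rw [ppstab_smul ha, ppstab_smul hb, e]⟩

include h in
theorem ImPt.inj {x x' y : ι → F} (h₁ : ImPt β x y) (h₂ : ImPt β x' y) :
    ∃ a : F, a ≠ 0 ∧ x' = a • x :=
  ppstab_inj h h₁.1 h₁.2.1 h₂.2.1 (Subgroup.map_injective (f := (β : PΩ ≃* PΩ).toMonoidHom)
    (EquivLike.injective β) (h₁.2.2.2.2.trans h₂.2.2.2.2.symm))

include h in
theorem ImPt.psieg_map {x y : ι → F} (h₁ : ImPt β x y) :
    (psieg Q h₁.1).map (β : PΩ ≃* PΩ).toMonoidHom = psieg Q h₁.2.2.1 := by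
  obtain ⟨w, hw, hw0, e, e'⟩ := exists_image_point h β h₁.1 h₁.2.1
  obtain ⟨a, ha, hwy⟩ := ppstab_inj h h₁.2.2.1 h₁.2.2.2.1 hw0 (h₁.2.2.2.2.symm.trans e)
  rw [e']
  unfold psieg
  congr 1
  subst hwy
  ext g
  refine ⟨fun ⟨v, hv⟩ => ?_, fun ⟨v, hv⟩ => ?_⟩
  · have hyv : B y v = 0 := by
      have := hv.2.1
      rw [b_smul_left] at this
      exact (mul_eq_zero.1 this).resolve_left ha
    refine ⟨a • v, h₁.2.2.1, by rw [b_smul_right, hyv, mul_zero], fun z => ?_⟩
    rw [hv.2.2]
    simp only [b_smul_right, q_smul]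
    module
  · refine ⟨a⁻¹ • v, hw, by rw [b_smul_left, b_smul_right, hv.2.1, mul_zero, mul_zero], fun z => ?_⟩
    rw [hv.2.2]
    simp only [b_smul_right, q_smul]
    match_scalars <;> field_simp

include h in
theorem ImPt.perp {x y x' y' : ι → F} (h₁ : ImPt β x y) (h₂ : ImPt β x' y') :
    B x x' = 0 ↔ B y y' = 0 := by
  rw [b_comm x, b_comm y, ← psieg_inf_ne_bot_iff h.nondeg h.five h₁.1 h₁.2.1,
    ← psieg_inf_ne_bot_iff h.nondeg h.five h₁.2.2.1 h₁.2.2.2.1, ← ImPt.psieg_map h h₁,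
    ← h₂.2.2.2.2, ← Subgroup.map_inf _ _ _ (EquivLike.injective β)]
  exact (Subgroup.map_eq_bot_iff_of_injective _ (EquivLike.injective β)).not.symm

theorem ImPt.move {x y : ι → F} (h₁ : ImPt β x y) {g k : Ω} (hk : prj Q k = β (prj Q g)) :
    ImPt β (ap (g : Grp Q) x) (ap (k : Grp Q) y) := by
  obtain ⟨hx, hx0, hy, hy0, e⟩ := h₁
  refine ⟨by rw [ap_q, hx], fun e' => hx0 (ap_inj _ (e'.trans (ap_zero _).symm)),
    by rw [ap_q, hy], fun e' => hy0 (ap_inj _ (e'.trans (ap_zero _).symm)), ?_⟩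
  rw [ppstab_conj, ppstab_conj, Subgroup.map_map, ← e, Subgroup.map_map, hk]
  congr 1
  ext z
  simp [MulAut.conj_apply]

/-! ### The normalised automorphism -/

variable {u f : ι → F}

include h in
theorem finrank_orth_four (s : Finset (ι → F)) (hs : s.card ≤ 4) :
    3 ≤ Module.finrank F (orth Q (Submodule.span F (s : Set (ι → F)))) := by
  have := finrank_orth_span h.nondeg s
  have := h.dim
  omega

include h in
theorem exists_sing_perp (x y : ι → F) :
    ∃ c ∈ par Q u f, Q c = 0 ∧ c ≠ 0 ∧ B x c = 0 ∧ B y c = 0 := by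
  classical
  have hc : ({u, f, x, y} : Finset (ι → F)).card ≤ 4 := Finset.card_le_four
  obtain ⟨c, hc, hc0, hqc⟩ := exists_singular (Q := Q) (finrank_orth_four h _ hc)
  rw [mem_orth_span] at hc
  exact ⟨c, mem_par.2 ⟨hc u (by simp), hc f (by simp)⟩, hqc, hc0, hc x (by simp), hc y (by simp)⟩

include h in
/-- Inside the complement, the orthogonal of a singular vector is spanned by singular vectors. -/
theorem perp_singular_span (hu : Q u = 0) (hf : Q f = 0) (huf : B u f = 1) {a : ι → F}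
    (ha : a ∈ par Q u f) (hqa : Q a = 0) (ha0 : a ≠ 0) :
    (∀ z ∈ par Q u f, B a z = 0 →
      z ∈ Submodule.span F {y | (y ∈ par Q u f ∧ B a y = 0) ∧ Q y = 0}) ∧
      ∃ b ∈ par Q u f, Q b = 0 ∧ B a b = 1 := by
  have hau : B a u = 0 := by rw [b_comm]; exact (mem_par.1 ha).1
  have haf : B a f = 0 := by rw [b_comm]; exact (mem_par.1 ha).2
  have hanot : a ∉ Submodule.span F ({u, f} : Set (ι → F)) := fun e => by
    obtain ⟨s, t, he⟩ := Submodule.mem_span_pair.1 e
    obtain ⟨h1, h2⟩ := mem_par.1 ha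
    rw [← he, b_add_right, b_smul_right, b_smul_right, b_self_zero hu, huf, mul_zero, mul_one,
      zero_add] at h1
    rw [← he, h1, b_add_right, b_smul_right, b_smul_right, b_comm f u, huf, mul_one, zero_mul,
      add_zero] at h2
    exact ha0 (by rw [← he, h1, h2, zero_smul, zero_smul, add_zero])
  obtain ⟨b₀, hb₀, hab₀⟩ := exists_orth_one h.nondeg hanot
  obtain ⟨b, hb⟩ : ∃ b, b = b₀ - Q b₀ • a := ⟨_, rfl⟩
  have hbP : b ∈ par Q u f := hb ▸ sub_mem hb₀ (Submodule.smul_mem _ _ ha)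
  have hqb : Q b = 0 := by
    rw [hb, q_sub, q_smul, hqa, b_smul_right, b_comm b₀ a, hab₀]; ring
  have hab : B a b = 1 := by rw [hb, b_sub_right, b_smul_right, hab₀, b_self_zero hqa]; ring
  obtain ⟨c, hcP, hqc, hc0, hac, hbc⟩ := exists_sing_perp h (u := u) (f := f) a b
  have hcnot : c ∉ Submodule.span F ({u, f, a} : Set (ι → F)) := fun e => by
    obtain ⟨r, z, hz, he⟩ := Submodule.mem_span_insert.1 e
    obtain ⟨s, t, hst⟩ := Submodule.mem_span_pair.1 hz
    obtain ⟨h1, h2⟩ := mem_par.1 hcP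
    obtain ⟨h3, h4⟩ := mem_par.1 hbP
    subst hst
    rw [he] at h1 h2 hbc
    simp only [b_add_right, b_smul_right, b_self_zero hu, b_self_zero hf, huf, b_comm f u,
      (mem_par.1 ha).1, (mem_par.1 ha).2, b_comm b u, b_comm b f, h3, h4, b_comm b a, hab, mul_zero,
      mul_one, add_zero, zero_add] at h1 h2 hbc
    exact hc0 (by rw [he, h1, h2, hbc, zero_smul, zero_smul, zero_smul, add_zero, add_zero])
  obtain ⟨d₀, hd₀, hcd₀⟩ := exists_orth_one h.nondeg hcnot
  obtain ⟨d, hd⟩ : ∃ d, d = d₀ - Q d₀ • c := ⟨_, rfl⟩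
  have hcd : B c d = 1 := by rw [hd, b_sub_right, b_smul_right, hcd₀, b_self_zero hqc]; ring
  have hdq : Q d = 0 := by
    rw [hd, q_sub, q_smul, hqc, b_smul_right, b_comm d₀ c, hcd₀]; ring
  have hd₀' := mem_orth_span.1 hd₀
  refine ⟨fun z hz haz => ?_, b, hbP, hqb, hab⟩
  let U := par Q u f ⊓ LinearMap.ker (QuadraticMap.polarBilin Q a)
  have hcU : c ∈ U := ⟨hcP, hac⟩
  have hd₀U : d₀ ∈ U :=
    ⟨mem_par.2 ⟨hd₀' u (by simp), hd₀' f (by simp)⟩, hd₀' a (by simp)⟩
  have hdU : d ∈ U := by rw [hd]; exact U.sub_mem hd₀U (U.smul_mem _ hcU)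
  refine Submodule.span_mono ?_
    (mem_span_singular_of_pair (U := U) hcU hdU hqc hdq hcd (x := z) ⟨hz, haz⟩)
  exact fun y hy => ⟨⟨hy.1.1, hy.1.2⟩, hy.2⟩

include h in
/-- A vector orthogonal to every singular vector orthogonal to `a` is a multiple of `a`. -/
theorem mem_span_of_perp (hu : Q u = 0) (hf : Q f = 0) (huf : B u f = 1) {a x : ι → F}
    (ha : a ∈ par Q u f) (hqa : Q a = 0) (ha0 : a ≠ 0) (hx : x ∈ par Q u f)
    (H : ∀ y ∈ par Q u f, Q y = 0 → B a y = 0 → B x y = 0) : x ∈ Submodule.span F {a} := by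
  have hall : ∀ z ∈ par Q u f, B a z = 0 → B x z = 0 := fun z hz haz => by
    have key := (perp_singular_span h hu hf huf ha hqa ha0).1 z hz haz
    clear hz haz
    induction key using Submodule.span_induction with
    | mem y hy => exact H y hy.1.1 hy.2 hy.1.2
    | zero => exact b_zero_right _
    | add c d _ _ hc hd => rw [b_add_right, hc, hd, add_zero]
    | smul c d _ hd => rw [b_smul_right, hd, mul_zero]
  by_contra hxa
  have hnot : x ∉ Submodule.span F ({u, f, a} : Set (ι → F)) := fun e => by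
    obtain ⟨r, z, hz, he⟩ := Submodule.mem_span_insert.1 e
    obtain ⟨s, t, hst⟩ := Submodule.mem_span_pair.1 hz
    obtain ⟨h1, h2⟩ := mem_par.1 hx
    subst hst
    rw [he] at h1 h2
    simp only [b_add_right, b_smul_right, b_self_zero hu, b_self_zero hf, huf, b_comm f u,
      (mem_par.1 ha).1, (mem_par.1 ha).2, mul_zero, mul_one, add_zero, zero_add] at h1 h2
    exact hxa (Submodule.mem_span_singleton.2 ⟨t, by
      rw [he, h1, h2, zero_smul, zero_smul, zero_add, zero_add]⟩)
  obtain ⟨v, hv, hxv⟩ := exists_orth_one h.nondeg hnot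
  rw [mem_orth_span] at hv
  exact one_ne_zero (hxv.symm.trans
    (hall v (mem_par.2 ⟨hv u (by simp), hv f (by simp)⟩) (hv a (by simp))))

include h in
/-- A normalised automorphism fixes two points and acts on the Siegel parameters by an additive map
which respects singularity. -/
theorem exists_par_map (hu : Q u = 0) (hf : Q f = 0) (huf : B u f = 1) (hβu : ImPt β u u)
    (hβf : ImPt β f f) : ∃ L : par Q u f ≃+ par Q u f,
      ∀ v : par Q u f, ImPt β (f + (v : ι → F) - Q (v : ι → F) • u)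
        (f + (L v : ι → F) - Q (L v : ι → F) • u) := by
  obtain ⟨e, he⟩ := exists_sieg_equiv h.nondeg h.five hu huf
  have hinj : Function.Injective (fun s : sieg Q hu => prj Q (s : Ω)) := fun s t hst => by
    have hab : (s : Ω)⁻¹ * (t : Ω) ∈ Subgroup.center Ω := by
      rw [← prj_ker, MonoidHom.mem_ker, map_mul, map_inv, show prj Q s = prj Q t from hst,
        inv_mul_cancel]
    exact Subtype.ext (inv_mul_eq_one.1 (sieg_inf_center h.nondeg h.five hu
      (ne_zero_of_b (by rw [huf]; exact one_ne_zero))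
      ((sieg Q hu).mul_mem ((sieg Q hu).inv_mem s.2) t.2) hab))
  have hex : ∀ v : par Q u f, ∃ w : par Q u f, prj Q (e w : Ω) = β (prj Q (e v : Ω)) := fun v => by
    have : β (prj Q (e v : Ω)) ∈ psieg Q hu := by
      rw [← ImPt.psieg_map h hβu]
      exact ⟨_, ⟨_, (e v).2, rfl⟩, rfl⟩
    obtain ⟨s, hs, hse⟩ := this
    exact ⟨e.symm ⟨s, hs⟩, by rw [Equiv.apply_symm_apply]; exact hse⟩
  choose L hL using hex
  have hadd : ∀ v w : par Q u f, e (v + w) = e v * e w := fun v w =>
    Subtype.ext (Subtype.ext (siegel_unique (he (v + w)) (siegel_mul (he v) (he w))))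
  have hLadd : ∀ v w, L (v + w) = L v + L w := fun v w => e.injective (hinj (by
    show prj Q (e (L (v + w)) : Ω) = prj Q (e (L v + L w) : Ω)
    rw [hL, hadd, hadd, Subgroup.coe_mul, Subgroup.coe_mul, map_mul, map_mul, map_mul, hL, hL]))
  have hLinj : Function.Injective L := fun v w hvw =>
    e.injective (hinj ((EquivLike.injective β) (by
      show β (prj Q (e v : Ω)) = β (prj Q (e w : Ω))
      rw [← hL, ← hL, hvw])))
  refine ⟨AddEquiv.ofBijective (AddMonoidHom.mk' L hLadd) (Finite.injective_iff_bijective.1 hLinj),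
    fun v => ?_⟩
  have := hβf.move (g := (e v : Ω)) (k := (e (L v) : Ω)) (hL v)
  rwa [siegel_apply_partner huf (he v), siegel_apply_partner huf (he (L v))] at this

theorem b_partner (hu : Q u = 0) (hf : Q f = 0) (huf : B u f = 1) {v v' : ι → F}
    (hv : v ∈ par Q u f) (hv' : v' ∈ par Q u f) :
    B (f + v - Q v • u) (f + v' - Q v' • u) = -Q (v - v') := by
  obtain ⟨h1, h2⟩ := mem_par.1 hv
  obtain ⟨h3, h4⟩ := mem_par.1 hv'
  simp only [b_add_left, b_add_right, b_sub_left, b_sub_right, b_smul_left, b_smul_right,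
    b_self_zero hu, b_self_zero hf, huf, b_comm f u, h3, h4, b_comm v u, h1, b_comm v f, h2, q_sub]
  ring

include h in
/-- The parameter map is a semisimilarity. -/
theorem exists_par_semilinear (hu : Q u = 0) (hf : Q f = 0) (huf : B u f = 1)
    (L : par Q u f ≃+ par Q u f)
    (hL : ∀ v : par Q u f, ImPt β (f + (v : ι → F) - Q (v : ι → F) • u)
        (f + (L v : ι → F) - Q (L v : ι → F) • u)) :
    ∃ (σ : F ≃+* F) (lam : F), lam ≠ 0 ∧ (∀ (c : F) v, L (c • v) = σ c • L v) ∧
      ∀ v : par Q u f, Q (L v : ι → F) = lam * σ (Q (v : ι → F)) := by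
  classical
  let P := par Q u f
  have hdiff : ∀ v w : P, Q ((v : ι → F) - w) = 0 ↔ Q ((L v : ι → F) - L w) = 0 := fun v w => by
    have := ImPt.perp h (hL v) (hL w)
    rwa [b_partner hu hf huf v.2 w.2, b_partner hu hf huf (L v).2 (L w).2, neg_eq_zero,
      neg_eq_zero] at this
  have hsing : ∀ v : P, Q (v : ι → F) = 0 ↔ Q (L v : ι → F) = 0 := fun v => by
    have := hdiff v 0
    rwa [map_zero, Submodule.coe_zero, sub_zero, sub_zero] at this
  have hperp : ∀ v w : P, Q (v : ι → F) = 0 → Q (w : ι → F) = 0 →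
      (B (v : ι → F) w = 0 ↔ B (L v : ι → F) (L w) = 0) := fun v w hv hw => by
    have := hdiff v w
    rwa [q_sub, q_sub, hv, hw, (hsing v).1 hv, (hsing w).1 hw, add_zero, zero_sub, zero_sub,
      neg_eq_zero, neg_eq_zero] at this
  have hne : ∀ v : P, v ≠ 0 → (L v : ι → F) ≠ 0 := fun v hv e =>
    hv (L.injective (by rw [map_zero]; exact Subtype.ext e))
  have hline : ∀ a : P, Q (a : ι → F) = 0 → a ≠ 0 → ∀ c : F, ∃ t : F, L (c • a) = t • L a := by
    intro a hqa ha0 c
    have hca : Q ((c • a : P) : ι → F) = 0 := by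
      rw [Submodule.coe_smul, q_smul, hqa, mul_zero]
    have hmem := mem_span_of_perp h hu hf huf (L a).2 ((hsing a).1 hqa) (hne a ha0) (L (c • a)).2
      fun y hy hqy hay => by
        obtain ⟨y', hy'⟩ := L.surjective ⟨y, hy⟩
        have hye : y = (L y' : ι → F) := (congrArg Subtype.val hy').symm
        subst hye
        have h1 := (hsing y').2 hqy
        refine (hperp _ _ hca h1).1 ?_
        rw [Submodule.coe_smul, b_smul_left, (hperp a y' hqa h1).2 hay, mul_zero]
    obtain ⟨t, ht⟩ := Submodule.mem_span_singleton.1 hmem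
    exact ⟨t, Subtype.ext ht.symm⟩
  -- the scalar action on each singular line
  let S := {a : P // Q (a : ι → F) = 0 ∧ a ≠ 0}
  choose τ hτ using fun (a : S) (c : F) => hline a.1 a.2.1 a.2.2 c
  have hindep : ∀ a b : S, B ((a : P) : ι → F) (b : P) = 0 → (b : P) ∉ Submodule.span F {(a : P)} →
      ∀ c, τ a c = τ b c := by
    intro a b hab hb c
    have hsum : Q (((a : P) + b : P) : ι → F) = 0 := by
      rw [Submodule.coe_add, q_add, a.2.1, b.2.1, hab, add_zero, add_zero]
    have hsum0 : (a : P) + b ≠ 0 := fun e => hb (Submodule.mem_span_singleton.2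
      ⟨-1, by rw [neg_one_smul]; exact neg_eq_of_add_eq_zero_right e⟩)
    obtain ⟨t, ht⟩ := hline _ hsum hsum0 c
    rw [smul_add, map_add, map_add, hτ a c, hτ b c, smul_add] at ht
    have hLb : (L (b : P) : P) ∉ Submodule.span F {L (a : P)} := by
      intro e
      obtain ⟨s, hs⟩ := Submodule.mem_span_singleton.1 e
      -- multiples of `L a` come from multiples of `a`
      have hinj : Function.Injective (τ a) := fun x y hxy => smul_left_injective F a.2.2
        (L.injective (by show L (x • (a : P)) = L (y • (a : P)); rw [hτ, hτ, hxy]))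
      obtain ⟨d, rfl⟩ := (Finite.injective_iff_surjective.1 hinj) s
      exact hb (Submodule.mem_span_singleton.2 ⟨d, L.injective ((hτ a d).trans hs)⟩)
    have e2 : (τ a c - t) • L (a : P) = (t - τ b c) • L (b : P) := by
      linear_combination (norm := module) ht
    have h1 : t - τ b c = 0 := by
      by_contra h1
      exact hLb (Submodule.mem_span_singleton.2
        ⟨(t - τ b c)⁻¹ * (τ a c - t), by rw [mul_smul, e2, inv_smul_smul₀ h1]⟩)
    rw [h1, zero_smul, smul_eq_zero, sub_eq_zero] at e2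
    rcases e2 with e2 | e2
    · rw [e2, sub_eq_zero.1 h1]
    · exact absurd (congrArg Subtype.val e2) (hne _ a.2.2)
  have hnonperp : ∀ a b : S, B ((a : P) : ι → F) (b : P) ≠ 0 → ∀ c, τ a c = τ b c := by
    intro a b hab c
    obtain ⟨d, hd, hqd, hd0, had, hbd⟩ :=
      exists_sing_perp h (u := u) (f := f) ((a : P) : ι → F) ((b : P) : ι → F)
    let D : S := ⟨⟨d, hd⟩, hqd, fun e => hd0 (congrArg Subtype.val e)⟩
    have hnot : ∀ x y : S, B ((x : P) : ι → F) (y : P) ≠ 0 → B ((y : P) : ι → F) d = 0 →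
        (D : P) ∉ Submodule.span F {(x : P)} := fun x y hxy hy e => by
      obtain ⟨t, ht⟩ := Submodule.mem_span_singleton.1 e
      have ht' : t • ((x : P) : ι → F) = d := congrArg Subtype.val ht
      rw [← ht', b_smul_right, b_comm, mul_eq_zero, or_iff_left hxy] at hy
      exact hd0 (by rw [← ht', hy, zero_smul])
    rw [hindep a D had (hnot a b hab hbd) c,
      ← hindep b D hbd (hnot b a (by rwa [b_comm]) had) c]
  have huniform : ∀ a b : S, ∀ c, τ a c = τ b c := by
    intro a b c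
    by_cases hab : B ((a : P) : ι → F) (b : P) = 0
    · by_cases hb : (b : P) ∈ Submodule.span F {(a : P)}
      · obtain ⟨d, hd, hqd, had⟩ := (perp_singular_span h hu hf huf (a : P).2 a.2.1
          (fun e => a.2.2 (Subtype.ext e))).2
        let D : S := ⟨⟨d, hd⟩, hqd, fun e => by
          have : d = 0 := congrArg Subtype.val e
          rw [this, b_zero_right] at had
          exact zero_ne_one had⟩
        obtain ⟨t, ht⟩ := Submodule.mem_span_singleton.1 hb
        have ht' : t • ((a : P) : ι → F) = (b : P) := congrArg Subtype.val ht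
        have hbd : B ((b : P) : ι → F) d ≠ 0 := by
          rw [← ht', b_smul_left, had, mul_one]
          rintro rfl
          exact b.2.2 (by rw [← ht, zero_smul])
        rw [hnonperp a D (by rw [show ((D : P) : ι → F) = d from rfl, had]; exact one_ne_zero) c,
          hnonperp b D hbd c]
      · exact hindep a b hab hb c
    · exact hnonperp a b hab c
  -- a hyperbolic pair in the complement
  obtain ⟨a₁, b₁, ha₁, hb₁, hab₁, g1, g2, g3, g4⟩ := exists_pair_orth h.nondeg hu hf huf h.five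
  let A : S := ⟨⟨a₁, mem_par.2 ⟨g1, g3⟩⟩, ha₁, fun e => by
    have : a₁ = 0 := congrArg Subtype.val e
    rw [this, b_zero_left] at hab₁; exact zero_ne_one hab₁⟩
  let A' : S := ⟨⟨b₁, mem_par.2 ⟨g2, g4⟩⟩, hb₁, fun e => by
    have : b₁ = 0 := congrArg Subtype.val e
    rw [this, b_zero_right] at hab₁; exact zero_ne_one hab₁⟩
  have hcancel : ∀ x y : F, x • L (A : P) = y • L (A : P) → x = y := fun x y hxy =>
    smul_left_injective F (fun e => hne _ A.2.2 (congrArg Subtype.val e)) hxy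
  let σ₀ : F →+* F :=
    { toFun := τ A
      map_one' := hcancel _ _ (by rw [← hτ, one_smul, one_smul])
      map_mul' := fun c d => hcancel _ _ (by
        rcases eq_or_ne d 0 with rfl | hd
        · rw [← hτ, mul_zero, zero_smul, map_zero, mul_smul, ← hτ, zero_smul, map_zero, smul_zero]
        have hq : Q ((d • (A : P) : P) : ι → F) = 0 := by
          rw [Submodule.coe_smul, q_smul, A.2.1, mul_zero]
        rw [← hτ, mul_smul]
        show L (c • d • (A : P)) = _
        rw [hτ ⟨d • (A : P), hq, smul_ne_zero hd A.2.2⟩ c, huniform _ A c, hτ A d, smul_smul])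
      map_zero' := hcancel _ _ (by rw [← hτ, zero_smul, zero_smul, map_zero])
      map_add' := fun c d => hcancel _ _ (by rw [← hτ, add_smul, map_add, hτ, hτ, add_smul]) }
  let σ : F ≃+* F := RingEquiv.ofBijective σ₀ (Finite.injective_iff_bijective.1 σ₀.injective)
  have hσ : ∀ c, σ c = τ A c := fun c => rfl
  have hspan : ∀ v : P, (v : ι → F) ∈ Submodule.span F {y | y ∈ P ∧ Q y = 0} := fun v =>
    mem_span_singular_of_pair (A : P).2 (A' : P).2 ha₁ hb₁ hab₁ v.2
  have hlin : ∀ (c : F) (v : P), L (c • v) = σ c • L v := by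
    intro c v
    suffices H : ∀ y ∈ Submodule.span F {y | y ∈ P ∧ Q y = 0}, ∀ (hy : y ∈ P),
        ∀ c : F, L (c • ⟨y, hy⟩) = σ c • L ⟨y, hy⟩ from H _ (hspan v) v.2 c
    intro y hy
    have hsub : Submodule.span F {y | y ∈ P ∧ Q y = 0} ≤ P := Submodule.span_le.2 fun z hz => hz.1
    induction hy using Submodule.span_induction with
    | mem z hz =>
      intro hzP c
      by_cases hz0 : (⟨z, hzP⟩ : P) = 0
      · rw [hz0, smul_zero, map_zero, smul_zero]
      rw [hτ ⟨⟨z, hzP⟩, hz.2, hz0⟩ c, huniform _ A c, hσ]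
    | zero =>
      intro h0 c
      rw [show (⟨0, h0⟩ : P) = 0 from rfl, smul_zero, map_zero, smul_zero]
    | add x y hx hy ihx ihy =>
      intro hxy c
      rw [show (⟨x + y, hxy⟩ : P) = ⟨x, hsub hx⟩ + ⟨y, hsub hy⟩ from rfl, smul_add, map_add,
        map_add, smul_add, ihx (hsub hx) c, ihy (hsub hy) c]
    | smul d x hx ihx =>
      intro hdx c
      rw [show (⟨d • x, hdx⟩ : P) = d • ⟨x, hsub hx⟩ from rfl, smul_smul, ihx (hsub hx),
        ihx (hsub hx), map_mul, smul_smul]
  -- vectors orthogonal to a singular vector stay so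
  have hperp' : ∀ (a : S) (z : P), B ((a : P) : ι → F) z = 0 → B (L (a : P) : ι → F) (L z) = 0 := by
    intro a z haz
    suffices H : ∀ y ∈ Submodule.span F {y | (y ∈ P ∧ B ((a : P) : ι → F) y = 0) ∧ Q y = 0},
        ∀ hy : y ∈ P, B (L (a : P) : ι → F) (L ⟨y, hy⟩) = 0 from
      H _ ((perp_singular_span h hu hf huf (a : P).2 a.2.1
        (fun e => a.2.2 (Subtype.ext e))).1 z z.2 haz) z.2
    intro y hy
    have hsub : Submodule.span F {y | (y ∈ P ∧ B ((a : P) : ι → F) y = 0) ∧ Q y = 0} ≤ P :=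
      Submodule.span_le.2 fun z hz => hz.1.1
    induction hy using Submodule.span_induction with
    | mem w hw => intro hwP; exact (hperp _ ⟨w, hwP⟩ a.2.1 hw.2).1 hw.1.2
    | zero => intro h0; rw [show (⟨0, h0⟩ : P) = 0 from rfl, map_zero, Submodule.coe_zero, b_zero_right]
    | add x y hx hy ihx ihy =>
      intro hxy
      rw [show (⟨x + y, hxy⟩ : P) = ⟨x, hsub hx⟩ + ⟨y, hsub hy⟩ from rfl, map_add,
        Submodule.coe_add, b_add_right, ihx (hsub hx), ihy (hsub hy), add_zero]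
    | smul d x hx ihx =>
      intro hdx
      rw [show (⟨d • x, hdx⟩ : P) = d • ⟨x, hsub hx⟩ from rfl, hlin, Submodule.coe_smul,
        b_smul_right, ihx (hsub hx), mul_zero]
  obtain ⟨lam, hlam⟩ : ∃ lam, lam = B (L (A : P) : ι → F) (L (A' : P)) := ⟨_, rfl⟩
  refine ⟨σ, lam, ?_, hlin, fun v => ?_⟩
  · rw [hlam]
    intro e
    have := (hperp _ _ A.2.1 A'.2.1).2 e
    exact zero_ne_one (this.symm.trans hab₁)
  obtain ⟨α, hα⟩ : ∃ α, α = B (v : ι → F) b₁ := ⟨_, rfl⟩
  obtain ⟨γ, hγ⟩ : ∃ γ, γ = B (v : ι → F) a₁ := ⟨_, rfl⟩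
  obtain ⟨z, hz⟩ : ∃ z : P, z = v - α • (A : P) - γ • (A' : P) := ⟨_, rfl⟩
  have hz' : (z : ι → F) = (v : ι → F) - α • a₁ - γ • b₁ := by
    rw [hz, Submodule.coe_sub, Submodule.coe_sub, Submodule.coe_smul, Submodule.coe_smul]
  have hza : B a₁ (z : ι → F) = 0 := by
    rw [hz', b_sub_right, b_sub_right, b_smul_right, b_smul_right, b_self_zero ha₁, hab₁,
      b_comm a₁, ← hγ]; ring
  have hzb : B b₁ (z : ι → F) = 0 := by
    rw [hz', b_sub_right, b_sub_right, b_smul_right, b_smul_right, b_self_zero hb₁, b_comm b₁ a₁,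
      hab₁, b_comm b₁, ← hα]; ring
  have hX := hperp' A z hza
  have hY := hperp' A' z hzb
  have hLA := (hsing (A : P)).1 A.2.1
  have hLA' := (hsing (A' : P)).1 A'.2.1
  -- a singular vector through `z`
  obtain ⟨w, hw⟩ : ∃ w : P, w = z + (A : P) + (-Q (z : ι → F)) • (A' : P) := ⟨_, rfl⟩
  have hwq : Q (w : ι → F) = 0 := by
    rw [hw, Submodule.coe_add, Submodule.coe_add, Submodule.coe_smul]
    show Q ((z : ι → F) + a₁ + (-Q (z : ι → F)) • b₁) = 0
    rw [q_add, q_add, q_smul, ha₁, hb₁, b_add_left, b_smul_right, b_smul_right, b_comm (z : ι → F) a₁,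
      hza, b_comm (z : ι → F) b₁, hzb, hab₁]
    ring
  have hzq : Q (L z : ι → F) = lam * σ (Q (z : ι → F)) := by
    have h1 := (hsing w).1 hwq
    rw [hw, map_add, map_add, hlin, Submodule.coe_add, Submodule.coe_add, Submodule.coe_smul, q_add,
      q_add, q_smul, hLA, hLA', b_add_left, b_smul_right, b_smul_right, b_comm (L z : ι → F), hX,
      b_comm (L z : ι → F), hY, ← hlam, map_neg] at h1
    linear_combination h1
  have hv : v = z + α • (A : P) + γ • (A' : P) := by rw [hz]; abel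
  have hqv : Q (v : ι → F) = Q (z : ι → F) + α * γ := by
    rw [hv, Submodule.coe_add, Submodule.coe_add, Submodule.coe_smul, Submodule.coe_smul]
    show Q ((z : ι → F) + α • a₁ + γ • b₁) = _
    rw [q_add, q_add, q_smul, q_smul, ha₁, hb₁, b_add_left, b_smul_right, b_smul_right,
      b_smul_left, b_smul_right, b_comm (z : ι → F) a₁, hza, b_comm (z : ι → F) b₁, hzb, hab₁]
    ring
  rw [hqv, hv, map_add, map_add, hlin, hlin, Submodule.coe_add, Submodule.coe_add,
    Submodule.coe_smul, Submodule.coe_smul, q_add, q_add, q_smul, q_smul, hLA, hLA', b_add_left,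
    b_smul_right, b_smul_right, b_smul_left, b_smul_right, b_comm (L z : ι → F), hX,
    b_comm (L z : ι → F), hY, ← hlam, hzq, map_add, map_mul]
  ring

end CfsgLib.OrthAut
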