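import Cfsg.Agent.Lib.OrthAut.InndiagQuot
import Cfsg.Agent.Lib.OrthAut.FixFreePair
import Cfsg.Agent.Lib.Classical.OrthSemisimple
import Cfsg.Agent.Lib.AutPSL.GraphModels
import Cfsg.Agent.Lib.Classical.Forms

/-!
Classes of semisimple elements of odd prime order under the conformal images.
-/

set_option autoImplicit false
set_option linter.unusedSectionVars false

namespace CfsgLib.OrthAut

open Matrix CfsgLib.Orth CfsgLib.AutPSL
open CfsgLib.ClassicalAut (scal scal_coe)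

universe u

variable {F : Type u} [Field F] [Fintype F] {ι : Type} [Fintype ι] [DecidableEq ι]
variable {Q : QuadraticForm F (ι → F)}

local notation "Sim" => Cfsg.Geo.quadSimilarityGroup (DFunLike.coe Q)
local notation "B" => QuadraticMap.polar (DFunLike.coe Q)
local notation "PΩ" => Cfsg.POmega F (DFunLike.coe Q)

/-- The determinant of a similitude of a nondegenerate alternating form. -/
theorem det_similitude_alt {V : Type u} [AddCommGroup V] [Module F V] [FiniteDimensional F V]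
    (β : LinearMap.BilinForm F V) (hA : β.IsAlt) (hN : ∀ v, (∀ w, β v w = 0) → v = 0)
    {k : ℕ} (hk : Module.finrank F V = 2 * k) (f : V →ₗ[F] V) (c : Fˣ)
    (hf : ∀ u v, β (f u) (f v) = (c : F) * β u v) : LinearMap.det f = (c : F) ^ k := by
  classical
  obtain ⟨m, b, h1, h2, h3⟩ := CfsgLib.Forms.exists_symplectic_basis_nondeg β hA hN
  obtain rfl : m = k := by
    have := Module.finrank_eq_card_basis b
    rw [hk, Fintype.card_sum, Fintype.card_fin] at this
    omega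
  set P := LinearMap.toMatrix b b f with hP
  have hJ : LinearMap.BilinForm.toMatrix b β = -Matrix.J (Fin m) F := by
    ext (i | i) (j | j) <;>
      simp [LinearMap.BilinForm.toMatrix_apply, Matrix.J, h1, h2, h3, Matrix.one_apply]
    rw [← LinearMap.IsAlt.neg hA (b (.inl j)) (b (.inr i)), h1]
    split_ifs <;> simp_all
  have hM : Pᵀ * Matrix.J (Fin m) F * P = (c : F) • Matrix.J (Fin m) F := by
    have e : β.comp f f = (c : F) • β := LinearMap.ext₂ fun u v => by simp [hf]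
    have h := LinearMap.BilinForm.toMatrix_comp b b β f f
    rw [e, map_smul, hJ, ← hP] at h
    simp only [Matrix.mul_neg, Matrix.neg_mul, smul_neg, neg_inj] at h
    exact h.symm
  have hdet : P.det ≠ 0 := fun h0 => by
    have h := congrArg Matrix.det hM
    rw [det_mul, det_mul, det_smul, h0, mul_zero, eq_comm, mul_eq_zero] at h
    rcases h with h | h
    · exact pow_ne_zero _ c.ne_zero h
    · exact (Matrix.isUnit_det_J (Fin m) F).ne_zero h
  have := congrArg Units.val (Models.det_similitude_J (GeneralLinearGroup.mkOfDetNeZero P hdet) c hM)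
  rw [GeneralLinearGroup.val_det_apply, Units.val_pow_eq_pow_val] at this
  rw [← LinearMap.det_toMatrix b]
  exact this

namespace CData

/-- The class character is read off the determinant. -/
theorem chi_eq_one_of_det (D : CData Q) {k : ℕ} (hk : Fintype.card ι = 2 * k)
    (hG : ((D.G : GL ι F) : Matrix ι ι F).det = (D.c : F) ^ k) {g : Sim}
    (hg : ∀ x, Q (((g : GL ι F) : Matrix ι ι F) *ᵥ x) = (D.c : F) * Q x)
    (hdet : ((g : GL ι F) : Matrix ι ι F).det = (D.c : F) ^ k) : D.χ g = 1 := by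
  have hν : D.ν (D.G⁻¹ * g) = 1 := by
    rw [map_mul, map_inv, D.nu_G, (Int.units_eq_one_or (D.ν g)).resolve_left fun e => D.hc ((D.nu_eq_one_iff hg).1 e)]
    rfl
  obtain ⟨d, s, e, -, hs⟩ := D.exists_isometry hν
  have e' : g = D.G * (⟨scal d, scal_mem_sim d⟩ * ⟨s, isometry_le_sim s.2⟩) := by rw [← e, mul_inv_cancel_left]
  have hd2 : (d : F) * d = 1 := by
    obtain ⟨v, hv⟩ := exists_aniso D.fine.nondeg D.dim_pos
    have h := hg v
    rw [e', Subgroup.coe_mul, Subgroup.coe_mul, Units.val_mul, Units.val_mul, ← mulVec_mulVec, D.hG,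
      ← mulVec_mulVec, scal_coe, smul_mulVec, one_mulVec, q_smul] at h
    rw [show Q (((s : GL ι F) : Matrix ι ι F) *ᵥ v) = Q v from ap_q s v] at h
    exact mul_right_cancel₀ hv (by rw [one_mul]; exact mul_left_cancel₀ D.c.ne_zero h)
  have hsd : ((s : GL ι F) : Matrix ι ι F).det = 1 := by
    rw [e', Subgroup.coe_mul, Subgroup.coe_mul, Units.val_mul, Units.val_mul, det_mul, det_mul, hG,
      scal_coe, det_smul, det_one, mul_one, hk, pow_mul, pow_two, hd2, one_pow, one_mul] at hdet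
    exact mul_left_cancel₀ (pow_ne_zero k D.c.ne_zero) (hdet.trans (mul_one _).symm)
  rw [e', map_mul, D.χG, one_mul, map_mul, D.χ_scal, one_mul, D.χ_grp, dickson_iff_det D.fine.nondeg D.h2 D.fine.five]
  exact hsd

theorem simAut_scal (D : CData Q) (d : Fˣ) : simAut Q ⟨scal d, scal_mem_sim d⟩ = 1 :=
  (psi_simInc_eq_one_iff D.fine _).2 ⟨d, rfl⟩

/-- An element of odd order lifts to an isometry of the same exponent. -/
theorem exists_lift (D : CData Q) {r : ℕ} (hodd : Odd r) {x : MulAut PΩ} (hx : x ∈ Cfsg.pgoAut F ⇑Q)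
    (hxr : x ^ r = 1) : ∃ s : Grp Q, s ^ r = 1 ∧ simAut Q ⟨s, isometry_le_sim s.2⟩ = x := by
  rw [pgoAut_eq] at hx
  obtain ⟨g, rfl⟩ := hx
  obtain ⟨m, hm⟩ := g.2
  obtain ⟨a, ha⟩ := (psi_simInc_eq_one_iff D.fine (g ^ r)).1 (by
    show simAut Q (g ^ r) = 1
    rw [map_pow, hxr])
  have hma : m ^ r = a * a := by
    have h1 := map_pow (multiplier D.fine.nondeg D.dim_pos) g r
    rw [multiplier_eq D.fine.nondeg D.dim_pos g hm,
      multiplier_eq D.fine.nondeg D.dim_pos (g ^ r) (c := a * a) fun x => by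
        rw [show ((g ^ r : Sim) : GL ι F) = scal a from ha, scal_coe, smul_mulVec, one_mulVec, q_smul, Units.val_mul]] at h1
    exact h1.symm
  obtain ⟨j, rfl⟩ := hodd
  obtain ⟨s, hs⟩ := scaled_isometry (g := (g : GL ι F)) (d := a / m ^ j) fun v => by
    rw [hm, ← Units.val_mul]
    congr 2
    rw [div_mul_div_comm, ← hma, ← pow_add, eq_div_iff_mul_eq', ← pow_succ']
    congr 1; omega
  have hgs : g = ⟨scal (a / m ^ j), scal_mem_sim _⟩ * ⟨s, isometry_le_sim s.2⟩ := Subtype.ext hs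
  have hgx : simAut Q g = simAut Q ⟨s, isometry_le_sim s.2⟩ := by rw [hgs, map_mul, D.simAut_scal, one_mul]
  obtain ⟨b, hb⟩ := (psi_simInc_eq_one_iff D.fine ((⟨s, isometry_le_sim s.2⟩ : Sim) ^ (2 * j + 1))).1 (by
    show simAut Q _ = 1
    rw [map_pow, ← hgx, hxr])
  have hb' : ((s ^ (2 * j + 1) : Grp Q) : GL ι F) = scal b := by rw [← hb]; simp
  have hb2 : b * b = 1 := by
    obtain ⟨v, hv⟩ := exists_aniso D.fine.nondeg D.dim_pos
    have h := ap_q (s ^ (2 * j + 1)) v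
    rw [show ap (s ^ (2 * j + 1)) v = ((scal b : GL ι F) : Matrix ι ι F) *ᵥ v by rw [← hb']; rfl, scal_coe,
      smul_mulVec, one_mulVec, q_smul] at h
    exact Units.ext (by rw [Units.val_mul, Units.val_one]; exact mul_right_cancel₀ hv (h.trans (one_mul _).symm))
  let z : Grp Q := ⟨scal b, fun v _ => by
    show Q (((scal b : GL ι F) : Matrix ι ι F) *ᵥ v) = Q v
    rw [scal_coe, smul_mulVec, one_mulVec, q_smul, ← Units.val_mul, hb2, Units.val_one, one_mul]⟩
  have hzc : Commute z s := Subtype.ext (Units.ext (by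
    show ((scal b : GL ι F) : Matrix ι ι F) * _ = _ * ((scal b : GL ι F) : Matrix ι ι F)
    rw [scal_coe, smul_mul, Matrix.one_mul, Matrix.mul_smul, Matrix.mul_one]))
  refine ⟨z * s, ?_, ?_⟩
  · rw [hzc.mul_pow]
    refine Subtype.ext ?_
    rw [Subgroup.coe_mul, hb', show ((z ^ (2 * j + 1) : Grp Q) : GL ι F) = (scal b) ^ (2 * j + 1) by simp [z],
      ← pow_succ, ← map_pow, show 2 * j + 1 + 1 = 2 * (j + 1) by ring, pow_mul, pow_two, hb2, one_pow, map_one]
    rfl
  · rw [hgx, show (⟨((z * s : Grp Q) : GL ι F), isometry_le_sim (z * s).2⟩ : Sim) =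
      ⟨scal b, scal_mem_sim b⟩ * ⟨s, isometry_le_sim s.2⟩ from rfl, map_mul, D.simAut_scal, one_mul]

/-- A similitude of nonsquare multiplier fixing both families centralises a semisimple isometry of odd order. -/
theorem exists_centralising_sim (D : CData Q) {k : ℕ} (hk : Fintype.card ι = 2 * k)
    (hG : ((D.G : GL ι F) : Matrix ι ι F).det = (D.c : F) ^ k) {r : ℕ} (hodd : Odd r) (hr0 : (r : F) ≠ 0)
    (s : Grp Q) (hsr : s ^ r = 1) :
    ∃ y : Sim, y * ⟨s, isometry_le_sim s.2⟩ = ⟨s, isometry_le_sim s.2⟩ * y ∧ D.χ y = 1 ∧ D.ν y = -1 := by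
  classical
  set f := opr Q s
  have hf : ∀ v, Q (f v) = Q v := fun v => by rw [opr_apply, ap_q]
  let e : (ι → F) ≃ₗ[F] (ι → F) := LinearEquiv.ofBijective (Matrix.toLin' ((D.G : GL ι F) : Matrix ι ι F))
    ⟨Matrix.mulVec_injective_iff_isUnit.2 (D.G : GL ι F).isUnit,
      LinearMap.injective_iff_surjective.1 (Matrix.mulVec_injective_iff_isUnit.2 (D.G : GL ι F).isUnit)⟩
  have he : ∀ v, Q (e v) = (D.c : F) * Q v := fun v => D.hG v
  obtain ⟨h, hh, hhQ⟩ := CfsgLib.Classical.OrthSemisimple.exists_centralizer_equiv Q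
    ⟨D.fine.nondeg, fun v hv => D.fine.nondeg v fun w => (QuadraticMap.polar_comm Q v w).trans (hv w)⟩ e f hf
    (fun v => by rw [he, he, hf]) hodd (show f ^ r = 1 by rw [← map_pow, hsr, map_one]) hr0
  let H : GL ι F := ⟨LinearMap.toMatrix' (h : (ι → F) →ₗ[F] (ι → F)),
    LinearMap.toMatrix' (h.symm : (ι → F) →ₗ[F] (ι → F)),
    by rw [← LinearMap.toMatrix'_comp]; simp, by rw [← LinearMap.toMatrix'_comp]; simp⟩
  have hH : ∀ v, (H : Matrix ι ι F) *ᵥ v = h v := fun v => by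
    show LinearMap.toMatrix' (h : (ι → F) →ₗ[F] (ι → F)) *ᵥ v = _
    rw [← Matrix.toLin'_apply, Matrix.toLin'_toMatrix']; rfl
  have hHq : ∀ v, Q ((H : Matrix ι ι F) *ᵥ v) = (D.c : F) * Q v := fun v => by rw [hH, hhQ, he]
  let y₀ : Sim := ⟨H, D.c, hHq⟩
  have hy₀ν : D.ν y₀ = -1 := (Int.units_eq_one_or _).resolve_left fun e1 => D.hc ((D.nu_eq_one_iff hHq).1 e1)
  have hy₀c : y₀ * ⟨s, isometry_le_sim s.2⟩ = ⟨s, isometry_le_sim s.2⟩ * y₀ :=
    Subtype.ext (Units.ext (Matrix.ext_iff_mulVec.2 fun v => by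
      show ((H : Matrix ι ι F) * _) *ᵥ v = (_ * (H : Matrix ι ι F)) *ᵥ v
      rw [← mulVec_mulVec, ← mulVec_mulVec, hH, hH]
      have := hh v
      rw [opr_apply, opr_apply] at this
      exact this))
  rcases Int.units_eq_one_or (D.χ y₀) with h1 | h1
  · exact ⟨y₀, hy₀c, h1, hy₀ν⟩
  -- a fixed vector repairs the family
  by_cases hfp : ∃ v, f v = v ∧ Q v ≠ 0
  · obtain ⟨v, hv, hQv⟩ := hfp
    rw [opr_apply] at hv
    obtain ⟨q, hq⟩ := exists_refl D.fine.nondeg hQv
    refine ⟨⟨q, isometry_le_sim q.2⟩ * y₀, ?_, ?_, ?_⟩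
    · have hc : q * s = s * q := ext_ap fun x => by
        rw [ap_mul, ap_mul, hq.2, hq.2, ap_sub, ap_smul, hv]
        conv_lhs => rw [show B v (ap s x) = B (ap s v) (ap s x) by rw [hv], ap_b]
      have hc' : (⟨q, isometry_le_sim q.2⟩ : Sim) * ⟨s, isometry_le_sim s.2⟩ =
          ⟨s, isometry_le_sim s.2⟩ * ⟨q, isometry_le_sim q.2⟩ :=
        Subtype.ext (show (q : GL ι F) * (s : GL ι F) = (s : GL ι F) * (q : GL ι F) from congrArg Subtype.val hc)
      rw [mul_assoc, hy₀c, ← mul_assoc, hc', mul_assoc]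
    · rw [map_mul, D.χ_grp, dickson_refl D.fine.nondeg hq, h1]; rfl
    · rw [map_mul, D.nu_grp, one_mul, hy₀ν]
  push Not at hfp
  -- without fixed vectors the determinant is a power of the multiplier
  exfalso
  have hfix : ∀ v, f v = v → v = 0 := fun v hv => D.fine.nondeg v fun z => by
    have hsplit : LinearMap.ker (f - 1) ⊔ LinearMap.range (f - 1) = ⊤ := by
      have hd : LinearMap.ker (f - 1) ⊓ LinearMap.range (f - 1) = ⊥ := by
        rw [eq_bot_iff]
        rintro x ⟨hx, w, rfl⟩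
        exact sub_eq_zero.2 (CfsgLib.Classical.SympSemisimple.eq_zero_of_sq (show f ^ r = 1 by
          rw [← map_pow, hsr, map_one]) hr0 (sub_eq_zero.1 hx))
      refine Submodule.eq_top_of_finrank_eq ?_
      have h1 := Submodule.finrank_sup_add_finrank_inf_eq (LinearMap.ker (f - 1)) (LinearMap.range (f - 1))
      rw [hd, finrank_bot] at h1
      have h3 := LinearMap.finrank_range_add_finrank_ker (f - 1)
      omega
    obtain ⟨a, ha, _, ⟨w, rfl⟩, rfl⟩ := Submodule.mem_sup.1 (hsplit ▸ Submodule.mem_top : z ∈ _)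
    have ha' : f a = a := sub_eq_zero.1 ha
    show QuadraticMap.polar Q v (a + (f w - w)) = 0
    rw [b_add_right, b_sub_right]
    conv_lhs => enter [2, 1]; rw [← hv, opr_apply, opr_apply, ap_b]
    rw [sub_self, add_zero, QuadraticMap.polar, hfp v hv, hfp a ha', hfp (v + a) (by rw [map_add, hv, ha'])]
    ring
  have hfn : ∀ v, f v = -v → v = 0 := fun v hv => by
    have h2 : ∀ n : ℕ, (f ^ n) v = (-1 : F) ^ n • v := fun n => by
      induction n with
      | zero => simp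
      | succ n ih => rw [pow_succ, Module.End.mul_apply, hv, map_neg, ih, pow_succ]; simp
    have h3 := h2 r
    rw [← map_pow, hsr, map_one, Module.End.one_apply, hodd.neg_one_pow] at h3
    have h4 : (2 : F) • v = 0 := by linear_combination (norm := module) h3
    exact (smul_eq_zero.1 h4).resolve_left D.h2
  set f' := opr Q s⁻¹
  let β : LinearMap.BilinForm F (ι → F) := (QuadraticMap.polarBilin Q).comp (f - f')
  have hadj : ∀ u v, B (f u) v = B u (f' v) := fun u v => by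
    rw [opr_apply, opr_apply]
    conv_rhs => rw [← ap_b s, ← ap_mul, mul_inv_cancel, ap_one]
  have hβ : ∀ u v, β u v = B (f u) v - B (f' u) v := fun u v => by
    show B ((f - f') u) v = _
    rw [LinearMap.sub_apply, b_sub_left]
  have hA : β.IsAlt := fun u => by rw [hβ, hadj, b_comm, sub_self]
  have hN : ∀ v, (∀ w, β v w = 0) → v = 0 := fun v hv => by
    have h5 : f v - f' v = 0 := D.fine.nondeg _ hv
    have h6 := congrArg f h5
    rw [map_sub, map_zero, sub_eq_zero, ← Module.End.mul_apply f f', ← map_mul, mul_inv_cancel, map_one,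
      Module.End.one_apply] at h6
    refine hfix v (sub_eq_zero.1 (hfn _ ?_))
    rw [map_sub, h6]
    abel
  have hhf : ∀ v, h (f' v) = f' (h v) := fun v => by
    have hff : f * f' = 1 := by rw [← map_mul, mul_inv_cancel, map_one]
    have hff' : f' * f = 1 := by rw [← map_mul, inv_mul_cancel, map_one]
    have h7 := congrArg f' (hh (f' v))
    rw [← Module.End.mul_apply f f', hff, ← Module.End.mul_apply f' f, hff', Module.End.one_apply, Module.End.one_apply] at h7
    exact h7.symm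
  have hhB : ∀ u v, B (h u) (h v) = (D.c : F) * B u v := fun u v => by
    simp only [QuadraticMap.polar, ← map_add h, hhQ, he]
    ring
  have hdet := det_similitude_alt β hA hN (k := k) (by rw [Module.finrank_pi, hk]) (h : (ι → F) →ₗ[F] (ι → F)) D.c
    (fun u v => by
      simp only [hβ, LinearEquiv.coe_coe]
      rw [← hh, ← hhf, hhB, hhB]; ring)
  rw [D.chi_eq_one_of_det hk hG (g := y₀) hHq (by rw [← hdet]; exact LinearMap.det_toMatrix' _)] at h1
  exact absurd h1 (by decide)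

set_option maxHeartbeats 1000000 in
/-- Semisimple classes of odd prime order do not split. -/
theorem semisimple_fusion (D : CData Q) {k : ℕ} (hk : Fintype.card ι = 2 * k)
    (hG : ((D.G : GL ι F) : Matrix ι ι F).det = (D.c : F) ^ k) {r : ℕ} (hr : r.Prime) (hodd : Odd r)
    (hr0 : (r : F) ≠ 0) (x : MulAut PΩ) (hx : x ∈ Cfsg.pgoAut F ⇑Q) (hxr : orderOf x = r)
    (I : Subgroup (MulAut PΩ)) (hI : I = D.χ.ker.map (simAut Q)) :
    (∀ y : MulAut PΩ, (Cfsg.IsConjUnder (Cfsg.Inn PΩ) x y ↔ Cfsg.IsConjUnder I x y) ∧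
      (Cfsg.IsConjUnder (Cfsg.psoAut F ⇑Q) x y ↔ Cfsg.IsConjUnder I x y)) ∧
    ∀ y : MulAut PΩ, Cfsg.IsConjUnder (Cfsg.poAut F ⇑Q) x y ↔ Cfsg.IsConjUnder (Cfsg.pgoAut F ⇑Q) x y := by
  obtain ⟨s, hsr, hsx⟩ := D.exists_lift hodd hx (by rw [← hxr]; exact pow_orderOf_eq_one x)
  have hs1 : s ≠ 1 := fun e => by
    have e2 : (⟨((1 : Grp Q) : GL ι F), isometry_le_sim (1 : Grp Q).2⟩ : Sim) = 1 := rfl
    rw [e, e2, map_one] at hsx
    rw [← hsx, orderOf_one] at hxr
    exact hr.ne_one hxr.symm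
  obtain ⟨y₀, hy₀, hy₀χ, hy₀ν⟩ := D.exists_centralising_sim hk hG hodd hr0 s hsr
  obtain ⟨h, hh, hhd, hhsp⟩ := exists_centralising_nonsquare hr.two_le hr0 s hsr D.fine.nondeg D.h2
    (by have := D.fine.five; omega) hodd hs1
  have hyx : simAut Q y₀ * x = x * simAut Q y₀ := by rw [← hsx, ← map_mul, hy₀, map_mul]
  have hhx : simAut Q ⟨h, isometry_le_sim h.2⟩ * x = x * simAut Q ⟨h, isometry_le_sim h.2⟩ := by
    rw [← hsx, ← map_mul, ← map_mul]
    exact congrArg _ (Subtype.ext (show (h : GL ι F) * (s : GL ι F) = (s : GL ι F) * (h : GL ι F) from congrArg Subtype.val hh))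
  -- the classes met by the centraliser
  set C := Subgroup.centralizer ({x} : Set (MulAut PΩ))
  let S : Subgroup (Cfsg.Out PΩ) := C.map (QuotientGroup.mk' _)
  have hmemC : ∀ z, z * x = x * z → z ∈ C := fun z hz => Subgroup.mem_centralizer_singleton_iff.2 hz
  have hcb : D.cb ∈ S := by
    have h1 := spinor_pair D.fine D.h2 D.hr₁ D.hr₂ D.hvw
    have hΩ : h⁻¹ * (D.r₁ * D.r₂) ∈ Cfsg.Omega F ⇑Q := by
      rw [(omega_eq_ker_psi D.fine.nondeg D.h2 (by have := D.fine.five; omega) (one_ne_zero (α := F))).1,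
        MonoidHom.mem_ker]
      refine Prod.ext ?_ ?_
      · show dickson D.fine.nondeg _ = 1
        rw [map_mul (dickson D.fine.nondeg), map_inv, hhd, h1.1, inv_one, one_mul]
      · show spinor Q 1 _ = 1
        rw [map_mul (spinor Q 1), map_inv, hhsp, h1.2, inv_mul_cancel]
    have e : cls Q (h⁻¹ * (D.r₁ * D.r₂)) = 1 := outHom_omega _ hΩ
    rw [map_mul, map_inv, inv_mul_eq_one, map_mul] at e
    exact ⟨_, hmemC _ hhx, e⟩
  have hca : D.ca ∈ S := by
    have hy : simOut Q y₀ ∈ S := ⟨_, hmemC _ hyx, rfl⟩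
    have h1 := D.simOut_kernel (g := D.G⁻¹ * y₀) (by rw [map_mul, map_inv, D.χG, hy₀χ, inv_one, one_mul])
      (by rw [map_mul, map_inv, D.nu_G, hy₀ν]; rfl)
    rw [map_mul, map_inv] at h1
    rcases h1 with e | e
    · rw [show D.ca = simOut Q y₀ from inv_mul_eq_one.1 e]
      exact hy
    · rw [show D.ca = simOut Q y₀ * D.cb⁻¹ by
        rw [← e, _root_.mul_inv_rev, inv_inv, mul_inv_cancel_left]; rfl]
      exact S.mul_mem hy (S.inv_mem hcb)
  have hInnN : (Cfsg.Inn PΩ).Normal := inferInstance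
  have hdec : ∀ z ∈ I, ∃ t ∈ Cfsg.Inn PΩ, ∃ c ∈ C, z = t * c := by
    intro z hz
    rw [hI] at hz
    obtain ⟨g, hg, rfl⟩ := hz
    obtain ⟨c, hc, he⟩ := D.mem_of_gens S hca hcb hg
    have h1 : c⁻¹ * simAut Q g ∈ Cfsg.Inn PΩ := QuotientGroup.eq.1 he
    exact ⟨c * (c⁻¹ * simAut Q g) * c⁻¹, hInnN.conj_mem _ h1 c, c, hc, by group⟩
  have hiso_po : ∀ g : Grp Q, simAut Q ⟨g, isometry_le_sim g.2⟩ ∈ Cfsg.poAut F ⇑Q := fun g =>
    Subgroup.subset_closure ⟨g, g.2, psi_spec (simInc Q (⟨(g : GL ι F), isometry_le_sim g.2⟩ : Sim))⟩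
  have hdec2 : ∀ z ∈ Cfsg.pgoAut F ⇑Q, ∃ t ∈ Cfsg.poAut F ⇑Q, ∃ c ∈ C, z = t * c := by
    have hmem : ∀ g : Sim, D.ν g = 1 → simAut Q g ∈ Cfsg.poAut F ⇑Q := fun g hg => by
      obtain ⟨d, t, e, -, -⟩ := D.exists_isometry hg
      rw [e, map_mul, D.simAut_scal, one_mul]
      exact hiso_po t
    intro z hz
    rw [pgoAut_eq] at hz
    obtain ⟨g, rfl⟩ := hz
    rcases Int.units_eq_one_or (D.ν g) with e | e
    · exact ⟨_, hmem g e, 1, one_mem _, (mul_one _).symm⟩
    · exact ⟨_, hmem (g * y₀⁻¹) (by rw [map_mul, map_inv, e, hy₀ν, mul_inv_cancel]), _, hmemC _ hyx,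
        by rw [← map_mul, inv_mul_cancel_right]⟩
  have hle1 : Cfsg.Inn PΩ ≤ Cfsg.psoAut F ⇑Q := by
    intro z hz
    obtain ⟨g, rfl⟩ := mem_inn_iff.1 hz
    rw [psoAut_eq D.fine D.h2]
    exact ⟨⟨((g : Grp Q) : GL ι F), isometry_le_sim (g : Grp Q).2⟩,
      (mem_specialSim D.fine.nondeg).2 ⟨g, Abelianization.commutator_subset_ker _ g.2, rfl⟩, psi_incl g⟩
  have hle2 : Cfsg.psoAut F ⇑Q ≤ I := by
    rw [psoAut_eq D.fine D.h2, hI]
    refine Subgroup.map_mono fun g hg => ?_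
    obtain ⟨t, ht, rfl⟩ := (mem_specialSim D.fine.nondeg).1 hg
    exact (D.χ_grp t).trans ht
  have hle3 : Cfsg.poAut F ⇑Q ≤ Cfsg.pgoAut F ⇑Q :=
    Subgroup.closure_mono fun β ⟨g, hg, hβ⟩ => ⟨g, isometry_le_sim hg, hβ⟩
  have key : ∀ (H K : Subgroup (MulAut PΩ)), H ≤ K → (∀ z ∈ K, ∃ t ∈ H, ∃ c ∈ C, z = t * c) →
      ∀ y, Cfsg.IsConjUnder H x y ↔ Cfsg.IsConjUnder K x y := by
    intro H K hHK hd y
    refine ⟨fun ⟨z, hz, e⟩ => ⟨z, hHK hz, e⟩, fun ⟨z, hz, e⟩ => ?_⟩
    obtain ⟨t, ht, c, hc, rfl⟩ := hd z hz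
    refine ⟨t, ht, e.trans ?_⟩
    have h1 : c * x = x * c := Subgroup.mem_centralizer_singleton_iff.1 hc
    rw [_root_.mul_inv_rev, mul_assoc t c x, h1]
    group
  refine ⟨fun y => ⟨key _ _ (hle1.trans hle2) hdec y, key _ _ hle2 (fun z hz => ?_) y⟩, key _ _ hle3 hdec2⟩
  obtain ⟨t, ht, c, hc, e⟩ := hdec z hz
  exact ⟨t, hle1 ht, c, hc, e⟩

end CData

end CfsgLib.OrthAut
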