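import Cfsg.Agent.Lib.OrthAut.SemisimpleClass
import Cfsg.Agent.Lib.OrthAut.InndiagPlus
import Cfsg.Agent.Lib.OrthAut.InndiagMinus

/-!
Classes of semisimple elements of odd prime order for the plus and minus types.
-/

set_option autoImplicit false
set_option linter.unusedSectionVars false

namespace CfsgLib.OrthAut

open Matrix CfsgLib.Orth CfsgLib.AutPSL

universe u

variable {F : Type u} [Field F] [Fintype F] {m : ℕ}

theorem semisimple_fusion_plus {Q : QuadraticForm F (PIdx m → F)} (hQ : ⇑Q = Cfsg.quadFormPlus m F) (hB : Nondeg Q)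
    (h2 : (2 : F) ≠ 0) (hm : 3 ≤ m) {r : ℕ} (hr : r.Prime) (hodd : Odd r) (hr0 : (r : F) ≠ 0) :
    let I := Cfsg.autSubgroupOf fun β : MulAut (Cfsg.POmega F ⇑Q) => ∃ g : GL (PIdx m) F,
        g ∈ Cfsg.Geo.quadSimilarityGroup ⇑Q ∧
        Cfsg.PreservesSingularClasses ⇑Q (g : Matrix (PIdx m) (PIdx m) F) ∧
        Cfsg.IsInducedBySemilinearPOmega ⇑Q g (RingEquiv.refl F) β
    ∀ x ∈ Cfsg.pgoAut F ⇑Q, orderOf x = r →
    (∀ y : MulAut (Cfsg.POmega F ⇑Q), (Cfsg.IsConjUnder (Cfsg.Inn (Cfsg.POmega F ⇑Q)) x y ↔ Cfsg.IsConjUnder I x y) ∧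
      (Cfsg.IsConjUnder (Cfsg.psoAut F ⇑Q) x y ↔ Cfsg.IsConjUnder I x y)) ∧
    ∀ y : MulAut (Cfsg.POmega F ⇑Q), Cfsg.IsConjUnder (Cfsg.poAut F ⇑Q) x y ↔ Cfsg.IsConjUnder (Cfsg.pgoAut F ⇑Q) x y := by
  intro I x hx hxr
  obtain ⟨D, hχ, hG⟩ := exists_cdata_plus hQ hB h2 hm
  refine D.semisimple_fusion (k := m) (by simp; omega) ?_ hr hodd hr0 x hx hxr I (by rw [hχ]; exact inndiag_plus_eq hQ hB)
  rw [hG]
  show (Matrix.diagonal fun j => (halfDiag m D.c j : F)).det = _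
  rw [det_diagonal, Fintype.prod_sum_type]
  simp [halfDiag]

theorem semisimple_fusion_minus {n : ℕ} {a b : F}
    (hab : ∀ z₁ z₂ : F, z₁ ^ 2 + a * z₁ * z₂ + b * z₂ ^ 2 = 0 → z₁ = 0 ∧ z₂ = 0)
    {Qm : QuadraticForm F (MIdx n → F)} (hQm : ⇑Qm = Cfsg.quadFormMinus n F a b) (hB : Nondeg Qm)
    (h2 : (2 : F) ≠ 0) (hn : 2 ≤ n) {r : ℕ} (hr : r.Prime) (hodd : Odd r) (hr0 : (r : F) ≠ 0) :
    let I := Cfsg.autSubgroupOf fun β : MulAut (Cfsg.POmega F ⇑Qm) => ∃ g : GL (MIdx n) F,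
        g ∈ Cfsg.Geo.quadSimilarityGroup ⇑Qm ∧
        Cfsg.PreservesSingularClassesMinus n a b (g : Matrix (MIdx n) (MIdx n) F) ∧
        Cfsg.IsInducedBySemilinearPOmega ⇑Qm g (RingEquiv.refl F) β
    ∀ x ∈ Cfsg.pgoAut F ⇑Qm, orderOf x = r →
    (∀ y : MulAut (Cfsg.POmega F ⇑Qm), (Cfsg.IsConjUnder (Cfsg.Inn (Cfsg.POmega F ⇑Qm)) x y ↔ Cfsg.IsConjUnder I x y) ∧
      (Cfsg.IsConjUnder (Cfsg.psoAut F ⇑Qm) x y ↔ Cfsg.IsConjUnder I x y)) ∧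
    ∀ y : MulAut (Cfsg.POmega F ⇑Qm), Cfsg.IsConjUnder (Cfsg.poAut F ⇑Qm) x y ↔ Cfsg.IsConjUnder (Cfsg.pgoAut F ⇑Qm) x y := by
  intro I x hx hxr
  obtain ⟨ν, hν⟩ := FiniteField.exists_nonsquare (F := F) fun hc => h2 (by
    haveI : CharP F 2 := hc ▸ ringChar.charP F
    exact_mod_cast CharP.cast_eq_zero F 2)
  obtain ⟨D, hμ, hDc, u, w, huw, hG⟩ := exists_cdata_minus hab hQm hB h2 hn
    (Units.mk0 ν fun e => hν (e ▸ IsSquare.zero)) hν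
  refine D.semisimple_fusion (k := n + 1) (by simp; omega) ?_ hr hodd hr0 x hx hxr I (inndiag_minus_eq hQm hμ)
  rw [hG, mulPlane, det_fromBlocks_zero₁₂, det_diagonal, Fintype.prod_sum_type, det_fin_two_of, hDc, pow_succ, ← huw]
  simp
  left
  ring

end CfsgLib.OrthAut
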