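import Cfsg.Agent.Lib.OrthAut.Twist
import Cfsg.Agent.Lib.OrthAut.OutMinusOdd

/-!
Characters measuring the splitting of classes, and common facts about field automorphisms.
-/

set_option autoImplicit false
set_option linter.unusedSectionVars false

namespace CfsgLib.OrthAut

open Matrix CfsgLib.Orth CfsgLib.AutPSL

variable {F : Type*} [Field F] [Finite F] {ι : Type} [Fintype ι] [DecidableEq ι]
variable {Q : QuadraticForm F (ι → F)}

/-- The inner group of index two in the linear one gives a sign character. -/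
theorem exists_char_two {X H Γ : Type*} [Group X] [Group H] [Group Γ] (D : CfsgLib.ClassicalAut.Twist X H Γ)
    (h : (Cfsg.Inn X).relIndex D.δ.range = 2) :
    ∃ ν : H →* ℤˣ, (∀ g, ν g = 1 ↔ D.δ g ∈ Cfsg.Inn X) ∧ ν.range = ⊤ := by
  classical
  have hidx : ((Cfsg.Inn X).comap D.δ).index = 2 := by rw [Subgroup.index_comap]; exact h
  refine ⟨MonoidHom.mk' (fun g => if g ∈ (Cfsg.Inn X).comap D.δ then 1 else -1) (fun a b => ?_), fun g => ?_, ?_⟩
  · have := Subgroup.mul_mem_iff_of_index_two hidx (a := a) (b := b)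
    by_cases ha : a ∈ (Cfsg.Inn X).comap D.δ <;> by_cases hb : b ∈ (Cfsg.Inn X).comap D.δ <;>
      simp_all
  · show (if g ∈ (Cfsg.Inn X).comap D.δ then (1 : ℤˣ) else -1) = 1 ↔ _
    by_cases hg : g ∈ (Cfsg.Inn X).comap D.δ <;> simp_all
  · refine eq_top_iff.2 fun z _ => ?_
    obtain ⟨g, hg⟩ : ∃ g, g ∉ (Cfsg.Inn X).comap D.δ := by
      by_contra hc
      push Not at hc
      rw [show (Cfsg.Inn X).comap D.δ = ⊤ from eq_top_iff.2 fun g _ => hc g, Subgroup.index_top] at hidx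
      omega
    rcases Int.units_eq_one_or z with rfl | rfl
    · exact one_mem _
    · exact ⟨g, if_neg hg⟩

theorem isField_iff {σ : F ≃+* F} {x : semi Q} (hx1 : (x : Semilin F ι).left = 1) (hx2 : (x : Semilin F ι).right = σ)
    (β : MulAut (Cfsg.POmega F ⇑Q)) : Cfsg.IsFieldAutPOmegaOf (⇑Q) σ β ↔ β = psi Q x := by
  have key : ∀ γ, Cfsg.IsFieldAutPOmegaOf (⇑Q) σ γ ↔
      Cfsg.IsInducedBySemilinearPOmega ⇑Q (x : Semilin F ι).left (x : Semilin F ι).right γ := fun γ => by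
    rw [hx1, hx2]
    unfold Cfsg.IsFieldAutPOmegaOf Cfsg.IsInducedBySemilinearPOmega
    simp only [inv_one, Units.val_one, Matrix.one_mul, Matrix.mul_one]
  exact ⟨fun h => (psi_eq ((key β).1 h)).symm, fun h => h ▸ (key _).2 (psi_spec x)⟩

theorem psi_eq_lin {g : GL ι F} {β : MulAut (Cfsg.POmega F ⇑Q)} (hg : g ∈ Cfsg.Geo.quadSimilarityGroup ⇑Q)
    (h : Cfsg.IsInducedBySemilinearPOmega ⇑Q g (RingEquiv.refl F) β) : psi Q (simInc Q ⟨g, hg⟩) = β :=
  psi_eq (x := simInc Q ⟨g, hg⟩) h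

theorem ringAut_commute [Fintype F] (σ τ : F ≃+* F) : Commute σ τ := by
  obtain ⟨p, _⟩ := CharP.exists F
  obtain ⟨n, hp, hF⟩ := FiniteField.card F p
  haveI := Fact.mk hp
  obtain ⟨hcyc, -⟩ := card_ringAut_isCyclic hF n.pos
  obtain ⟨g, hg⟩ := hcyc.exists_generator
  obtain ⟨i, rfl⟩ := hg σ
  obtain ⟨j, rfl⟩ := hg τ
  exact (Commute.refl g).zpow_zpow i j

theorem scal_mem_sim (c : Fˣ) : CfsgLib.ClassicalAut.scal c ∈ Cfsg.Geo.quadSimilarityGroup ⇑Q :=
  ⟨c * c, fun v => by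
    rw [CfsgLib.ClassicalAut.scal_coe, smul_mulVec, one_mulVec, q_smul]; rfl⟩

theorem isometry_le_sim : Cfsg.isometryGroup F ⇑Q ≤ Cfsg.Geo.quadSimilarityGroup ⇑Q := fun g hg =>
  ⟨1, fun v => by rw [Units.val_one, one_mul]; exact hg v v⟩

variable (Q) in
/-- All similitudes, with the rational structure given by `P`. -/
def simData (P : GL ι F) (S : Subgroup (F ≃+* F))
    (hP : ∀ σ ∈ S, ∀ v, Q ((P : Matrix ι ι F) *ᵥ fun i => σ (v i)) = σ (Q ((P : Matrix ι ι F) *ᵥ v))) : TData Q where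
  P := P
  S := S
  H := Cfsg.Geo.quadSimilarityGroup ⇑Q
  hP := hP
  le := le_rfl
  stable σ hσ g hg := by
    obtain ⟨c, hc⟩ := hg
    set R : GL ι F := P * (entryAct F ι σ P)⁻¹
    have hR : ∀ v, Q ((R : Matrix ι ι F) *ᵥ fun i => σ (v i)) = σ (Q v) := fun v => by
      obtain ⟨w, rfl⟩ : ∃ w, (P : Matrix ι ι F) *ᵥ w = v :=
        ⟨((P⁻¹ : GL ι F) : Matrix ι ι F) *ᵥ v, by rw [mulVec_mulVec, Units.mul_inv, one_mulVec]⟩
      rw [show (fun i => σ (((P : Matrix ι ι F) *ᵥ w) i)) = (entryAct F ι σ P : Matrix ι ι F) *ᵥ fun i => σ (w i) from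
          funext fun i => RingHom.map_mulVec σ.toRingHom _ w i,
        mulVec_mulVec, ← Units.val_mul, show R * entryAct F ι σ P = P from inv_mul_cancel_right _ _, hP σ hσ]
    refine ⟨Units.map σ.toRingHom.toMonoidHom c, fun v => ?_⟩
    obtain ⟨w, rfl⟩ : ∃ w, (R : Matrix ι ι F) *ᵥ (fun i => σ (w i)) = v :=
      ⟨fun i => σ.symm ((((R⁻¹ : GL ι F) : Matrix ι ι F) *ᵥ v) i), by
        simp only [RingEquiv.apply_symm_apply]
        rw [mulVec_mulVec, Units.mul_inv, one_mulVec]⟩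
    rw [mulVec_mulVec, ← Units.val_mul, inv_mul_cancel_right, Units.val_mul, ← mulVec_mulVec, hR,
      show (entryAct F ι σ g : Matrix ι ι F) *ᵥ (fun i => σ (w i)) = fun i => σ (((g : Matrix ι ι F) *ᵥ w) i) from
        (funext fun i => RingHom.map_mulVec σ.toRingHom _ w i).symm, hR, hc, map_mul]
    rfl
  omega g _ := isometry_le_sim g.2

theorem simData_range (h : Fine Q) (P : GL ι F) (S : Subgroup (F ≃+* F)) (hP) :
    ((simData Q P S hP).twist h).δ.range = Cfsg.pgoAut F ⇑Q := by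
  refine le_antisymm ?_ ((Subgroup.closure_le _).2 ?_)
  · rintro _ ⟨g, rfl⟩
    exact Subgroup.subset_closure ⟨g, g.2, psi_spec (simInc Q g)⟩
  · rintro β ⟨g, hg, hβ⟩
    exact ⟨⟨g, hg⟩, psi_eq_lin hg hβ⟩

end CfsgLib.OrthAut
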