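import Cfsg.Agent.Lib.OrthAut.Descent
import Cfsg.Agent.Lib.OrthAut.Out
import Cfsg.Agent.Lib.ClassicalAut.Twist
import Cfsg.Agent.Lib.AutPSL.Classes

/-!
The twisted structure of `Aut(PΩ(Q))` over a rational structure `Q ∘ P`.
-/

set_option autoImplicit false
set_option linter.unusedSectionVars false

namespace CfsgLib.OrthAut

open Matrix CfsgLib.Orth CfsgLib.AutPSL
open CfsgLib.ClassicalAut (scal scal_coe gnorm)

variable {F : Type*} [Field F] [Finite F] {ι : Type} [Fintype ι] [DecidableEq ι]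
variable {Q : QuadraticForm F (ι → F)}

/-- A similitude as a semisimilarity. -/
def simInc (Q : QuadraticForm F (ι → F)) : Cfsg.Geo.quadSimilarityGroup ⇑Q →* semi Q where
  toFun g := ⟨⟨g, 1⟩, g.2⟩
  map_one' := rfl
  map_mul' g g' := Subtype.ext (SemidirectProduct.ext (by simp) (by simp))

theorem sv_simInc (g : Cfsg.Geo.quadSimilarityGroup ⇑Q) (v : ι → F) :
    sv (simInc Q g : Semilin F ι) v = ((g : GL ι F) : Matrix ι ι F) *ᵥ v := rfl

theorem psi_simInc_eq_one_iff (h : Fine Q) (g : Cfsg.Geo.quadSimilarityGroup ⇑Q) :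
    psi Q (simInc Q g) = 1 ↔ ∃ c : Fˣ, (g : GL ι F) = scal c := by
  constructor
  · intro hg
    obtain ⟨-, a, ha, he⟩ := psi_eq_one h hg
    exact ⟨Units.mk0 a ha, Units.ext (by rw [scal_coe, Units.val_mk0]; exact he)⟩
  · rintro ⟨c, hc⟩
    have hm : scalarHom Q c ∈ (psi Q).ker := ker_psi h ▸ ⟨c, rfl⟩
    have e : simInc Q g = scalarHom Q c := Subtype.ext (SemidirectProduct.ext hc rfl)
    rw [e]
    exact hm

/-- The rational structure defining the field automorphisms, and the linear part. -/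
structure TData (Q : QuadraticForm F (ι → F)) where
  P : GL ι F
  S : Subgroup (F ≃+* F)
  H : Subgroup (GL ι F)
  hP : ∀ σ ∈ S, ∀ v, Q ((P : Matrix ι ι F) *ᵥ fun i => σ (v i)) = σ (Q ((P : Matrix ι ι F) *ᵥ v))
  le : H ≤ Cfsg.Geo.quadSimilarityGroup ⇑Q
  stable : ∀ σ ∈ S, ∀ g ∈ H,
    P * (entryAct F ι σ P)⁻¹ * entryAct F ι σ g * (P * (entryAct F ι σ P)⁻¹)⁻¹ ∈ H
  omega : ∀ g : Grp Q, g ∈ Cfsg.Omega F ⇑Q → (g : GL ι F) ∈ H

namespace TData

variable (T : TData Q)

/-- The twisting matrix of a field automorphism. -/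
def R (σ : F ≃+* F) : GL ι F := T.P * (entryAct F ι σ T.P)⁻¹

theorem sv_R (σ : F ≃+* F) (v : ι → F) :
    sv (⟨T.R σ, σ⟩ : Semilin F ι) ((T.P : Matrix ι ι F) *ᵥ v) = (T.P : Matrix ι ι F) *ᵥ fun i => σ (v i) := by
  show (T.R σ : Matrix ι ι F) *ᵥ (fun i => σ (((T.P : Matrix ι ι F) *ᵥ v) i)) = _
  rw [show (fun i => σ (((T.P : Matrix ι ι F) *ᵥ v) i)) = (entryAct F ι σ T.P : Matrix ι ι F) *ᵥ fun i => σ (v i) from
      funext fun i => RingHom.map_mulVec σ.toRingHom _ v i,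
    mulVec_mulVec, ← Units.val_mul, R, inv_mul_cancel_right]

/-- The field automorphisms as semisimilarities. -/
def fld : T.S →* semi Q where
  toFun σ := ⟨⟨T.R σ, σ⟩, ⟨1, fun v => by
    obtain ⟨w, rfl⟩ : ∃ w, (T.P : Matrix ι ι F) *ᵥ w = v :=
      ⟨((T.P⁻¹ : GL ι F) : Matrix ι ι F) *ᵥ v, by rw [mulVec_mulVec, Units.mul_inv, one_mulVec]⟩
    show Q (sv (⟨T.R σ, σ⟩ : Semilin F ι) _) = _
    rw [T.sv_R, T.hP σ σ.2, Units.val_one, one_mul]⟩⟩
  map_one' := Subtype.ext (SemidirectProduct.ext (by simp [R]) rfl)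
  map_mul' σ τ := Subtype.ext (SemidirectProduct.ext (by simp [R, map_mul, map_inv, mul_assoc]) rfl)

theorem fld_R (σ : T.S) : ((T.fld σ : semi Q) : Semilin F ι).left = T.R σ := rfl

/-- The field automorphisms acting on the linear part. -/
def act : T.S →* MulAut T.H where
  toFun σ :=
    { toFun := fun g => ⟨T.R σ * entryAct F ι σ g * (T.R σ)⁻¹, T.stable σ σ.2 g g.2⟩
      invFun := fun g => ⟨T.R (σ⁻¹ : T.S) * entryAct F ι (σ⁻¹ : T.S) g * (T.R (σ⁻¹ : T.S))⁻¹,
        T.stable _ (σ⁻¹).2 g g.2⟩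
      left_inv := fun g => Subtype.ext (by simp [R, map_mul, map_inv, mul_assoc])
      right_inv := fun g => Subtype.ext (by simp [R, map_mul, map_inv, mul_assoc])
      map_mul' := fun a b => Subtype.ext (by simp [map_mul, mul_assoc]) }
  map_one' := MulEquiv.ext fun g => Subtype.ext (by simp [R])
  map_mul' σ τ := MulEquiv.ext fun g => Subtype.ext (by simp [R, map_mul, map_inv, mul_assoc])

theorem act_coe (σ : T.S) (g : T.H) :
    ((T.act σ g : T.H) : GL ι F) = T.R σ * entryAct F ι σ g * (T.R σ)⁻¹ := rfl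

/-- The automorphism of `PΩ` induced by an element of the linear part. -/
def delta : T.H →* MulAut (Cfsg.POmega F ⇑Q) := (psi Q).comp ((simInc Q).comp (Subgroup.inclusion T.le))

/-- The twisted structure. -/
def twist (h : Fine Q) : CfsgLib.ClassicalAut.Twist (Cfsg.POmega F ⇑Q) T.H T.S where
  δ := T.delta
  φ := (psi Q).comp T.fld
  act := T.act
  φ_mul_δ σ g := by
    show psi Q (T.fld σ) * psi Q (simInc Q _) = psi Q (simInc Q _) * psi Q (T.fld σ)
    rw [← map_mul, ← map_mul]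
    refine congrArg _ (Subtype.ext (SemidirectProduct.ext ?_ ?_))
    · show T.R σ * entryAct F ι σ g = T.R σ * entryAct F ι σ g * (T.R σ)⁻¹ * (entryAct F ι (1 : F ≃+* F) (T.R σ))
      rw [map_one, MulAut.one_apply, inv_mul_cancel_right]
    · show (σ : F ≃+* F) * 1 = 1 * (σ : F ≃+* F)
      rw [mul_one, one_mul]
  uniq g σ e := by
    have e' : psi Q (simInc Q (Subgroup.inclusion T.le g) * T.fld σ) = 1 := by rw [map_mul]; exact e
    have h1 := (psi_eq_one h e').1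
    change (1 : F ≃+* F) * (σ : F ≃+* F) = 1 at h1
    rw [one_mul] at h1
    exact Subtype.ext h1
  inn_le := by
    rintro _ ⟨y, rfl⟩
    obtain ⟨g, rfl⟩ := prj_surjective (Q := Q) y
    refine ⟨⟨_, T.omega g g.2⟩, ?_⟩
    exact (congrArg (psi Q) (Subtype.ext (SemidirectProduct.ext rfl rfl))).trans (psi_incl g)

theorem twist_delta (h : Fine Q) (g : T.H) : (T.twist h).δ g = psi Q (simInc Q ⟨g, T.le g.2⟩) := rfl

theorem delta_eq_one_iff (h : Fine Q) (g : T.H) : (T.twist h).δ g = 1 ↔ ∃ c : Fˣ, (g : GL ι F) = scal c :=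
  psi_simInc_eq_one_iff h _

theorem delta_eq_iff (h : Fine Q) (g g' : T.H) :
    (T.twist h).δ g = (T.twist h).δ g' ↔ ∃ c : Fˣ, (g : GL ι F) = scal c * (g' : GL ι F) := by
  rw [← mul_inv_eq_one, ← map_inv, ← map_mul, T.delta_eq_one_iff h, Subgroup.coe_mul, Subgroup.coe_inv]
  exact exists_congr fun c => mul_inv_eq_iff_eq_mul

theorem twist_phi (h : Fine Q) (σ : T.S) : (T.twist h).φ σ = psi Q (T.fld σ) := rfl

/-- The twisted norm is the norm of the rational conjugate. -/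
theorem tnorm_eq (h : Fine Q) (σ : T.S) (d : T.H) (k : ℕ) :
    (((T.twist h).tnorm σ d k : T.H) : GL ι F) = T.P * gnorm (σ : F ≃+* F) (T.P⁻¹ * (d : GL ι F) * T.P) k * T.P⁻¹ := by
  induction k with
  | zero => simp [gnorm, CfsgLib.ClassicalAut.Twist.tnorm]
  | succ k ih =>
    rw [CfsgLib.ClassicalAut.Twist.tnorm, Subgroup.coe_mul, show (T.twist h).act = T.act from rfl, act_coe, ih, gnorm,
      show ∀ x : GL ι F, CfsgLib.ClassicalAut.Carrier.mapUnit (σ : F ≃+* F) x = entryAct F ι σ x from fun _ => rfl]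
    simp [R, map_mul, map_inv, mul_assoc]

/-- An element of trivial twisted norm gives a rational form. -/
theorem exists_descent (h : Good Q) {σ : T.S} {r : ℕ} (hr : 0 < r) (hσ : orderOf σ = r) {d : T.H}
    (hd : (T.twist h).δ ((T.twist h).tnorm σ d r) = 1) :
    ∃ (e : Fˣ) (k₀ : GL ι F) (ν : F)
      (R₁ : QuadraticForm (fixedField (σ : F ≃+* F)) (ι → fixedField (σ : F ≃+* F))),
      scal e * (d : GL ι F) = k₀ * (entryAct F ι σ k₀)⁻¹ * (T.R σ)⁻¹ ∧ ν ≠ 0 ∧
        (QuadraticMap.polarBilin R₁).Nondegenerate ∧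
          ∀ x, Q ((k₀ : Matrix ι ι F) *ᵥ emb _ x) = ν * ((R₁ x : fixedField (σ : F ≃+* F)) : F) := by
  obtain ⟨c, hc⟩ := (T.delta_eq_one_iff h _).1 hd
  rw [T.tnorm_eq h] at hc
  have hn : 1 ≤ Fintype.card ι := by have := h.dim; rw [Module.finrank_fintype_fun_eq_card] at this; omega
  have hσ' : orderOf (σ : F ≃+* F) = r := by rw [Subgroup.orderOf_coe]; exact hσ
  have hnorm : gnorm (σ : F ≃+* F) (T.P⁻¹ * (d : GL ι F) * T.P) r = scal c := by
    have h1 : T.P⁻¹ * (T.P * gnorm (σ : F ≃+* F) (T.P⁻¹ * (d : GL ι F) * T.P) r * T.P⁻¹) * T.P = scal c := by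
      rw [hc, CfsgLib.ClassicalAut.scal_comm, inv_mul_cancel_right]
    simpa [mul_assoc] using h1
  obtain ⟨e, k, ν, R₁, hk, hν, hnd, hR⟩ := CfsgLib.OrthAut.exists_descent (Q := pull Q (T.P : Matrix ι ι F))
    (nondeg_pull h.nondeg T.P) hn hr hσ' (fun v => T.hP σ σ.2 v)
    (d := T.P⁻¹ * (d : GL ι F) * T.P) (by
      obtain ⟨c', hc'⟩ := T.le d.2
      refine ⟨c', fun v => ?_⟩
      rw [pull_apply, pull_apply, ← hc', mulVec_mulVec, mulVec_mulVec, ← Units.val_mul, ← Units.val_mul]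
      congr 3
      group) hnorm
  refine ⟨e, T.P * k, ν, R₁, ?_, hν, hnd, fun x => ?_⟩
  · have e1 : scal e * (d : GL ι F) = T.P * (k * (CfsgLib.ClassicalAut.Carrier.mapUnit (σ : F ≃+* F) k)⁻¹) * T.P⁻¹ := by
      rw [show CfsgLib.ClassicalAut.Carrier.mapUnit (σ : F ≃+* F) k = entryAct F ι σ k from rfl, ← hk, ← mul_assoc T.P (scal e), CfsgLib.ClassicalAut.scal_comm]
      group
    rw [e1, show CfsgLib.ClassicalAut.Carrier.mapUnit (σ : F ≃+* F) k = entryAct F ι σ k from rfl, map_mul, TData.R]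
    group
  · rw [Units.val_mul, ← mulVec_mulVec]
    exact hR x

/-- Form of every automorphism, when all field automorphisms are present. -/
theorem full (h : Good Q) (hS : T.S = ⊤) (hH : T.H = Cfsg.Geo.quadSimilarityGroup ⇑Q) : (T.twist h).Full := by
  intro β
  obtain ⟨x, rfl⟩ := psi_surjective h β
  let σ : T.S := ⟨(x : Semilin F ι).right, hS ▸ Subgroup.mem_top _⟩
  let y : semi Q := x * (T.fld σ)⁻¹
  have hy : ((y : semi Q) : Semilin F ι).right = 1 := mul_inv_cancel ((x : Semilin F ι).right)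
  have hmem : ((y : semi Q) : Semilin F ι).left ∈ T.H := by
    rw [hH]
    obtain ⟨c, hc⟩ := mem_semi.1 y.2
    refine ⟨c, fun v => ?_⟩
    have := hc v
    rwa [sv, hy] at this
  refine ⟨⟨_, hmem⟩, σ, ?_⟩
  have hxy : x = simInc Q ⟨((y : semi Q) : Semilin F ι).left, T.le hmem⟩ * T.fld σ := by
    rw [show simInc Q ⟨((y : semi Q) : Semilin F ι).left, T.le hmem⟩ = y from
      Subtype.ext (SemidirectProduct.ext rfl hy.symm), inv_mul_cancel_right]
  conv_lhs => rw [hxy, map_mul]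
  rfl

end TData

end CfsgLib.OrthAut
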